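import Cfsg.Agent.H782.TF.FinBChk
import Cfsg.Agent.H240.TF.B2Def

/-!
# S5262, q = 2, B-side: `StFinB`, `StRhoB` (helper782)
-/

set_option autoImplicit false

namespace Cfsg.Agent.H782.TF.FB

open Cfsg Cfsg.FusionSystem Cfsg.Agent.H756.PU Cfsg.Agent.H802 Cfsg.Agent.H745.TF Cfsg.Agent.H782.TF

universe u v

/-- the generators of `QB` -/
def G11 : List Gn := [.a1, .a2, .a3, .a4, .a5, .a6, .a7, .a8, .a9, .a10, .a11]

section gen

variable {U : Type v} [Group U] {γ : ℕ → U} {Q : Subgroup U}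

theorem val_even {n : ℕ} (h0 : n.testBit 0 = false) :
    val γ n = (G11.map fun g => if n.testBit (gi g) then γ (gi g) else 1).prod := by
  simp only [val, vc, G11, gi, h0, List.map_cons, List.map_nil, List.prod_cons, List.prod_nil, mul_one, one_mul,
    Bool.false_eq_true, if_false, mul_assoc]
  rfl

theorem im_aux (h : Cod γ) (z : ℕ) : ∀ (L : List (Gn × List Gn)) {x : ℕ}, x < 4096 →
    im L z x < 4096 ∧
      val γ (im L z x) = val γ x * (L.map fun p => if z.testBit (gi p.1) then wv γ p.2 else 1).prod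
  | [], x, hx => ⟨hx, by simp [im]⟩
  | p :: L, x, hx => by
    have e0 : im (p :: L) z x = im L z (cond (Nat.beq (Nat.land z (mk p.1)) 0) x (ap p.2 x)) := rfl
    rw [e0]
    by_cases hb : z &&& 2 ^ gi p.1 = 0
    · have h0 : cond (Nat.beq (Nat.land z (mk p.1)) 0) x (ap p.2 x) = x := by
        rw [mk_eq, show Nat.beq (Nat.land z (2 ^ gi p.1)) 0 = true from beq_iff.2 hb]; rfl
      have h2 : z.testBit (gi p.1) = false := land_pow_eq_zero.1 hb
      rw [h0]
      simp only [List.map_cons, List.prod_cons, h2, Bool.false_eq_true, if_false, one_mul]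
      exact im_aux h z L hx
    · have h0 : cond (Nat.beq (Nat.land z (mk p.1)) 0) x (ap p.2 x) = ap p.2 x := by
        rw [mk_eq, show Nat.beq (Nat.land z (2 ^ gi p.1)) 0 = false from beq_false_iff.2 hb]; rfl
      have h2 : z.testBit (gi p.1) = true := by
        by_contra h3
        rw [Bool.not_eq_true] at h3
        exact hb (land_pow_eq_zero.2 h3)
      have h1 := im_aux h z L (ap_lt p.2 hx)
      rw [h0]
      simp only [List.map_cons, List.prod_cons, h2, if_true]
      refine ⟨h1.1, ?_⟩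
      rw [h1.2, h.ap p.2 hx, mul_assoc]

/-- the generator as an element of `Q` -/
noncomputable def gq (γ : ℕ → U) (Q : Subgroup U) (g : Gn) : Q :=
  open Classical in if hg : γ (gi g) ∈ Q then ⟨γ (gi g), hg⟩ else 1

theorem gq_coe {g : Gn} (hg : γ (gi g) ∈ Q) : ((gq γ Q g : Q) : U) = γ (gi g) := by
  rw [gq, dif_pos hg]

theorem hom_even (hQ : ∀ g ∈ G11, γ (gi g) ∈ Q) (φ : Q →* U) {e : Q} {z : ℕ} (h0 : z.testBit 0 = false)
    (he : (e : U) = val γ z) : φ e = (G11.map fun g => if z.testBit (gi g) then φ (gq γ Q g) else 1).prod := by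
  have h1 : e = (G11.map fun g => if z.testBit (gi g) then gq γ Q g else 1).prod := by
    apply Subtype.ext
    rw [he, val_even h0, ← Subgroup.coe_subtype, map_list_prod, List.map_map]
    congr 1
    apply List.map_congr_left
    intro g hg
    simp only [Function.comp_apply]
    split_ifs
    · rw [Subgroup.coe_subtype, gq_coe (hQ g hg)]
    · rw [map_one]
  rw [h1, map_list_prod, List.map_map]
  congr 1
  apply List.map_congr_left
  intro g _
  simp only [Function.comp_apply]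
  split_ifs
  · rfl
  · rw [map_one]

/-- `L` gives the images of the generators under `φ` -/
structure Im (γ : ℕ → U) (φ : Q →* U) (L : List (Gn × List Gn)) : Prop where
  fst : L.map Prod.fst = G11
  snd : ∀ p ∈ L, φ (gq γ Q p.1) = wv γ p.2

theorem im_val (h : Cod γ) (hQ : ∀ g ∈ G11, γ (gi g) ∈ Q) {φ : Q →* U} {L : List (Gn × List Gn)} (hI : Im γ φ L)
    {e : Q} {z : ℕ} (h0 : z.testBit 0 = false) (he : (e : U) = val γ z) :
    im L z 0 < 4096 ∧ val γ (im L z 0) = φ e := by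
  obtain ⟨h1, h2⟩ := im_aux h z L (x := 0) (by norm_num)
  refine ⟨h1, ?_⟩
  rw [h2, val_zero, one_mul, hom_even hQ φ h0 he, ← hI.fst, List.map_map]
  congr 1
  apply List.map_congr_left
  intro p hp
  simp only [Function.comp_apply]
  rw [hI.snd p hp]

theorem even_of_mem (h : Cod γ) {n : ℕ} (hn : n < 4096) (hm : val γ n ∈ W γ PB) : n.testBit 0 = false := by
  obtain ⟨z, hz, h1, h2⟩ := enum_sound (k := fun z => Nat.beq (Nat.land z 1) 0) h (A := PB) (by decide +kernel) (x := 0)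
    (by norm_num) (by decide +kernel) hm
  rw [val_zero, one_mul] at h1
  have h3 := h.inj z hz n hn h1
  subst h3
  have h4 : z &&& 2 ^ 0 = 0 := beq_iff.1 h2
  exact land_pow_eq_zero.1 h4

/-- the value of a word in three letters -/
noncomputable def wg {G : Type v} [Group G] (l : List L3) (a e f : G) : G :=
  (l.map fun c => @L3.rec (fun _ => G) a e f c).prod

theorem map_wg {G H : Type v} [Group G] [Group H] (φ : G →* H) (l : List L3) (a e f : G) :
    φ (wg l a e f) = wg l (φ a) (φ e) (φ f) := by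
  rw [wg, wg, map_list_prod, List.map_map]
  congr 1
  apply List.map_congr_left
  intro c _
  cases c <;> rfl

theorem wd_val (h : Cod γ) (a e f : ℕ) : ∀ (l : List L3) {x : ℕ}, x < 4096 →
    wd l a e f x < 4096 ∧ val γ (wd l a e f x) = val γ x * wg l (val γ a) (val γ e) (val γ f)
  | [], x, hx => ⟨hx, by simp [wd, wg]⟩
  | c :: l, x, hx => by
    have e0 : wd (c :: l) a e f x = wd l a e f (mulc x (@L3.rec (fun _ => Nat) a e f c)) := rfl
    obtain ⟨h1, h2⟩ := mulc_val h hx (@L3.rec (fun _ => Nat) a e f c)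
    obtain ⟨h3, h4⟩ := wd_val h a e f l h1
    rw [e0]
    refine ⟨h3, ?_⟩
    rw [h4, h2, mul_assoc]
    cases c <;> simp [wg]

theorem frc_eq (k : ℕ → Bool) (n : ℕ) : frc k n = k n := by
  cases n <;> rfl

theorem loopE_spec {P : ℕ → Bool} (h : loopE P 2048 = true) {z : ℕ} (hz : z < 4096) (h0 : z.testBit 0 = false) :
    P z = true := by
  have h1 : ∃ i, z = 2 * i := by
    have h2 : z % 2 = 0 := by
      have := Nat.testBit_zero z
      rw [h0] at this
      simp at this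
      omega
    exact ⟨z / 2, by omega⟩
  obtain ⟨i, rfl⟩ := h1
  have h3 := loopAll_spec h i (by omega)
  simp only [frc_eq] at h3
  exact h3

end gen

variable {K : Type u} [Field K] {σ : K →+* K} {U : Type v} [Group U]

section main

variable (T : Cfsg.Agent.H745.TF.TF σ U) (hK : HypK σ 0)
include hK

theorem gm_mem_QB : ∀ g ∈ G11, gm T (gi g) ∈ T.QB := by
  intro g hg
  rw [← W_PB T hK]
  have : ∀ g ∈ G11, ∃ e ∈ PB, e.w = [g] := by
    intro g hg
    simp only [G11, List.mem_cons, List.not_mem_nil, or_false] at hg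
    rcases hg with rfl | rfl | rfl | rfl | rfl | rfl | rfl | rfl | rfl | rfl | rfl <;> simp [PB]
  obtain ⟨e, he, hw⟩ := this g hg
  exact gm_mem T he hw

theorem even_of (e : T.QB) {n : ℕ} (hn : n < 4096) (he : val (gm T) n = e) : n.testBit 0 = false :=
  even_of_mem (cod_of T hK) hn (by rw [he, W_PB T hK]; exact e.2)

/-- the code of an element of `QB` -/
theorem exists_code (e : T.QB) : ∃ n < 4096, val (gm T) n = e ∧ n.testBit 0 = false := by
  obtain ⟨n, hn, he⟩ := (cod_of T hK).surj (e : U)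
  exact ⟨n, hn, he, even_of T hK e hn he⟩

variable {T hK}

omit hK in
theorem x1_inv (hK : HypK σ 0) : (T.x1 1)⁻¹ = T.x1 1 := by
  have h := (cod_of T hK).sq .a0
  rw [show sqm .a0 = 0 from rfl, val_zero] at h
  exact inv_eq_of_mul_eq_one_right h

/-- the homomorphism `QB → U` of an automorphism -/
def hm (α : MulAut T.QB) : T.QB →* U := T.QB.subtype.comp α.toMonoidHom

omit hK in
theorem hm_apply (α : MulAut T.QB) (e : T.QB) : hm α e = (α e : U) := rfl

omit hK in
theorem im_rho (hK : HypK σ 0) {cx w0 : MulAut T.QB} (hcx : ∀ e : T.QB, ((cx e : T.QB) : U) = T.x1 1 * e * (T.x1 1)⁻¹)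
    (hw : T.IsWb w0) : Im (gm T) (hm (cx * w0)) LR := by
  have hQ := gm_mem_QB T hK
  constructor
  · rfl
  · intro p hp
    have key : ∀ g g' : Gn, g ∈ G11 → ((w0 (gq (gm T) T.QB g) : T.QB) : U) = gm T (gi g') →
        hm (cx * w0) (gq (gm T) T.QB g) = wv (gm T) [.a0, g', .a0] := by
      intro g g' _ h1
      rw [hm_apply, MulAut.mul_apply, hcx, h1, x1_inv hK]
      simp [wv, gi, gm, mul_assoc]
    have c : ∀ g : Gn, g ∈ G11 → ((gq (gm T) T.QB g : T.QB) : U) = gm T (gi g) := fun g hg => gq_coe (hQ g hg)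
    simp only [LR, List.mem_cons, List.not_mem_nil, or_false] at hp
    rcases hp with rfl | rfl | rfl | rfl | rfl | rfl | rfl | rfl | rfl | rfl | rfl
    · exact key .a1 .a10 (by simp [G11]) (hw.e2 _ 1 0 (c .a1 (by simp [G11])))
    · exact key .a2 .a11 (by simp [G11]) (hw.e2 _ 0 1 (c .a2 (by simp [G11])))
    · exact key .a3 .a9 (by simp [G11]) (hw.e3 _ 1 (c .a3 (by simp [G11])))
    · exact key .a4 .a7 (by simp [G11]) (hw.e4 _ 1 0 (c .a4 (by simp [G11])))
    · exact key .a5 .a8 (by simp [G11]) (hw.e4 _ 0 1 (c .a5 (by simp [G11])))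
    · exact key .a6 .a6 (by simp [G11]) (hw.e5 _ 1 (c .a6 (by simp [G11])))
    · exact key .a7 .a4 (by simp [G11]) (hw.e6 _ 1 0 (c .a7 (by simp [G11])))
    · exact key .a8 .a5 (by simp [G11]) (hw.e6 _ 0 1 (c .a8 (by simp [G11])))
    · exact key .a9 .a3 (by simp [G11]) (hw.e7 _ 1 (c .a9 (by simp [G11])))
    · exact key .a10 .a1 (by simp [G11]) (hw.e8 _ 1 0 (c .a10 (by simp [G11])))
    · exact key .a11 .a2 (by simp [G11]) (hw.e8 _ 0 1 (c .a11 (by simp [G11])))

omit hK in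
/-- the code of the image -/
theorem im_step (hK : HypK σ 0) {α : MulAut T.QB} {L : List (Gn × List Gn)} (hI : Im (gm T) (hm α) L) {e : T.QB} {z : ℕ}
    (hz : z < 4096) (he : val (gm T) z = e) :
    im L z 0 < 4096 ∧ val (gm T) (im L z 0) = (α e : T.QB) ∧ (im L z 0).testBit 0 = false := by
  obtain ⟨h1, h2⟩ := im_val (cod_of T hK) (gm_mem_QB T hK) hI (even_of T hK e hz he) he.symm
  exact ⟨h1, h2, even_of T hK (α e) h1 h2⟩

end main

/-- `ρ0³ = 1` -/
theorem stRhoB : Cfsg.Agent.H240.TF.StRhoB.{u, v} := by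
  intro K _ σ hK U _ T cx w0 hcx hw
  have hI := im_rho hK hcx hw
  apply MulEquiv.ext
  intro e
  obtain ⟨z, hz, he, h0⟩ := exists_code T hK e
  obtain ⟨a1, a2, -⟩ := im_step hK hI hz he
  obtain ⟨b1, b2, -⟩ := im_step hK hI a1 a2
  obtain ⟨c1, c2, -⟩ := im_step hK hI b1 b2
  have h1 := loopE_spec chkR_true hz h0
  simp only [frc_eq] at h1
  have h2 := beq_iff.1 h1
  apply Subtype.ext
  rw [MulAut.mul_apply, MulAut.mul_apply, ← c2, h2, he]
  rfl

theorem mk_inj {g g' : Gn} (h : mk g = mk g') : g = g' := by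
  rw [mk_eq, mk_eq] at h
  have h1 := Nat.pow_right_injective (le_refl 2) h
  rw [← ig_gi g, h1, ig_gi]

theorem zipc_sound {F : List L3 → ℕ} : ∀ (G : List (Gn × List L3)) (L : List (Gn × List Gn)), zipc F G L = true →
    ∀ q ∈ L, ∃ l, (q.1, l) ∈ G ∧ ap q.2 0 = F l
  | [], [], _, q, hq => absurd hq List.not_mem_nil
  | [], _ :: _, h, _, _ => absurd h (by simp [zipc])
  | _ :: _, [], h, _, _ => absurd h (by simp [zipc])
  | p :: G, q :: L, h, r, hr => by
    change cond (Nat.beq (mk p.1) (mk q.1)) (cond (Nat.beq (ap q.2 0) (F p.2)) (zipc F G L) false) false = true at h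
    rw [cond_false_eq_true, cond_false_eq_true] at h
    obtain ⟨h1, h2, h3⟩ := h
    rcases List.mem_cons.1 hr with rfl | hr
    · refine ⟨p.2, ?_, beq_iff.1 h2⟩
      rw [← mk_inj (beq_iff.1 h1)]
      exact List.mem_cons_self
    · obtain ⟨l, h4, h5⟩ := zipc_sound G L h3 r hr
      exact ⟨l, List.mem_cons_of_mem _ h4, h5⟩

section fin

variable {T : Cfsg.Agent.H745.TF.TF σ U}

theorem mem_of_even (hK : HypK σ 0) {n : ℕ} (h0 : n.testBit 0 = false) : val (gm T) n ∈ T.QB := by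
  rw [val_even h0]
  apply Subgroup.list_prod_mem
  intro x hx
  obtain ⟨g, hg, rfl⟩ := List.mem_map.1 hx
  split_ifs
  · exact gm_mem_QB T hK g hg
  · exact one_mem _

/-- the element `a = x2(1,0)` -/
noncomputable def ea (T : Cfsg.Agent.H745.TF.TF σ U) : T.QB := gq (gm T) T.QB .a1

theorem ea_val (hK : HypK σ 0) : val (gm T) 2 = (ea T : U) := by
  rw [ea, gq_coe (gm_mem_QB T hK .a1 (by simp [G11]))]
  exact val_mk (gm T) .a1

theorem wd_step (hK : HypK σ 0) {ρ : MulAut T.QB} (hI : Im (gm T) (hm ρ) LR) {s : MulAut T.QB}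
    (hs : ∀ y, s (ρ y) = ρ (s y)) {z : ℕ} (hz : z < 4096) (hz1 : val (gm T) z = (s (ea T) : T.QB)) (l : List L3) :
    wd l z (im LR z 0) (im LR (im LR z 0) 0) 0 < 4096 ∧
      val (gm T) (wd l z (im LR z 0) (im LR (im LR z 0) 0) 0) = (s (wg l (ea T) (ρ (ea T)) (ρ (ρ (ea T)))) : T.QB) := by
  obtain ⟨e1, e2, -⟩ := im_step hK hI hz hz1
  obtain ⟨f1, f2, -⟩ := im_step hK hI e1 e2
  obtain ⟨h1, h2⟩ := wd_val (cod_of T hK) z (im LR z 0) (im LR (im LR z 0) 0) l (x := 0) (by norm_num)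
  refine ⟨h1, ?_⟩
  rw [h2, val_zero, one_mul, hz1, e2, f2]
  have h3 := map_wg (hm s) l (ea T) (ρ (ea T)) (ρ (ρ (ea T)))
  rw [hm_apply, hm_apply, hm_apply, hm_apply] at h3
  rw [h3, hs, hs, hs]

theorem gq_word (hK : HypK σ 0) {ρ : MulAut T.QB} (hI : Im (gm T) (hm ρ) LR) {g : Gn} {l : List L3}
    (hg : (g, l) ∈ GW) : gq (gm T) T.QB g = wg l (ea T) (ρ (ea T)) (ρ (ρ (ea T))) := by
  have hgG : g ∈ G11 := by
    simp only [GW, List.mem_cons, List.not_mem_nil, or_false, Prod.mk.injEq] at hg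
    rcases hg with h | h | h | h | h | h | h | h | h | h | h <;> rw [h.1] <;> simp [G11]
  obtain ⟨h1, h2⟩ := wd_step hK hI (s := 1) (fun y => rfl) (z := 2) (by norm_num) (ea_val hK) l
  have h3 := chkG_true
  unfold chkG at h3
  rw [allL_iff] at h3
  have h4 := beq_iff.1 (h3 _ hg)
  rw [h4, val_mk] at h2
  apply Subtype.ext
  rw [gq_coe (gm_mem_QB T hK g hgG), h2]
  rfl

theorem exists_word {g : Gn} (hg : g ∈ G11) : ∃ l, (g, l) ∈ GW := by
  have h1 : GW.map Prod.fst = G11 := rfl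
  rw [← h1] at hg
  obtain ⟨p, hp, rfl⟩ := List.mem_map.1 hg
  exact ⟨p.2, hp⟩

theorem kill_bad (hK : HypK σ 0) {cx ρ s : MulAut T.QB} (hI : Im (gm T) (hm ρ) LR)
    (hcx : ∀ e : T.QB, ((cx e : T.QB) : U) = T.x1 1 * e * (T.x1 1)⁻¹)
    (hs : ∀ y, s (ρ y) = ρ (s y)) {z : ℕ} (hz : z < 4096) (hz1 : val (gm T) z = (s (ea T) : T.QB))
    {Ls Lt : List (Gn × List Gn)} (hLs : Ls.map Prod.fst = G11) (hLt : Lt.map Prod.fst = G11)
    (hc : chkT z Ls Lt = true) (hinv : ∃ i ∈ Inn T.QB, (s * cx * i) * (s * cx * i) = 1) : False := by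
  have h := cod_of T hK
  have hQ := gm_mem_QB T hK
  unfold chkT at hc
  rw [cond_false_eq_true, cond_false_eq_true] at hc
  obtain ⟨c1, c2, c3⟩ := hc
  rw [allL_iff] at c2
  have hIs : Im (gm T) (hm s) Ls := by
    refine ⟨hLs, fun q hq => ?_⟩
    obtain ⟨l, hl, he⟩ := zipc_sound _ _ c1 q hq
    obtain ⟨-, h2⟩ := wd_step hK hI hs hz hz1 l
    rw [hm_apply, gq_word hK hI hl, ← h2, ← he, h.ap0]
  have hIt : Im (gm T) (hm (s * cx)) Lt := by
    refine ⟨hLt, fun q hq => ?_⟩
    have hqG : q.1 ∈ G11 := by rw [← hLt]; exact List.mem_map_of_mem hq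
    have h1 := beq_iff.1 (c2 q hq)
    have h2 : val (gm T) (ap [.a0, q.1, .a0] 0) = (cx (gq (gm T) T.QB q.1) : T.QB) := by
      rw [h.ap0, hcx, gq_coe (hQ _ hqG), x1_inv hK]
      simp [wv, gi, gm, mul_assoc]
    obtain ⟨-, h4, -⟩ := im_step hK hIs (ap_lt _ (by norm_num)) h2
    rw [hm_apply, MulAut.mul_apply, ← h4, ← h1, h.ap0]
  obtain ⟨i, ⟨w, rfl⟩, hi⟩ := hinv
  set t : MulAut T.QB := s * cx with ht
  obtain ⟨y, hy, hy1, hy0⟩ := exists_code T hK (t w)
  obtain ⟨u1, u2, -⟩ := im_step hK hIt hy hy1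
  have he : val (gm T) 1024 = (gq (gm T) T.QB .a10 : T.QB) := by
    rw [gq_coe (hQ .a10 (by simp [G11]))]
    exact val_mk (gm T) .a10
  obtain ⟨v1, v2, -⟩ := im_step hK hIt (by norm_num : 1024 < 4096) he
  obtain ⟨x1, x2, -⟩ := im_step hK hIt v1 v2
  simp only [frc_eq] at c3
  have c4 := loopE_spec c3 hy hy0
  set e : T.QB := gq (gm T) T.QB .a10 with hedef
  have key : t w * t (t w) * t (t e) = e * (t w * t (t w)) := by
    have h1 := DFunLike.congr_fun hi e
    simp only [MulAut.mul_apply, MulAut.conj_apply, map_mul, map_inv, MulAut.one_apply] at h1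
    calc t w * t (t w) * t (t e)
        = (t w * t (t w) * (t w)⁻¹ * (t w * t (t e) * (t w)⁻¹) * (t w * t (t w) * (t w)⁻¹)⁻¹) *
          (t w * t (t w)) := by group
      _ = e * (t w * t (t w)) := by rw [h1]
  obtain ⟨m1, m2⟩ := mulc_val h hy (im Lt y 0)
  obtain ⟨n1, n2⟩ := mulc_val h m1 (im Lt (im Lt 1024 0) 0)
  obtain ⟨p1, p2⟩ := mulc_val h (by norm_num : 1024 < 4096) (mulc y (im Lt y 0))
  have heq : mulc (mulc y (im Lt y 0)) (im Lt (im Lt 1024 0) 0) = mulc 1024 (mulc y (im Lt y 0)) := by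
    apply h.inj _ n1 _ p1
    rw [n2, p2, m2, hy1, u2, x2, he]
    exact congrArg Subtype.val key
  rw [beq_iff.2 heq] at c4
  exact absurd c4 (by simp)

end fin

/-- the finite part of the B-side -/
theorem stFinB : Cfsg.Agent.H240.TF.StFinB.{u, v} := by
  intro K _ σ hK U _ T cx w0 ρ s hcx hw hρ hcomm hV hinv
  have hI : Im (gm T) (hm ρ) LR := hρ ▸ im_rho hK hcx hw
  have h := cod_of T hK
  have hQ := gm_mem_QB T hK
  have hs : ∀ y, s (ρ y) = ρ (s y) := fun y => DFunLike.congr_fun hcomm y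
  obtain ⟨z, hz, hz1, hz0⟩ := exists_code T hK (s (ea T))
  -- the relations of `a`
  have hrel := chkRel_true
  unfold chkRel at hrel
  rw [cond_false_eq_true] at hrel
  obtain ⟨q1, q2⟩ := hrel
  have b0 := wd_step hK hI (s := 1) (fun y => rfl) (z := 2) (by norm_num) (ea_val hK)
  have bz := wd_step hK hI hs hz hz1
  have g1 : wg r1 (ea T) (ρ (ea T)) (ρ (ρ (ea T))) = wg r1' (ea T) (ρ (ea T)) (ρ (ρ (ea T))) := by
    apply Subtype.ext
    have k1 := (b0 r1).2
    rw [beq_iff.1 q1] at k1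
    exact k1.symm.trans (b0 r1').2
  have g2 : (wg r2 (ea T) (ρ (ea T)) (ρ (ρ (ea T))) : T.QB) = gq (gm T) T.QB .a5 := by
    apply Subtype.ext
    have k1 := (b0 r2).2
    rw [beq_iff.1 q2] at k1
    rw [gq_coe (hQ .a5 (by simp [G11]))]
    exact k1.symm.trans (val_mk (gm T) .a5)
  have hV5 : s (gq (gm T) T.QB .a5) = gq (gm T) T.QB .a5 := by
    apply hV
    rw [gq_coe (hQ .a5 (by simp [G11]))]
    exact Subgroup.mem_sup_left (mZ4 T 1)
  have e1 : wd r1 z (im LR z 0) (im LR (im LR z 0) 0) 0 = wd r1' z (im LR z 0) (im LR (im LR z 0) 0) 0 := by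
    apply h.inj _ (bz r1).1 _ (bz r1').1
    rw [(bz r1).2, (bz r1').2, g1]
  have e2 : wd r2 z (im LR z 0) (im LR (im LR z 0) 0) 0 = 32 := by
    apply h.inj _ (bz r2).1 _ (by norm_num)
    rw [(bz r2).2, g2, hV5, gq_coe (hQ .a5 (by simp [G11]))]
    exact (val_mk (gm T) .a5).symm
  have hS := loopE_spec chkS_true hz hz0
  simp only [frc_eq] at hS
  rw [beq_iff.2 e1, beq_iff.2 e2, cond_true, cond_true] at hS
  by_cases hin : anyL (fun u => Nat.beq (mulc z u) (mulc u 2)) C8 = true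
  · -- inner
    rw [anyL_iff] at hin
    obtain ⟨u, hu, hu1⟩ := hin
    have hu2 : u < 4096 ∧ u.testBit 0 = false := by
      have : ∀ u ∈ C8, u < 4096 ∧ u.testBit 0 = false := by decide
      exact this u hu
    have hu3 : im LR u 0 = u := by
      have := chkC8_true
      unfold chkC8 at this
      rw [allL_iff] at this
      exact beq_iff.1 (this u hu)
    let c : T.QB := ⟨val (gm T) u, mem_of_even hK hu2.2⟩
    have hc1 : ρ c = c := by
      obtain ⟨-, k, -⟩ := im_step hK hI (e := c) hu2.1 rfl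
      rw [hu3] at k
      exact Subtype.ext k.symm
    have hc2 : s (ea T) = c * ea T * c⁻¹ := by
      rw [eq_mul_inv_iff_mul_eq]
      apply Subtype.ext
      have k1 := (mulc_val h hz u).2
      have k2 := (mulc_val h hu2.1 2).2
      rw [beq_iff.1 hu1, k2, hz1, ea_val hK] at k1
      exact k1.symm
    have hc3 : ∀ g ∈ G11, s (gq (gm T) T.QB g) = MulAut.conj c (gq (gm T) T.QB g) := by
      intro g hg
      obtain ⟨l, hl⟩ := exists_word hg
      have k1 := map_wg s.toMonoidHom l (ea T) (ρ (ea T)) (ρ (ρ (ea T)))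
      have k2 := map_wg (MulAut.conj c).toMonoidHom l (ea T) (ρ (ea T)) (ρ (ρ (ea T)))
      simp only [MulEquiv.toMonoidHom_eq_coe, MonoidHom.coe_coe, MulAut.conj_apply] at k1 k2
      rw [gq_word hK hI hl, MulAut.conj_apply, k1, k2, hs, hs, hs, hc2]
      simp only [map_mul, map_inv, hc1]
    refine ⟨c, ?_⟩
    apply MulEquiv.ext
    intro y
    obtain ⟨n, hn, hn1, hn0⟩ := exists_code T hK y
    apply Subtype.ext
    have k1 := hom_even hQ (hm s) hn0 hn1.symm
    have k2 := hom_even hQ (hm (MulAut.conj c)) hn0 hn1.symm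
    rw [hm_apply] at k1 k2
    rw [k1, k2]
    congr 1
    apply List.map_congr_left
    intro g hg
    rw [hm_apply, hm_apply, hc3 g hg]
  · exfalso
    rw [Bool.not_eq_true] at hin
    rw [hin, cond_false, anyL_iff] at hS
    obtain ⟨b, hb, hb1⟩ := hS
    have hzb : z = b := beq_iff.1 hb1
    subst hzb
    simp only [bad8, List.mem_cons, List.not_mem_nil, or_false] at hb
    rcases hb with rfl | rfl | rfl | rfl | rfl | rfl | rfl | rfl
    · exact kill_bad hK hI hcx hs hz hz1 rfl rfl chkT74 hinv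
    · exact kill_bad hK hI hcx hs hz hz1 rfl rfl chkT106 hinv
    · exact kill_bad hK hI hcx hs hz hz1 rfl rfl chkT258 hinv
    · exact kill_bad hK hI hcx hs hz hz1 rfl rfl chkT290 hinv
    · exact kill_bad hK hI hcx hs hz hz1 rfl rfl chkT778 hinv
    · exact kill_bad hK hI hcx hs hz hz1 rfl rfl chkT810 hinv
    · exact kill_bad hK hI hcx hs hz hz1 rfl rfl chkT834 hinv
    · exact kill_bad hK hI hcx hs hz hz1 rfl rfl chkT866 hinv

end Cfsg.Agent.H782.TF.FB
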