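import Cfsg.Agent.H782.TF.TauDef
import Cfsg.Agent.H782.TF.FinB
import Cfsg.Agent.H483.TF.Code
import Cfsg.Agent.H181.TF.TIFin

/-!
# S5262, q = 2: the automorphism `τ` of `U` (helper782)
-/

set_option autoImplicit false

namespace Cfsg.Agent.H782.TF.FB

open Cfsg Cfsg.FusionSystem Cfsg.Agent.H756.PU Cfsg.Agent.H802 Cfsg.Agent.H745.TF Cfsg.Agent.H782.TF
  Cfsg.Agent.H483.TF

universe u v

section rel

variable {U : Type v} [Group U] {γ : ℕ → U}

theorem mulc_relAux {δ : ℕ → U} (h : Rel δ) (y : ℕ) : ∀ (l : List Gn) {x : ℕ}, x < 4096 →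
    @List.rec Gn (fun _ => ℕ → ℕ) (fun x => x)
      (fun g _ ih x => ih (cond (Nat.beq (Nat.land y (mk g)) 0) x (rm g x))) l x < 4096 ∧
    val δ (@List.rec Gn (fun _ => ℕ → ℕ) (fun x => x)
      (fun g _ ih x => ih (cond (Nat.beq (Nat.land y (mk g)) 0) x (rm g x))) l x) =
      val δ x * (l.map fun g => if y.testBit (gi g) then δ (gi g) else 1).prod
  | [], x, hx => ⟨hx, by simp⟩
  | g :: l, x, hx => by
    by_cases hb : y &&& 2 ^ gi g = 0
    · have h0 : cond (Nat.beq (Nat.land y (mk g)) 0) x (rm g x) = x := by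
        rw [mk_eq, show Nat.beq (Nat.land y (2 ^ gi g)) 0 = true from beq_iff.2 hb]; rfl
      have h1 := mulc_relAux h y l hx
      have h2 : y.testBit (gi g) = false := land_pow_eq_zero.1 hb
      simp only [h0, List.map_cons, List.prod_cons, h2, Bool.false_eq_true, if_false, one_mul]
      exact h1
    · have h0 : cond (Nat.beq (Nat.land y (mk g)) 0) x (rm g x) = rm g x := by
        rw [mk_eq, show Nat.beq (Nat.land y (2 ^ gi g)) 0 = false from beq_false_iff.2 hb]; rfl
      have h1 := mulc_relAux h y l (rm_lt g x)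
      have h2 : y.testBit (gi g) = true := by
        by_contra h3
        rw [Bool.not_eq_true] at h3
        exact hb (land_pow_eq_zero.2 h3)
      simp only [h0, List.map_cons, List.prod_cons, h2, if_true]
      refine ⟨h1.1, ?_⟩
      rw [h1.2, val_rm h g x hx, mul_assoc]

theorem mulc_rel {δ : ℕ → U} (h : Rel δ) {x : ℕ} (hx : x < 4096) (y : ℕ) :
    mulc x y < 4096 ∧ val δ (mulc x y) = val δ x * val δ y := by
  have h1 := mulc_relAux h y [.a0, .a1, .a2, .a3, .a4, .a5, .a6, .a7, .a8, .a9, .a10, .a11] hx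
  refine ⟨h1.1, h1.2.trans ?_⟩
  congr 1
  simp only [List.map_cons, List.map_nil, List.prod_cons, List.prod_nil, val, vc, one_mul, mul_one, mul_assoc]
  rfl

/-- the images -/
def dl (γ : ℕ → U) (i : ℕ) : U := wv γ (tw (ig i))

theorem dl_gi (g : Gn) : dl γ (gi g) = wv γ (tw g) := by rw [dl, ig_gi]

theorem wv_dl (w : List Gn) : wv (dl γ) w = wv γ (tws w) := by
  induction w with
  | nil => rfl
  | cons g w ih =>
    rw [wv_cons, dl_gi, ih, ← wv_append]
    rfl

theorem mem_G12 (g : Gn) : g ∈ G12 := by cases g <;> simp [G12]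

theorem val_sqm (δ : ℕ → U) (g : Gn) : val δ (sqm g) = wv δ (sqw g) := by
  have h0 : val δ 0 = wv δ [] := (val_zero δ).trans (wv_nil δ).symm
  have h1 : ∀ j : Gn, val δ (mk j) = wv δ [j] := fun j => (val_mk δ j).trans (wv_one δ j).symm
  cases g
  · exact h0
  · exact h1 .a2
  · exact h0
  · exact h0
  · exact h1 .a5
  · exact h0
  · exact h0
  · exact h1 .a8
  · exact h0
  · exact h0
  · exact h1 .a11
  · exact h0

theorem rel_dl (h : Cod γ) : Rel (dl γ) := by
  have hc := chkTau_true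
  unfold chkTau at hc
  rw [cond_false_eq_true, allL_iff, allL_iff] at hc
  obtain ⟨h1, h2⟩ := hc
  constructor
  · intro g
    have k1 := beq_iff.1 (h1 g (mem_G12 g))
    rw [val_sqm, wv_dl, dl_gi, ← wv_append, ← h.ap0, ← h.ap0, k1]
  · intro k j hkj
    have k1 := h2 k (mem_G12 k)
    rw [allL_iff] at k1
    have k2 := k1 j (mem_G12 j)
    have k3 : Nat.blt (mk k) (mk j) = true := by
      rw [blt_iff, mk_eq, mk_eq]
      exact Nat.pow_lt_pow_right (by norm_num) hkj
    rw [k3, cond_true] at k2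
    have k4 := beq_iff.1 k2
    rw [wv_dl, dl_gi, dl_gi, ← wv_append, ← wv_append, ← wv_append, ← h.ap0, ← h.ap0, k4]

/-- `τ` as a homomorphism -/
theorem exists_hom (h : Cod γ) : ∃ φ : U →* U, ∀ g : Gn, φ (γ (gi g)) = wv γ (tw g) := by
  have hr := rel_dl h
  choose code hcode hval using h.surj
  have key : ∀ n < 4096, val (dl γ) (code (val γ n)) = val (dl γ) n := by
    intro n hn
    rw [h.inj _ (hcode _) n hn (hval _)]
  refine ⟨⟨⟨fun x => val (dl γ) (code x), ?_⟩, ?_⟩, ?_⟩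
  · have := key 0 (by norm_num)
    rwa [val_zero, val_zero] at this
  · intro x y
    obtain ⟨h1, h2⟩ := mulc_val h (hcode x) (code y)
    obtain ⟨-, h3⟩ := mulc_rel hr (hcode x) (code y)
    have h4 := key _ h1
    rw [h2, hval, hval] at h4
    exact h4.trans h3
  · intro g
    have h1 := key (mk g) (by rw [mk_eq]; exact lt_of_lt_of_le (Nat.pow_lt_pow_right (by norm_num) (gi_lt g)) (by norm_num))
    rw [val_mk, val_mk, dl_gi] at h1
    exact h1

theorem hom_wv {φ : U →* U} (hφ : ∀ g : Gn, φ (γ (gi g)) = wv γ (tw g)) (w : List Gn) : φ (wv γ w) = wv γ (tws w) := by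
  induction w with
  | nil => exact map_one φ
  | cons g w ih =>
    rw [wv_cons, map_mul, hφ, ih, ← wv_append]
    rfl

theorem hom_vc {ψ : U →* U} (hψ : ∀ g : Gn, ψ (γ (gi g)) = γ (gi g)) (n : ℕ) : ∀ k ≤ 12, ψ (vc γ k n) = vc γ k n := by
  intro k
  induction k with
  | zero => intro _; exact map_one ψ
  | succ k ih =>
    intro hk
    rw [vc_succ, map_mul, ih (by omega)]
    congr 1
    split_ifs
    · have := hψ (ig k)
      rwa [gi_ig (by omega)] at this
    · exact map_one ψ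

theorem exists_tau (h : Cod γ) : ∃ τ : MulAut U, (∀ g : Gn, τ (γ (gi g)) = wv γ (tw g)) ∧ τ * τ = 1 := by
  obtain ⟨φ, hφ⟩ := exists_hom h
  have h2 : ∀ x, φ (φ x) = x := by
    intro x
    obtain ⟨n, hn, rfl⟩ := h.surj x
    refine hom_vc (ψ := φ.comp φ) (fun g => ?_) n 12 le_rfl
    have hc := chkTau2_true
    unfold chkTau2 at hc
    rw [allL_iff] at hc
    have k1 := beq_iff.1 (hc g (mem_G12 g))
    rw [MonoidHom.comp_apply, hφ, hom_wv hφ, ← h.ap0, k1, val_mk]
  refine ⟨{ toFun := φ, invFun := φ, left_inv := h2, right_inv := h2, map_mul' := map_mul φ }, hφ, ?_⟩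
  apply MulEquiv.ext
  intro x
  exact h2 x

end rel

variable {K : Type u} [Field K] {σ : K →+* K} {U : Type v} [Group U] (T : Cfsg.Agent.H745.TF.TF σ U)

theorem cast_bt (h2 : (2 : K) = 0) (a i : ℕ) : ((a / 2 ^ i : ℕ) : K) = bt K (a.testBit i) := by
  rw [← cast_mod h2, Nat.testBit_eq_decide_div_mod_eq]
  change ((a / 2 ^ i % 2 : ℕ) : K) = _
  rcases Nat.mod_two_eq_zero_or_one (a / 2 ^ i) with h | h <;> rw [h] <;> simp [bt]

theorem cdN_eq (h2 : (2 : K) = 0) (n : ℕ) : cdN K n = cd K n := by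
  have h0 := cast_bt h2 n 0
  rw [pow_zero, Nat.div_one] at h0
  exact Cd.ext h0 (cast_bt h2 n 1) (cast_bt h2 n 2) (cast_bt h2 n 3) (cast_bt h2 n 4) (cast_bt h2 n 5) (cast_bt h2 n 6)
    (cast_bt h2 n 7) (cast_bt h2 n 8) (cast_bt h2 n 9) (cast_bt h2 n 10) (cast_bt h2 n 11)

theorem El_val (hK : HypK σ 0) (n : ℕ) : El T n = val (gm T) n := by
  rw [El, cdN_eq hK.two, val_cd]

theorem tau_El (hK : HypK σ 0) {τ : MulAut U} (hτ : ∀ g : Gn, τ (gm T (gi g)) = wv (gm T) (tw g)) {g : Gn} {c : ℕ}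
    (hc : ap (tw g) 0 = c) : τ (El T (mk g)) = El T c := by
  rw [El_val T hK, El_val T hK, val_mk, hτ, ← hc, (cod_of T hK).ap0]

theorem im_wb (hK : HypK σ 0) {w0 : MulAut T.QB} (hw : T.IsWb w0) : Im (gm T) (hm w0) LW := by
  have hQ := gm_mem_QB T hK
  constructor
  · rfl
  · intro p hp
    have key : ∀ g g' : Gn, ((w0 (gq (gm T) T.QB g) : T.QB) : U) = gm T (gi g') →
        hm w0 (gq (gm T) T.QB g) = wv (gm T) [g'] := by
      intro g g' h1
      rw [hm_apply, h1, wv_one]
    have c : ∀ g : Gn, g ∈ G11 → ((gq (gm T) T.QB g : T.QB) : U) = gm T (gi g) := fun g hg => gq_coe (hQ g hg)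
    simp only [LW, List.mem_cons, List.not_mem_nil, or_false] at hp
    rcases hp with rfl | rfl | rfl | rfl | rfl | rfl | rfl | rfl | rfl | rfl | rfl
    · exact key .a1 .a10 (hw.e2 _ 1 0 (c .a1 (by simp [G11])))
    · exact key .a2 .a11 (hw.e2 _ 0 1 (c .a2 (by simp [G11])))
    · exact key .a3 .a9 (hw.e3 _ 1 (c .a3 (by simp [G11])))
    · exact key .a4 .a7 (hw.e4 _ 1 0 (c .a4 (by simp [G11])))
    · exact key .a5 .a8 (hw.e4 _ 0 1 (c .a5 (by simp [G11])))
    · exact key .a6 .a6 (hw.e5 _ 1 (c .a6 (by simp [G11])))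
    · exact key .a7 .a4 (hw.e6 _ 1 0 (c .a7 (by simp [G11])))
    · exact key .a8 .a5 (hw.e6 _ 0 1 (c .a8 (by simp [G11])))
    · exact key .a9 .a3 (hw.e7 _ 1 (c .a9 (by simp [G11])))
    · exact key .a10 .a1 (hw.e8 _ 1 0 (c .a10 (by simp [G11])))
    · exact key .a11 .a2 (hw.e8 _ 0 1 (c .a11 (by simp [G11])))

variable {T}

theorem aut_ext (hK : HypK σ 0) {α β : MulAut T.QB}
    (h : ∀ g ∈ G11, α (gq (gm T) T.QB g) = β (gq (gm T) T.QB g)) : α = β := by
  apply MulEquiv.ext
  intro y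
  obtain ⟨n, hn, hn1, hn0⟩ := exists_code T hK y
  apply Subtype.ext
  have hQ := gm_mem_QB T hK
  have k1 := hom_even hQ (hm α) hn0 hn1.symm
  have k2 := hom_even hQ (hm β) hn0 hn1.symm
  rw [hm_apply] at k1 k2
  rw [k1, k2]
  congr 1
  apply List.map_congr_left
  intro g hg
  rw [hm_apply, hm_apply, h g hg]

theorem lamB_tau (hK : HypK σ 0) {τ : MulAut U} (hτ : ∀ g : Gn, τ (gm T (gi g)) = wv (gm T) (tw g))
    (h2 : τ * τ = 1) (γ γ' : MulAut T.QB) (hj : IsCj τ γ γ') : γ ∈ T.LamB ↔ γ' ∈ T.LamB := by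
  have hQ := (Cfsg.Agent.H181.TF.stTI hK T T.QB (Or.inr rfl)).2.2.2
  have hG := gm_mem_QB T hK
  set r : MulAut T.QB := rs τ hQ with hr
  have hrr : r * r = 1 := by
    apply MulEquiv.ext
    intro x
    apply Subtype.ext
    exact DFunLike.congr_fun h2 (x : U)
  have hri : r⁻¹ = r := inv_eq_of_mul_eq_one_right hrr
  -- conjugation by `x5`
  have h5 : gm T (gi .a6) ∈ T.QB := hG .a6 (by simp [G11])
  set x5 : T.QB := ⟨gm T (gi .a6), h5⟩ with hx5
  set c : MulAut T.QB := MulAut.conj x5 with hc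
  have hcA : c ∈ autInducedBy (⊤ : Subgroup U) T.QB :=
    (mem_autInducedBy_iff _ _ _).2 ⟨gm T (gi .a6), Subgroup.mem_top _, fun x => rfl⟩
  have h5i : (gm T (gi .a6))⁻¹ = gm T (gi .a6) := by
    have h := (cod_of T hK).sq .a6
    rw [show sqm .a6 = 0 from rfl, val_zero] at h
    exact inv_eq_of_mul_eq_one_right h
  have hIr : Im (gm T) (hm r) LT := by
    refine ⟨rfl, fun p hp => ?_⟩
    have hpG : p.1 ∈ G11 := by
      have : p.1 ∈ LT.map Prod.fst := List.mem_map_of_mem hp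
      exact this
    have hp2 : p.2 = tw p.1 := by
      simp only [LT, List.mem_cons, List.not_mem_nil, or_false] at hp
      rcases hp with rfl | rfl | rfl | rfl | rfl | rfl | rfl | rfl | rfl | rfl | rfl <;> rfl
    rw [hm_apply, hr, rs_apply, gq_coe (hG _ hpG), hτ, hp2]
  have hIc : Im (gm T) (hm c) LC := by
    refine ⟨rfl, fun p hp => ?_⟩
    have hpG : p.1 ∈ G11 := by
      have : p.1 ∈ LC.map Prod.fst := List.mem_map_of_mem hp
      exact this
    have hp2 : p.2 = [.a6, p.1, .a6] := by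
      simp only [LC, List.mem_cons, List.not_mem_nil, or_false] at hp
      rcases hp with rfl | rfl | rfl | rfl | rfl | rfl | rfl | rfl | rfl | rfl | rfl <;> rfl
    have h1 : ((c (gq (gm T) T.QB p.1) : T.QB) : U) = gm T (gi .a6) * gm T (gi p.1) * (gm T (gi .a6))⁻¹ := by
      rw [hc, MulAut.conj_apply]
      simp only [Subgroup.coe_mul, Subgroup.coe_inv, hx5]
      rw [gq_coe (hG _ hpG)]
    rw [hm_apply, h1, h5i, hp2]
    simp [wv, mul_assoc]
  have hA : ∀ w ∈ {w : MulAut T.QB | T.IsWb w}, r * w * r⁻¹ ∈ T.LamB := by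
    intro w hw
    have hIw := im_wb T hK hw
    have e1 : r * w = c * w * r := by
      apply aut_ext hK
      intro g hg
      have hz : mk g < 4096 := by
        rw [mk_eq]; exact lt_of_lt_of_le (Nat.pow_lt_pow_right (by norm_num) (gi_lt g)) (by norm_num)
      have hz1 : val (gm T) (mk g) = (gq (gm T) T.QB g : T.QB) := by
        rw [val_mk, gq_coe (hG g hg)]
      obtain ⟨a1, a2, -⟩ := im_step hK hIw hz hz1
      obtain ⟨b1, b2, -⟩ := im_step hK hIr a1 a2
      obtain ⟨c1, c2, -⟩ := im_step hK hIr hz hz1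
      obtain ⟨d1, d2, -⟩ := im_step hK hIw c1 c2
      obtain ⟨f1, f2, -⟩ := im_step hK hIc d1 d2
      have hk := chkTW_true
      unfold chkTW at hk
      rw [allL_iff] at hk
      obtain ⟨p, hp, hpg⟩ : ∃ p ∈ LT, p.1 = g := by
        have : g ∈ LT.map Prod.fst := hg
        simpa using this
      have hk1 := beq_iff.1 (hk p hp)
      rw [hpg] at hk1
      apply Subtype.ext
      rw [MulAut.mul_apply, MulAut.mul_apply, MulAut.mul_apply, ← b2, ← f2, hk1]
    have e2 : r * w * r⁻¹ = c * w := by rw [e1, mul_inv_cancel_right]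
    rw [e2]
    exact Subgroup.mul_mem _ (Subgroup.mem_sup_left hcA) (Subgroup.mem_sup_right (Subgroup.subset_closure hw))
  have hB : ∀ α ∈ T.LamB, r * α * r⁻¹ ∈ T.LamB := by
    have hle : T.LamB ≤ T.LamB.comap (MulAut.conj r).toMonoidHom := by
      rw [TF.LamB, sup_le_iff]
      constructor
      · intro α hα
        exact Subgroup.mem_sup_left ((ind_inv hQ).2 hα)
      · rw [Subgroup.closure_le]
        exact hA
    intro α hα
    exact hle hα
  have hg' : γ' = r * γ * r⁻¹ := (isCj_iff hQ).1 hj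
  constructor
  · intro h
    rw [hg']
    exact hB γ h
  · intro h
    have h1 := hB γ' h
    have h3 : r * γ' * r⁻¹ = γ := by
      rw [hg', hri]
      calc r * (r * γ * r) * r = (r * r) * γ * (r * r) := by group
        _ = γ := by rw [hrr, one_mul, mul_one]
    rwa [h3] at h1

/-- the automorphism `τ` of helper483 -/
theorem stTau {K : Type u} [Field K] {σ : K →+* K} (hK : HypK σ 0) {U : Type v} [Group U]
    (T : Cfsg.Agent.H745.TF.TF σ U) :
    ∃ τ : MulAut U, τ (El T 1) = El T 65 ∧ τ (El T 2) = El T 290 ∧ τ (El T 1024) = El T 1056 ∧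
      (∀ m ∈ [4, 8, 16, 32, 64, 128, 256, 512, 2048], τ (El T m) = El T m) ∧
      ∀ γ γ' : MulAut T.QB, IsCj τ γ γ' → (γ ∈ T.LamB ↔ γ' ∈ T.LamB) := by
  obtain ⟨τ, hτ, h2⟩ := exists_tau (cod_of T hK)
  refine ⟨τ, tau_El T hK hτ (g := .a0) (c := 65) (by decide +kernel),
    tau_El T hK hτ (g := .a1) (c := 290) (by decide +kernel),
    tau_El T hK hτ (g := .a10) (c := 1056) (by decide +kernel), ?_, lamB_tau hK hτ h2⟩
  intro m hm
  simp only [List.mem_cons, List.not_mem_nil, or_false] at hm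
  rcases hm with rfl | rfl | rfl | rfl | rfl | rfl | rfl | rfl | rfl
  · exact tau_El T hK hτ (g := .a2) (c := 4) (by decide +kernel)
  · exact tau_El T hK hτ (g := .a3) (c := 8) (by decide +kernel)
  · exact tau_El T hK hτ (g := .a4) (c := 16) (by decide +kernel)
  · exact tau_El T hK hτ (g := .a5) (c := 32) (by decide +kernel)
  · exact tau_El T hK hτ (g := .a6) (c := 64) (by decide +kernel)
  · exact tau_El T hK hτ (g := .a7) (c := 128) (by decide +kernel)
  · exact tau_El T hK hτ (g := .a8) (c := 256) (by decide +kernel)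
  · exact tau_El T hK hτ (g := .a9) (c := 512) (by decide +kernel)
  · exact tau_El T hK hτ (g := .a11) (c := 2048) (by decide +kernel)

end Cfsg.Agent.H782.TF.FB
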