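import Cfsg.Agent.H782.TF.Tab

/-!
# S5262, q = 2: kernel checks of the tables (helper782)
-/

set_option autoImplicit false
set_option maxRecDepth 100000

noncomputable section

namespace Cfsg.Agent.H782.TF

/-- right multiplication of codes by a generator -/
def rm (g : Gn) (x : Nat) : Nat := Nat.land (Nat.shiftRight (tab g) (Nat.mul 12 x)) 4095

/-- right multiplication by a word -/
def ap (w : List Gn) : Nat → Nat :=
  @List.rec Gn (fun _ => Nat → Nat) (fun x => x) (fun g _ ih x => ih (rm g x)) w

/-- `P i` for all `i < n` -/
def loopAll (P : Nat → Bool) (n : Nat) : Bool :=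
  @Nat.rec (fun _ => Bool) true (fun i ih => cond (P i) ih false) n

/-- the tail of `t * g` -/
def phi (g : Gn) (t : Nat) : Nat := Nat.sub (rm g t) (mk g)

/-- the relation check -/
def chkA (k j : Gn) : Bool :=
  loopAll (fun u =>
    Nat.beq (ap (cw k j) (phi k (Nat.add (Nat.mul u (Nat.mul 2 (mk k))) (mk j))))
      (rm j (phi k (Nat.mul u (Nat.mul 2 (mk k)))))) (Nat.div (mk j) (Nat.mul 2 (mk k)))

/-- the table is determined by its tails -/
def chkB (k : Gn) : Bool :=
  loopAll (fun n =>
    Nat.beq (rm k n)
      (cond (Nat.beq (Nat.land n (mk k)) 0)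
        (Nat.add (Nat.mod n (mk k)) (Nat.add (mk k) (phi k (Nat.sub n (Nat.mod n (Nat.mul 2 (mk k)))))))
        (Nat.add (Nat.mod n (mk k)) (Nat.xor (phi k (Nat.sub n (Nat.mod n (Nat.mul 2 (mk k))))) (sqm k))))) 4096

/-- low bits -/
def chkC (k : Gn) : Bool :=
  loopAll (fun n =>
    Nat.beq (Nat.mod (rm k n) (Nat.mul 2 (mk k))) (Nat.xor (Nat.mod n (Nat.mul 2 (mk k))) (mk k))) 4096

theorem chkB0 : chkB .a0 = true := by decide +kernel
theorem chkC0 : chkC .a0 = true := by decide +kernel
theorem chkB1 : chkB .a1 = true := by decide +kernel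
theorem chkC1 : chkC .a1 = true := by decide +kernel
theorem chkB2 : chkB .a2 = true := by decide +kernel
theorem chkC2 : chkC .a2 = true := by decide +kernel
theorem chkB3 : chkB .a3 = true := by decide +kernel
theorem chkC3 : chkC .a3 = true := by decide +kernel
theorem chkB4 : chkB .a4 = true := by decide +kernel
theorem chkC4 : chkC .a4 = true := by decide +kernel
theorem chkB5 : chkB .a5 = true := by decide +kernel
theorem chkC5 : chkC .a5 = true := by decide +kernel
theorem chkB6 : chkB .a6 = true := by decide +kernel
theorem chkC6 : chkC .a6 = true := by decide +kernel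
theorem chkB7 : chkB .a7 = true := by decide +kernel
theorem chkC7 : chkC .a7 = true := by decide +kernel
theorem chkB8 : chkB .a8 = true := by decide +kernel
theorem chkC8 : chkC .a8 = true := by decide +kernel
theorem chkB9 : chkB .a9 = true := by decide +kernel
theorem chkC9 : chkC .a9 = true := by decide +kernel
theorem chkB10 : chkB .a10 = true := by decide +kernel
theorem chkC10 : chkC .a10 = true := by decide +kernel
theorem chkB11 : chkB .a11 = true := by decide +kernel
theorem chkC11 : chkC .a11 = true := by decide +kernel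
theorem chkA_0_1 : chkA .a0 .a1 = true := by decide +kernel
theorem chkA_0_2 : chkA .a0 .a2 = true := by decide +kernel
theorem chkA_0_3 : chkA .a0 .a3 = true := by decide +kernel
theorem chkA_0_4 : chkA .a0 .a4 = true := by decide +kernel
theorem chkA_0_5 : chkA .a0 .a5 = true := by decide +kernel
theorem chkA_0_6 : chkA .a0 .a6 = true := by decide +kernel
theorem chkA_0_7 : chkA .a0 .a7 = true := by decide +kernel
theorem chkA_0_8 : chkA .a0 .a8 = true := by decide +kernel
theorem chkA_0_9 : chkA .a0 .a9 = true := by decide +kernel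
theorem chkA_0_10 : chkA .a0 .a10 = true := by decide +kernel
theorem chkA_0_11 : chkA .a0 .a11 = true := by decide +kernel
theorem chkA_1_2 : chkA .a1 .a2 = true := by decide +kernel
theorem chkA_1_3 : chkA .a1 .a3 = true := by decide +kernel
theorem chkA_1_4 : chkA .a1 .a4 = true := by decide +kernel
theorem chkA_1_5 : chkA .a1 .a5 = true := by decide +kernel
theorem chkA_1_6 : chkA .a1 .a6 = true := by decide +kernel
theorem chkA_1_7 : chkA .a1 .a7 = true := by decide +kernel
theorem chkA_1_8 : chkA .a1 .a8 = true := by decide +kernel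
theorem chkA_1_9 : chkA .a1 .a9 = true := by decide +kernel
theorem chkA_1_10 : chkA .a1 .a10 = true := by decide +kernel
theorem chkA_1_11 : chkA .a1 .a11 = true := by decide +kernel
theorem chkA_2_3 : chkA .a2 .a3 = true := by decide +kernel
theorem chkA_2_4 : chkA .a2 .a4 = true := by decide +kernel
theorem chkA_2_5 : chkA .a2 .a5 = true := by decide +kernel
theorem chkA_2_6 : chkA .a2 .a6 = true := by decide +kernel
theorem chkA_2_7 : chkA .a2 .a7 = true := by decide +kernel
theorem chkA_2_8 : chkA .a2 .a8 = true := by decide +kernel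
theorem chkA_2_9 : chkA .a2 .a9 = true := by decide +kernel
theorem chkA_2_10 : chkA .a2 .a10 = true := by decide +kernel
theorem chkA_2_11 : chkA .a2 .a11 = true := by decide +kernel
theorem chkA_3_4 : chkA .a3 .a4 = true := by decide +kernel
theorem chkA_3_5 : chkA .a3 .a5 = true := by decide +kernel
theorem chkA_3_6 : chkA .a3 .a6 = true := by decide +kernel
theorem chkA_3_7 : chkA .a3 .a7 = true := by decide +kernel
theorem chkA_3_8 : chkA .a3 .a8 = true := by decide +kernel
theorem chkA_3_9 : chkA .a3 .a9 = true := by decide +kernel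
theorem chkA_3_10 : chkA .a3 .a10 = true := by decide +kernel
theorem chkA_3_11 : chkA .a3 .a11 = true := by decide +kernel
theorem chkA_4_5 : chkA .a4 .a5 = true := by decide +kernel
theorem chkA_4_6 : chkA .a4 .a6 = true := by decide +kernel
theorem chkA_4_7 : chkA .a4 .a7 = true := by decide +kernel
theorem chkA_4_8 : chkA .a4 .a8 = true := by decide +kernel
theorem chkA_4_9 : chkA .a4 .a9 = true := by decide +kernel
theorem chkA_4_10 : chkA .a4 .a10 = true := by decide +kernel
theorem chkA_4_11 : chkA .a4 .a11 = true := by decide +kernel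
theorem chkA_5_6 : chkA .a5 .a6 = true := by decide +kernel
theorem chkA_5_7 : chkA .a5 .a7 = true := by decide +kernel
theorem chkA_5_8 : chkA .a5 .a8 = true := by decide +kernel
theorem chkA_5_9 : chkA .a5 .a9 = true := by decide +kernel
theorem chkA_5_10 : chkA .a5 .a10 = true := by decide +kernel
theorem chkA_5_11 : chkA .a5 .a11 = true := by decide +kernel
theorem chkA_6_7 : chkA .a6 .a7 = true := by decide +kernel
theorem chkA_6_8 : chkA .a6 .a8 = true := by decide +kernel
theorem chkA_6_9 : chkA .a6 .a9 = true := by decide +kernel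
theorem chkA_6_10 : chkA .a6 .a10 = true := by decide +kernel
theorem chkA_6_11 : chkA .a6 .a11 = true := by decide +kernel
theorem chkA_7_8 : chkA .a7 .a8 = true := by decide +kernel
theorem chkA_7_9 : chkA .a7 .a9 = true := by decide +kernel
theorem chkA_7_10 : chkA .a7 .a10 = true := by decide +kernel
theorem chkA_7_11 : chkA .a7 .a11 = true := by decide +kernel
theorem chkA_8_9 : chkA .a8 .a9 = true := by decide +kernel
theorem chkA_8_10 : chkA .a8 .a10 = true := by decide +kernel
theorem chkA_8_11 : chkA .a8 .a11 = true := by decide +kernel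
theorem chkA_9_10 : chkA .a9 .a10 = true := by decide +kernel
theorem chkA_9_11 : chkA .a9 .a11 = true := by decide +kernel
theorem chkA_10_11 : chkA .a10 .a11 = true := by decide +kernel

theorem rm_zero : ∀ g : Gn, rm g 0 = mk g := fun g => by cases g <;> decide +kernel

end Cfsg.Agent.H782.TF
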