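import Mathlib
import Cfsg.Agent.H782.TF.TabChk

/-!
# S5262, q = 2: the codes compute in every group satisfying the relations (helper782)
-/

set_option autoImplicit false

namespace Cfsg.Agent.H782.TF

/-- the index of a generator -/
def gi : Gn → ℕ
  | .a0 => 0 | .a1 => 1 | .a2 => 2 | .a3 => 3 | .a4 => 4 | .a5 => 5 | .a6 => 6 | .a7 => 7 | .a8 => 8 | .a9 => 9
  | .a10 => 10 | .a11 => 11

/-- the generator of an index -/
def ig : ℕ → Gn
  | 0 => .a0 | 1 => .a1 | 2 => .a2 | 3 => .a3 | 4 => .a4 | 5 => .a5 | 6 => .a6 | 7 => .a7 | 8 => .a8 | 9 => .a9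
  | 10 => .a10 | _ => .a11

theorem gi_lt (g : Gn) : gi g < 12 := by cases g <;> decide

theorem ig_gi (g : Gn) : ig (gi g) = g := by cases g <;> rfl

theorem gi_ig {n : ℕ} (h : n < 12) : gi (ig n) = n := by
  interval_cases n <;> rfl

theorem mk_eq (g : Gn) : mk g = 2 ^ gi g := by cases g <;> rfl

theorem rm_lt (g : Gn) (x : ℕ) : rm g x < 4096 := by
  have h : rm g x = (tab g >>> (12 * x)) &&& (2 ^ 12 - 1) := rfl
  rw [h, Nat.and_two_pow_sub_one_eq_mod]
  exact Nat.mod_lt _ (by norm_num)

theorem ap_nil (x : ℕ) : ap [] x = x := rfl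

theorem ap_cons (g : Gn) (w : List Gn) (x : ℕ) : ap (g :: w) x = ap w (rm g x) := rfl

theorem ap_append (w v : List Gn) (x : ℕ) : ap (w ++ v) x = ap v (ap w x) := by
  induction w generalizing x with
  | nil => rfl
  | cons g w ih => exact ih (rm g x)

theorem ap_lt (w : List Gn) {x : ℕ} (h : x < 4096) : ap w x < 4096 := by
  induction w generalizing x with
  | nil => exact h
  | cons g w ih => exact ih (rm_lt g x)

theorem loopAll_succ (P : ℕ → Bool) (n : ℕ) : loopAll P (n + 1) = cond (P n) (loopAll P n) false := rfl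

theorem loopAll_spec {P : ℕ → Bool} {n : ℕ} (h : loopAll P n = true) : ∀ i < n, P i = true := by
  induction n with
  | zero => intro i hi; omega
  | succ n ih =>
    rw [loopAll_succ] at h
    intro i hi
    cases hp : P n with
    | false => rw [hp] at h; exact absurd h (by simp)
    | true =>
      rw [hp] at h
      rcases Nat.lt_succ_iff_lt_or_eq.1 hi with h1 | h1
      · exact ih h i h1
      · rw [h1, hp]

theorem chkA_all : ∀ k j : Gn, gi k < gi j → chkA k j = true := by
  intro k j h
  cases k <;> cases j <;> first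
    | (exfalso; revert h; decide)
    | with_reducible exact chkA_0_1 | with_reducible exact chkA_0_2 | with_reducible exact chkA_0_3 | with_reducible exact chkA_0_4 | with_reducible exact chkA_0_5 | with_reducible exact chkA_0_6
    | with_reducible exact chkA_0_7 | with_reducible exact chkA_0_8 | with_reducible exact chkA_0_9 | with_reducible exact chkA_0_10 | with_reducible exact chkA_0_11
    | with_reducible exact chkA_1_2 | with_reducible exact chkA_1_3 | with_reducible exact chkA_1_4 | with_reducible exact chkA_1_5 | with_reducible exact chkA_1_6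
    | with_reducible exact chkA_1_7 | with_reducible exact chkA_1_8 | with_reducible exact chkA_1_9 | with_reducible exact chkA_1_10 | with_reducible exact chkA_1_11
    | with_reducible exact chkA_2_3 | with_reducible exact chkA_2_4 | with_reducible exact chkA_2_5 | with_reducible exact chkA_2_6
    | with_reducible exact chkA_2_7 | with_reducible exact chkA_2_8 | with_reducible exact chkA_2_9 | with_reducible exact chkA_2_10 | with_reducible exact chkA_2_11
    | with_reducible exact chkA_3_4 | with_reducible exact chkA_3_5 | with_reducible exact chkA_3_6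
    | with_reducible exact chkA_3_7 | with_reducible exact chkA_3_8 | with_reducible exact chkA_3_9 | with_reducible exact chkA_3_10 | with_reducible exact chkA_3_11
    | with_reducible exact chkA_4_5 | with_reducible exact chkA_4_6
    | with_reducible exact chkA_4_7 | with_reducible exact chkA_4_8 | with_reducible exact chkA_4_9 | with_reducible exact chkA_4_10 | with_reducible exact chkA_4_11
    | with_reducible exact chkA_5_6
    | with_reducible exact chkA_5_7 | with_reducible exact chkA_5_8 | with_reducible exact chkA_5_9 | with_reducible exact chkA_5_10 | with_reducible exact chkA_5_11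
    | with_reducible exact chkA_6_7 | with_reducible exact chkA_6_8 | with_reducible exact chkA_6_9 | with_reducible exact chkA_6_10 | with_reducible exact chkA_6_11
    | with_reducible exact chkA_7_8 | with_reducible exact chkA_7_9 | with_reducible exact chkA_7_10 | with_reducible exact chkA_7_11
    | with_reducible exact chkA_8_9 | with_reducible exact chkA_8_10 | with_reducible exact chkA_8_11
    | with_reducible exact chkA_9_10 | with_reducible exact chkA_9_11 | with_reducible exact chkA_10_11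

theorem chkB_all : ∀ k : Gn, chkB k = true := by
  intro k
  cases k <;> first
    | with_reducible exact chkB0 | with_reducible exact chkB1 | with_reducible exact chkB2 | with_reducible exact chkB3 | with_reducible exact chkB4 | with_reducible exact chkB5 | with_reducible exact chkB6
    | with_reducible exact chkB7 | with_reducible exact chkB8 | with_reducible exact chkB9 | with_reducible exact chkB10 | with_reducible exact chkB11

theorem chkC_all : ∀ k : Gn, chkC k = true := by
  intro k
  cases k <;> first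
    | with_reducible exact chkC0 | with_reducible exact chkC1 | with_reducible exact chkC2 | with_reducible exact chkC3 | with_reducible exact chkC4 | with_reducible exact chkC5 | with_reducible exact chkC6
    | with_reducible exact chkC7 | with_reducible exact chkC8 | with_reducible exact chkC9 | with_reducible exact chkC10 | with_reducible exact chkC11

section
variable {U : Type*} [Group U] (γ : ℕ → U)

/-- the product of the generators in the positions `< k` of the code `n` -/
def vc : ℕ → ℕ → U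
  | 0, _ => 1
  | k + 1, n => vc k n * (if n.testBit k then γ k else 1)

/-- the value of a code -/
def val (n : ℕ) : U := vc γ 12 n

/-- the value of a word -/
def wv (w : List Gn) : U := (w.map fun g => γ (gi g)).prod

theorem vc_succ (k n : ℕ) : vc γ (k + 1) n = vc γ k n * (if n.testBit k then γ k else 1) := rfl

theorem vc_congr {a b : ℕ} : ∀ m, (∀ i < m, a.testBit i = b.testBit i) → vc γ m a = vc γ m b
  | 0, _ => rfl
  | m + 1, h => by
    rw [vc, vc, vc_congr m fun i hi => h i (by omega), h m (by omega)]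

theorem vc_hi {a : ℕ} : ∀ m, (∀ i < m, a.testBit i = false) → vc γ m a = 1
  | 0, _ => rfl
  | m + 1, h => by
    rw [vc, vc_hi m fun i hi => h i (by omega), h m (by omega)]
    simp

theorem vc_add {lo hi k : ℕ} (h1 : lo < 2 ^ k) (h2 : 2 ^ k ∣ hi) : ∀ m, vc γ m (lo + hi) = vc γ m lo * vc γ m hi := by
  obtain ⟨a, rfl⟩ := h2
  have tb : ∀ j, (lo + 2 ^ k * a).testBit j = if j < k then lo.testBit j else a.testBit (j - k) := by
    intro j
    rw [add_comm, Nat.testBit_two_pow_mul_add a h1 j]
  have tb2 : ∀ j, (2 ^ k * a).testBit j = if j < k then false else a.testBit (j - k) := by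
    intro j
    have := Nat.testBit_two_pow_mul_add a (b := 0) (i := k) (by positivity) j
    simpa using this
  have tb1 : ∀ j, k ≤ j → lo.testBit j = false := fun j hj =>
    Nat.testBit_lt_two_pow (lt_of_lt_of_le h1 (Nat.pow_le_pow_right (by norm_num) hj))
  intro m
  by_cases hm : m ≤ k
  · rw [vc_hi γ (a := 2 ^ k * a) m fun i hi => by rw [tb2, if_pos (by omega)], mul_one]
    exact vc_congr γ m fun i hi => by rw [tb, if_pos (by omega)]
  · push Not at hm
    obtain ⟨d, rfl⟩ := Nat.exists_eq_add_of_lt hm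
    clear hm
    induction d with
    | zero =>
      rw [Nat.add_zero, vc, vc, vc, tb1 k le_rfl, vc_hi γ (a := 2 ^ k * a) k fun i hi => by rw [tb2, if_pos hi],
        vc_congr γ k (b := lo) fun i hi => by rw [tb, if_pos hi], tb, tb2]
      simp
    | succ d ih =>
      have e1 : (lo + 2 ^ k * a).testBit (k + d + 1) = a.testBit (k + d + 1 - k) := by
        rw [tb, if_neg (by omega)]
      have e2 : (2 ^ k * a).testBit (k + d + 1) = a.testBit (k + d + 1 - k) := by
        rw [tb2, if_neg (by omega)]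
      rw [show k + (d + 1) + 1 = (k + d + 1) + 1 by omega, vc_succ, vc_succ γ _ lo, vc_succ γ _ (2 ^ k * a), ih, e1, e2,
        tb1 _ (by omega)]
      simp [mul_assoc]

theorem val_add {lo hi k : ℕ} (h1 : lo < 2 ^ k) (h2 : 2 ^ k ∣ hi) : val γ (lo + hi) = val γ lo * val γ hi :=
  vc_add γ h1 h2 12

theorem val_zero : val γ 0 = 1 := vc_hi γ 12 fun i _ => Nat.zero_testBit i

theorem vc_pow (i : ℕ) : ∀ m, i < m → vc γ m (2 ^ i) = γ i
  | 0, h => by omega
  | m + 1, h => by
    rw [vc_succ]
    rcases Nat.lt_succ_iff_lt_or_eq.1 h with h1 | h1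
    · rw [vc_pow i m h1, Nat.testBit_two_pow_of_ne (by omega)]
      simp
    · subst h1
      rw [vc_hi γ i fun j hj => Nat.testBit_two_pow_of_ne (by omega), Nat.testBit_two_pow_self]
      simp

theorem val_mk (g : Gn) : val γ (mk g) = γ (gi g) := by
  rw [mk_eq]
  exact vc_pow γ _ 12 (gi_lt g)

theorem wv_nil : wv γ [] = 1 := rfl

theorem wv_cons (g : Gn) (w : List Gn) : wv γ (g :: w) = γ (gi g) * wv γ w := by simp [wv]

theorem wv_append (w v : List Gn) : wv γ (w ++ v) = wv γ w * wv γ v := by simp [wv]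

/-- the relations -/
structure Rel : Prop where
  sq : ∀ g : Gn, γ (gi g) * γ (gi g) = val γ (sqm g)
  rel : ∀ k j : Gn, gi k < gi j → γ (gi k) * γ (gi j) = γ (gi j) * γ (gi k) * wv γ (cw k j)

variable {γ}

theorem val_ap_of {w : List Gn} (h : ∀ g ∈ w, ∀ n < 4096, val γ (rm g n) = val γ n * γ (gi g)) {n : ℕ} (hn : n < 4096) :
    val γ (ap w n) = val γ n * wv γ w := by
  induction w generalizing n with
  | nil => simp [ap_nil, wv_nil]
  | cons g w ih =>
    rw [ap_cons, ih (fun g hg => h g (List.mem_cons_of_mem _ hg)) (rm_lt g n), h g List.mem_cons_self n hn, wv_cons,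
      mul_assoc]

theorem cw_lt : ∀ k j : Gn, ∀ g ∈ cw k j, gi k < gi g := by
  intro k j
  cases k <;> cases j <;> decide

theorem xor_pow_add {p i : ℕ} (hp : 2 ^ (i + 1) ∣ p) : p ^^^ 2 ^ i = 2 ^ i + p := by
  obtain ⟨a, rfl⟩ := hp
  apply Nat.eq_of_testBit_eq
  intro j
  have h1 : (2 : ℕ) ^ i < 2 ^ (i + 1) := Nat.pow_lt_pow_right (by norm_num) (by omega)
  have h2 := Nat.testBit_two_pow_mul_add a h1 j
  have h3 := Nat.testBit_two_pow_mul_add a (b := 0) (i := i + 1) (by positivity) j
  rw [Nat.add_zero] at h3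
  rw [Nat.testBit_xor, h3, add_comm (2 ^ i), h2]
  by_cases hj : j < i + 1
  · simp [hj]
  · rw [if_neg hj, if_neg hj, Nat.testBit_two_pow_of_ne (by omega)]
    simp

theorem xor_pow_sub {p i : ℕ} (hp : 2 ^ (i + 1) ∣ p) : (2 ^ i + p) ^^^ 2 ^ i = p := by
  rw [← xor_pow_add hp, Nat.xor_assoc, Nat.xor_self, Nat.xor_zero]

theorem dvd_cases {p i : ℕ} (hp : 2 ^ i ∣ p) : 2 ^ (i + 1) ∣ p ∨ ∃ r, 2 ^ (i + 1) ∣ r ∧ p = 2 ^ i + r := by
  obtain ⟨a, rfl⟩ := hp
  rcases Nat.even_or_odd' a with ⟨b, rfl | rfl⟩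
  · exact Or.inl ⟨b, by ring⟩
  · exact Or.inr ⟨2 ^ (i + 1) * b, ⟨b, rfl⟩, by ring⟩

theorem val_pow (j : Gn) : val γ (2 ^ gi j) = γ (gi j) := by rw [← mk_eq, val_mk]

theorem val_xor (h : Rel γ) {j : Gn} (hj : sqm j = 0) {p : ℕ} (hp : 2 ^ gi j ∣ p) :
    val γ (p ^^^ 2 ^ gi j) = γ (gi j) * val γ p := by
  have hlt : (2 : ℕ) ^ gi j < 2 ^ (gi j + 1) := Nat.pow_lt_pow_right (by norm_num) (by omega)
  rcases dvd_cases hp with h1 | ⟨r, h1, rfl⟩
  · rw [xor_pow_add h1, val_add γ hlt h1, val_pow]
  · rw [xor_pow_sub h1, val_add γ hlt h1, val_pow, ← mul_assoc, h.sq, hj, val_zero, one_mul]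

theorem sqm_cases : ∀ k : Gn, sqm k = 0 ∨ ∃ j : Gn, gi j = gi k + 1 ∧ sqm j = 0 ∧ sqm k = 2 ^ gi j := by
  intro k
  cases k
  · exact Or.inl rfl
  · exact Or.inr ⟨.a2, rfl, rfl, rfl⟩
  · exact Or.inl rfl
  · exact Or.inl rfl
  · exact Or.inr ⟨.a5, rfl, rfl, rfl⟩
  · exact Or.inl rfl
  · exact Or.inl rfl
  · exact Or.inr ⟨.a8, rfl, rfl, rfl⟩
  · exact Or.inl rfl
  · exact Or.inl rfl
  · exact Or.inr ⟨.a11, rfl, rfl, rfl⟩
  · exact Or.inl rfl

theorem rm_mod (k : Gn) {n : ℕ} (hn : n < 4096) :
    rm k n % 2 ^ (gi k + 1) = (n % 2 ^ (gi k + 1)) ^^^ 2 ^ gi k := by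
  have h := loopAll_spec (chkC_all k) n hn
  have h1 := Nat.eq_of_beq_eq_true h
  rw [mk_eq] at h1
  change rm k n % (2 * 2 ^ gi k) = (n % (2 * 2 ^ gi k)) ^^^ 2 ^ gi k at h1
  rwa [pow_succ, mul_comm (2 ^ gi k) 2]

theorem rm_tail (k : Gn) {t : ℕ} (ht : t < 4096) (hd : 2 ^ (gi k + 1) ∣ t) :
    rm k t = 2 ^ gi k + phi k t ∧ 2 ^ (gi k + 1) ∣ phi k t ∧ phi k t < 4096 := by
  have h := rm_mod k ht
  rw [Nat.mod_eq_zero_of_dvd hd, Nat.zero_xor] at h
  have hphi : phi k t = rm k t - 2 ^ gi k := by rw [phi, mk_eq]; rfl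
  have h1 := Nat.div_add_mod (rm k t) (2 ^ (gi k + 1))
  rw [h] at h1
  have h2 : rm k t - 2 ^ gi k = 2 ^ (gi k + 1) * (rm k t / 2 ^ (gi k + 1)) := by omega
  refine ⟨by rw [hphi]; omega, by rw [hphi, h2]; exact Dvd.intro _ rfl, ?_⟩
  rw [hphi]
  exact lt_of_le_of_lt (Nat.sub_le _ _) (rm_lt k t)

theorem val_tail (h : Rel γ) (k : Gn)
    (IH : ∀ j : Gn, gi k < gi j → ∀ n < 4096, val γ (rm j n) = val γ n * γ (gi j)) :
    ∀ t : ℕ, t < 4096 → 2 ^ (gi k + 1) ∣ t → val γ t * γ (gi k) = γ (gi k) * val γ (phi k t) := by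
  intro t
  induction t using Nat.strong_induction_on with
  | _ t ih =>
    intro ht hd
    rcases Nat.eq_zero_or_pos t with h0 | h0
    · subst h0
      have : phi k 0 = 0 := by rw [phi, rm_zero]; exact Nat.sub_self _
      rw [this, val_zero, one_mul, mul_one]
    · set J := Nat.log2 t with hJ
      have ht0 : t ≠ 0 := by omega
      have hJ1 : 2 ^ J ≤ t := Nat.log2_self_le ht0
      have hJ2 : t < 2 ^ (J + 1) := Nat.lt_log2_self
      have hJ3 : gi k + 1 ≤ J := (Nat.le_log2 ht0).2 (Nat.le_of_dvd h0 hd)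
      have hJ4 : J < 12 := (Nat.log2_lt ht0).2 (by norm_num; exact ht)
      set j := ig J with hj
      have hjJ : gi j = J := gi_ig hJ4
      have hMJ : 2 ^ (gi k + 1) ∣ 2 ^ J := Nat.pow_dvd_pow 2 hJ3
      set t' := t - 2 ^ J with ht'
      have hd' : 2 ^ (gi k + 1) ∣ t' := Nat.dvd_sub hd hMJ
      have hlt' : t' < 2 ^ J := by rw [pow_succ] at hJ2; omega
      have htt : t = t' + 2 ^ J := by omega
      have ht't : t' < t := by
        have : 0 < 2 ^ J := by positivity
        omega
      have hval : val γ t = val γ t' * γ J := by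
        rw [htt, val_add γ hlt' dvd_rfl, ← hjJ, val_pow]
      obtain ⟨u, hu⟩ := hd'
      have hulim : u < Nat.div (mk j) (Nat.mul 2 (mk k)) := by
        rw [mk_eq, mk_eq, hjJ]
        change u < 2 ^ J / (2 * 2 ^ gi k)
        rw [Nat.lt_div_iff_mul_lt' (by rw [← pow_succ']; exact hMJ)]
        rw [← pow_succ', ← hu]
        exact hlt'
      have hA := Nat.eq_of_beq_eq_true (loopAll_spec (chkA_all k j (by omega)) u hulim)
      rw [mk_eq, mk_eq, hjJ] at hA
      change ap (cw k j) (phi k (u * (2 * 2 ^ gi k) + 2 ^ J)) = rm j (phi k (u * (2 * 2 ^ gi k))) at hA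
      have e1 : u * (2 * 2 ^ gi k) = t' := by rw [hu, pow_succ]; ring
      rw [e1, ← htt] at hA
      have hc : ∀ g ∈ cw k j, ∀ n < 4096, val γ (rm g n) = val γ n * γ (gi g) := fun g hg => IH g (cw_lt k j g hg)
      have b1 := rm_tail k ht hd
      have b2 := rm_tail k (t := t') (by omega) ⟨u, hu⟩
      have k1 := val_ap_of hc b1.2.2
      have k2 := ih t' ht't (by omega) ⟨u, hu⟩
      have k3 := IH j (by omega) _ b2.2.2
      have k4 := h.rel k j (by omega)
      apply mul_right_cancel (b := wv γ (cw k j))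
      calc val γ t * γ (gi k) * wv γ (cw k j) = val γ t' * (γ (gi j) * γ (gi k) * wv γ (cw k j)) := by
            rw [hval, hjJ]; simp only [mul_assoc]
        _ = (val γ t' * γ (gi k)) * γ (gi j) := by rw [← k4, mul_assoc]
        _ = γ (gi k) * (val γ (phi k t') * γ (gi j)) := by rw [k2, mul_assoc]
        _ = γ (gi k) * val γ (phi k t) * wv γ (cw k j) := by rw [← k3, ← hA, k1, mul_assoc]

theorem val_rm_aux (h : Rel γ) (k : Gn)
    (IH : ∀ j : Gn, gi k < gi j → ∀ n < 4096, val γ (rm j n) = val γ n * γ (gi j)) :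
    ∀ n < 4096, val γ (rm k n) = val γ n * γ (gi k) := by
  intro n hn
  have hB := Nat.eq_of_beq_eq_true (loopAll_spec (chkB_all k) n hn)
  rw [mk_eq] at hB
  change rm k n = cond (Nat.beq (n &&& 2 ^ gi k) 0)
    (n % 2 ^ gi k + (2 ^ gi k + phi k (n - n % (2 * 2 ^ gi k))))
    (n % 2 ^ gi k + ((phi k (n - n % (2 * 2 ^ gi k))) ^^^ (sqm k))) at hB
  rw [← pow_succ'] at hB
  set K := gi k with hK
  set T := n - n % 2 ^ (K + 1) with hT
  have hTd : 2 ^ (K + 1) ∣ T := Nat.dvd_sub_mod n
  have hT4 : T < 4096 := lt_of_le_of_lt (Nat.sub_le _ _) hn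
  have hTK : 2 ^ K ∣ T := dvd_trans (Nat.pow_dvd_pow 2 (by omega)) hTd
  obtain ⟨b1, b2, b3⟩ := rm_tail k hT4 hTd
  have hlo : n % 2 ^ K < 2 ^ K := Nat.mod_lt _ (by positivity)
  have hlt : (2 : ℕ) ^ K < 2 ^ (K + 1) := Nat.pow_lt_pow_right (by norm_num) (by omega)
  have hv := val_tail h k IH T hT4 hTd
  have hKK : val γ (2 ^ K) = γ K := val_pow k
  have hle : n % 2 ^ (K + 1) ≤ n := Nat.mod_le _ _
  by_cases hb : n &&& 2 ^ K = 0
  · have hmod : n % 2 ^ (K + 1) = n % 2 ^ K := by
      have h1 : n.testBit K = false := by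
        have h2 := congrArg (fun x => x.testBit K) hb
        simpa [Nat.testBit_and, Nat.testBit_two_pow_self] using h2
      rw [Nat.mod_pow_succ, ← Nat.toNat_testBit, h1]
      simp
    rw [hb] at hB
    have hB' : rm k n = n % 2 ^ K + (2 ^ K + phi k T) := hB
    have hn' : n = n % 2 ^ K + T := by omega
    have hvn : val γ n = val γ (n % 2 ^ K) * val γ T := by
      conv_lhs => rw [hn']
      exact val_add γ hlo hTK
    rw [hB', val_add γ hlo (Dvd.dvd.add dvd_rfl (dvd_trans (Nat.pow_dvd_pow 2 (by omega)) b2)), val_add γ hlt b2,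
      hKK, ← hv, hvn, mul_assoc]
  · have hmod : n % 2 ^ (K + 1) = 2 ^ K + n % 2 ^ K := by
      have h1 : n.testBit K = true := by
        by_contra h2
        rw [Bool.not_eq_true] at h2
        apply hb
        apply Nat.eq_of_testBit_eq
        intro j
        rw [Nat.testBit_and, Nat.zero_testBit, Nat.testBit_two_pow]
        by_cases hj : K = j
        · subst hj; simp [h2]
        · simp [hj]
      rw [Nat.mod_pow_succ, ← Nat.toNat_testBit, h1]
      simp [add_comm]
    have hcond : Nat.beq (n &&& 2 ^ K) 0 = false := by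
      rw [← Bool.not_eq_true]
      intro h2
      exact hb (Nat.eq_of_beq_eq_true h2)
    rw [hcond] at hB
    have hB' : rm k n = n % 2 ^ K + (phi k T ^^^ sqm k) := hB
    have hn' : n = n % 2 ^ K + (2 ^ K + T) := by omega
    have hvn : val γ n = val γ (n % 2 ^ K) * (γ K * val γ T) := by
      conv_lhs => rw [hn']
      rw [val_add γ hlo (Dvd.dvd.add dvd_rfl hTK), val_add γ hlt hTd, hKK]
    have hx : val γ (phi k T ^^^ sqm k) = val γ (sqm k) * val γ (phi k T) ∧ 2 ^ K ∣ phi k T ^^^ sqm k := by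
      rcases sqm_cases k with h0 | ⟨j, hj1, hj2, hj3⟩
      · rw [h0, Nat.xor_zero, val_zero, one_mul]
        exact ⟨rfl, dvd_trans (Nat.pow_dvd_pow 2 (by omega)) b2⟩
      · have hjd : 2 ^ gi j ∣ phi k T := by rw [hj1]; exact b2
        rw [hj3, val_xor h hj2 hjd, val_pow]
        refine ⟨rfl, ?_⟩
        rcases dvd_cases hjd with h1 | ⟨r, h1, h2⟩
        · rw [xor_pow_add h1]
          exact Dvd.dvd.add (Nat.pow_dvd_pow 2 (by omega)) (dvd_trans (Nat.pow_dvd_pow 2 (by omega)) h1)
        · rw [h2, xor_pow_sub h1]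
          exact dvd_trans (Nat.pow_dvd_pow 2 (by omega)) h1
    have hsq : γ K * γ K = val γ (sqm k) := h.sq k
    rw [hB', val_add γ hlo hx.2, hx.1, ← hsq, hvn]
    calc val γ (n % 2 ^ K) * (γ K * γ K * val γ (phi k T)) = val γ (n % 2 ^ K) * (γ K * (γ K * val γ (phi k T))) := by
          simp only [mul_assoc]
      _ = val γ (n % 2 ^ K) * (γ K * (val γ T * γ K)) := by rw [hv]
      _ = _ := by simp only [mul_assoc]

/-- the tables are correct -/
theorem val_rm (h : Rel γ) (k : Gn) : ∀ n < 4096, val γ (rm k n) = val γ n * γ (gi k) := by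
  have key : ∀ d, ∀ k : Gn, 12 - gi k = d → ∀ n < 4096, val γ (rm k n) = val γ n * γ (gi k) := by
    intro d
    induction d using Nat.strong_induction_on with
    | _ d ih =>
      intro k hk
      refine val_rm_aux h k fun j hj => ih (12 - gi j) ?_ j rfl
      have := gi_lt j
      omega
  exact key _ k rfl

theorem val_ap (h : Rel γ) (w : List Gn) {n : ℕ} (hn : n < 4096) : val γ (ap w n) = val γ n * wv γ w :=
  val_ap_of (fun g _ => val_rm h g) hn

end

end Cfsg.Agent.H782.TF
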