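import Cfsg.Agent.H782.TF.Kill

/-!
# S5262, q = 2: the context of the certificate (helper782)
-/

set_option autoImplicit false

namespace Cfsg.Agent.H782.TF

open Cfsg Cfsg.FusionSystem Cfsg.Agent.H756.PU

universe u

variable {U : Type u} [Group U] {Goal : Subgroup U → Prop} {γ : ℕ → U} {Z : List Ent}

/-- `Z₄(S)` -/
def PZ : List Ent := [⟨8, [.a3], [.a3]⟩, ⟨32, [.a5], [.a5]⟩, ⟨64, [.a6], [.a6]⟩, ⟨256, [.a8], [.a8]⟩]

/-- `Q_a = U₁ … U₇` -/
def PA : List Ent := [⟨1, [.a0], [.a0]⟩, ⟨2, [.a1], [.a1, .a2]⟩, ⟨4, [.a2], [.a2]⟩, ⟨8, [.a3], [.a3]⟩,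
  ⟨16, [.a4], [.a4, .a5]⟩, ⟨32, [.a5], [.a5]⟩, ⟨64, [.a6], [.a6]⟩, ⟨128, [.a7], [.a7, .a8]⟩, ⟨256, [.a8], [.a8]⟩,
  ⟨512, [.a9], [.a9]⟩]

/-- `Q_b = U₂ … U₈` -/
def PB : List Ent := [⟨2, [.a1], [.a1, .a2]⟩, ⟨4, [.a2], [.a2]⟩, ⟨8, [.a3], [.a3]⟩,
  ⟨16, [.a4], [.a4, .a5]⟩, ⟨32, [.a5], [.a5]⟩, ⟨64, [.a6], [.a6]⟩, ⟨128, [.a7], [.a7, .a8]⟩, ⟨256, [.a8], [.a8]⟩,
  ⟨512, [.a9], [.a9]⟩, ⟨1024, [.a10], [.a10, .a11]⟩, ⟨2048, [.a11], [.a11]⟩]

/-- `C_S(Z₃) = N₃` -/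
def PM : List Ent := [⟨4, [.a2], [.a2]⟩, ⟨8, [.a3], [.a3]⟩, ⟨16, [.a4], [.a4, .a5]⟩, ⟨32, [.a5], [.a5]⟩,
  ⟨64, [.a6], [.a6]⟩, ⟨128, [.a7], [.a7, .a8]⟩, ⟨256, [.a8], [.a8]⟩, ⟨512, [.a9], [.a9]⟩, ⟨2048, [.a11], [.a11]⟩]

/-- `S` -/
def PS : List Ent := [⟨1, [.a0], [.a0]⟩, ⟨2, [.a1], [.a1, .a2]⟩, ⟨4, [.a2], [.a2]⟩, ⟨8, [.a3], [.a3]⟩,
  ⟨16, [.a4], [.a4, .a5]⟩, ⟨32, [.a5], [.a5]⟩, ⟨64, [.a6], [.a6]⟩, ⟨128, [.a7], [.a7, .a8]⟩, ⟨256, [.a8], [.a8]⟩,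
  ⟨512, [.a9], [.a9]⟩, ⟨1024, [.a10], [.a10, .a11]⟩, ⟨2048, [.a11], [.a11]⟩]

/-- all generators occur -/
noncomputable def fullchk (P : List Ent) : Bool :=
  allL (fun g => anyL (fun e => Nat.beq (ap e.w 0) (mk g)) P)
    [.a0, .a1, .a2, .a3, .a4, .a5, .a6, .a7, .a8, .a9, .a10, .a11]

theorem top_of_full (h : Cod γ) {P : List Ent} (hf : fullchk P = true) : W γ P = ⊤ := by
  rw [eq_top_iff]
  rintro x -
  obtain ⟨n, hn, rfl⟩ := h.surj x
  have hg : ∀ g : Gn, γ (gi g) ∈ W γ P := by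
    intro g
    unfold fullchk at hf
    rw [allL_iff] at hf
    have h1 := hf g (by cases g <;> simp)
    rw [anyL_iff] at h1
    obtain ⟨e, he, h2⟩ := h1
    have h3 := mem_W (γ := γ) he
    rw [← h.ap0, beq_iff.1 h2, val_mk] at h3
    exact h3
  have key : ∀ k ≤ 12, vc γ k n ∈ W γ P := by
    intro k
    induction k with
    | zero => intro _; exact Subgroup.one_mem _
    | succ k ih =>
      intro hk
      rw [vc_succ]
      refine Subgroup.mul_mem _ (ih (by omega)) ?_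
      split_ifs
      · have := hg (ig k)
        rwa [gi_ig (by omega)] at this
      · exact Subgroup.one_mem _
  exact key 12 le_rfl

theorem killed_top {P : List Ent} (hf : fullchk P = true) (h : Cod γ) : Killed γ P := by
  intro Γ he
  have htop := top_of_full h hf
  obtain ⟨H, hH, hne, hSH, hnot, hemb⟩ := he.spe
  apply hnot
  rw [autInducedBy, Subgroup.closure_le]
  rintro α ⟨g, hg, hα⟩
  refine ⟨⟨g, by rw [htop]; exact Subgroup.mem_top g⟩, ?_⟩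
  ext x
  exact (hα x).symm

variable (Goal γ Z) in
/-- the context -/
structure Ctx : Prop where
  h : Cod γ
  hb : StBound'.{u}
  hG : ∀ (E : Subgroup U) (g : U), Goal (E.map (MulAut.conj g).toMonoidHom) → Goal E
  hZ : (W γ Z).Normal

variable (Goal γ) in
/-- the context of the mixed case -/
structure CtxM : Prop extends Ctx Goal γ PZ where
  badA : Bad Goal γ PZ PA
  badB : Bad Goal γ PZ PB

variable (Goal γ) in
/-- the context of the full certificate -/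
structure CtxF : Prop extends Ctx Goal γ [] where
  gA : Goal (W γ PA)
  gB : Goal (W γ PB)
  gM : Goal (W γ PM)

variable (Goal γ Z) in
/-- all children are done -/
def AllB (C : List Ch) : Prop := ∀ c ∈ C, Bad Goal γ Z c.P

theorem allB_nil : AllB Goal γ Z [] := fun c hc => by simp at hc

theorem allB_cons {c : Ch} {C : List Ch} (h1 : Bad Goal γ Z c.P) (h2 : AllB Goal γ Z C) : AllB Goal γ Z (c :: C) := by
  intro c' hc'
  rcases List.mem_cons.1 hc' with rfl | hc'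
  · exact h1
  · exact h2 c' hc'

theorem Ctx.node (c : Ctx Goal γ Z) {B : List Gv} {D : List Dv} {P : List Ent} {I : List ℕ} {r : ℕ} {C : List Ch}
    (hg : genchk B D P I = true) (hC : chAll B r C 1 = true) (hf : fixok Z B r = true)
    (hk : Cod γ → Killed γ P) (hc : AllB Goal γ Z C) : Bad Goal γ Z P :=
  bad_node c.hG c.h c.hZ hg hC hf (Or.inl (hk c.h)) hc

theorem Ctx.bnd (c : Ctx Goal γ Z) {B : List Gv} {D : List Dv} {P : List Ent} {I : List ℕ} {r : ℕ} {C : List Ch}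
    {N : List Ent} (hg : genchk B D P I = true) (hC : chAll B r C 1 = true) (hf : fixok Z B r = true)
    (hk : bndchk B P N = true) (hc : AllB Goal γ Z C) : Bad Goal γ Z P :=
  bad_node c.hG c.h c.hZ hg hC hf (Or.inl (killed_bnd c.hb c.h hg hk)) hc

theorem Ctx.chn (c : Ctx Goal γ Z) {B : List Gv} {D : List Dv} {P : List Ent} {I : List ℕ} {r : ℕ} {C : List Ch}
    {l : List St} {x : Gv} {ix : List ℕ} (hg : genchk B D P I = true) (hC : chAll B r C 1 = true)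
    (hf : fixok Z B r = true) (hk : chnchk P l x ix = true) (hc : AllB Goal γ Z C) : Bad Goal γ Z P :=
  bad_node c.hG c.h c.hZ hg hC hf (Or.inl (killed_chn c.h (genchk_iff.1 hg).2.1 hk)) hc

theorem Ctx.good (c : Ctx Goal γ Z) {B : List Gv} {D : List Dv} {P : List Ent} {I : List ℕ} {r : ℕ} {C : List Ch}
    (hg : genchk B D P I = true) (hC : chAll B r C 1 = true) (hf : fixok Z B r = true)
    (hk : Goal (W γ P)) (hc : AllB Goal γ Z C) : Bad Goal γ Z P :=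
  bad_node c.hG c.h c.hZ hg hC hf (Or.inr hk) hc

theorem Ctx.cent (c : Ctx Goal γ Z) {B : List Gv} {D : List Dv} {P : List Ent} {I : List ℕ} {z : List Gn}
    (hg : genchk B D P I = true) (hz : centchk B P z = true) : Bad Goal γ Z P :=
  bad_cent c.h hg hz

end Cfsg.Agent.H782.TF
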