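import Cfsg.Agent.H782.TF.FinBDef

/-!
# S5262, q = 2, B-side: kernel checks (helper782)
-/

set_option autoImplicit false
set_option maxRecDepth 100000

namespace Cfsg.Agent.H782.TF.FB

theorem chkR_true : chkR = true := by decide +kernel
theorem chkG_true : chkG = true := by decide +kernel
theorem chkC8_true : chkC8 = true := by decide +kernel
theorem chkRel_true : chkRel = true := by decide +kernel
theorem chkS_true : chkS = true := by decide +kernel
theorem chkT74 : chkT 74 Ls74 Lt74 = true := by decide +kernel
theorem chkT106 : chkT 106 Ls106 Lt106 = true := by decide +kernel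
theorem chkT258 : chkT 258 Ls258 Lt258 = true := by decide +kernel
theorem chkT290 : chkT 290 Ls290 Lt290 = true := by decide +kernel
theorem chkT778 : chkT 778 Ls778 Lt778 = true := by decide +kernel
theorem chkT810 : chkT 810 Ls810 Lt810 = true := by decide +kernel
theorem chkT834 : chkT 834 Ls834 Lt834 = true := by decide +kernel
theorem chkT866 : chkT 866 Ls866 Lt866 = true := by decide +kernel

end Cfsg.Agent.H782.TF.FB
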