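import Cfsg.Agent.H782.TF.Two

/-!
# S5262, q = 2, B-side: definitions evaluated by the kernel (helper782)
-/

set_option autoImplicit false

noncomputable section

namespace Cfsg.Agent.H782.TF.FB

/-- letters -/
inductive L3
  | A | E | F

/-- an element of `QB` under a homomorphism given by images of the generators -/
def im (L : List (Gn × List Gn)) (z : Nat) : Nat → Nat :=
  @List.rec (Gn × List Gn) (fun _ => Nat → Nat) (fun x => x)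
    (fun p _ ih x => ih (cond (Nat.beq (Nat.land z (mk p.1)) 0) x (ap p.2 x))) L

/-- evaluation of a word in three letters -/
def wd (l : List L3) (a e f : Nat) : Nat → Nat :=
  @List.rec L3 (fun _ => Nat → Nat) (fun x => x)
    (fun c _ ih x => ih (mulc x (@L3.rec (fun _ => Nat) a e f c))) l

/-- forces the evaluation of the argument -/
def frc (k : Nat → Bool) (n : Nat) : Bool := @Nat.rec (fun _ => Bool) (k 0) (fun m _ => k (Nat.succ m)) n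

/-- `P i` for all even `i < 2 n` -/
def loopE (P : Nat → Bool) (n : Nat) : Bool := loopAll (fun i => frc P (Nat.mul 2 i)) n

/-- `ρ0 = c_x1 ∘ w0` -/
def LR : List (Gn × List Gn) := [(.a1, [.a0, .a10, .a0]), (.a2, [.a0, .a11, .a0]), (.a3, [.a0, .a9, .a0]),
  (.a4, [.a0, .a7, .a0]), (.a5, [.a0, .a8, .a0]), (.a6, [.a0, .a6, .a0]), (.a7, [.a0, .a4, .a0]),
  (.a8, [.a0, .a5, .a0]), (.a9, [.a0, .a3, .a0]), (.a10, [.a0, .a1, .a0]), (.a11, [.a0, .a2, .a0])]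

/-- `c_x1` -/
def LX : List (Gn × List Gn) := [(.a1, [.a0, .a1, .a0]), (.a2, [.a0, .a2, .a0]), (.a3, [.a0, .a3, .a0]),
  (.a4, [.a0, .a4, .a0]), (.a5, [.a0, .a5, .a0]), (.a6, [.a0, .a6, .a0]), (.a7, [.a0, .a7, .a0]),
  (.a8, [.a0, .a8, .a0]), (.a9, [.a0, .a9, .a0]), (.a10, [.a0, .a10, .a0]), (.a11, [.a0, .a11, .a0])]

/-- `ρ0³ = 1` -/
def chkR : Bool := loopE (fun z => frc (fun a => frc (fun b => Nat.beq (im LR b 0) z) (im LR a 0)) (im LR z 0)) 2048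

/-- the generators as words in `a = x2(1,0)`, `e = ρ0 a`, `f = ρ0 e` -/
def GW : List (Gn × List L3) := [(.a1, [.A]),
  (.a2, [.A, .A]),
  (.a3, [.E, .F, .E, .E, .F, .E, .F, .F]),
  (.a4, [.E, .A, .F, .A, .F, .F, .A]),
  (.a5, [.E, .F, .E, .F, .E, .F, .E, .F]),
  (.a6, [.A, .A, .A, .E, .A, .F, .E, .A, .F, .A]),
  (.a7, [.E, .F, .A, .F, .A, .A, .F]),
  (.a8, [.A, .E, .A, .E, .A, .E, .A, .E]),
  (.a9, [.A, .E, .A, .A, .E, .A, .E, .E]),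
  (.a10, [.F]),
  (.a11, [.F, .F])]

/-- `C(ρ0)` -/
def C8 : List Nat := [0, 64, 920, 984, 2332, 2396, 2980, 3044]

/-- the images of `a` which are not inner -/
def bad8 : List Nat := [74, 106, 258, 290, 778, 810, 834, 866]

/-- the words -/
def r1 : List L3 := [.F, .F, .E, .F]
def r1' : List L3 := [.E, .A, .F, .E, .E, .A]
def r2 : List L3 := [.E, .F, .E, .F, .E, .F, .E, .F]

/-- the generators are the words in `GW` -/
def chkG : Bool := allL (fun p => Nat.beq (wd p.2 2 (im LR 2 0) (im LR (im LR 2 0) 0) 0) (mk p.1)) GW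

/-- `C8` -/
def chkC8 : Bool := allL (fun u => Nat.beq (im LR u 0) u) C8

/-- the relations hold for `a` -/
def chkRel : Bool := cond (Nat.beq (wd r1 2 (im LR 2 0) (im LR (im LR 2 0) 0) 0) (wd r1' 2 (im LR 2 0) (im LR (im LR 2 0) 0) 0))
  (Nat.beq (wd r2 2 (im LR 2 0) (im LR (im LR 2 0) 0) 0) 32) false

/-- the candidates -/
def chkS : Bool := loopE (fun z => frc (fun e => frc (fun f =>
    cond (Nat.beq (wd r1 z e f 0) (wd r1' z e f 0))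
      (cond (Nat.beq (wd r2 z e f 0) 32)
        (cond (anyL (fun u => Nat.beq (mulc z u) (mulc u 2)) C8) true (anyL (fun b => Nat.beq z b) bad8))
        true) true) (im LR e 0)) (im LR z 0)) 2048

/-- the words of `L` have the codes `F l` -/
def zipc (F : List L3 → Nat) (G : List (Gn × List L3)) : List (Gn × List Gn) → Bool :=
  @List.rec (Gn × List L3) (fun _ => List (Gn × List Gn) → Bool)
    (fun L => @List.rec (Gn × List Gn) (fun _ => Bool) true (fun _ _ _ => false) L)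
    (fun p _ ih L => @List.rec (Gn × List Gn) (fun _ => Bool) false
      (fun q L' _ => cond (Nat.beq (mk p.1) (mk q.1)) (cond (Nat.beq (ap q.2 0) (F p.2)) (ih L') false) false) L) G

/-- `Ls` are the images of the generators under `s`, `Lt` the images under `t = s ∘ c_x1`, and no `w · t w` carries `t² x8`
to `x8` -/
def chkT (b : Nat) (Ls Lt : List (Gn × List Gn)) : Bool :=
  cond (zipc (fun l => wd l b (im LR b 0) (im LR (im LR b 0) 0) 0) GW Ls)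
    (cond (allL (fun q => Nat.beq (ap q.2 0) (im Ls (ap [.a0, q.1, .a0] 0) 0)) Lt)
      (frc (fun c => loopE (fun z => frc (fun y => cond (Nat.beq (mulc y c) (mulc 1024 y)) false true)
        (mulc z (im Lt z 0))) 2048) (im Lt (im Lt 1024 0) 0))
      false) false

def Ls74 : List (Gn × List Gn) := [(.a1, [.a1, .a3, .a6]),
  (.a2, [.a2, .a5]),
  (.a3, [.a3, .a5]),
  (.a4, [.a4, .a6, .a8]),
  (.a5, [.a5]),
  (.a6, [.a6]),
  (.a7, [.a5, .a6, .a7]),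
  (.a8, [.a8]),
  (.a9, [.a8, .a9]),
  (.a10, [.a6, .a8, .a9, .a10]),
  (.a11, [.a8, .a11])]

def Lt74 : List (Gn × List Gn) := [(.a1, [.a1, .a3, .a6]),
  (.a2, [.a2, .a5]),
  (.a3, [.a3, .a5]),
  (.a4, [.a2, .a4, .a5, .a6, .a8]),
  (.a5, [.a5]),
  (.a6, [.a6]),
  (.a7, [.a2, .a3, .a5, .a6, .a7]),
  (.a8, [.a5, .a8]),
  (.a9, [.a3, .a5, .a6, .a8, .a9]),
  (.a10, [.a1, .a5, .a7, .a8, .a10]),
  (.a11, [.a2, .a3, .a4, .a6, .a7, .a8, .a9, .a11])]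

def Ls106 : List (Gn × List Gn) := [(.a1, [.a1, .a3, .a5, .a6]),
  (.a2, [.a2, .a5]),
  (.a3, [.a3, .a5]),
  (.a4, [.a4, .a6, .a8]),
  (.a5, [.a5]),
  (.a6, [.a6]),
  (.a7, [.a5, .a6, .a7]),
  (.a8, [.a8]),
  (.a9, [.a8, .a9]),
  (.a10, [.a6, .a9, .a10]),
  (.a11, [.a8, .a11])]

def Lt106 : List (Gn × List Gn) := [(.a1, [.a1, .a3, .a5, .a6]),
  (.a2, [.a2, .a5]),
  (.a3, [.a3, .a5]),
  (.a4, [.a2, .a4, .a5, .a6, .a8]),
  (.a5, [.a5]),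
  (.a6, [.a6]),
  (.a7, [.a2, .a3, .a5, .a6, .a7]),
  (.a8, [.a5, .a8]),
  (.a9, [.a3, .a5, .a6, .a8, .a9]),
  (.a10, [.a1, .a7, .a10]),
  (.a11, [.a2, .a3, .a4, .a6, .a7, .a8, .a9, .a11])]

def Ls258 : List (Gn × List Gn) := [(.a1, [.a1, .a8]),
  (.a2, [.a2]),
  (.a3, [.a3]),
  (.a4, [.a4]),
  (.a5, [.a5]),
  (.a6, [.a6]),
  (.a7, [.a7]),
  (.a8, [.a8]),
  (.a9, [.a9]),
  (.a10, [.a5, .a8, .a10]),
  (.a11, [.a11])]

def Lt258 : List (Gn × List Gn) := [(.a1, [.a1, .a8]),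
  (.a2, [.a2]),
  (.a3, [.a3]),
  (.a4, [.a2, .a4]),
  (.a5, [.a5]),
  (.a6, [.a6]),
  (.a7, [.a2, .a3, .a7]),
  (.a8, [.a5, .a8]),
  (.a9, [.a3, .a6, .a9]),
  (.a10, [.a1, .a3, .a6, .a7, .a8, .a9, .a10]),
  (.a11, [.a2, .a3, .a4, .a5, .a6, .a7, .a9, .a11])]

def Ls290 : List (Gn × List Gn) := [(.a1, [.a1, .a5, .a8]),
  (.a2, [.a2]),
  (.a3, [.a3]),
  (.a4, [.a4]),
  (.a5, [.a5]),
  (.a6, [.a6]),
  (.a7, [.a7]),
  (.a8, [.a8]),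
  (.a9, [.a9]),
  (.a10, [.a5, .a10]),
  (.a11, [.a11])]

def Lt290 : List (Gn × List Gn) := [(.a1, [.a1, .a5, .a8]),
  (.a2, [.a2]),
  (.a3, [.a3]),
  (.a4, [.a2, .a4]),
  (.a5, [.a5]),
  (.a6, [.a6]),
  (.a7, [.a2, .a3, .a7]),
  (.a8, [.a5, .a8]),
  (.a9, [.a3, .a6, .a9]),
  (.a10, [.a1, .a3, .a5, .a6, .a7, .a9, .a10]),
  (.a11, [.a2, .a3, .a4, .a5, .a6, .a7, .a9, .a11])]

def Ls778 : List (Gn × List Gn) := [(.a1, [.a1, .a3, .a8, .a9]),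
  (.a2, [.a2, .a5, .a6, .a8]),
  (.a3, [.a3, .a8]),
  (.a4, [.a4]),
  (.a5, [.a5]),
  (.a6, [.a6]),
  (.a7, [.a5, .a6, .a7]),
  (.a8, [.a8]),
  (.a9, [.a5, .a8, .a9]),
  (.a10, [.a3, .a10]),
  (.a11, [.a5, .a6, .a11])]

def Lt778 : List (Gn × List Gn) := [(.a1, [.a1, .a3, .a8, .a9]),
  (.a2, [.a2, .a5, .a6, .a8]),
  (.a3, [.a3, .a8]),
  (.a4, [.a2, .a4, .a5, .a6, .a8]),
  (.a5, [.a5]),
  (.a6, [.a6]),
  (.a7, [.a2, .a3, .a7]),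
  (.a8, [.a5, .a8]),
  (.a9, [.a3, .a5, .a6, .a9]),
  (.a10, [.a1, .a3, .a7, .a10]),
  (.a11, [.a2, .a3, .a4, .a5, .a7, .a8, .a9, .a11])]

def Ls810 : List (Gn × List Gn) := [(.a1, [.a1, .a3, .a5, .a8, .a9]),
  (.a2, [.a2, .a5, .a6, .a8]),
  (.a3, [.a3, .a8]),
  (.a4, [.a4]),
  (.a5, [.a5]),
  (.a6, [.a6]),
  (.a7, [.a5, .a6, .a7]),
  (.a8, [.a8]),
  (.a9, [.a5, .a8, .a9]),
  (.a10, [.a3, .a8, .a10]),
  (.a11, [.a5, .a6, .a11])]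

def Lt810 : List (Gn × List Gn) := [(.a1, [.a1, .a3, .a5, .a8, .a9]),
  (.a2, [.a2, .a5, .a6, .a8]),
  (.a3, [.a3, .a8]),
  (.a4, [.a2, .a4, .a5, .a6, .a8]),
  (.a5, [.a5]),
  (.a6, [.a6]),
  (.a7, [.a2, .a3, .a7]),
  (.a8, [.a5, .a8]),
  (.a9, [.a3, .a5, .a6, .a9]),
  (.a10, [.a1, .a3, .a5, .a7, .a8, .a10]),
  (.a11, [.a2, .a3, .a4, .a5, .a7, .a8, .a9, .a11])]

def Ls834 : List (Gn × List Gn) := [(.a1, [.a1, .a6, .a8, .a9]),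
  (.a2, [.a2, .a6, .a8]),
  (.a3, [.a3, .a5, .a8]),
  (.a4, [.a4, .a6, .a8]),
  (.a5, [.a5]),
  (.a6, [.a6]),
  (.a7, [.a7]),
  (.a8, [.a8]),
  (.a9, [.a5, .a9]),
  (.a10, [.a3, .a6, .a8, .a9, .a10]),
  (.a11, [.a5, .a6, .a8, .a11])]

def Lt834 : List (Gn × List Gn) := [(.a1, [.a1, .a6, .a8, .a9]),
  (.a2, [.a2, .a6, .a8]),
  (.a3, [.a3, .a5, .a8]),
  (.a4, [.a2, .a4]),
  (.a5, [.a5]),
  (.a6, [.a6]),
  (.a7, [.a2, .a3, .a5, .a6, .a7]),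
  (.a8, [.a5, .a8]),
  (.a9, [.a3, .a6, .a8, .a9]),
  (.a10, [.a1, .a6, .a7, .a9, .a10]),
  (.a11, [.a2, .a3, .a4, .a7, .a9, .a11])]

def Ls866 : List (Gn × List Gn) := [(.a1, [.a1, .a5, .a6, .a8, .a9]),
  (.a2, [.a2, .a6, .a8]),
  (.a3, [.a3, .a5, .a8]),
  (.a4, [.a4, .a6, .a8]),
  (.a5, [.a5]),
  (.a6, [.a6]),
  (.a7, [.a7]),
  (.a8, [.a8]),
  (.a9, [.a5, .a9]),
  (.a10, [.a3, .a6, .a9, .a10]),
  (.a11, [.a5, .a6, .a8, .a11])]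

def Lt866 : List (Gn × List Gn) := [(.a1, [.a1, .a5, .a6, .a8, .a9]),
  (.a2, [.a2, .a6, .a8]),
  (.a3, [.a3, .a5, .a8]),
  (.a4, [.a2, .a4]),
  (.a5, [.a5]),
  (.a6, [.a6]),
  (.a7, [.a2, .a3, .a5, .a6, .a7]),
  (.a8, [.a5, .a8]),
  (.a9, [.a3, .a6, .a8, .a9]),
  (.a10, [.a1, .a5, .a6, .a7, .a8, .a9, .a10]),
  (.a11, [.a2, .a3, .a4, .a7, .a9, .a11])]

end Cfsg.Agent.H782.TF.FB
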