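import Cfsg.Agent.H782.TF.Ctx

/-!
# S5262, q = 2: certificate of the subgroup tree, part 1 (generated; helper782)
-/

set_option autoImplicit false
set_option maxRecDepth 100000

namespace Cfsg.Agent.H782.TF.Full

open Cfsg.Agent.H782.TF

universe u

variable {U : Type u} [Group U] {Goal : Subgroup U → Prop} {γ : ℕ → U}

def P0 : List Ent := [⟨4, [.a2, .a3, .a4, .a7, .a9], [.a2, .a3, .a4, .a5, .a6, .a7, .a9]⟩,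
  ⟨32, [.a5], [.a5]⟩,
  ⟨64, [.a6], [.a6]⟩]
def B0 : List Gv := [⟨[.a2, .a3, .a4, .a7, .a9], [.a2, .a3, .a4, .a5, .a6, .a7, .a9]⟩, ⟨[.a5], [.a5]⟩]
def D0 : List Dv := [⟨[.a6], [1, 0, 0], []⟩]
theorem bad0 (c : CtxF Goal γ) : Bad Goal γ [] P0 :=
  c.toCtx.cent (B := B0) (D := D0) (I := [1, 2, 0]) (z := [.a2, .a3]) (by decide +kernel) (by decide +kernel)

def P1 : List Ent := [⟨1, [.a0, .a11], [.a0, .a2, .a3, .a4, .a5, .a6, .a7, .a9, .a11]⟩,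
  ⟨4, [.a2, .a3, .a4, .a7, .a9], [.a2, .a3, .a4, .a5, .a6, .a7, .a9]⟩,
  ⟨32, [.a5, .a6], [.a5, .a6]⟩]
def B1 : List Gv := [⟨[.a0, .a11], [.a0, .a2, .a3, .a4, .a5, .a6, .a7, .a9, .a11]⟩]
def D1 : List Dv := [⟨[.a2, .a3, .a4, .a5, .a6, .a7, .a9], [0, 0], []⟩,
  ⟨[.a5, .a6], [0, 0], []⟩,
  ⟨[.a2, .a3, .a4, .a7, .a9], [1], [0]⟩]
theorem bad1 (c : CtxF Goal γ) : Bad Goal γ [] P1 :=
  c.toCtx.cent (B := B1) (D := D1) (I := [3, 0, 1]) (z := [.a5]) (by decide +kernel) (by decide +kernel)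

def P2 : List Ent := [⟨2, [.a1, .a3, .a6, .a7, .a8, .a9, .a11], [.a1, .a2, .a3, .a5, .a6, .a7, .a11]⟩,
  ⟨4, [.a2, .a6, .a9], [.a2, .a5, .a6, .a9]⟩,
  ⟨32, [.a5], [.a5]⟩]
def B2 : List Gv := [⟨[.a1, .a3, .a6, .a7, .a8, .a9, .a11], [.a1, .a2, .a3, .a5, .a6, .a7, .a11]⟩]
def D2 : List Dv := [⟨[.a2, .a6, .a9], [0, 0], []⟩,
  ⟨[.a5], [0, 0], []⟩]
theorem bad2 (c : CtxF Goal γ) : Bad Goal γ [] P2 :=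
  c.toCtx.cent (B := B2) (D := D2) (I := [2, 1, 0]) (z := [.a6, .a7]) (by decide +kernel) (by decide +kernel)

def P3 : List Ent := [⟨16, [.a4, .a7, .a8, .a9], [.a4, .a5, .a6, .a7, .a8, .a9]⟩,
  ⟨32, [.a5], [.a5]⟩,
  ⟨64, [.a6], [.a6]⟩]
def B3 : List Gv := [⟨[.a4, .a7, .a8, .a9], [.a4, .a5, .a6, .a7, .a8, .a9]⟩, ⟨[.a5], [.a5]⟩]
def D3 : List Dv := [⟨[.a6], [1, 0, 0], []⟩]
theorem bad3 (c : CtxF Goal γ) : Bad Goal γ [] P3 :=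
  c.toCtx.cent (B := B3) (D := D3) (I := [1, 2, 0]) (z := [.a2, .a3]) (by decide +kernel) (by decide +kernel)

def P4 : List Ent := [⟨1, [.a0, .a7, .a11], [.a0, .a4, .a5, .a9, .a11]⟩,
  ⟨16, [.a4, .a7, .a8, .a9], [.a4, .a5, .a6, .a7, .a8, .a9]⟩,
  ⟨32, [.a5, .a6], [.a5, .a6]⟩]
def B4 : List Gv := [⟨[.a0, .a7, .a11], [.a0, .a4, .a5, .a9, .a11]⟩]
def D4 : List Dv := [⟨[.a4, .a7, .a8, .a9], [0, 0], []⟩,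
  ⟨[.a5, .a6], [0, 0], []⟩]
theorem bad4 (c : CtxF Goal γ) : Bad Goal γ [] P4 :=
  c.toCtx.cent (B := B4) (D := D4) (I := [2, 1, 0]) (z := [.a5]) (by decide +kernel) (by decide +kernel)

def P5 : List Ent := [⟨256, [.a8], [.a8]⟩,
  ⟨512, [.a9], [.a9]⟩,
  ⟨1024, [.a10], [.a10, .a11]⟩,
  ⟨2048, [.a11], [.a11]⟩]
def B5 : List Gv := [⟨[.a8], [.a8]⟩, ⟨[.a9], [.a9]⟩, ⟨[.a10], [.a10, .a11]⟩]
def D5 : List Dv := [⟨[.a11], [2, 2], []⟩]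
theorem bad5 (c : CtxF Goal γ) : Bad Goal γ [] P5 :=
  c.toCtx.cent (B := B5) (D := D5) (I := [1, 2, 3, 0]) (z := [.a5]) (by decide +kernel) (by decide +kernel)

def P6 : List Ent := [⟨32, [.a5], [.a5]⟩,
  ⟨512, [.a9], [.a9]⟩,
  ⟨1024, [.a10], [.a10, .a11]⟩,
  ⟨2048, [.a11], [.a11]⟩]
def B6 : List Gv := [⟨[.a5], [.a5]⟩, ⟨[.a9], [.a9]⟩, ⟨[.a10], [.a10, .a11]⟩]
def D6 : List Dv := [⟨[.a11], [2, 2], []⟩]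
theorem bad6 (c : CtxF Goal γ) : Bad Goal γ [] P6 :=
  c.toCtx.cent (B := B6) (D := D6) (I := [1, 2, 3, 0]) (z := [.a8]) (by decide +kernel) (by decide +kernel)

def P7 : List Ent := [⟨32, [.a5, .a8], [.a5, .a8]⟩,
  ⟨512, [.a9], [.a9]⟩,
  ⟨1024, [.a10], [.a10, .a11]⟩,
  ⟨2048, [.a11], [.a11]⟩]
def B7 : List Gv := [⟨[.a5, .a8], [.a5, .a8]⟩, ⟨[.a9], [.a9]⟩, ⟨[.a10], [.a10, .a11]⟩]
def D7 : List Dv := [⟨[.a11], [2, 2], []⟩]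
theorem bad7 (c : CtxF Goal γ) : Bad Goal γ [] P7 :=
  c.toCtx.cent (B := B7) (D := D7) (I := [1, 2, 3, 0]) (z := [.a5]) (by decide +kernel) (by decide +kernel)

def P8 : List Ent := [⟨32, [.a5], [.a5]⟩,
  ⟨256, [.a8], [.a8]⟩,
  ⟨1024, [.a10], [.a10, .a11]⟩,
  ⟨2048, [.a11], [.a11]⟩]
def B8 : List Gv := [⟨[.a5], [.a5]⟩, ⟨[.a8], [.a8]⟩, ⟨[.a10], [.a10, .a11]⟩]
def D8 : List Dv := [⟨[.a11], [2, 2], []⟩]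
theorem bad8 (c : CtxF Goal γ) : Bad Goal γ [] P8 :=
  c.toCtx.cent (B := B8) (D := D8) (I := [1, 2, 3, 0]) (z := [.a4]) (by decide +kernel) (by decide +kernel)

def P9 : List Ent := [⟨32, [.a5, .a9], [.a5, .a9]⟩,
  ⟨256, [.a8], [.a8]⟩,
  ⟨1024, [.a10], [.a10, .a11]⟩,
  ⟨2048, [.a11], [.a11]⟩]
def B9 : List Gv := [⟨[.a5, .a9], [.a5, .a9]⟩, ⟨[.a8], [.a8]⟩, ⟨[.a10], [.a10, .a11]⟩]
def D9 : List Dv := [⟨[.a11], [2, 2], []⟩]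
theorem bad9 (c : CtxF Goal γ) : Bad Goal γ [] P9 :=
  c.toCtx.cent (B := B9) (D := D9) (I := [1, 2, 3, 0]) (z := [.a5]) (by decide +kernel) (by decide +kernel)

def P10 : List Ent := [⟨32, [.a5], [.a5]⟩,
  ⟨256, [.a8], [.a8]⟩,
  ⟨512, [.a9], [.a9]⟩,
  ⟨2048, [.a11], [.a11]⟩]
def B10 : List Gv := [⟨[.a5], [.a5]⟩, ⟨[.a8], [.a8]⟩, ⟨[.a9], [.a9]⟩, ⟨[.a11], [.a11]⟩]
def D10 : List Dv := []
theorem bad10 (c : CtxF Goal γ) : Bad Goal γ [] P10 :=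
  c.toCtx.cent (B := B10) (D := D10) (I := [0, 1, 2, 3]) (z := [.a6]) (by decide +kernel) (by decide +kernel)

def P11 : List Ent := [⟨32, [.a5, .a10], [.a5, .a10, .a11]⟩,
  ⟨256, [.a8], [.a8]⟩,
  ⟨512, [.a9], [.a9]⟩,
  ⟨2048, [.a11], [.a11]⟩]
def B11 : List Gv := [⟨[.a5, .a10], [.a5, .a10, .a11]⟩, ⟨[.a8], [.a8]⟩, ⟨[.a9], [.a9]⟩]
def D11 : List Dv := [⟨[.a11], [0, 0], []⟩]
theorem bad11 (c : CtxF Goal γ) : Bad Goal γ [] P11 :=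
  c.toCtx.cent (B := B11) (D := D11) (I := [1, 2, 3, 0]) (z := [.a5]) (by decide +kernel) (by decide +kernel)

def P12 : List Ent := [⟨128, [.a7, .a10], [.a7, .a8, .a9, .a10, .a11]⟩,
  ⟨256, [.a8], [.a8]⟩,
  ⟨512, [.a9], [.a9]⟩,
  ⟨2048, [.a11], [.a11]⟩]
def B12 : List Gv := [⟨[.a7, .a10], [.a7, .a8, .a9, .a10, .a11]⟩, ⟨[.a8], [.a8]⟩, ⟨[.a9], [.a9]⟩]
def D12 : List Dv := [⟨[.a11], [2, 1, 0, 0], []⟩]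
theorem bad12 (c : CtxF Goal γ) : Bad Goal γ [] P12 :=
  c.toCtx.cent (B := B12) (D := D12) (I := [1, 2, 3, 0]) (z := [.a5]) (by decide +kernel) (by decide +kernel)

def P13 : List Ent := [⟨32, [.a5, .a7, .a10], [.a5, .a7, .a8, .a9, .a10, .a11]⟩,
  ⟨256, [.a8], [.a8]⟩,
  ⟨512, [.a9], [.a9]⟩,
  ⟨2048, [.a11], [.a11]⟩]
def B13 : List Gv := [⟨[.a5, .a7, .a10], [.a5, .a7, .a8, .a9, .a10, .a11]⟩, ⟨[.a8], [.a8]⟩, ⟨[.a9], [.a9]⟩]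
def D13 : List Dv := [⟨[.a11], [2, 1, 0, 0], []⟩]
theorem bad13 (c : CtxF Goal γ) : Bad Goal γ [] P13 :=
  c.toCtx.cent (B := B13) (D := D13) (I := [1, 2, 3, 0]) (z := [.a5]) (by decide +kernel) (by decide +kernel)

def P14 : List Ent := [⟨32, [.a5], [.a5]⟩,
  ⟨128, [.a7, .a10], [.a7, .a8, .a9, .a10, .a11]⟩,
  ⟨256, [.a8, .a11], [.a8, .a11]⟩,
  ⟨512, [.a9], [.a9]⟩]
def B14 : List Gv := [⟨[.a5], [.a5]⟩, ⟨[.a7, .a10], [.a7, .a8, .a9, .a10, .a11]⟩, ⟨[.a8, .a11], [.a8, .a11]⟩]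
def D14 : List Dv := [⟨[.a9], [2, 1, 1], []⟩]
theorem bad14 (c : CtxF Goal γ) : Bad Goal γ [] P14 :=
  c.toCtx.cent (B := B14) (D := D14) (I := [1, 2, 3, 0]) (z := [.a8]) (by decide +kernel) (by decide +kernel)

def P15 : List Ent := [⟨32, [.a5, .a11], [.a5, .a11]⟩,
  ⟨128, [.a7, .a10], [.a7, .a8, .a9, .a10, .a11]⟩,
  ⟨256, [.a8, .a11], [.a8, .a11]⟩,
  ⟨512, [.a9], [.a9]⟩]
def B15 : List Gv := [⟨[.a5, .a11], [.a5, .a11]⟩, ⟨[.a7, .a10], [.a7, .a8, .a9, .a10, .a11]⟩, ⟨[.a8, .a11], [.a8, .a11]⟩]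
def D15 : List Dv := [⟨[.a9], [2, 1, 1], []⟩]
theorem bad15 (c : CtxF Goal γ) : Bad Goal γ [] P15 :=
  c.toCtx.cent (B := B15) (D := D15) (I := [1, 2, 3, 0]) (z := [.a5]) (by decide +kernel) (by decide +kernel)

def P16 : List Ent := [⟨32, [.a5], [.a5]⟩,
  ⟨128, [.a7, .a10], [.a7, .a8, .a9, .a10, .a11]⟩,
  ⟨256, [.a8], [.a8]⟩,
  ⟨512, [.a9, .a11], [.a9, .a11]⟩]
def B16 : List Gv := [⟨[.a5], [.a5]⟩, ⟨[.a7, .a10], [.a7, .a8, .a9, .a10, .a11]⟩, ⟨[.a8], [.a8]⟩]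
def D16 : List Dv := [⟨[.a9, .a11], [2, 1, 1], []⟩]
theorem bad16 (c : CtxF Goal γ) : Bad Goal γ [] P16 :=
  c.toCtx.cent (B := B16) (D := D16) (I := [1, 2, 3, 0]) (z := [.a3, .a4]) (by decide +kernel) (by decide +kernel)

def P17 : List Ent := [⟨32, [.a5, .a11], [.a5, .a11]⟩,
  ⟨128, [.a7, .a10], [.a7, .a8, .a9, .a10, .a11]⟩,
  ⟨256, [.a8], [.a8]⟩,
  ⟨512, [.a9, .a11], [.a9, .a11]⟩]
def B17 : List Gv := [⟨[.a5, .a11], [.a5, .a11]⟩, ⟨[.a7, .a10], [.a7, .a8, .a9, .a10, .a11]⟩, ⟨[.a8], [.a8]⟩]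
def D17 : List Dv := [⟨[.a9, .a11], [2, 1, 1], []⟩]
theorem bad17 (c : CtxF Goal γ) : Bad Goal γ [] P17 :=
  c.toCtx.cent (B := B17) (D := D17) (I := [1, 2, 3, 0]) (z := [.a5]) (by decide +kernel) (by decide +kernel)

def P18 : List Ent := [⟨16, [.a4], [.a4, .a5]⟩,
  ⟨32, [.a5], [.a5]⟩,
  ⟨1024, [.a10], [.a10, .a11]⟩,
  ⟨2048, [.a11], [.a11]⟩]
def B18 : List Gv := [⟨[.a4], [.a4, .a5]⟩, ⟨[.a10], [.a10, .a11]⟩]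
def D18 : List Dv := [⟨[.a5], [0, 0], []⟩,
  ⟨[.a11], [2, 2], []⟩]
theorem bad18 (c : CtxF Goal γ) : Bad Goal γ [] P18 :=
  c.toCtx.cent (B := B18) (D := D18) (I := [2, 1, 3, 0]) (z := [.a8]) (by decide +kernel) (by decide +kernel)

def P19 : List Ent := [⟨16, [.a4], [.a4, .a5]⟩,
  ⟨32, [.a5], [.a5]⟩,
  ⟨256, [.a8], [.a8]⟩,
  ⟨2048, [.a11], [.a11]⟩]
def B19 : List Gv := [⟨[.a4], [.a4, .a5]⟩, ⟨[.a8], [.a8]⟩, ⟨[.a11], [.a11]⟩]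
def D19 : List Dv := [⟨[.a5], [0, 0], []⟩]
theorem bad19 (c : CtxF Goal γ) : Bad Goal γ [] P19 :=
  c.toCtx.cent (B := B19) (D := D19) (I := [1, 0, 2, 3]) (z := [.a6]) (by decide +kernel) (by decide +kernel)

def P20 : List Ent := [⟨16, [.a4, .a9], [.a4, .a5, .a8, .a9]⟩,
  ⟨32, [.a5, .a8], [.a5, .a8]⟩,
  ⟨1024, [.a10], [.a10, .a11]⟩,
  ⟨2048, [.a11], [.a11]⟩]
def B20 : List Gv := [⟨[.a4, .a9], [.a4, .a5, .a8, .a9]⟩, ⟨[.a10], [.a10, .a11]⟩]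
def D20 : List Dv := [⟨[.a5, .a8], [0, 0], []⟩,
  ⟨[.a11], [2, 2], []⟩]
theorem bad20 (c : CtxF Goal γ) : Bad Goal γ [] P20 :=
  c.toCtx.cent (B := B20) (D := D20) (I := [2, 1, 3, 0]) (z := [.a5]) (by decide +kernel) (by decide +kernel)

def P21 : List Ent := [⟨16, [.a4, .a9], [.a4, .a5, .a8, .a9]⟩,
  ⟨32, [.a5], [.a5]⟩,
  ⟨256, [.a8], [.a8]⟩,
  ⟨2048, [.a11], [.a11]⟩]
def B21 : List Gv := [⟨[.a4, .a9], [.a4, .a5, .a8, .a9]⟩, ⟨[.a5], [.a5]⟩, ⟨[.a11], [.a11]⟩]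
def D21 : List Dv := [⟨[.a8], [1, 0, 0], []⟩]
theorem bad21 (c : CtxF Goal γ) : Bad Goal γ [] P21 :=
  c.toCtx.cent (B := B21) (D := D21) (I := [1, 2, 0, 3]) (z := [.a6]) (by decide +kernel) (by decide +kernel)

def P22 : List Ent := [⟨32, [.a5], [.a5]⟩,
  ⟨64, [.a6], [.a6]⟩,
  ⟨256, [.a8], [.a8]⟩,
  ⟨2048, [.a11], [.a11]⟩]
def B22 : List Gv := [⟨[.a5], [.a5]⟩, ⟨[.a6], [.a6]⟩, ⟨[.a8], [.a8]⟩, ⟨[.a11], [.a11]⟩]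
def D22 : List Dv := []
theorem bad22 (c : CtxF Goal γ) : Bad Goal γ [] P22 :=
  c.toCtx.cent (B := B22) (D := D22) (I := [0, 1, 2, 3]) (z := [.a4]) (by decide +kernel) (by decide +kernel)

def P23 : List Ent := [⟨16, [.a4], [.a4, .a5]⟩,
  ⟨32, [.a5], [.a5]⟩,
  ⟨64, [.a6], [.a6]⟩,
  ⟨2048, [.a11], [.a11]⟩]
def B23 : List Gv := [⟨[.a4], [.a4, .a5]⟩, ⟨[.a6], [.a6]⟩, ⟨[.a11], [.a11]⟩]
def D23 : List Dv := [⟨[.a5], [0, 0], []⟩]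
theorem bad23 (c : CtxF Goal γ) : Bad Goal γ [] P23 :=
  c.toCtx.cent (B := B23) (D := D23) (I := [1, 0, 2, 3]) (z := [.a8]) (by decide +kernel) (by decide +kernel)

def P24 : List Ent := [⟨16, [.a4], [.a4, .a5]⟩,
  ⟨32, [.a5], [.a5]⟩,
  ⟨64, [.a6], [.a6]⟩,
  ⟨256, [.a8], [.a8]⟩]
def B24 : List Gv := [⟨[.a4], [.a4, .a5]⟩, ⟨[.a6], [.a6]⟩, ⟨[.a8], [.a8]⟩]
def D24 : List Dv := [⟨[.a5], [0, 0], []⟩]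
theorem bad24 (c : CtxF Goal γ) : Bad Goal γ [] P24 :=
  c.toCtx.cent (B := B24) (D := D24) (I := [1, 0, 2, 3]) (z := [.a2]) (by decide +kernel) (by decide +kernel)

def P25 : List Ent := [⟨16, [.a4, .a11], [.a4, .a5, .a11]⟩,
  ⟨32, [.a5], [.a5]⟩,
  ⟨64, [.a6], [.a6]⟩,
  ⟨256, [.a8], [.a8]⟩]
def B25 : List Gv := [⟨[.a4, .a11], [.a4, .a5, .a11]⟩, ⟨[.a6], [.a6]⟩, ⟨[.a8], [.a8]⟩]
def D25 : List Dv := [⟨[.a5], [0, 0], []⟩]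
theorem bad25 (c : CtxF Goal γ) : Bad Goal γ [] P25 :=
  c.toCtx.cent (B := B25) (D := D25) (I := [1, 0, 2, 3]) (z := [.a4]) (by decide +kernel) (by decide +kernel)

def P26 : List Ent := [⟨16, [.a4, .a9], [.a4, .a5, .a8, .a9]⟩,
  ⟨32, [.a5, .a8], [.a5, .a8]⟩,
  ⟨64, [.a6], [.a6]⟩,
  ⟨2048, [.a11], [.a11]⟩]
def B26 : List Gv := [⟨[.a4, .a9], [.a4, .a5, .a8, .a9]⟩, ⟨[.a6], [.a6]⟩, ⟨[.a11], [.a11]⟩]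
def D26 : List Dv := [⟨[.a5, .a8], [0, 0], []⟩]
theorem bad26 (c : CtxF Goal γ) : Bad Goal γ [] P26 :=
  c.toCtx.cent (B := B26) (D := D26) (I := [1, 0, 2, 3]) (z := [.a5]) (by decide +kernel) (by decide +kernel)

def P27 : List Ent := [⟨16, [.a4, .a9], [.a4, .a5, .a8, .a9]⟩,
  ⟨32, [.a5], [.a5]⟩,
  ⟨64, [.a6], [.a6]⟩,
  ⟨256, [.a8], [.a8]⟩]
def B27 : List Gv := [⟨[.a4, .a9], [.a4, .a5, .a8, .a9]⟩, ⟨[.a5], [.a5]⟩, ⟨[.a6], [.a6]⟩]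
def D27 : List Dv := [⟨[.a8], [1, 0, 0], []⟩]
theorem bad27 (c : CtxF Goal γ) : Bad Goal γ [] P27 :=
  c.toCtx.cent (B := B27) (D := D27) (I := [1, 2, 3, 0]) (z := [.a3]) (by decide +kernel) (by decide +kernel)

def P28 : List Ent := [⟨16, [.a4, .a9, .a11], [.a4, .a5, .a8, .a9, .a11]⟩,
  ⟨32, [.a5], [.a5]⟩,
  ⟨64, [.a6], [.a6]⟩,
  ⟨256, [.a8], [.a8]⟩]
def B28 : List Gv := [⟨[.a4, .a9, .a11], [.a4, .a5, .a8, .a9, .a11]⟩, ⟨[.a5], [.a5]⟩, ⟨[.a6], [.a6]⟩]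
def D28 : List Dv := [⟨[.a8], [1, 0, 0], []⟩]
theorem bad28 (c : CtxF Goal γ) : Bad Goal γ [] P28 :=
  c.toCtx.cent (B := B28) (D := D28) (I := [1, 2, 3, 0]) (z := [.a3, .a4]) (by decide +kernel) (by decide +kernel)

def P29 : List Ent := [⟨16, [.a4, .a7], [.a4, .a5, .a6, .a7, .a8]⟩,
  ⟨32, [.a5, .a8], [.a5, .a8]⟩,
  ⟨64, [.a6], [.a6]⟩,
  ⟨2048, [.a11], [.a11]⟩]
def B29 : List Gv := [⟨[.a4, .a7], [.a4, .a5, .a6, .a7, .a8]⟩, ⟨[.a5, .a8], [.a5, .a8]⟩, ⟨[.a11], [.a11]⟩]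
def D29 : List Dv := [⟨[.a6], [1, 0, 0], []⟩]
theorem bad29 (c : CtxF Goal γ) : Bad Goal γ [] P29 :=
  c.toCtx.cent (B := B29) (D := D29) (I := [1, 2, 0, 3]) (z := [.a5]) (by decide +kernel) (by decide +kernel)

def P30 : List Ent := [⟨16, [.a4, .a7], [.a4, .a5, .a6, .a7, .a8]⟩,
  ⟨32, [.a5], [.a5]⟩,
  ⟨64, [.a6, .a8], [.a6, .a8]⟩,
  ⟨2048, [.a11], [.a11]⟩]
def B30 : List Gv := [⟨[.a4, .a7], [.a4, .a5, .a6, .a7, .a8]⟩, ⟨[.a5], [.a5]⟩, ⟨[.a11], [.a11]⟩]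
def D30 : List Dv := [⟨[.a6, .a8], [1, 0, 0], []⟩]
theorem bad30 (c : CtxF Goal γ) : Bad Goal γ [] P30 :=
  c.toCtx.cent (B := B30) (D := D30) (I := [1, 2, 0, 3]) (z := [.a6]) (by decide +kernel) (by decide +kernel)

def P31 : List Ent := [⟨16, [.a4, .a7], [.a4, .a5, .a6, .a7, .a8]⟩,
  ⟨32, [.a5, .a6], [.a5, .a6]⟩,
  ⟨256, [.a8], [.a8]⟩,
  ⟨2048, [.a11], [.a11]⟩]
def B31 : List Gv := [⟨[.a4, .a7], [.a4, .a5, .a6, .a7, .a8]⟩, ⟨[.a5, .a6], [.a5, .a6]⟩, ⟨[.a11], [.a11]⟩]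
def D31 : List Dv := [⟨[.a8], [1, 0, 0], []⟩]
theorem bad31 (c : CtxF Goal γ) : Bad Goal γ [] P31 :=
  c.toCtx.cent (B := B31) (D := D31) (I := [1, 2, 0, 3]) (z := [.a5]) (by decide +kernel) (by decide +kernel)

def P32 : List Ent := [⟨16, [.a4, .a7], [.a4, .a5, .a6, .a7, .a8]⟩,
  ⟨32, [.a5], [.a5]⟩,
  ⟨64, [.a6], [.a6]⟩,
  ⟨256, [.a8], [.a8]⟩]
def B32 : List Gv := [⟨[.a4, .a7], [.a4, .a5, .a6, .a7, .a8]⟩, ⟨[.a5], [.a5]⟩, ⟨[.a6], [.a6]⟩]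
def D32 : List Dv := [⟨[.a8], [2, 1, 0, 0], []⟩]
theorem bad32 (c : CtxF Goal γ) : Bad Goal γ [] P32 :=
  c.toCtx.cent (B := B32) (D := D32) (I := [1, 2, 3, 0]) (z := [.a2]) (by decide +kernel) (by decide +kernel)

def P33 : List Ent := [⟨16, [.a4, .a7, .a11], [.a4, .a5, .a6, .a7, .a8, .a11]⟩,
  ⟨32, [.a5], [.a5]⟩,
  ⟨64, [.a6], [.a6]⟩,
  ⟨256, [.a8], [.a8]⟩]
def B33 : List Gv := [⟨[.a4, .a7, .a11], [.a4, .a5, .a6, .a7, .a8, .a11]⟩, ⟨[.a5], [.a5]⟩, ⟨[.a6], [.a6]⟩]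
def D33 : List Dv := [⟨[.a8], [2, 1, 0, 0], []⟩]
theorem bad33 (c : CtxF Goal γ) : Bad Goal γ [] P33 :=
  c.toCtx.cent (B := B33) (D := D33) (I := [1, 2, 3, 0]) (z := [.a2, .a3, .a4]) (by decide +kernel) (by decide +kernel)

def P34 : List Ent := [⟨16, [.a4, .a7], [.a4, .a5, .a6, .a7, .a8]⟩,
  ⟨32, [.a5, .a11], [.a5, .a11]⟩,
  ⟨64, [.a6, .a11], [.a6, .a11]⟩,
  ⟨256, [.a8], [.a8]⟩]
def B34 : List Gv := [⟨[.a4, .a7], [.a4, .a5, .a6, .a7, .a8]⟩, ⟨[.a5, .a11], [.a5, .a11]⟩, ⟨[.a6, .a11], [.a6, .a11]⟩]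
def D34 : List Dv := [⟨[.a8], [2, 1, 0, 0], []⟩]
theorem bad34 (c : CtxF Goal γ) : Bad Goal γ [] P34 :=
  c.toCtx.cent (B := B34) (D := D34) (I := [1, 2, 3, 0]) (z := [.a5]) (by decide +kernel) (by decide +kernel)

def P35 : List Ent := [⟨32, [.a5], [.a5]⟩,
  ⟨64, [.a6], [.a6]⟩,
  ⟨256, [.a8], [.a8]⟩,
  ⟨512, [.a9], [.a9]⟩]
def B35 : List Gv := [⟨[.a5], [.a5]⟩, ⟨[.a6], [.a6]⟩, ⟨[.a8], [.a8]⟩, ⟨[.a9], [.a9]⟩]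
def D35 : List Dv := []
theorem bad35 (c : CtxF Goal γ) : Bad Goal γ [] P35 :=
  c.toCtx.cent (B := B35) (D := D35) (I := [0, 1, 2, 3]) (z := [.a3]) (by decide +kernel) (by decide +kernel)

def P36 : List Ent := [⟨8, [.a3], [.a3]⟩,
  ⟨64, [.a6], [.a6]⟩,
  ⟨256, [.a8], [.a8]⟩,
  ⟨512, [.a9], [.a9]⟩]
def B36 : List Gv := [⟨[.a3], [.a3]⟩, ⟨[.a6], [.a6]⟩, ⟨[.a8], [.a8]⟩, ⟨[.a9], [.a9]⟩]
def D36 : List Dv := []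
theorem bad36 (c : CtxF Goal γ) : Bad Goal γ [] P36 :=
  c.toCtx.cent (B := B36) (D := D36) (I := [0, 1, 2, 3]) (z := [.a5]) (by decide +kernel) (by decide +kernel)

def P37 : List Ent := [⟨8, [.a3], [.a3]⟩,
  ⟨32, [.a5], [.a5]⟩,
  ⟨256, [.a8], [.a8]⟩,
  ⟨512, [.a9], [.a9]⟩]
def B37 : List Gv := [⟨[.a3], [.a3]⟩, ⟨[.a5], [.a5]⟩, ⟨[.a8], [.a8]⟩, ⟨[.a9], [.a9]⟩]
def D37 : List Dv := []
theorem bad37 (c : CtxF Goal γ) : Bad Goal γ [] P37 :=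
  c.toCtx.cent (B := B37) (D := D37) (I := [0, 1, 2, 3]) (z := [.a6]) (by decide +kernel) (by decide +kernel)

def P38 : List Ent := [⟨8, [.a3], [.a3]⟩,
  ⟨32, [.a5], [.a5]⟩,
  ⟨64, [.a6], [.a6]⟩,
  ⟨512, [.a9], [.a9]⟩]
def B38 : List Gv := [⟨[.a3], [.a3]⟩, ⟨[.a5], [.a5]⟩, ⟨[.a6], [.a6]⟩, ⟨[.a9], [.a9]⟩]
def D38 : List Dv := []
theorem bad38 (c : CtxF Goal γ) : Bad Goal γ [] P38 :=
  c.toCtx.cent (B := B38) (D := D38) (I := [0, 1, 2, 3]) (z := [.a8]) (by decide +kernel) (by decide +kernel)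

def P39 : List Ent := [⟨8, [.a3], [.a3]⟩,
  ⟨32, [.a5], [.a5]⟩,
  ⟨64, [.a6], [.a6]⟩,
  ⟨256, [.a8], [.a8]⟩]
def B39 : List Gv := [⟨[.a3], [.a3]⟩, ⟨[.a5], [.a5]⟩, ⟨[.a6], [.a6]⟩, ⟨[.a8], [.a8]⟩]
def D39 : List Dv := []
theorem bad39 (c : CtxF Goal γ) : Bad Goal γ [] P39 :=
  c.toCtx.cent (B := B39) (D := D39) (I := [0, 1, 2, 3]) (z := [.a2]) (by decide +kernel) (by decide +kernel)

def P40 : List Ent := [⟨8, [.a3, .a11], [.a3, .a8, .a11]⟩,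
  ⟨64, [.a6], [.a6]⟩,
  ⟨256, [.a8], [.a8]⟩,
  ⟨512, [.a9], [.a9]⟩]
def B40 : List Gv := [⟨[.a3, .a11], [.a3, .a8, .a11]⟩, ⟨[.a6], [.a6]⟩, ⟨[.a9], [.a9]⟩]
def D40 : List Dv := [⟨[.a8], [0, 0], []⟩]
theorem bad40 (c : CtxF Goal γ) : Bad Goal γ [] P40 :=
  c.toCtx.cent (B := B40) (D := D40) (I := [1, 2, 0, 3]) (z := [.a5]) (by decide +kernel) (by decide +kernel)

def P41 : List Ent := [⟨8, [.a3, .a11], [.a3, .a8, .a11]⟩,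
  ⟨32, [.a5], [.a5]⟩,
  ⟨256, [.a8], [.a8]⟩,
  ⟨512, [.a9], [.a9]⟩]
def B41 : List Gv := [⟨[.a3, .a11], [.a3, .a8, .a11]⟩, ⟨[.a5], [.a5]⟩, ⟨[.a9], [.a9]⟩]
def D41 : List Dv := [⟨[.a8], [0, 0], []⟩]
theorem bad41 (c : CtxF Goal γ) : Bad Goal γ [] P41 :=
  c.toCtx.cent (B := B41) (D := D41) (I := [1, 2, 0, 3]) (z := [.a6]) (by decide +kernel) (by decide +kernel)

def P42 : List Ent := [⟨8, [.a3, .a11], [.a3, .a8, .a11]⟩,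
  ⟨32, [.a5], [.a5]⟩,
  ⟨64, [.a6], [.a6]⟩,
  ⟨256, [.a8], [.a8]⟩]
def B42 : List Gv := [⟨[.a3, .a11], [.a3, .a8, .a11]⟩, ⟨[.a5], [.a5]⟩, ⟨[.a6], [.a6]⟩]
def D42 : List Dv := [⟨[.a8], [0, 0], []⟩]
theorem bad42 (c : CtxF Goal γ) : Bad Goal γ [] P42 :=
  c.toCtx.cent (B := B42) (D := D42) (I := [1, 2, 3, 0]) (z := [.a4]) (by decide +kernel) (by decide +kernel)

def P43 : List Ent := [⟨8, [.a3, .a7], [.a3, .a5, .a7, .a8]⟩,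
  ⟨32, [.a5, .a8], [.a5, .a8]⟩,
  ⟨64, [.a6], [.a6]⟩,
  ⟨512, [.a9], [.a9]⟩]
def B43 : List Gv := [⟨[.a3, .a7], [.a3, .a5, .a7, .a8]⟩, ⟨[.a6], [.a6]⟩, ⟨[.a9], [.a9]⟩]
def D43 : List Dv := [⟨[.a5, .a8], [0, 0], []⟩]
theorem bad43 (c : CtxF Goal γ) : Bad Goal γ [] P43 :=
  c.toCtx.cent (B := B43) (D := D43) (I := [1, 0, 2, 3]) (z := [.a5]) (by decide +kernel) (by decide +kernel)

def P44 : List Ent := [⟨8, [.a3, .a7], [.a3, .a5, .a7, .a8]⟩,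
  ⟨32, [.a5], [.a5]⟩,
  ⟨256, [.a8], [.a8]⟩,
  ⟨512, [.a9], [.a9]⟩]
def B44 : List Gv := [⟨[.a3, .a7], [.a3, .a5, .a7, .a8]⟩, ⟨[.a5], [.a5]⟩, ⟨[.a9], [.a9]⟩]
def D44 : List Dv := [⟨[.a8], [1, 0, 0], []⟩]
theorem bad44 (c : CtxF Goal γ) : Bad Goal γ [] P44 :=
  c.toCtx.cent (B := B44) (D := D44) (I := [1, 2, 0, 3]) (z := [.a6]) (by decide +kernel) (by decide +kernel)

def P45 : List Ent := [⟨8, [.a3, .a7], [.a3, .a5, .a7, .a8]⟩,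
  ⟨32, [.a5], [.a5]⟩,
  ⟨64, [.a6], [.a6]⟩,
  ⟨256, [.a8], [.a8]⟩]
def B45 : List Gv := [⟨[.a3, .a7], [.a3, .a5, .a7, .a8]⟩, ⟨[.a5], [.a5]⟩, ⟨[.a6], [.a6]⟩]
def D45 : List Dv := [⟨[.a8], [1, 0, 0], []⟩]
theorem bad45 (c : CtxF Goal γ) : Bad Goal γ [] P45 :=
  c.toCtx.cent (B := B45) (D := D45) (I := [1, 2, 3, 0]) (z := [.a2]) (by decide +kernel) (by decide +kernel)

def P46 : List Ent := [⟨8, [.a3, .a7, .a11], [.a3, .a5, .a7, .a11]⟩,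
  ⟨32, [.a5], [.a5]⟩,
  ⟨256, [.a8], [.a8]⟩,
  ⟨512, [.a9], [.a9]⟩]
def B46 : List Gv := [⟨[.a3, .a7, .a11], [.a3, .a5, .a7, .a11]⟩, ⟨[.a8], [.a8]⟩, ⟨[.a9], [.a9]⟩]
def D46 : List Dv := [⟨[.a5], [0, 0], []⟩]
theorem bad46 (c : CtxF Goal γ) : Bad Goal γ [] P46 :=
  c.toCtx.cent (B := B46) (D := D46) (I := [1, 0, 2, 3]) (z := [.a6]) (by decide +kernel) (by decide +kernel)

def P47 : List Ent := [⟨8, [.a3, .a7, .a11], [.a3, .a5, .a7, .a11]⟩,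
  ⟨32, [.a5], [.a5]⟩,
  ⟨64, [.a6], [.a6]⟩,
  ⟨512, [.a9], [.a9]⟩]
def B47 : List Gv := [⟨[.a3, .a7, .a11], [.a3, .a5, .a7, .a11]⟩, ⟨[.a6], [.a6]⟩, ⟨[.a9], [.a9]⟩]
def D47 : List Dv := [⟨[.a5], [0, 0], []⟩]
theorem bad47 (c : CtxF Goal γ) : Bad Goal γ [] P47 :=
  c.toCtx.cent (B := B47) (D := D47) (I := [1, 0, 2, 3]) (z := [.a8]) (by decide +kernel) (by decide +kernel)

def P48 : List Ent := [⟨8, [.a3, .a11], [.a3, .a8, .a11]⟩,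
  ⟨16, [.a4], [.a4, .a5]⟩,
  ⟨32, [.a5], [.a5]⟩,
  ⟨256, [.a8], [.a8]⟩]
def B48 : List Gv := [⟨[.a3, .a11], [.a3, .a8, .a11]⟩, ⟨[.a4], [.a4, .a5]⟩]
def D48 : List Dv := [⟨[.a8], [0, 0], []⟩,
  ⟨[.a5], [2, 2], []⟩]
theorem bad48 (c : CtxF Goal γ) : Bad Goal γ [] P48 :=
  c.toCtx.cent (B := B48) (D := D48) (I := [2, 3, 0, 1]) (z := [.a6]) (by decide +kernel) (by decide +kernel)

def P49 : List Ent := [⟨8, [.a3, .a9, .a11], [.a3, .a8, .a9, .a11]⟩,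
  ⟨16, [.a4, .a11], [.a4, .a5, .a11]⟩,
  ⟨32, [.a5], [.a5]⟩,
  ⟨256, [.a8], [.a8]⟩]
def B49 : List Gv := [⟨[.a3, .a9, .a11], [.a3, .a8, .a9, .a11]⟩, ⟨[.a4, .a11], [.a4, .a5, .a11]⟩]
def D49 : List Dv := [⟨[.a8], [0, 0], []⟩,
  ⟨[.a5], [2, 2], []⟩]
theorem bad49 (c : CtxF Goal γ) : Bad Goal γ [] P49 :=
  c.toCtx.cent (B := B49) (D := D49) (I := [2, 3, 0, 1]) (z := [.a6]) (by decide +kernel) (by decide +kernel)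

def P50 : List Ent := [⟨8, [.a3], [.a3]⟩,
  ⟨16, [.a4, .a9], [.a4, .a5, .a8, .a9]⟩,
  ⟨32, [.a5, .a8], [.a5, .a8]⟩,
  ⟨64, [.a6], [.a6]⟩]
def B50 : List Gv := [⟨[.a3], [.a3]⟩, ⟨[.a4, .a9], [.a4, .a5, .a8, .a9]⟩, ⟨[.a6], [.a6]⟩]
def D50 : List Dv := [⟨[.a5, .a8], [1, 1], []⟩]
theorem bad50 (c : CtxF Goal γ) : Bad Goal γ [] P50 :=
  c.toCtx.cent (B := B50) (D := D50) (I := [1, 2, 0, 3]) (z := [.a5]) (by decide +kernel) (by decide +kernel)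

def P51 : List Ent := [⟨8, [.a3], [.a3]⟩,
  ⟨16, [.a4, .a9], [.a4, .a5, .a8, .a9]⟩,
  ⟨32, [.a5], [.a5]⟩,
  ⟨256, [.a8], [.a8]⟩]
def B51 : List Gv := [⟨[.a3], [.a3]⟩, ⟨[.a4, .a9], [.a4, .a5, .a8, .a9]⟩, ⟨[.a5], [.a5]⟩]
def D51 : List Dv := [⟨[.a8], [2, 1, 1], []⟩]
theorem bad51 (c : CtxF Goal γ) : Bad Goal γ [] P51 :=
  c.toCtx.cent (B := B51) (D := D51) (I := [1, 2, 3, 0]) (z := [.a6]) (by decide +kernel) (by decide +kernel)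

def P52 : List Ent := [⟨8, [.a3, .a7, .a11], [.a3, .a5, .a7, .a11]⟩,
  ⟨16, [.a4, .a11], [.a4, .a5, .a11]⟩,
  ⟨32, [.a5], [.a5]⟩,
  ⟨64, [.a6, .a8], [.a6, .a8]⟩]
def B52 : List Gv := [⟨[.a3, .a7, .a11], [.a3, .a5, .a7, .a11]⟩, ⟨[.a4, .a11], [.a4, .a5, .a11]⟩]
def D52 : List Dv := [⟨[.a5], [0, 0], []⟩,
  ⟨[.a6, .a8], [2, 1], [1, 2]⟩]
theorem bad52 (c : CtxF Goal γ) : Bad Goal γ [] P52 :=
  c.toCtx.cent (B := B52) (D := D52) (I := [2, 3, 1, 0]) (z := [.a6]) (by decide +kernel) (by decide +kernel)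

def P53 : List Ent := [⟨8, [.a3, .a7], [.a3, .a5, .a7, .a8]⟩,
  ⟨16, [.a4, .a9], [.a4, .a5, .a8, .a9]⟩,
  ⟨32, [.a5, .a8], [.a5, .a8]⟩,
  ⟨64, [.a6], [.a6]⟩]
def B53 : List Gv := [⟨[.a3, .a7], [.a3, .a5, .a7, .a8]⟩, ⟨[.a4, .a9], [.a4, .a5, .a8, .a9]⟩]
def D53 : List Dv := [⟨[.a5, .a8], [0, 0], []⟩,
  ⟨[.a6], [2, 1], [1, 2]⟩]
theorem bad53 (c : CtxF Goal γ) : Bad Goal γ [] P53 :=
  c.toCtx.cent (B := B53) (D := D53) (I := [2, 3, 1, 0]) (z := [.a5]) (by decide +kernel) (by decide +kernel)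

def P54 : List Ent := [⟨4, [.a2, .a9], [.a2, .a5, .a9]⟩,
  ⟨32, [.a5], [.a5]⟩,
  ⟨64, [.a6], [.a6]⟩,
  ⟨256, [.a8], [.a8]⟩]
def B54 : List Gv := [⟨[.a2, .a9], [.a2, .a5, .a9]⟩, ⟨[.a6], [.a6]⟩, ⟨[.a8], [.a8]⟩]
def D54 : List Dv := [⟨[.a5], [0, 0], []⟩]
theorem bad54 (c : CtxF Goal γ) : Bad Goal γ [] P54 :=
  c.toCtx.cent (B := B54) (D := D54) (I := [1, 0, 2, 3]) (z := [.a3]) (by decide +kernel) (by decide +kernel)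

def P55 : List Ent := [⟨4, [.a2, .a9], [.a2, .a5, .a9]⟩,
  ⟨8, [.a3], [.a3]⟩,
  ⟨32, [.a5], [.a5]⟩,
  ⟨256, [.a8], [.a8]⟩]
def B55 : List Gv := [⟨[.a2, .a9], [.a2, .a5, .a9]⟩, ⟨[.a3], [.a3]⟩, ⟨[.a8], [.a8]⟩]
def D55 : List Dv := [⟨[.a5], [0, 0], []⟩]
theorem bad55 (c : CtxF Goal γ) : Bad Goal γ [] P55 :=
  c.toCtx.cent (B := B55) (D := D55) (I := [1, 2, 0, 3]) (z := [.a6]) (by decide +kernel) (by decide +kernel)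

def P56 : List Ent := [⟨4, [.a2, .a9], [.a2, .a5, .a9]⟩,
  ⟨8, [.a3], [.a3]⟩,
  ⟨32, [.a5], [.a5]⟩,
  ⟨64, [.a6], [.a6]⟩]
def B56 : List Gv := [⟨[.a2, .a9], [.a2, .a5, .a9]⟩, ⟨[.a3], [.a3]⟩, ⟨[.a6], [.a6]⟩]
def D56 : List Dv := [⟨[.a5], [0, 0], []⟩]
theorem bad56 (c : CtxF Goal γ) : Bad Goal γ [] P56 :=
  c.toCtx.cent (B := B56) (D := D56) (I := [1, 2, 0, 3]) (z := [.a8]) (by decide +kernel) (by decide +kernel)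

def P57 : List Ent := [⟨4, [.a2, .a10], [.a2, .a3, .a5, .a8, .a10, .a11]⟩,
  ⟨8, [.a3, .a6, .a11], [.a3, .a6, .a8, .a11]⟩,
  ⟨32, [.a5], [.a5]⟩,
  ⟨256, [.a8], [.a8]⟩]
def B57 : List Gv := [⟨[.a2, .a10], [.a2, .a3, .a5, .a8, .a10, .a11]⟩, ⟨[.a5], [.a5]⟩]
def D57 : List Dv := [⟨[.a3, .a6, .a8, .a11], [0, 0], []⟩,
  ⟨[.a8], [0, 0], []⟩,
  ⟨[.a3, .a6, .a11], [1], [0]⟩]
theorem bad57 (c : CtxF Goal γ) : Bad Goal γ [] P57 :=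
  c.toCtx.cent (B := B57) (D := D57) (I := [3, 0, 4, 1]) (z := [.a4]) (by decide +kernel) (by decide +kernel)

def P58 : List Ent := [⟨4, [.a2, .a3, .a7, .a9, .a11], [.a2, .a3, .a5, .a6, .a7, .a8, .a9, .a11]⟩,
  ⟨32, [.a5], [.a5]⟩,
  ⟨64, [.a6], [.a6]⟩,
  ⟨256, [.a8], [.a8]⟩]
def B58 : List Gv := [⟨[.a2, .a3, .a7, .a9, .a11], [.a2, .a3, .a5, .a6, .a7, .a8, .a9, .a11]⟩, ⟨[.a5], [.a5]⟩, ⟨[.a6], [.a6]⟩]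
def D58 : List Dv := [⟨[.a8], [2, 1, 0, 0], []⟩]
theorem bad58 (c : CtxF Goal γ) : Bad Goal γ [] P58 :=
  c.toCtx.cent (B := B58) (D := D58) (I := [1, 2, 3, 0]) (z := [.a2, .a4]) (by decide +kernel) (by decide +kernel)

def P59 : List Ent := [⟨4, [.a2, .a7], [.a2, .a7, .a8]⟩,
  ⟨8, [.a3, .a9, .a11], [.a3, .a8, .a9, .a11]⟩,
  ⟨32, [.a5, .a6], [.a5, .a6]⟩,
  ⟨256, [.a8], [.a8]⟩]
def B59 : List Gv := [⟨[.a2, .a7], [.a2, .a7, .a8]⟩, ⟨[.a3, .a9, .a11], [.a3, .a8, .a9, .a11]⟩]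
def D59 : List Dv := [⟨[.a8], [0, 0], []⟩,
  ⟨[.a5, .a6, .a8], [2, 1], [1, 2]⟩,
  ⟨[.a5, .a6], [0], [1]⟩]
theorem bad59 (c : CtxF Goal γ) : Bad Goal γ [] P59 :=
  c.toCtx.cent (B := B59) (D := D59) (I := [3, 4, 0, 2]) (z := [.a5]) (by decide +kernel) (by decide +kernel)

def P60 : List Ent := [⟨4, [.a2, .a7, .a10], [.a2, .a3, .a5, .a7, .a9, .a10, .a11]⟩,
  ⟨8, [.a3, .a6, .a9, .a11], [.a3, .a6, .a8, .a9, .a11]⟩,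
  ⟨32, [.a5], [.a5]⟩,
  ⟨256, [.a8], [.a8]⟩]
def B60 : List Gv := [⟨[.a2, .a7, .a10], [.a2, .a3, .a5, .a7, .a9, .a10, .a11]⟩, ⟨[.a3, .a6, .a9, .a11], [.a3, .a6, .a8, .a9, .a11]⟩]
def D60 : List Dv := [⟨[.a5, .a8], [1, 0, 0], []⟩,
  ⟨[.a8], [2, 2], []⟩,
  ⟨[.a5], [1], [0]⟩]
theorem bad60 (c : CtxF Goal γ) : Bad Goal γ [] P60 :=
  c.toCtx.cent (B := B60) (D := D60) (I := [3, 4, 0, 1]) (z := [.a3, .a4]) (by decide +kernel) (by decide +kernel)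

def P61 : List Ent := [⟨32, [.a5], [.a5]⟩,
  ⟨64, [.a6], [.a6]⟩,
  ⟨128, [.a7], [.a7, .a8]⟩,
  ⟨256, [.a8], [.a8]⟩]
def B61 : List Gv := [⟨[.a5], [.a5]⟩, ⟨[.a6], [.a6]⟩, ⟨[.a7], [.a7, .a8]⟩]
def D61 : List Dv := [⟨[.a8], [2, 2], []⟩]
theorem bad61 (c : CtxF Goal γ) : Bad Goal γ [] P61 :=
  c.toCtx.cent (B := B61) (D := D61) (I := [1, 2, 3, 0]) (z := [.a2]) (by decide +kernel) (by decide +kernel)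

def P62 : List Ent := [⟨4, [.a2], [.a2]⟩,
  ⟨64, [.a6], [.a6]⟩,
  ⟨128, [.a7], [.a7, .a8]⟩,
  ⟨256, [.a8], [.a8]⟩]
def B62 : List Gv := [⟨[.a2], [.a2]⟩, ⟨[.a6], [.a6]⟩, ⟨[.a7], [.a7, .a8]⟩]
def D62 : List Dv := [⟨[.a8], [2, 2], []⟩]
theorem bad62 (c : CtxF Goal γ) : Bad Goal γ [] P62 :=
  c.toCtx.cent (B := B62) (D := D62) (I := [1, 2, 3, 0]) (z := [.a5]) (by decide +kernel) (by decide +kernel)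

def P63 : List Ent := [⟨4, [.a2], [.a2]⟩,
  ⟨32, [.a5], [.a5]⟩,
  ⟨128, [.a7], [.a7, .a8]⟩,
  ⟨256, [.a8], [.a8]⟩]
def B63 : List Gv := [⟨[.a2], [.a2]⟩, ⟨[.a5], [.a5]⟩, ⟨[.a7], [.a7, .a8]⟩]
def D63 : List Dv := [⟨[.a8], [2, 2], []⟩]
theorem bad63 (c : CtxF Goal γ) : Bad Goal γ [] P63 :=
  c.toCtx.cent (B := B63) (D := D63) (I := [1, 2, 3, 0]) (z := [.a1]) (by decide +kernel) (by decide +kernel)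

def P64 : List Ent := [⟨4, [.a2], [.a2]⟩,
  ⟨32, [.a5], [.a5]⟩,
  ⟨64, [.a6], [.a6]⟩,
  ⟨256, [.a8], [.a8]⟩]
def B64 : List Gv := [⟨[.a2], [.a2]⟩, ⟨[.a5], [.a5]⟩, ⟨[.a6], [.a6]⟩, ⟨[.a8], [.a8]⟩]
def D64 : List Dv := []
theorem bad64 (c : CtxF Goal γ) : Bad Goal γ [] P64 :=
  c.toCtx.cent (B := B64) (D := D64) (I := [0, 1, 2, 3]) (z := [.a3]) (by decide +kernel) (by decide +kernel)

def P65 : List Ent := [⟨4, [.a2, .a11], [.a2, .a5, .a6, .a8, .a11]⟩,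
  ⟨32, [.a5, .a6], [.a5, .a6]⟩,
  ⟨128, [.a7], [.a7, .a8]⟩,
  ⟨256, [.a8], [.a8]⟩]
def B65 : List Gv := [⟨[.a2, .a11], [.a2, .a5, .a6, .a8, .a11]⟩, ⟨[.a7], [.a7, .a8]⟩]
def D65 : List Dv := [⟨[.a5, .a6, .a8], [0, 0], []⟩,
  ⟨[.a8], [2, 2], []⟩,
  ⟨[.a5, .a6], [1], [0]⟩]
theorem bad65 (c : CtxF Goal γ) : Bad Goal γ [] P65 :=
  c.toCtx.cent (B := B65) (D := D65) (I := [3, 0, 4, 1]) (z := [.a5]) (by decide +kernel) (by decide +kernel)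

def P66 : List Ent := [⟨4, [.a2, .a9], [.a2, .a5, .a9]⟩,
  ⟨32, [.a5], [.a5]⟩,
  ⟨128, [.a7], [.a7, .a8]⟩,
  ⟨256, [.a8], [.a8]⟩]
def B66 : List Gv := [⟨[.a2, .a9], [.a2, .a5, .a9]⟩, ⟨[.a7], [.a7, .a8]⟩]
def D66 : List Dv := [⟨[.a5], [0, 0], []⟩,
  ⟨[.a8], [2, 2], []⟩]
theorem bad66 (c : CtxF Goal γ) : Bad Goal γ [] P66 :=
  c.toCtx.cent (B := B66) (D := D66) (I := [2, 1, 3, 0]) (z := [.a6]) (by decide +kernel) (by decide +kernel)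

def P67 : List Ent := [⟨4, [.a2, .a9], [.a2, .a5, .a9]⟩,
  ⟨8, [.a3, .a7], [.a3, .a5, .a7, .a8]⟩,
  ⟨32, [.a5], [.a5]⟩,
  ⟨256, [.a8], [.a8]⟩]
def B67 : List Gv := [⟨[.a2, .a9], [.a2, .a5, .a9]⟩, ⟨[.a3, .a7], [.a3, .a5, .a7, .a8]⟩]
def D67 : List Dv := [⟨[.a5], [0, 0], []⟩,
  ⟨[.a8], [0, 2, 2], []⟩]
theorem bad67 (c : CtxF Goal γ) : Bad Goal γ [] P67 :=
  c.toCtx.cent (B := B67) (D := D67) (I := [2, 3, 1, 0]) (z := [.a6]) (by decide +kernel) (by decide +kernel)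

def P68 : List Ent := [⟨4, [.a2, .a9], [.a2, .a5, .a9]⟩,
  ⟨8, [.a3, .a7, .a11], [.a3, .a5, .a7, .a11]⟩,
  ⟨32, [.a5], [.a5]⟩,
  ⟨64, [.a6, .a8], [.a6, .a8]⟩]
def B68 : List Gv := [⟨[.a2, .a9], [.a2, .a5, .a9]⟩, ⟨[.a3, .a7, .a11], [.a3, .a5, .a7, .a11]⟩]
def D68 : List Dv := [⟨[.a5], [0, 0], []⟩,
  ⟨[.a6, .a8], [0, 2, 1], [1, 2]⟩]
theorem bad68 (c : CtxF Goal γ) : Bad Goal γ [] P68 :=
  c.toCtx.cent (B := B68) (D := D68) (I := [2, 3, 1, 0]) (z := [.a6]) (by decide +kernel) (by decide +kernel)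

def P69 : List Ent := [⟨4, [.a2, .a11], [.a2, .a5, .a6, .a8, .a11]⟩,
  ⟨8, [.a3, .a7, .a9], [.a3, .a5, .a7, .a8, .a9]⟩,
  ⟨32, [.a5, .a8], [.a5, .a8]⟩,
  ⟨64, [.a6], [.a6]⟩]
def B69 : List Gv := [⟨[.a2, .a11], [.a2, .a5, .a6, .a8, .a11]⟩, ⟨[.a3, .a7, .a9], [.a3, .a5, .a7, .a8, .a9]⟩]
def D69 : List Dv := [⟨[.a5, .a6, .a8], [0, 0], []⟩,
  ⟨[.a6], [0, 2, 1], [1, 2]⟩,
  ⟨[.a5, .a8], [1], [0]⟩]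
theorem bad69 (c : CtxF Goal γ) : Bad Goal γ [] P69 :=
  c.toCtx.cent (B := B69) (D := D69) (I := [3, 4, 0, 1]) (z := [.a5]) (by decide +kernel) (by decide +kernel)

def P70 : List Ent := [⟨4, [.a2, .a4, .a9], [.a2, .a4, .a8, .a9]⟩,
  ⟨8, [.a3, .a11], [.a3, .a8, .a11]⟩,
  ⟨32, [.a5, .a6], [.a5, .a6]⟩,
  ⟨256, [.a8], [.a8]⟩]
def B70 : List Gv := [⟨[.a2, .a4, .a9], [.a2, .a4, .a8, .a9]⟩, ⟨[.a3, .a11], [.a3, .a8, .a11]⟩]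
def D70 : List Dv := [⟨[.a8], [0, 0], []⟩,
  ⟨[.a5, .a6, .a8], [2, 1], [1, 2]⟩,
  ⟨[.a5, .a6], [0], [1]⟩]
theorem bad70 (c : CtxF Goal γ) : Bad Goal γ [] P70 :=
  c.toCtx.cent (B := B70) (D := D70) (I := [3, 4, 0, 2]) (z := [.a5]) (by decide +kernel) (by decide +kernel)

def P71 : List Ent := [⟨4, [.a2, .a4, .a7, .a9], [.a2, .a4, .a6, .a7, .a9]⟩,
  ⟨32, [.a5], [.a5]⟩,
  ⟨64, [.a6], [.a6]⟩,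
  ⟨256, [.a8], [.a8]⟩]
def B71 : List Gv := [⟨[.a2, .a4, .a7, .a9], [.a2, .a4, .a6, .a7, .a9]⟩, ⟨[.a5], [.a5]⟩, ⟨[.a8], [.a8]⟩]
def D71 : List Dv := [⟨[.a6], [0, 0], []⟩]
theorem bad71 (c : CtxF Goal γ) : Bad Goal γ [] P71 :=
  c.toCtx.cent (B := B71) (D := D71) (I := [1, 2, 0, 3]) (z := [.a2, .a3]) (by decide +kernel) (by decide +kernel)

def P72 : List Ent := [⟨4, [.a2, .a4, .a11], [.a2, .a4, .a6, .a8, .a11]⟩,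
  ⟨64, [.a6], [.a6]⟩,
  ⟨128, [.a7, .a9, .a11], [.a7, .a8, .a9, .a11]⟩,
  ⟨256, [.a8], [.a8]⟩]
def B72 : List Gv := [⟨[.a2, .a4, .a11], [.a2, .a4, .a6, .a8, .a11]⟩, ⟨[.a7, .a9, .a11], [.a7, .a8, .a9, .a11]⟩]
def D72 : List Dv := [⟨[.a6, .a8], [0, 0], []⟩,
  ⟨[.a8], [2, 2], []⟩,
  ⟨[.a6], [1], [0]⟩]
theorem bad72 (c : CtxF Goal γ) : Bad Goal γ [] P72 :=
  c.toCtx.cent (B := B72) (D := D72) (I := [3, 0, 4, 1]) (z := [.a5]) (by decide +kernel) (by decide +kernel)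

def P73 : List Ent := [⟨4, [.a2, .a4, .a11], [.a2, .a4, .a6, .a8, .a11]⟩,
  ⟨8, [.a3, .a7, .a11], [.a3, .a5, .a7, .a11]⟩,
  ⟨32, [.a5], [.a5]⟩,
  ⟨64, [.a6, .a8], [.a6, .a8]⟩]
def B73 : List Gv := [⟨[.a2, .a4, .a11], [.a2, .a4, .a6, .a8, .a11]⟩, ⟨[.a3, .a7, .a11], [.a3, .a5, .a7, .a11]⟩]
def D73 : List Dv := [⟨[.a6, .a8], [0, 0], []⟩,
  ⟨[.a5], [2, 1], [1, 2]⟩]
theorem bad73 (c : CtxF Goal γ) : Bad Goal γ [] P73 :=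
  c.toCtx.cent (B := B73) (D := D73) (I := [2, 3, 0, 1]) (z := [.a6]) (by decide +kernel) (by decide +kernel)

def P74 : List Ent := [⟨4, [.a2, .a11], [.a2, .a5, .a6, .a8, .a11]⟩,
  ⟨16, [.a4], [.a4, .a5]⟩,
  ⟨32, [.a5], [.a5]⟩,
  ⟨64, [.a6, .a8], [.a6, .a8]⟩]
def B74 : List Gv := [⟨[.a2, .a11], [.a2, .a5, .a6, .a8, .a11]⟩, ⟨[.a4], [.a4, .a5]⟩]
def D74 : List Dv := [⟨[.a5, .a6, .a8], [0, 0], []⟩,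
  ⟨[.a6, .a8], [0, 2, 2], []⟩,
  ⟨[.a5], [1], [0]⟩]
theorem bad74 (c : CtxF Goal γ) : Bad Goal γ [] P74 :=
  c.toCtx.cent (B := B74) (D := D74) (I := [3, 4, 0, 1]) (z := [.a6]) (by decide +kernel) (by decide +kernel)

def P75 : List Ent := [⟨4, [.a2, .a11], [.a2, .a5, .a6, .a8, .a11]⟩,
  ⟨8, [.a3, .a4, .a9], [.a3, .a4, .a5, .a8, .a9]⟩,
  ⟨32, [.a5, .a8], [.a5, .a8]⟩,
  ⟨64, [.a6], [.a6]⟩]
def B75 : List Gv := [⟨[.a2, .a11], [.a2, .a5, .a6, .a8, .a11]⟩, ⟨[.a3, .a4, .a9], [.a3, .a4, .a5, .a8, .a9]⟩]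
def D75 : List Dv := [⟨[.a5, .a6, .a8], [0, 0], []⟩,
  ⟨[.a6], [0, 2, 1], [1, 2]⟩,
  ⟨[.a5, .a8], [1], [0]⟩]
theorem bad75 (c : CtxF Goal γ) : Bad Goal γ [] P75 :=
  c.toCtx.cent (B := B75) (D := D75) (I := [3, 4, 0, 1]) (z := [.a5]) (by decide +kernel) (by decide +kernel)

def P76 : List Ent := [⟨4, [.a2], [.a2]⟩,
  ⟨16, [.a4, .a7], [.a4, .a5, .a6, .a7, .a8]⟩,
  ⟨32, [.a5, .a8], [.a5, .a8]⟩,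
  ⟨64, [.a6], [.a6]⟩]
def B76 : List Gv := [⟨[.a2], [.a2]⟩, ⟨[.a4, .a7], [.a4, .a5, .a6, .a7, .a8]⟩, ⟨[.a5, .a8], [.a5, .a8]⟩]
def D76 : List Dv := [⟨[.a6], [2, 1, 1], []⟩]
theorem bad76 (c : CtxF Goal γ) : Bad Goal γ [] P76 :=
  c.toCtx.cent (B := B76) (D := D76) (I := [1, 2, 3, 0]) (z := [.a5]) (by decide +kernel) (by decide +kernel)

def P77 : List Ent := [⟨4, [.a2], [.a2]⟩,
  ⟨16, [.a4, .a7], [.a4, .a5, .a6, .a7, .a8]⟩,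
  ⟨32, [.a5], [.a5]⟩,
  ⟨64, [.a6, .a8], [.a6, .a8]⟩]
def B77 : List Gv := [⟨[.a2], [.a2]⟩, ⟨[.a4, .a7], [.a4, .a5, .a6, .a7, .a8]⟩, ⟨[.a5], [.a5]⟩]
def D77 : List Dv := [⟨[.a6, .a8], [2, 1, 1], []⟩]
theorem bad77 (c : CtxF Goal γ) : Bad Goal γ [] P77 :=
  c.toCtx.cent (B := B77) (D := D77) (I := [1, 2, 3, 0]) (z := [.a0, .a1]) (by decide +kernel) (by decide +kernel)

def P78 : List Ent := [⟨4, [.a2, .a8], [.a2, .a8]⟩,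
  ⟨16, [.a4, .a7], [.a4, .a5, .a6, .a7, .a8]⟩,
  ⟨32, [.a5], [.a5]⟩,
  ⟨64, [.a6, .a8], [.a6, .a8]⟩]
def B78 : List Gv := [⟨[.a2, .a8], [.a2, .a8]⟩, ⟨[.a4, .a7], [.a4, .a5, .a6, .a7, .a8]⟩, ⟨[.a5], [.a5]⟩]
def D78 : List Dv := [⟨[.a6, .a8], [2, 1, 1], []⟩]
theorem bad78 (c : CtxF Goal γ) : Bad Goal γ [] P78 :=
  c.toCtx.cent (B := B78) (D := D78) (I := [1, 2, 3, 0]) (z := [.a2]) (by decide +kernel) (by decide +kernel)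

def P79 : List Ent := [⟨4, [.a2, .a7, .a11], [.a2, .a5, .a6, .a7, .a11]⟩,
  ⟨16, [.a4, .a7, .a9], [.a4, .a5, .a6, .a7, .a9]⟩,
  ⟨32, [.a5, .a6], [.a5, .a6]⟩,
  ⟨256, [.a8], [.a8]⟩]
def B79 : List Gv := [⟨[.a2, .a7, .a11], [.a2, .a5, .a6, .a7, .a11]⟩, ⟨[.a4, .a7, .a9], [.a4, .a5, .a6, .a7, .a9]⟩, ⟨[.a8], [.a8]⟩]
def D79 : List Dv := [⟨[.a5, .a6], [0, 0], []⟩]
theorem bad79 (c : CtxF Goal γ) : Bad Goal γ [] P79 :=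
  c.toCtx.cent (B := B79) (D := D79) (I := [1, 2, 0, 3]) (z := [.a5]) (by decide +kernel) (by decide +kernel)

def P80 : List Ent := [⟨4, [.a2, .a7, .a11], [.a2, .a5, .a6, .a7, .a11]⟩,
  ⟨16, [.a4, .a7, .a9], [.a4, .a5, .a6, .a7, .a9]⟩,
  ⟨32, [.a5], [.a5]⟩,
  ⟨64, [.a6], [.a6]⟩]
def B80 : List Gv := [⟨[.a2, .a7, .a11], [.a2, .a5, .a6, .a7, .a11]⟩, ⟨[.a4, .a7, .a9], [.a4, .a5, .a6, .a7, .a9]⟩, ⟨[.a5], [.a5]⟩]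
def D80 : List Dv := [⟨[.a6], [2, 0, 0], []⟩]
theorem bad80 (c : CtxF Goal γ) : Bad Goal γ [] P80 :=
  c.toCtx.cent (B := B80) (D := D80) (I := [1, 2, 3, 0]) (z := [.a8]) (by decide +kernel) (by decide +kernel)

def P81 : List Ent := [⟨4, [.a2], [.a2]⟩,
  ⟨8, [.a3], [.a3]⟩,
  ⟨32, [.a5], [.a5]⟩,
  ⟨256, [.a8], [.a8]⟩]
def B81 : List Gv := [⟨[.a2], [.a2]⟩, ⟨[.a3], [.a3]⟩, ⟨[.a5], [.a5]⟩, ⟨[.a8], [.a8]⟩]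
def D81 : List Dv := []
theorem bad81 (c : CtxF Goal γ) : Bad Goal γ [] P81 :=
  c.toCtx.cent (B := B81) (D := D81) (I := [0, 1, 2, 3]) (z := [.a1]) (by decide +kernel) (by decide +kernel)

def P82 : List Ent := [⟨2, [.a1], [.a1, .a2]⟩,
  ⟨4, [.a2], [.a2]⟩,
  ⟨32, [.a5], [.a5]⟩,
  ⟨256, [.a8], [.a8]⟩]
def B82 : List Gv := [⟨[.a1], [.a1, .a2]⟩, ⟨[.a5], [.a5]⟩, ⟨[.a8], [.a8]⟩]
def D82 : List Dv := [⟨[.a2], [0, 0], []⟩]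
theorem bad82 (c : CtxF Goal γ) : Bad Goal γ [] P82 :=
  c.toCtx.cent (B := B82) (D := D82) (I := [1, 0, 2, 3]) (z := [.a3]) (by decide +kernel) (by decide +kernel)

def P83 : List Ent := [⟨2, [.a1], [.a1, .a2]⟩,
  ⟨4, [.a2], [.a2]⟩,
  ⟨8, [.a3], [.a3]⟩,
  ⟨256, [.a8], [.a8]⟩]
def B83 : List Gv := [⟨[.a1], [.a1, .a2]⟩, ⟨[.a3], [.a3]⟩, ⟨[.a8], [.a8]⟩]
def D83 : List Dv := [⟨[.a2], [0, 0], []⟩]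
theorem bad83 (c : CtxF Goal γ) : Bad Goal γ [] P83 :=
  c.toCtx.cent (B := B83) (D := D83) (I := [1, 0, 2, 3]) (z := [.a5]) (by decide +kernel) (by decide +kernel)

def P84 : List Ent := [⟨2, [.a1], [.a1, .a2]⟩,
  ⟨4, [.a2], [.a2]⟩,
  ⟨8, [.a3], [.a3]⟩,
  ⟨32, [.a5], [.a5]⟩]
def B84 : List Gv := [⟨[.a1], [.a1, .a2]⟩, ⟨[.a3], [.a3]⟩, ⟨[.a5], [.a5]⟩]
def D84 : List Dv := [⟨[.a2], [0, 0], []⟩]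
theorem bad84 (c : CtxF Goal γ) : Bad Goal γ [] P84 :=
  c.toCtx.cent (B := B84) (D := D84) (I := [1, 0, 2, 3]) (z := [.a0]) (by decide +kernel) (by decide +kernel)

def P85 : List Ent := [⟨2, [.a1, .a8], [.a1, .a2, .a8]⟩,
  ⟨4, [.a2], [.a2]⟩,
  ⟨8, [.a3], [.a3]⟩,
  ⟨32, [.a5], [.a5]⟩]
def B85 : List Gv := [⟨[.a1, .a8], [.a1, .a2, .a8]⟩, ⟨[.a3], [.a3]⟩, ⟨[.a5], [.a5]⟩]
def D85 : List Dv := [⟨[.a2], [0, 0], []⟩]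
theorem bad85 (c : CtxF Goal γ) : Bad Goal γ [] P85 :=
  c.toCtx.cent (B := B85) (D := D85) (I := [1, 0, 2, 3]) (z := [.a1]) (by decide +kernel) (by decide +kernel)

def P86 : List Ent := [⟨2, [.a1], [.a1, .a2]⟩,
  ⟨4, [.a2], [.a2]⟩,
  ⟨8, [.a3, .a8], [.a3, .a8]⟩,
  ⟨32, [.a5], [.a5]⟩]
def B86 : List Gv := [⟨[.a1], [.a1, .a2]⟩, ⟨[.a3, .a8], [.a3, .a8]⟩, ⟨[.a5], [.a5]⟩]
def D86 : List Dv := [⟨[.a2], [0, 0], []⟩]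
theorem bad86 (c : CtxF Goal γ) : Bad Goal γ [] P86 :=
  c.toCtx.cent (B := B86) (D := D86) (I := [1, 0, 2, 3]) (z := [.a3]) (by decide +kernel) (by decide +kernel)

def P87 : List Ent := [⟨2, [.a1, .a11], [.a1, .a2, .a5, .a6, .a9, .a11]⟩,
  ⟨4, [.a2, .a9], [.a2, .a5, .a9]⟩,
  ⟨32, [.a5], [.a5]⟩,
  ⟨256, [.a8], [.a8]⟩]
def B87 : List Gv := [⟨[.a1, .a11], [.a1, .a2, .a5, .a6, .a9, .a11]⟩, ⟨[.a2, .a9], [.a2, .a5, .a9]⟩]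
def D87 : List Dv := [⟨[.a8], [1, 0, 0], []⟩,
  ⟨[.a5], [2, 2], []⟩]
theorem bad87 (c : CtxF Goal γ) : Bad Goal γ [] P87 :=
  c.toCtx.cent (B := B87) (D := D87) (I := [2, 3, 0, 1]) (z := [.a7]) (by decide +kernel) (by decide +kernel)

def P88 : List Ent := [⟨2, [.a1, .a7], [.a1, .a2, .a7, .a8]⟩,
  ⟨4, [.a2, .a8], [.a2, .a8]⟩,
  ⟨8, [.a3, .a6], [.a3, .a6]⟩,
  ⟨32, [.a5], [.a5]⟩]
def B88 : List Gv := [⟨[.a1, .a7], [.a1, .a2, .a7, .a8]⟩, ⟨[.a3, .a6], [.a3, .a6]⟩, ⟨[.a5], [.a5]⟩]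
def D88 : List Dv := [⟨[.a2, .a8], [0, 0], []⟩]
theorem bad88 (c : CtxF Goal γ) : Bad Goal γ [] P88 :=
  c.toCtx.cent (B := B88) (D := D88) (I := [1, 0, 2, 3]) (z := [.a2]) (by decide +kernel) (by decide +kernel)

def P89 : List Ent := [⟨2, [.a1, .a7, .a8], [.a1, .a2, .a7]⟩,
  ⟨4, [.a2, .a8], [.a2, .a8]⟩,
  ⟨8, [.a3, .a6], [.a3, .a6]⟩,
  ⟨32, [.a5], [.a5]⟩]
def B89 : List Gv := [⟨[.a1, .a7, .a8], [.a1, .a2, .a7]⟩, ⟨[.a3, .a6], [.a3, .a6]⟩, ⟨[.a5], [.a5]⟩]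
def D89 : List Dv := [⟨[.a2, .a8], [0, 0], []⟩]
theorem bad89 (c : CtxF Goal γ) : Bad Goal γ [] P89 :=
  c.toCtx.cent (B := B89) (D := D89) (I := [1, 0, 2, 3]) (z := [.a2]) (by decide +kernel) (by decide +kernel)

def P90 : List Ent := [⟨2, [.a1, .a7], [.a1, .a2, .a7, .a8]⟩,
  ⟨4, [.a2], [.a2]⟩,
  ⟨32, [.a5], [.a5]⟩,
  ⟨256, [.a8], [.a8]⟩]
def B90 : List Gv := [⟨[.a1, .a7], [.a1, .a2, .a7, .a8]⟩, ⟨[.a2], [.a2]⟩, ⟨[.a5], [.a5]⟩]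
def D90 : List Dv := [⟨[.a8], [1, 0, 0], []⟩]
theorem bad90 (c : CtxF Goal γ) : Bad Goal γ [] P90 :=
  c.toCtx.cent (B := B90) (D := D90) (I := [1, 2, 3, 0]) (z := [.a1]) (by decide +kernel) (by decide +kernel)

def P91 : List Ent := [⟨2, [.a1, .a7], [.a1, .a2, .a7, .a8]⟩,
  ⟨4, [.a2, .a8], [.a2, .a8]⟩,
  ⟨8, [.a3, .a6, .a8], [.a3, .a6, .a8]⟩,
  ⟨32, [.a5], [.a5]⟩]
def B91 : List Gv := [⟨[.a1, .a7], [.a1, .a2, .a7, .a8]⟩, ⟨[.a3, .a6, .a8], [.a3, .a6, .a8]⟩, ⟨[.a5], [.a5]⟩]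
def D91 : List Dv := [⟨[.a2, .a8], [0, 0], []⟩]
theorem bad91 (c : CtxF Goal γ) : Bad Goal γ [] P91 :=
  c.toCtx.cent (B := B91) (D := D91) (I := [1, 0, 2, 3]) (z := [.a2]) (by decide +kernel) (by decide +kernel)

def P92 : List Ent := [⟨2, [.a1, .a7], [.a1, .a2, .a7, .a8]⟩,
  ⟨4, [.a2], [.a2]⟩,
  ⟨8, [.a3, .a6], [.a3, .a6]⟩,
  ⟨256, [.a8], [.a8]⟩]
def B92 : List Gv := [⟨[.a1, .a7], [.a1, .a2, .a7, .a8]⟩, ⟨[.a2], [.a2]⟩, ⟨[.a3, .a6], [.a3, .a6]⟩]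
def D92 : List Dv := [⟨[.a8], [1, 0, 0], []⟩]
theorem bad92 (c : CtxF Goal γ) : Bad Goal γ [] P92 :=
  c.toCtx.cent (B := B92) (D := D92) (I := [1, 2, 3, 0]) (z := [.a5]) (by decide +kernel) (by decide +kernel)

def P93 : List Ent := [⟨2, [.a1, .a7, .a11], [.a1, .a2, .a5, .a6, .a7, .a8, .a9, .a11]⟩,
  ⟨4, [.a2, .a9], [.a2, .a5, .a9]⟩,
  ⟨32, [.a5], [.a5]⟩,
  ⟨256, [.a8], [.a8]⟩]
def B93 : List Gv := [⟨[.a1, .a7, .a11], [.a1, .a2, .a5, .a6, .a7, .a8, .a9, .a11]⟩, ⟨[.a8], [.a8]⟩]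
def D93 : List Dv := [⟨[.a2, .a5, .a9], [0, 0], []⟩,
  ⟨[.a5], [0, 0], []⟩,
  ⟨[.a2, .a9], [1], [0]⟩]
theorem bad93 (c : CtxF Goal γ) : Bad Goal γ [] P93 :=
  c.toCtx.cent (B := B93) (D := D93) (I := [3, 0, 1, 4]) (z := [.a7]) (by decide +kernel) (by decide +kernel)

def P94 : List Ent := [⟨2, [.a1], [.a1, .a2]⟩,
  ⟨4, [.a2], [.a2]⟩,
  ⟨128, [.a7], [.a7, .a8]⟩,
  ⟨256, [.a8], [.a8]⟩]
def B94 : List Gv := [⟨[.a1], [.a1, .a2]⟩, ⟨[.a7], [.a7, .a8]⟩]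
def D94 : List Dv := [⟨[.a2], [0, 0], []⟩,
  ⟨[.a8], [2, 2], []⟩]
theorem bad94 (c : CtxF Goal γ) : Bad Goal γ [] P94 :=
  c.toCtx.cent (B := B94) (D := D94) (I := [2, 1, 3, 0]) (z := [.a5]) (by decide +kernel) (by decide +kernel)

def P95 : List Ent := [⟨4, [.a2, .a3, .a4, .a7, .a9], [.a2, .a3, .a4, .a5, .a6, .a7, .a9]⟩,
  ⟨32, [.a5], [.a5]⟩,
  ⟨64, [.a6], [.a6]⟩,
  ⟨2048, [.a11], [.a11]⟩]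
def B95 : List Gv := [⟨[.a2, .a3, .a4, .a7, .a9], [.a2, .a3, .a4, .a5, .a6, .a7, .a9]⟩, ⟨[.a5], [.a5]⟩, ⟨[.a11], [.a11]⟩]
def D95 : List Dv := [⟨[.a6], [1, 0, 0], []⟩]
theorem bad95 (c : CtxF Goal γ) : Bad Goal γ [] P95 :=
  c.toCtx.cent (B := B95) (D := D95) (I := [1, 2, 0, 3]) (z := [.a8]) (by decide +kernel) (by decide +kernel)

def P96 : List Ent := [⟨1, [.a0], [.a0]⟩,
  ⟨4, [.a2, .a3, .a4, .a7, .a9], [.a2, .a3, .a4, .a5, .a6, .a7, .a9]⟩,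
  ⟨32, [.a5, .a6], [.a5, .a6]⟩,
  ⟨2048, [.a11], [.a11]⟩]
def B96 : List Gv := [⟨[.a0], [.a0]⟩, ⟨[.a11], [.a11]⟩]
def D96 : List Dv := [⟨[.a2, .a3, .a4, .a7, .a9], [1, 0], [0, 1]⟩,
  ⟨[.a5, .a6], [0, 1], [1, 0]⟩]
theorem bad96 (c : CtxF Goal γ) : Bad Goal γ [] P96 :=
  c.toCtx.cent (B := B96) (D := D96) (I := [2, 1, 0, 3]) (z := [.a5]) (by decide +kernel) (by decide +kernel)

def P97 : List Ent := [⟨1, [.a0], [.a0]⟩,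
  ⟨4, [.a2, .a3, .a4, .a7, .a9], [.a2, .a3, .a4, .a5, .a6, .a7, .a9]⟩,
  ⟨32, [.a5], [.a5]⟩,
  ⟨64, [.a6], [.a6]⟩]
def B97 : List Gv := [⟨[.a0], [.a0]⟩, ⟨[.a2, .a3, .a4, .a7, .a9], [.a2, .a3, .a4, .a5, .a6, .a7, .a9]⟩, ⟨[.a5], [.a5]⟩]
def D97 : List Dv := [⟨[.a6], [2, 1, 0], [0, 1]⟩]
theorem bad97 (c : CtxF Goal γ) : Bad Goal γ [] P97 :=
  c.toCtx.cent (B := B97) (D := D97) (I := [1, 2, 3, 0]) (z := [.a2, .a3]) (by decide +kernel) (by decide +kernel)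

def P98 : List Ent := [⟨1, [.a0, .a11], [.a0, .a2, .a3, .a4, .a5, .a6, .a7, .a9, .a11]⟩,
  ⟨4, [.a2, .a3, .a4, .a7, .a9], [.a2, .a3, .a4, .a5, .a6, .a7, .a9]⟩,
  ⟨32, [.a5], [.a5]⟩,
  ⟨64, [.a6], [.a6]⟩]
def B98 : List Gv := [⟨[.a0, .a11], [.a0, .a2, .a3, .a4, .a5, .a6, .a7, .a9, .a11]⟩, ⟨[.a5], [.a5]⟩]
def D98 : List Dv := [⟨[.a2, .a3, .a4, .a5, .a6, .a7, .a9], [0, 0], []⟩,
  ⟨[.a6], [2, 0, 0], []⟩,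
  ⟨[.a2, .a3, .a4, .a7, .a9], [1], [3, 0]⟩]
def C98 : List Ch := [⟨P0, 0, [], []⟩,
  ⟨P1, 1, [], []⟩,
  ⟨P1, 0, [.a8], [.a8]⟩]
def N98 : List Ent := [⟨1, [.a0, .a11], [.a0, .a2, .a3, .a4, .a5, .a6, .a7, .a9, .a11]⟩,
  ⟨4, [.a2, .a3, .a4, .a7, .a9], [.a2, .a3, .a4, .a5, .a6, .a7, .a9]⟩,
  ⟨16, [.a4, .a7, .a9], [.a4, .a5, .a6, .a7, .a9]⟩,
  ⟨32, [.a5], [.a5]⟩,
  ⟨64, [.a6], [.a6]⟩,
  ⟨256, [.a8], [.a8]⟩,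
  ⟨2048, [.a11], [.a11]⟩]
theorem bad98 (c : CtxF Goal γ) : Bad Goal γ [] P98 :=
  c.toCtx.bnd (B := B98) (D := D98) (I := [3, 0, 4, 1]) (r := 2) (C := C98) (N := N98) (by decide +kernel) (by decide +kernel) (by decide +kernel) (by decide +kernel)
    (allB_cons (bad0 c) (allB_cons (bad1 c) (allB_cons (bad1 c) (allB_nil))))

def P99 : List Ent := [⟨1, [.a0], [.a0]⟩,
  ⟨4, [.a2, .a3, .a4, .a7, .a9], [.a2, .a3, .a4, .a5, .a6, .a7, .a9]⟩,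
  ⟨32, [.a5, .a11], [.a5, .a11]⟩,
  ⟨64, [.a6, .a11], [.a6, .a11]⟩]
def B99 : List Gv := [⟨[.a0], [.a0]⟩, ⟨[.a5, .a11], [.a5, .a11]⟩]
def D99 : List Dv := [⟨[.a2, .a3, .a4, .a7, .a9], [1, 0], [0, 1]⟩,
  ⟨[.a6, .a11], [2, 0, 1], [1, 0]⟩]
theorem bad99 (c : CtxF Goal γ) : Bad Goal γ [] P99 :=
  c.toCtx.cent (B := B99) (D := D99) (I := [2, 1, 3, 0]) (z := [.a5]) (by decide +kernel) (by decide +kernel)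

def P100 : List Ent := [⟨1, [.a0, .a8], [.a0, .a5, .a8]⟩,
  ⟨4, [.a2, .a3, .a4, .a7, .a9], [.a2, .a3, .a4, .a5, .a6, .a7, .a9]⟩,
  ⟨32, [.a5], [.a5]⟩,
  ⟨64, [.a6], [.a6]⟩]
def B100 : List Gv := [⟨[.a0, .a8], [.a0, .a5, .a8]⟩, ⟨[.a2, .a3, .a4, .a7, .a9], [.a2, .a3, .a4, .a5, .a6, .a7, .a9]⟩]
def D100 : List Dv := [⟨[.a5], [0, 0], []⟩,
  ⟨[.a6], [0, 2, 1], [1, 2]⟩]
theorem bad100 (c : CtxF Goal γ) : Bad Goal γ [] P100 :=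
  c.toCtx.cent (B := B100) (D := D100) (I := [2, 3, 1, 0]) (z := [.a2, .a3]) (by decide +kernel) (by decide +kernel)

def P101 : List Ent := [⟨1, [.a0], [.a0]⟩,
  ⟨8, [.a3], [.a3]⟩,
  ⟨32, [.a5], [.a5]⟩,
  ⟨64, [.a6], [.a6]⟩]
def B101 : List Gv := [⟨[.a0], [.a0]⟩, ⟨[.a3], [.a3]⟩, ⟨[.a5], [.a5]⟩, ⟨[.a6], [.a6]⟩]
def D101 : List Dv := []
theorem bad101 (c : CtxF Goal γ) : Bad Goal γ [] P101 :=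
  c.toCtx.cent (B := B101) (D := D101) (I := [0, 1, 2, 3]) (z := [.a2]) (by decide +kernel) (by decide +kernel)

def P102 : List Ent := [⟨1, [.a0, .a2, .a9], [.a0, .a2, .a3, .a5, .a6, .a9]⟩,
  ⟨8, [.a3], [.a3]⟩,
  ⟨32, [.a5], [.a5]⟩,
  ⟨64, [.a6], [.a6]⟩]
def B102 : List Gv := [⟨[.a0, .a2, .a9], [.a0, .a2, .a3, .a5, .a6, .a9]⟩, ⟨[.a3], [.a3]⟩, ⟨[.a5], [.a5]⟩]
def D102 : List Dv := [⟨[.a6], [2, 1, 0, 0], []⟩]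
theorem bad102 (c : CtxF Goal γ) : Bad Goal γ [] P102 :=
  c.toCtx.cent (B := B102) (D := D102) (I := [1, 2, 3, 0]) (z := [.a2, .a8]) (by decide +kernel) (by decide +kernel)

def P103 : List Ent := [⟨1, [.a0], [.a0]⟩,
  ⟨4, [.a2, .a9], [.a2, .a5, .a9]⟩,
  ⟨8, [.a3, .a6], [.a3, .a6]⟩,
  ⟨32, [.a5], [.a5]⟩]
def B103 : List Gv := [⟨[.a0], [.a0]⟩, ⟨[.a2, .a9], [.a2, .a5, .a9]⟩]
def D103 : List Dv := [⟨[.a3, .a6], [1, 0], [0, 1]⟩,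
  ⟨[.a5], [2, 2], []⟩]
theorem bad103 (c : CtxF Goal γ) : Bad Goal γ [] P103 :=
  c.toCtx.cent (B := B103) (D := D103) (I := [2, 3, 1, 0]) (z := [.a3]) (by decide +kernel) (by decide +kernel)

def P104 : List Ent := [⟨1, [.a0, .a6], [.a0, .a6]⟩,
  ⟨4, [.a2, .a9], [.a2, .a5, .a9]⟩,
  ⟨8, [.a3, .a6], [.a3, .a6]⟩,
  ⟨32, [.a5], [.a5]⟩]
def B104 : List Gv := [⟨[.a0, .a6], [.a0, .a6]⟩, ⟨[.a2, .a9], [.a2, .a5, .a9]⟩]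
def D104 : List Dv := [⟨[.a3, .a6], [1, 0], [0, 1]⟩,
  ⟨[.a5], [2, 2], []⟩]
theorem bad104 (c : CtxF Goal γ) : Bad Goal γ [] P104 :=
  c.toCtx.cent (B := B104) (D := D104) (I := [2, 3, 1, 0]) (z := [.a3]) (by decide +kernel) (by decide +kernel)

def P105 : List Ent := [⟨1, [.a0, .a8], [.a0, .a5, .a8]⟩,
  ⟨8, [.a3], [.a3]⟩,
  ⟨32, [.a5], [.a5]⟩,
  ⟨64, [.a6], [.a6]⟩]
def B105 : List Gv := [⟨[.a0, .a8], [.a0, .a5, .a8]⟩, ⟨[.a3], [.a3]⟩, ⟨[.a6], [.a6]⟩]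
def D105 : List Dv := [⟨[.a5], [0, 0], []⟩]
theorem bad105 (c : CtxF Goal γ) : Bad Goal γ [] P105 :=
  c.toCtx.cent (B := B105) (D := D105) (I := [1, 2, 0, 3]) (z := [.a2]) (by decide +kernel) (by decide +kernel)

def P106 : List Ent := [⟨1, [.a0, .a8], [.a0, .a5, .a8]⟩,
  ⟨4, [.a2, .a9], [.a2, .a5, .a9]⟩,
  ⟨8, [.a3, .a6], [.a3, .a6]⟩,
  ⟨32, [.a5], [.a5]⟩]
def B106 : List Gv := [⟨[.a0, .a8], [.a0, .a5, .a8]⟩, ⟨[.a2, .a9], [.a2, .a5, .a9]⟩]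
def D106 : List Dv := [⟨[.a5], [0, 0], []⟩,
  ⟨[.a3, .a6], [2, 1], [1, 2]⟩]
theorem bad106 (c : CtxF Goal γ) : Bad Goal γ [] P106 :=
  c.toCtx.cent (B := B106) (D := D106) (I := [2, 3, 0, 1]) (z := [.a3]) (by decide +kernel) (by decide +kernel)

def P107 : List Ent := [⟨1, [.a0, .a6, .a8], [.a0, .a5, .a6, .a8]⟩,
  ⟨4, [.a2, .a9], [.a2, .a5, .a9]⟩,
  ⟨8, [.a3, .a6], [.a3, .a6]⟩,
  ⟨32, [.a5], [.a5]⟩]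
def B107 : List Gv := [⟨[.a0, .a6, .a8], [.a0, .a5, .a6, .a8]⟩, ⟨[.a2, .a9], [.a2, .a5, .a9]⟩]
def D107 : List Dv := [⟨[.a5], [0, 0], []⟩,
  ⟨[.a3, .a6], [2, 1], [1, 2]⟩]
theorem bad107 (c : CtxF Goal γ) : Bad Goal γ [] P107 :=
  c.toCtx.cent (B := B107) (D := D107) (I := [2, 3, 0, 1]) (z := [.a3]) (by decide +kernel) (by decide +kernel)

def P108 : List Ent := [⟨4, [.a2, .a4, .a7, .a8, .a9], [.a2, .a4, .a6, .a7, .a8, .a9]⟩,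
  ⟨8, [.a3, .a4, .a7, .a11], [.a3, .a4, .a6, .a7, .a11]⟩,
  ⟨32, [.a5], [.a5]⟩,
  ⟨64, [.a6], [.a6]⟩]
def B108 : List Gv := [⟨[.a2, .a4, .a7, .a8, .a9], [.a2, .a4, .a6, .a7, .a8, .a9]⟩, ⟨[.a3, .a4, .a7, .a11], [.a3, .a4, .a6, .a7, .a11]⟩, ⟨[.a5], [.a5]⟩]
def D108 : List Dv := [⟨[.a6], [0, 0], []⟩]
theorem bad108 (c : CtxF Goal γ) : Bad Goal γ [] P108 :=
  c.toCtx.cent (B := B108) (D := D108) (I := [1, 2, 3, 0]) (z := [.a8]) (by decide +kernel) (by decide +kernel)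

def P109 : List Ent := [⟨1, [.a0], [.a0]⟩,
  ⟨4, [.a2, .a4, .a5, .a7, .a8, .a9], [.a2, .a4, .a5, .a6, .a7, .a8, .a9]⟩,
  ⟨8, [.a3, .a4, .a7, .a11], [.a3, .a4, .a6, .a7, .a11]⟩,
  ⟨64, [.a6], [.a6]⟩]
def B109 : List Gv := [⟨[.a0], [.a0]⟩, ⟨[.a3, .a4, .a7, .a11], [.a3, .a4, .a6, .a7, .a11]⟩]
def D109 : List Dv := [⟨[.a2, .a4, .a5, .a7, .a8, .a9], [1, 0], [0, 1]⟩,
  ⟨[.a6], [2, 2], []⟩]
theorem bad109 (c : CtxF Goal γ) : Bad Goal γ [] P109 :=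
  c.toCtx.cent (B := B109) (D := D109) (I := [2, 1, 3, 0]) (z := [.a5]) (by decide +kernel) (by decide +kernel)

def P110 : List Ent := [⟨1, [.a0], [.a0]⟩,
  ⟨4, [.a2, .a4, .a5, .a7, .a8, .a9], [.a2, .a4, .a5, .a6, .a7, .a8, .a9]⟩,
  ⟨8, [.a3, .a4, .a5, .a7, .a11], [.a3, .a4, .a5, .a6, .a7, .a11]⟩,
  ⟨64, [.a6], [.a6]⟩]
def B110 : List Gv := [⟨[.a0], [.a0]⟩, ⟨[.a3, .a4, .a5, .a7, .a11], [.a3, .a4, .a5, .a6, .a7, .a11]⟩]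
def D110 : List Dv := [⟨[.a2, .a4, .a5, .a7, .a8, .a9], [1, 0], [0, 1]⟩,
  ⟨[.a6], [2, 2], []⟩]
theorem bad110 (c : CtxF Goal γ) : Bad Goal γ [] P110 :=
  c.toCtx.cent (B := B110) (D := D110) (I := [2, 1, 3, 0]) (z := [.a5]) (by decide +kernel) (by decide +kernel)

def P111 : List Ent := [⟨1, [.a0], [.a0]⟩,
  ⟨16, [.a4, .a7, .a9], [.a4, .a5, .a6, .a7, .a9]⟩,
  ⟨32, [.a5], [.a5]⟩,
  ⟨64, [.a6], [.a6]⟩]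
def B111 : List Gv := [⟨[.a0], [.a0]⟩, ⟨[.a4, .a7, .a9], [.a4, .a5, .a6, .a7, .a9]⟩, ⟨[.a5], [.a5]⟩]
def D111 : List Dv := [⟨[.a6], [2, 1, 0], [0, 1]⟩]
theorem bad111 (c : CtxF Goal γ) : Bad Goal γ [] P111 :=
  c.toCtx.cent (B := B111) (D := D111) (I := [1, 2, 3, 0]) (z := [.a2, .a3]) (by decide +kernel) (by decide +kernel)

def P112 : List Ent := [⟨1, [.a0], [.a0]⟩,
  ⟨4, [.a2, .a3], [.a2, .a3]⟩,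
  ⟨32, [.a5], [.a5]⟩,
  ⟨64, [.a6], [.a6]⟩]
def B112 : List Gv := [⟨[.a0], [.a0]⟩, ⟨[.a2, .a3], [.a2, .a3]⟩, ⟨[.a5], [.a5]⟩, ⟨[.a6], [.a6]⟩]
def D112 : List Dv := []
theorem bad112 (c : CtxF Goal γ) : Bad Goal γ [] P112 :=
  c.toCtx.cent (B := B112) (D := D112) (I := [0, 1, 2, 3]) (z := [.a2]) (by decide +kernel) (by decide +kernel)

def P113 : List Ent := [⟨1, [.a0], [.a0]⟩,
  ⟨4, [.a2, .a3], [.a2, .a3]⟩,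
  ⟨16, [.a4, .a7, .a9], [.a4, .a5, .a6, .a7, .a9]⟩,
  ⟨32, [.a5, .a6], [.a5, .a6]⟩]
def B113 : List Gv := [⟨[.a0], [.a0]⟩, ⟨[.a2, .a3], [.a2, .a3]⟩, ⟨[.a4, .a7, .a9], [.a4, .a5, .a6, .a7, .a9]⟩]
def D113 : List Dv := [⟨[.a5, .a6], [2, 0], [0, 2]⟩]
theorem bad113 (c : CtxF Goal γ) : Bad Goal γ [] P113 :=
  c.toCtx.cent (B := B113) (D := D113) (I := [1, 2, 3, 0]) (z := [.a5]) (by decide +kernel) (by decide +kernel)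

def P114 : List Ent := [⟨1, [.a0, .a11], [.a0, .a2, .a3, .a4, .a5, .a6, .a7, .a9, .a11]⟩,
  ⟨4, [.a2, .a3], [.a2, .a3]⟩,
  ⟨16, [.a4, .a7, .a9], [.a4, .a5, .a6, .a7, .a9]⟩,
  ⟨32, [.a5, .a6], [.a5, .a6]⟩]
def B114 : List Gv := [⟨[.a0, .a11], [.a0, .a2, .a3, .a4, .a5, .a6, .a7, .a9, .a11]⟩, ⟨[.a2, .a3], [.a2, .a3]⟩]
def D114 : List Dv := [⟨[.a4, .a5, .a6, .a7, .a9], [1, 0, 0], []⟩,
  ⟨[.a5, .a6], [2, 1], [1, 2]⟩,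
  ⟨[.a4, .a7, .a9], [1], [0]⟩]
theorem bad114 (c : CtxF Goal γ) : Bad Goal γ [] P114 :=
  c.toCtx.cent (B := B114) (D := D114) (I := [3, 4, 0, 1]) (z := [.a5]) (by decide +kernel) (by decide +kernel)

def P115 : List Ent := [⟨1, [.a0, .a8], [.a0, .a5, .a8]⟩,
  ⟨16, [.a4, .a7, .a9], [.a4, .a5, .a6, .a7, .a9]⟩,
  ⟨32, [.a5], [.a5]⟩,
  ⟨64, [.a6], [.a6]⟩]
def B115 : List Gv := [⟨[.a0, .a8], [.a0, .a5, .a8]⟩, ⟨[.a4, .a7, .a9], [.a4, .a5, .a6, .a7, .a9]⟩]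
def D115 : List Dv := [⟨[.a5], [0, 0], []⟩,
  ⟨[.a6], [0, 2, 1], [1, 2]⟩]
theorem bad115 (c : CtxF Goal γ) : Bad Goal γ [] P115 :=
  c.toCtx.cent (B := B115) (D := D115) (I := [2, 3, 1, 0]) (z := [.a2, .a3]) (by decide +kernel) (by decide +kernel)

def P116 : List Ent := [⟨1, [.a0, .a8], [.a0, .a5, .a8]⟩,
  ⟨4, [.a2, .a3], [.a2, .a3]⟩,
  ⟨32, [.a5], [.a5]⟩,
  ⟨64, [.a6], [.a6]⟩]
def B116 : List Gv := [⟨[.a0, .a8], [.a0, .a5, .a8]⟩, ⟨[.a2, .a3], [.a2, .a3]⟩, ⟨[.a6], [.a6]⟩]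
def D116 : List Dv := [⟨[.a5], [0, 0], []⟩]
theorem bad116 (c : CtxF Goal γ) : Bad Goal γ [] P116 :=
  c.toCtx.cent (B := B116) (D := D116) (I := [1, 2, 0, 3]) (z := [.a2]) (by decide +kernel) (by decide +kernel)

def P117 : List Ent := [⟨1, [.a0], [.a0]⟩,
  ⟨16, [.a4, .a7, .a8, .a9], [.a4, .a5, .a6, .a7, .a8, .a9]⟩,
  ⟨32, [.a5], [.a5]⟩,
  ⟨64, [.a6], [.a6]⟩]
def B117 : List Gv := [⟨[.a0], [.a0]⟩, ⟨[.a4, .a7, .a8, .a9], [.a4, .a5, .a6, .a7, .a8, .a9]⟩]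
def D117 : List Dv := [⟨[.a6], [1, 0], [0, 1]⟩,
  ⟨[.a5, .a6], [2, 2], []⟩,
  ⟨[.a5], [0], [1]⟩]
theorem bad117 (c : CtxF Goal γ) : Bad Goal γ [] P117 :=
  c.toCtx.cent (B := B117) (D := D117) (I := [3, 4, 0, 2]) (z := [.a2, .a3]) (by decide +kernel) (by decide +kernel)

def P118 : List Ent := [⟨1, [.a0], [.a0]⟩,
  ⟨4, [.a2, .a3, .a4, .a7, .a8, .a9], [.a2, .a3, .a4, .a5, .a6, .a7, .a8, .a9]⟩,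
  ⟨32, [.a5], [.a5]⟩,
  ⟨64, [.a6], [.a6]⟩]
def B118 : List Gv := [⟨[.a0], [.a0]⟩, ⟨[.a2, .a3, .a4, .a7, .a8, .a9], [.a2, .a3, .a4, .a5, .a6, .a7, .a8, .a9]⟩]
def D118 : List Dv := [⟨[.a6], [1, 0], [0, 1]⟩,
  ⟨[.a5, .a6], [2, 2], []⟩,
  ⟨[.a5], [0], [1]⟩]
theorem bad118 (c : CtxF Goal γ) : Bad Goal γ [] P118 :=
  c.toCtx.cent (B := B118) (D := D118) (I := [3, 4, 0, 2]) (z := [.a2, .a3]) (by decide +kernel) (by decide +kernel)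

def P119 : List Ent := [⟨4, [.a2], [.a2]⟩,
  ⟨8, [.a3], [.a3]⟩,
  ⟨32, [.a5], [.a5]⟩,
  ⟨64, [.a6], [.a6]⟩]
def B119 : List Gv := [⟨[.a2], [.a2]⟩, ⟨[.a3], [.a3]⟩, ⟨[.a5], [.a5]⟩, ⟨[.a6], [.a6]⟩]
def D119 : List Dv := []
theorem bad119 (c : CtxF Goal γ) : Bad Goal γ [] P119 :=
  c.toCtx.cent (B := B119) (D := D119) (I := [0, 1, 2, 3]) (z := [.a0]) (by decide +kernel) (by decide +kernel)

def P120 : List Ent := [⟨1, [.a0], [.a0]⟩,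
  ⟨4, [.a2], [.a2]⟩,
  ⟨32, [.a5], [.a5]⟩,
  ⟨64, [.a6], [.a6]⟩]
def B120 : List Gv := [⟨[.a0], [.a0]⟩, ⟨[.a2], [.a2]⟩, ⟨[.a5], [.a5]⟩, ⟨[.a6], [.a6]⟩]
def D120 : List Dv := []
theorem bad120 (c : CtxF Goal γ) : Bad Goal γ [] P120 :=
  c.toCtx.cent (B := B120) (D := D120) (I := [0, 1, 2, 3]) (z := [.a3]) (by decide +kernel) (by decide +kernel)

def P121 : List Ent := [⟨1, [.a0], [.a0]⟩,
  ⟨4, [.a2], [.a2]⟩,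
  ⟨8, [.a3], [.a3]⟩,
  ⟨64, [.a6], [.a6]⟩]
def B121 : List Gv := [⟨[.a0], [.a0]⟩, ⟨[.a2], [.a2]⟩, ⟨[.a3], [.a3]⟩, ⟨[.a6], [.a6]⟩]
def D121 : List Dv := []
theorem bad121 (c : CtxF Goal γ) : Bad Goal γ [] P121 :=
  c.toCtx.cent (B := B121) (D := D121) (I := [0, 1, 2, 3]) (z := [.a5]) (by decide +kernel) (by decide +kernel)

def P122 : List Ent := [⟨1, [.a0], [.a0]⟩,
  ⟨4, [.a2], [.a2]⟩,
  ⟨8, [.a3], [.a3]⟩,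
  ⟨32, [.a5], [.a5]⟩]
def B122 : List Gv := [⟨[.a0], [.a0]⟩, ⟨[.a2], [.a2]⟩, ⟨[.a3], [.a3]⟩, ⟨[.a5], [.a5]⟩]
def D122 : List Dv := []
theorem bad122 (c : CtxF Goal γ) : Bad Goal γ [] P122 :=
  c.toCtx.cent (B := B122) (D := D122) (I := [0, 1, 2, 3]) (z := [.a1]) (by decide +kernel) (by decide +kernel)

def P123 : List Ent := [⟨1, [.a0], [.a0]⟩,
  ⟨4, [.a2, .a6], [.a2, .a6]⟩,
  ⟨8, [.a3], [.a3]⟩,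
  ⟨32, [.a5], [.a5]⟩]
def B123 : List Gv := [⟨[.a0], [.a0]⟩, ⟨[.a2, .a6], [.a2, .a6]⟩, ⟨[.a3], [.a3]⟩, ⟨[.a5], [.a5]⟩]
def D123 : List Dv := []
theorem bad123 (c : CtxF Goal γ) : Bad Goal γ [] P123 :=
  c.toCtx.cent (B := B123) (D := D123) (I := [0, 1, 2, 3]) (z := [.a2]) (by decide +kernel) (by decide +kernel)

def P124 : List Ent := [⟨1, [.a0], [.a0]⟩,
  ⟨4, [.a2], [.a2]⟩,
  ⟨8, [.a3, .a6], [.a3, .a6]⟩,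
  ⟨32, [.a5], [.a5]⟩]
def B124 : List Gv := [⟨[.a0], [.a0]⟩, ⟨[.a2], [.a2]⟩, ⟨[.a3, .a6], [.a3, .a6]⟩, ⟨[.a5], [.a5]⟩]
def D124 : List Dv := []
theorem bad124 (c : CtxF Goal γ) : Bad Goal γ [] P124 :=
  c.toCtx.cent (B := B124) (D := D124) (I := [0, 1, 2, 3]) (z := [.a3]) (by decide +kernel) (by decide +kernel)

def P125 : List Ent := [⟨1, [.a0], [.a0]⟩,
  ⟨4, [.a2, .a6], [.a2, .a6]⟩,
  ⟨8, [.a3, .a6], [.a3, .a6]⟩,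
  ⟨32, [.a5], [.a5]⟩]
def B125 : List Gv := [⟨[.a0], [.a0]⟩, ⟨[.a2, .a6], [.a2, .a6]⟩, ⟨[.a3, .a6], [.a3, .a6]⟩, ⟨[.a5], [.a5]⟩]
def D125 : List Dv := []
theorem bad125 (c : CtxF Goal γ) : Bad Goal γ [] P125 :=
  c.toCtx.cent (B := B125) (D := D125) (I := [0, 1, 2, 3]) (z := [.a2]) (by decide +kernel) (by decide +kernel)

def P126 : List Ent := [⟨1, [.a0, .a8], [.a0, .a5, .a8]⟩,
  ⟨4, [.a2], [.a2]⟩,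
  ⟨32, [.a5], [.a5]⟩,
  ⟨64, [.a6], [.a6]⟩]
def B126 : List Gv := [⟨[.a0, .a8], [.a0, .a5, .a8]⟩, ⟨[.a2], [.a2]⟩, ⟨[.a6], [.a6]⟩]
def D126 : List Dv := [⟨[.a5], [0, 0], []⟩]
theorem bad126 (c : CtxF Goal γ) : Bad Goal γ [] P126 :=
  c.toCtx.cent (B := B126) (D := D126) (I := [1, 2, 0, 3]) (z := [.a3]) (by decide +kernel) (by decide +kernel)

def P127 : List Ent := [⟨1, [.a0, .a8], [.a0, .a5, .a8]⟩,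
  ⟨4, [.a2], [.a2]⟩,
  ⟨8, [.a3], [.a3]⟩,
  ⟨32, [.a5], [.a5]⟩]
def B127 : List Gv := [⟨[.a0, .a8], [.a0, .a5, .a8]⟩, ⟨[.a2], [.a2]⟩, ⟨[.a3], [.a3]⟩]
def D127 : List Dv := [⟨[.a5], [0, 0], []⟩]
theorem bad127 (c : CtxF Goal γ) : Bad Goal γ [] P127 :=
  c.toCtx.cent (B := B127) (D := D127) (I := [1, 2, 3, 0]) (z := [.a1]) (by decide +kernel) (by decide +kernel)

def P128 : List Ent := [⟨1, [.a0, .a8], [.a0, .a5, .a8]⟩,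
  ⟨4, [.a2, .a6], [.a2, .a6]⟩,
  ⟨8, [.a3], [.a3]⟩,
  ⟨32, [.a5], [.a5]⟩]
def B128 : List Gv := [⟨[.a0, .a8], [.a0, .a5, .a8]⟩, ⟨[.a2, .a6], [.a2, .a6]⟩, ⟨[.a3], [.a3]⟩]
def D128 : List Dv := [⟨[.a5], [0, 0], []⟩]
theorem bad128 (c : CtxF Goal γ) : Bad Goal γ [] P128 :=
  c.toCtx.cent (B := B128) (D := D128) (I := [1, 2, 3, 0]) (z := [.a2]) (by decide +kernel) (by decide +kernel)

def P129 : List Ent := [⟨1, [.a0, .a8], [.a0, .a5, .a8]⟩,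
  ⟨4, [.a2], [.a2]⟩,
  ⟨8, [.a3, .a6], [.a3, .a6]⟩,
  ⟨32, [.a5], [.a5]⟩]
def B129 : List Gv := [⟨[.a0, .a8], [.a0, .a5, .a8]⟩, ⟨[.a2], [.a2]⟩, ⟨[.a3, .a6], [.a3, .a6]⟩]
def D129 : List Dv := [⟨[.a5], [0, 0], []⟩]
theorem bad129 (c : CtxF Goal γ) : Bad Goal γ [] P129 :=
  c.toCtx.cent (B := B129) (D := D129) (I := [1, 2, 3, 0]) (z := [.a3]) (by decide +kernel) (by decide +kernel)

def P130 : List Ent := [⟨1, [.a0, .a8], [.a0, .a5, .a8]⟩,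
  ⟨4, [.a2, .a6], [.a2, .a6]⟩,
  ⟨8, [.a3, .a6], [.a3, .a6]⟩,
  ⟨32, [.a5], [.a5]⟩]
def B130 : List Gv := [⟨[.a0, .a8], [.a0, .a5, .a8]⟩, ⟨[.a2, .a6], [.a2, .a6]⟩, ⟨[.a3, .a6], [.a3, .a6]⟩]
def D130 : List Dv := [⟨[.a5], [0, 0], []⟩]
theorem bad130 (c : CtxF Goal γ) : Bad Goal γ [] P130 :=
  c.toCtx.cent (B := B130) (D := D130) (I := [1, 2, 3, 0]) (z := [.a2]) (by decide +kernel) (by decide +kernel)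

def P131 : List Ent := [⟨4, [.a2, .a8], [.a2, .a8]⟩,
  ⟨8, [.a3], [.a3]⟩,
  ⟨32, [.a5], [.a5]⟩,
  ⟨64, [.a6], [.a6]⟩]
def B131 : List Gv := [⟨[.a2, .a8], [.a2, .a8]⟩, ⟨[.a3], [.a3]⟩, ⟨[.a5], [.a5]⟩, ⟨[.a6], [.a6]⟩]
def D131 : List Dv := []
theorem bad131 (c : CtxF Goal γ) : Bad Goal γ [] P131 :=
  c.toCtx.cent (B := B131) (D := D131) (I := [0, 1, 2, 3]) (z := [.a2]) (by decide +kernel) (by decide +kernel)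

def P132 : List Ent := [⟨1, [.a0, .a9], [.a0, .a3, .a6, .a9]⟩,
  ⟨4, [.a2, .a8], [.a2, .a8]⟩,
  ⟨8, [.a3, .a6], [.a3, .a6]⟩,
  ⟨32, [.a5], [.a5]⟩]
def B132 : List Gv := [⟨[.a0, .a9], [.a0, .a3, .a6, .a9]⟩, ⟨[.a2, .a8], [.a2, .a8]⟩, ⟨[.a5], [.a5]⟩]
def D132 : List Dv := [⟨[.a3, .a6], [0, 0], []⟩]
theorem bad132 (c : CtxF Goal γ) : Bad Goal γ [] P132 :=
  c.toCtx.cent (B := B132) (D := D132) (I := [1, 2, 0, 3]) (z := [.a3]) (by decide +kernel) (by decide +kernel)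

def P133 : List Ent := [⟨1, [.a0, .a6, .a9], [.a0, .a3, .a9]⟩,
  ⟨4, [.a2, .a8], [.a2, .a8]⟩,
  ⟨8, [.a3, .a6], [.a3, .a6]⟩,
  ⟨32, [.a5], [.a5]⟩]
def B133 : List Gv := [⟨[.a0, .a6, .a9], [.a0, .a3, .a9]⟩, ⟨[.a2, .a8], [.a2, .a8]⟩, ⟨[.a5], [.a5]⟩]
def D133 : List Dv := [⟨[.a3, .a6], [0, 0], []⟩]
theorem bad133 (c : CtxF Goal γ) : Bad Goal γ [] P133 :=
  c.toCtx.cent (B := B133) (D := D133) (I := [1, 2, 0, 3]) (z := [.a3]) (by decide +kernel) (by decide +kernel)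

def P134 : List Ent := [⟨1, [.a0, .a9], [.a0, .a3, .a6, .a9]⟩,
  ⟨4, [.a2, .a6, .a8], [.a2, .a6, .a8]⟩,
  ⟨8, [.a3, .a6], [.a3, .a6]⟩,
  ⟨32, [.a5], [.a5]⟩]
def B134 : List Gv := [⟨[.a0, .a9], [.a0, .a3, .a6, .a9]⟩, ⟨[.a2, .a6, .a8], [.a2, .a6, .a8]⟩, ⟨[.a5], [.a5]⟩]
def D134 : List Dv := [⟨[.a3, .a6], [0, 0], []⟩]
theorem bad134 (c : CtxF Goal γ) : Bad Goal γ [] P134 :=
  c.toCtx.cent (B := B134) (D := D134) (I := [1, 2, 0, 3]) (z := [.a3]) (by decide +kernel) (by decide +kernel)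

def P135 : List Ent := [⟨1, [.a0, .a9], [.a0, .a3, .a6, .a9]⟩,
  ⟨4, [.a2, .a8], [.a2, .a8]⟩,
  ⟨8, [.a3], [.a3]⟩,
  ⟨64, [.a6], [.a6]⟩]
def B135 : List Gv := [⟨[.a0, .a9], [.a0, .a3, .a6, .a9]⟩, ⟨[.a2, .a8], [.a2, .a8]⟩, ⟨[.a3], [.a3]⟩]
def D135 : List Dv := [⟨[.a6], [2, 0, 0], []⟩]
theorem bad135 (c : CtxF Goal γ) : Bad Goal γ [] P135 :=
  c.toCtx.cent (B := B135) (D := D135) (I := [1, 2, 3, 0]) (z := [.a5]) (by decide +kernel) (by decide +kernel)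

def P136 : List Ent := [⟨1, [.a0], [.a0]⟩,
  ⟨8, [.a3, .a6], [.a3, .a6]⟩,
  ⟨32, [.a5], [.a5]⟩,
  ⟨512, [.a9], [.a9]⟩]
def B136 : List Gv := [⟨[.a0], [.a0]⟩, ⟨[.a5], [.a5]⟩, ⟨[.a9], [.a9]⟩]
def D136 : List Dv := [⟨[.a3, .a6], [2, 0], [0, 2]⟩]
theorem bad136 (c : CtxF Goal γ) : Bad Goal γ [] P136 :=
  c.toCtx.cent (B := B136) (D := D136) (I := [1, 0, 2, 3]) (z := [.a3]) (by decide +kernel) (by decide +kernel)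

def P137 : List Ent := [⟨1, [.a0, .a6], [.a0, .a6]⟩,
  ⟨8, [.a3, .a6], [.a3, .a6]⟩,
  ⟨32, [.a5], [.a5]⟩,
  ⟨512, [.a9], [.a9]⟩]
def B137 : List Gv := [⟨[.a0, .a6], [.a0, .a6]⟩, ⟨[.a5], [.a5]⟩, ⟨[.a9], [.a9]⟩]
def D137 : List Dv := [⟨[.a3, .a6], [2, 0], [0, 2]⟩]
theorem bad137 (c : CtxF Goal γ) : Bad Goal γ [] P137 :=
  c.toCtx.cent (B := B137) (D := D137) (I := [1, 0, 2, 3]) (z := [.a3]) (by decide +kernel) (by decide +kernel)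

def P138 : List Ent := [⟨1, [.a0], [.a0]⟩,
  ⟨8, [.a3], [.a3]⟩,
  ⟨64, [.a6], [.a6]⟩,
  ⟨512, [.a9], [.a9]⟩]
def B138 : List Gv := [⟨[.a0], [.a0]⟩, ⟨[.a3], [.a3]⟩, ⟨[.a9], [.a9]⟩]
def D138 : List Dv := [⟨[.a6], [1, 2, 0], [0, 2]⟩]
theorem bad138 (c : CtxF Goal γ) : Bad Goal γ [] P138 :=
  c.toCtx.cent (B := B138) (D := D138) (I := [1, 2, 0, 3]) (z := [.a5]) (by decide +kernel) (by decide +kernel)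

def P139 : List Ent := [⟨1, [.a0, .a8], [.a0, .a5, .a8]⟩,
  ⟨8, [.a3, .a6], [.a3, .a6]⟩,
  ⟨32, [.a5], [.a5]⟩,
  ⟨512, [.a9], [.a9]⟩]
def B139 : List Gv := [⟨[.a0, .a8], [.a0, .a5, .a8]⟩, ⟨[.a9], [.a9]⟩]
def D139 : List Dv := [⟨[.a5], [0, 0], []⟩,
  ⟨[.a3, .a6], [2, 1], [1, 2]⟩]
theorem bad139 (c : CtxF Goal γ) : Bad Goal γ [] P139 :=
  c.toCtx.cent (B := B139) (D := D139) (I := [2, 0, 1, 3]) (z := [.a3]) (by decide +kernel) (by decide +kernel)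

def P140 : List Ent := [⟨1, [.a0, .a6, .a8], [.a0, .a5, .a6, .a8]⟩,
  ⟨8, [.a3, .a6], [.a3, .a6]⟩,
  ⟨32, [.a5], [.a5]⟩,
  ⟨512, [.a9], [.a9]⟩]
def B140 : List Gv := [⟨[.a0, .a6, .a8], [.a0, .a5, .a6, .a8]⟩, ⟨[.a9], [.a9]⟩]
def D140 : List Dv := [⟨[.a5], [0, 0], []⟩,
  ⟨[.a3, .a6], [2, 1], [1, 2]⟩]
theorem bad140 (c : CtxF Goal γ) : Bad Goal γ [] P140 :=
  c.toCtx.cent (B := B140) (D := D140) (I := [2, 0, 1, 3]) (z := [.a3]) (by decide +kernel) (by decide +kernel)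

def P141 : List Ent := [⟨1, [.a0], [.a0]⟩,
  ⟨2, [.a1, .a7, .a9], [.a1, .a2, .a6, .a7, .a9]⟩,
  ⟨4, [.a2, .a6], [.a2, .a6]⟩,
  ⟨32, [.a5], [.a5]⟩]
def B141 : List Gv := [⟨[.a0], [.a0]⟩, ⟨[.a1, .a7, .a9], [.a1, .a2, .a6, .a7, .a9]⟩]
def D141 : List Dv := [⟨[.a2, .a6], [1, 0], [0, 1]⟩,
  ⟨[.a5], [0, 2, 2], []⟩]
theorem bad141 (c : CtxF Goal γ) : Bad Goal γ [] P141 :=
  c.toCtx.cent (B := B141) (D := D141) (I := [2, 3, 1, 0]) (z := [.a2, .a3]) (by decide +kernel) (by decide +kernel)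

def P142 : List Ent := [⟨1, [.a0], [.a0]⟩,
  ⟨2, [.a1, .a3, .a6, .a7, .a9], [.a1, .a2, .a3, .a7, .a9]⟩,
  ⟨4, [.a2, .a6], [.a2, .a6]⟩,
  ⟨32, [.a5], [.a5]⟩]
def B142 : List Gv := [⟨[.a0], [.a0]⟩, ⟨[.a1, .a3, .a6, .a7, .a9], [.a1, .a2, .a3, .a7, .a9]⟩]
def D142 : List Dv := [⟨[.a2, .a6], [1, 0], [0, 1]⟩,
  ⟨[.a5], [0, 2, 2], []⟩]
theorem bad142 (c : CtxF Goal γ) : Bad Goal γ [] P142 :=
  c.toCtx.cent (B := B142) (D := D142) (I := [2, 3, 1, 0]) (z := [.a2, .a3]) (by decide +kernel) (by decide +kernel)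

def P143 : List Ent := [⟨1, [.a0, .a6, .a8], [.a0, .a5, .a6, .a8]⟩,
  ⟨2, [.a1, .a7, .a9], [.a1, .a2, .a6, .a7, .a9]⟩,
  ⟨4, [.a2, .a6], [.a2, .a6]⟩,
  ⟨32, [.a5], [.a5]⟩]
def B143 : List Gv := [⟨[.a0, .a6, .a8], [.a0, .a5, .a6, .a8]⟩, ⟨[.a1, .a7, .a9], [.a1, .a2, .a6, .a7, .a9]⟩]
def D143 : List Dv := [⟨[.a5], [0, 0], []⟩,
  ⟨[.a2, .a5, .a6], [2, 1], [1, 2]⟩,
  ⟨[.a2, .a6], [0], [1]⟩]
theorem bad143 (c : CtxF Goal γ) : Bad Goal γ [] P143 :=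
  c.toCtx.cent (B := B143) (D := D143) (I := [3, 4, 0, 2]) (z := [.a2, .a3]) (by decide +kernel) (by decide +kernel)

def P144 : List Ent := [⟨1, [.a0, .a6, .a8], [.a0, .a5, .a6, .a8]⟩,
  ⟨2, [.a1, .a3, .a6, .a7, .a9], [.a1, .a2, .a3, .a7, .a9]⟩,
  ⟨4, [.a2, .a6], [.a2, .a6]⟩,
  ⟨32, [.a5], [.a5]⟩]
def B144 : List Gv := [⟨[.a0, .a6, .a8], [.a0, .a5, .a6, .a8]⟩, ⟨[.a1, .a3, .a6, .a7, .a9], [.a1, .a2, .a3, .a7, .a9]⟩]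
def D144 : List Dv := [⟨[.a5], [0, 0], []⟩,
  ⟨[.a2, .a5, .a6], [2, 1], [1, 2]⟩,
  ⟨[.a2, .a6], [0], [1]⟩]
theorem bad144 (c : CtxF Goal γ) : Bad Goal γ [] P144 :=
  c.toCtx.cent (B := B144) (D := D144) (I := [3, 4, 0, 2]) (z := [.a2, .a3]) (by decide +kernel) (by decide +kernel)

def P145 : List Ent := [⟨1, [.a0, .a8, .a9], [.a0, .a3, .a5, .a6, .a8, .a9]⟩,
  ⟨2, [.a1, .a7], [.a1, .a2, .a7, .a8]⟩,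
  ⟨4, [.a2, .a8], [.a2, .a8]⟩,
  ⟨8, [.a3, .a5, .a6], [.a3, .a5, .a6]⟩]
def B145 : List Gv := [⟨[.a0, .a8, .a9], [.a0, .a3, .a5, .a6, .a8, .a9]⟩, ⟨[.a1, .a7], [.a1, .a2, .a7, .a8]⟩]
def D145 : List Dv := [⟨[.a3, .a5, .a6], [0, 0], []⟩,
  ⟨[.a2, .a3, .a5, .a6, .a8], [2, 1], [1, 2]⟩,
  ⟨[.a2, .a8], [0], [1]⟩]
theorem bad145 (c : CtxF Goal γ) : Bad Goal γ [] P145 :=
  c.toCtx.cent (B := B145) (D := D145) (I := [3, 4, 0, 2]) (z := [.a5]) (by decide +kernel) (by decide +kernel)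

def P146 : List Ent := [⟨1, [.a0, .a8], [.a0, .a5, .a8]⟩,
  ⟨2, [.a1, .a7, .a9], [.a1, .a2, .a6, .a7, .a9]⟩,
  ⟨4, [.a2, .a6], [.a2, .a6]⟩,
  ⟨32, [.a5], [.a5]⟩]
def B146 : List Gv := [⟨[.a0, .a8], [.a0, .a5, .a8]⟩, ⟨[.a1, .a7, .a9], [.a1, .a2, .a6, .a7, .a9]⟩]
def D146 : List Dv := [⟨[.a5], [0, 0], []⟩,
  ⟨[.a2, .a6], [2, 1], [1, 2]⟩]
theorem bad146 (c : CtxF Goal γ) : Bad Goal γ [] P146 :=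
  c.toCtx.cent (B := B146) (D := D146) (I := [2, 3, 0, 1]) (z := [.a2, .a3]) (by decide +kernel) (by decide +kernel)

def P147 : List Ent := [⟨1, [.a0, .a8], [.a0, .a5, .a8]⟩,
  ⟨2, [.a1, .a3, .a6, .a7, .a9], [.a1, .a2, .a3, .a7, .a9]⟩,
  ⟨4, [.a2, .a6], [.a2, .a6]⟩,
  ⟨32, [.a5], [.a5]⟩]
def B147 : List Gv := [⟨[.a0, .a8], [.a0, .a5, .a8]⟩, ⟨[.a1, .a3, .a6, .a7, .a9], [.a1, .a2, .a3, .a7, .a9]⟩]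
def D147 : List Dv := [⟨[.a5], [0, 0], []⟩,
  ⟨[.a2, .a6], [2, 1], [1, 2]⟩]
theorem bad147 (c : CtxF Goal γ) : Bad Goal γ [] P147 :=
  c.toCtx.cent (B := B147) (D := D147) (I := [2, 3, 0, 1]) (z := [.a2, .a3]) (by decide +kernel) (by decide +kernel)

def P148 : List Ent := [⟨1, [.a0, .a6], [.a0, .a6]⟩,
  ⟨2, [.a1, .a7, .a9], [.a1, .a2, .a6, .a7, .a9]⟩,
  ⟨4, [.a2, .a5, .a6], [.a2, .a5, .a6]⟩,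
  ⟨8, [.a3, .a6], [.a3, .a6]⟩]
def B148 : List Gv := [⟨[.a0, .a6], [.a0, .a6]⟩, ⟨[.a1, .a7, .a9], [.a1, .a2, .a6, .a7, .a9]⟩, ⟨[.a3, .a6], [.a3, .a6]⟩]
def D148 : List Dv := [⟨[.a2, .a5, .a6], [1, 0], [0, 1]⟩]
theorem bad148 (c : CtxF Goal γ) : Bad Goal γ [] P148 :=
  c.toCtx.cent (B := B148) (D := D148) (I := [1, 2, 0, 3]) (z := [.a2, .a3]) (by decide +kernel) (by decide +kernel)

def P149 : List Ent := [⟨1, [.a0, .a6], [.a0, .a6]⟩,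
  ⟨2, [.a1, .a7, .a9], [.a1, .a2, .a6, .a7, .a9]⟩,
  ⟨4, [.a2, .a6], [.a2, .a6]⟩,
  ⟨32, [.a5], [.a5]⟩]
def B149 : List Gv := [⟨[.a0, .a6], [.a0, .a6]⟩, ⟨[.a1, .a7, .a9], [.a1, .a2, .a6, .a7, .a9]⟩, ⟨[.a2, .a6], [.a2, .a6]⟩]
def D149 : List Dv := [⟨[.a5], [2, 1, 0], [0, 1]⟩]
theorem bad149 (c : CtxF Goal γ) : Bad Goal γ [] P149 :=
  c.toCtx.cent (B := B149) (D := D149) (I := [1, 2, 3, 0]) (z := [.a2, .a3]) (by decide +kernel) (by decide +kernel)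

def P150 : List Ent := [⟨1, [.a0, .a6], [.a0, .a6]⟩,
  ⟨2, [.a1, .a3, .a6, .a7, .a9], [.a1, .a2, .a3, .a7, .a9]⟩,
  ⟨4, [.a2, .a6], [.a2, .a6]⟩,
  ⟨32, [.a5], [.a5]⟩]
def B150 : List Gv := [⟨[.a0, .a6], [.a0, .a6]⟩, ⟨[.a1, .a3, .a6, .a7, .a9], [.a1, .a2, .a3, .a7, .a9]⟩, ⟨[.a2, .a6], [.a2, .a6]⟩]
def D150 : List Dv := [⟨[.a5], [2, 1, 0], [0, 1]⟩]
theorem bad150 (c : CtxF Goal γ) : Bad Goal γ [] P150 :=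
  c.toCtx.cent (B := B150) (D := D150) (I := [1, 2, 3, 0]) (z := [.a2, .a3]) (by decide +kernel) (by decide +kernel)

def P151 : List Ent := [⟨1, [.a0, .a9], [.a0, .a3, .a6, .a9]⟩,
  ⟨2, [.a1, .a7, .a8], [.a1, .a2, .a7]⟩,
  ⟨4, [.a2, .a8], [.a2, .a8]⟩,
  ⟨8, [.a3, .a6], [.a3, .a6]⟩]
def B151 : List Gv := [⟨[.a0, .a9], [.a0, .a3, .a6, .a9]⟩, ⟨[.a1, .a7, .a8], [.a1, .a2, .a7]⟩]
def D151 : List Dv := [⟨[.a3, .a6], [0, 0], []⟩,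
  ⟨[.a2, .a3, .a6, .a8], [2, 1], [1, 2]⟩,
  ⟨[.a2, .a8], [0], [1]⟩]
theorem bad151 (c : CtxF Goal γ) : Bad Goal γ [] P151 :=
  c.toCtx.cent (B := B151) (D := D151) (I := [3, 4, 0, 2]) (z := [.a5]) (by decide +kernel) (by decide +kernel)

def P152 : List Ent := [⟨1, [.a0, .a10], [.a0, .a1, .a2, .a3, .a4, .a6, .a8, .a9, .a10, .a11]⟩,
  ⟨2, [.a1, .a3, .a6, .a7, .a8, .a9, .a11], [.a1, .a2, .a3, .a5, .a6, .a7, .a11]⟩,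
  ⟨4, [.a2, .a6, .a9], [.a2, .a5, .a6, .a9]⟩,
  ⟨32, [.a5], [.a5]⟩]
def B152 : List Gv := [⟨[.a0, .a10], [.a0, .a1, .a2, .a3, .a4, .a6, .a8, .a9, .a10, .a11]⟩]
def D152 : List Dv := [⟨[.a1, .a3, .a5, .a6, .a7, .a8, .a9, .a11], [0, 0], []⟩,
  ⟨[.a2, .a6, .a9], [0, 0], []⟩,
  ⟨[.a5], [0, 0], []⟩,
  ⟨[.a1, .a3, .a6, .a7, .a8, .a9, .a11], [2], [0]⟩]
def C152 : List Ch := [⟨P2, 0, [], []⟩]
def N152 : List Ent := [⟨1, [.a0, .a10], [.a0, .a1, .a2, .a3, .a4, .a6, .a8, .a9, .a10, .a11]⟩,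
  ⟨2, [.a1, .a3, .a6, .a7, .a8, .a9, .a11], [.a1, .a2, .a3, .a5, .a6, .a7, .a11]⟩,
  ⟨4, [.a2, .a6, .a9], [.a2, .a5, .a6, .a9]⟩,
  ⟨32, [.a5], [.a5]⟩,
  ⟨128, [.a7], [.a7, .a8]⟩,
  ⟨256, [.a8], [.a8]⟩]
theorem bad152 (c : CtxF Goal γ) : Bad Goal γ [] P152 :=
  c.toCtx.bnd (B := B152) (D := D152) (I := [4, 0, 2, 1]) (r := 1) (C := C152) (N := N152) (by decide +kernel) (by decide +kernel) (by decide +kernel) (by decide +kernel)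
    (allB_cons (bad2 c) (allB_nil))

def P153 : List Ent := [⟨1, [.a0, .a7], [.a0, .a2, .a3, .a5, .a7, .a8]⟩,
  ⟨4, [.a2, .a3, .a8], [.a2, .a3, .a8]⟩,
  ⟨32, [.a5], [.a5]⟩,
  ⟨64, [.a6], [.a6]⟩]
def B153 : List Gv := [⟨[.a0, .a7], [.a0, .a2, .a3, .a5, .a7, .a8]⟩, ⟨[.a5], [.a5]⟩, ⟨[.a6], [.a6]⟩]
def D153 : List Dv := [⟨[.a2, .a3, .a8], [0, 0], []⟩]
theorem bad153 (c : CtxF Goal γ) : Bad Goal γ [] P153 :=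
  c.toCtx.cent (B := B153) (D := D153) (I := [1, 0, 2, 3]) (z := [.a2]) (by decide +kernel) (by decide +kernel)

def P154 : List Ent := [⟨1, [.a0, .a7], [.a0, .a2, .a3, .a5, .a7, .a8]⟩,
  ⟨4, [.a2, .a3, .a8], [.a2, .a3, .a8]⟩,
  ⟨16, [.a4, .a7, .a8, .a9], [.a4, .a5, .a6, .a7, .a8, .a9]⟩,
  ⟨32, [.a5, .a6], [.a5, .a6]⟩]
def B154 : List Gv := [⟨[.a0, .a7], [.a0, .a2, .a3, .a5, .a7, .a8]⟩, ⟨[.a4, .a7, .a8, .a9], [.a4, .a5, .a6, .a7, .a8, .a9]⟩]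
def D154 : List Dv := [⟨[.a2, .a3, .a8], [0, 0], []⟩,
  ⟨[.a5, .a6], [2, 2], []⟩]
theorem bad154 (c : CtxF Goal γ) : Bad Goal γ [] P154 :=
  c.toCtx.cent (B := B154) (D := D154) (I := [2, 1, 3, 0]) (z := [.a5]) (by decide +kernel) (by decide +kernel)

def P155 : List Ent := [⟨1, [.a0, .a7, .a11], [.a0, .a4, .a5, .a9, .a11]⟩,
  ⟨16, [.a4, .a7, .a8, .a9], [.a4, .a5, .a6, .a7, .a8, .a9]⟩,
  ⟨32, [.a5], [.a5]⟩,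
  ⟨64, [.a6], [.a6]⟩]
def B155 : List Gv := [⟨[.a0, .a7, .a11], [.a0, .a4, .a5, .a9, .a11]⟩, ⟨[.a5], [.a5]⟩]
def D155 : List Dv := [⟨[.a4, .a7, .a8, .a9], [0, 0], []⟩,
  ⟨[.a6], [2, 0, 0], []⟩]
def C155 : List Ch := [⟨P3, 0, [], []⟩,
  ⟨P4, 1, [], []⟩,
  ⟨P4, 0, [.a0, .a3], [.a0, .a3]⟩]
def N155 : List Ent := [⟨1, [.a0, .a7, .a11], [.a0, .a4, .a5, .a9, .a11]⟩,
  ⟨4, [.a2, .a7, .a11], [.a2, .a5, .a6, .a7, .a11]⟩,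
  ⟨8, [.a3, .a7, .a11], [.a3, .a5, .a7, .a11]⟩,
  ⟨16, [.a4, .a7, .a8, .a9], [.a4, .a5, .a6, .a7, .a8, .a9]⟩,
  ⟨32, [.a5], [.a5]⟩,
  ⟨64, [.a6], [.a6]⟩,
  ⟨256, [.a8], [.a8]⟩]
theorem bad155 (c : CtxF Goal γ) : Bad Goal γ [] P155 :=
  c.toCtx.bnd (B := B155) (D := D155) (I := [2, 1, 3, 0]) (r := 2) (C := C155) (N := N155) (by decide +kernel) (by decide +kernel) (by decide +kernel) (by decide +kernel)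
    (allB_cons (bad3 c) (allB_cons (bad4 c) (allB_cons (bad4 c) (allB_nil))))

def P156 : List Ent := [⟨1, [.a0, .a7, .a11], [.a0, .a4, .a5, .a9, .a11]⟩,
  ⟨4, [.a2, .a3, .a8], [.a2, .a3, .a8]⟩,
  ⟨16, [.a4, .a7, .a8, .a9], [.a4, .a5, .a6, .a7, .a8, .a9]⟩,
  ⟨32, [.a5, .a6], [.a5, .a6]⟩]
def B156 : List Gv := [⟨[.a0, .a7, .a11], [.a0, .a4, .a5, .a9, .a11]⟩, ⟨[.a2, .a3, .a8], [.a2, .a3, .a8]⟩]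
def D156 : List Dv := [⟨[.a4, .a7, .a8, .a9], [0, 0], []⟩,
  ⟨[.a5, .a6], [2, 1], [1, 2]⟩]
theorem bad156 (c : CtxF Goal γ) : Bad Goal γ [] P156 :=
  c.toCtx.cent (B := B156) (D := D156) (I := [2, 3, 1, 0]) (z := [.a5]) (by decide +kernel) (by decide +kernel)

def P157 : List Ent := [⟨1, [.a0, .a4, .a8, .a9], [.a0, .a2, .a3, .a4, .a5, .a6, .a9]⟩,
  ⟨4, [.a2, .a6, .a8], [.a2, .a6, .a8]⟩,
  ⟨8, [.a3], [.a3]⟩,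
  ⟨32, [.a5], [.a5]⟩]
def B157 : List Gv := [⟨[.a0, .a4, .a8, .a9], [.a0, .a2, .a3, .a4, .a5, .a6, .a9]⟩, ⟨[.a2, .a6, .a8], [.a2, .a6, .a8]⟩, ⟨[.a5], [.a5]⟩]
def D157 : List Dv := [⟨[.a3], [1, 0, 0], []⟩]
theorem bad157 (c : CtxF Goal γ) : Bad Goal γ [] P157 :=
  c.toCtx.cent (B := B157) (D := D157) (I := [1, 2, 0, 3]) (z := [.a0, .a1, .a2, .a4]) (by decide +kernel) (by decide +kernel)

def P158 : List Ent := [⟨1, [.a0, .a4, .a8, .a9], [.a0, .a2, .a3, .a4, .a5, .a6, .a9]⟩,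
  ⟨4, [.a2, .a8], [.a2, .a8]⟩,
  ⟨8, [.a3, .a6], [.a3, .a6]⟩,
  ⟨32, [.a5], [.a5]⟩]
def B158 : List Gv := [⟨[.a0, .a4, .a8, .a9], [.a0, .a2, .a3, .a4, .a5, .a6, .a9]⟩, ⟨[.a2, .a8], [.a2, .a8]⟩, ⟨[.a5], [.a5]⟩]
def D158 : List Dv := [⟨[.a3, .a6], [1, 0, 0], []⟩]
theorem bad158 (c : CtxF Goal γ) : Bad Goal γ [] P158 :=
  c.toCtx.cent (B := B158) (D := D158) (I := [1, 2, 0, 3]) (z := [.a3]) (by decide +kernel) (by decide +kernel)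

def P159 : List Ent := [⟨1, [.a0, .a4, .a6, .a8, .a9], [.a0, .a2, .a3, .a4, .a5, .a9]⟩,
  ⟨4, [.a2, .a8], [.a2, .a8]⟩,
  ⟨8, [.a3, .a6], [.a3, .a6]⟩,
  ⟨32, [.a5], [.a5]⟩]
def B159 : List Gv := [⟨[.a0, .a4, .a6, .a8, .a9], [.a0, .a2, .a3, .a4, .a5, .a9]⟩, ⟨[.a2, .a8], [.a2, .a8]⟩, ⟨[.a5], [.a5]⟩]
def D159 : List Dv := [⟨[.a3, .a6], [1, 0, 0], []⟩]
theorem bad159 (c : CtxF Goal γ) : Bad Goal γ [] P159 :=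
  c.toCtx.cent (B := B159) (D := D159) (I := [1, 2, 0, 3]) (z := [.a3]) (by decide +kernel) (by decide +kernel)

def P160 : List Ent := [⟨1, [.a0, .a4, .a8, .a9], [.a0, .a2, .a3, .a4, .a5, .a6, .a9]⟩,
  ⟨4, [.a2, .a8], [.a2, .a8]⟩,
  ⟨8, [.a3], [.a3]⟩,
  ⟨64, [.a6], [.a6]⟩]
def B160 : List Gv := [⟨[.a0, .a4, .a8, .a9], [.a0, .a2, .a3, .a4, .a5, .a6, .a9]⟩, ⟨[.a2, .a8], [.a2, .a8]⟩, ⟨[.a3], [.a3]⟩]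
def D160 : List Dv := [⟨[.a6], [2, 1, 0, 0], []⟩]
theorem bad160 (c : CtxF Goal γ) : Bad Goal γ [] P160 :=
  c.toCtx.cent (B := B160) (D := D160) (I := [1, 2, 3, 0]) (z := [.a5]) (by decide +kernel) (by decide +kernel)

def P161 : List Ent := [⟨1, [.a0, .a7, .a9], [.a0, .a2, .a6, .a7, .a8, .a9]⟩,
  ⟨4, [.a2, .a6, .a8], [.a2, .a6, .a8]⟩,
  ⟨8, [.a3, .a8], [.a3, .a8]⟩,
  ⟨32, [.a5], [.a5]⟩]
def B161 : List Gv := [⟨[.a0, .a7, .a9], [.a0, .a2, .a6, .a7, .a8, .a9]⟩, ⟨[.a2, .a6, .a8], [.a2, .a6, .a8]⟩, ⟨[.a3, .a8], [.a3, .a8]⟩]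
def D161 : List Dv := [⟨[.a5], [1, 0, 0], []⟩]
theorem bad161 (c : CtxF Goal γ) : Bad Goal γ [] P161 :=
  c.toCtx.cent (B := B161) (D := D161) (I := [1, 2, 3, 0]) (z := [.a2, .a3]) (by decide +kernel) (by decide +kernel)

def P162 : List Ent := [⟨1, [.a0, .a7, .a9], [.a0, .a2, .a6, .a7, .a8, .a9]⟩,
  ⟨4, [.a2, .a8], [.a2, .a8]⟩,
  ⟨32, [.a5], [.a5]⟩,
  ⟨64, [.a6], [.a6]⟩]
def B162 : List Gv := [⟨[.a0, .a7, .a9], [.a0, .a2, .a6, .a7, .a8, .a9]⟩, ⟨[.a2, .a8], [.a2, .a8]⟩, ⟨[.a5], [.a5]⟩]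
def D162 : List Dv := [⟨[.a6], [2, 1, 0, 0], []⟩]
theorem bad162 (c : CtxF Goal γ) : Bad Goal γ [] P162 :=
  c.toCtx.cent (B := B162) (D := D162) (I := [1, 2, 3, 0]) (z := [.a2, .a3]) (by decide +kernel) (by decide +kernel)

def P163 : List Ent := [⟨1, [.a0, .a7, .a9], [.a0, .a2, .a6, .a7, .a8, .a9]⟩,
  ⟨4, [.a2, .a6, .a8], [.a2, .a6, .a8]⟩,
  ⟨8, [.a3, .a6, .a8], [.a3, .a6, .a8]⟩,
  ⟨32, [.a5], [.a5]⟩]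
def B163 : List Gv := [⟨[.a0, .a7, .a9], [.a0, .a2, .a6, .a7, .a8, .a9]⟩, ⟨[.a2, .a6, .a8], [.a2, .a6, .a8]⟩, ⟨[.a3, .a6, .a8], [.a3, .a6, .a8]⟩]
def D163 : List Dv := [⟨[.a5], [1, 0, 0], []⟩]
theorem bad163 (c : CtxF Goal γ) : Bad Goal γ [] P163 :=
  c.toCtx.cent (B := B163) (D := D163) (I := [1, 2, 3, 0]) (z := [.a6]) (by decide +kernel) (by decide +kernel)

def P164 : List Ent := [⟨1, [.a0, .a7, .a9], [.a0, .a2, .a6, .a7, .a8, .a9]⟩,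
  ⟨4, [.a2, .a8], [.a2, .a8]⟩,
  ⟨8, [.a3, .a8], [.a3, .a8]⟩,
  ⟨32, [.a5, .a6], [.a5, .a6]⟩]
def B164 : List Gv := [⟨[.a0, .a7, .a9], [.a0, .a2, .a6, .a7, .a8, .a9]⟩, ⟨[.a2, .a8], [.a2, .a8]⟩, ⟨[.a3, .a8], [.a3, .a8]⟩]
def D164 : List Dv := [⟨[.a5, .a6], [1, 0, 0], []⟩]
theorem bad164 (c : CtxF Goal γ) : Bad Goal γ [] P164 :=
  c.toCtx.cent (B := B164) (D := D164) (I := [1, 2, 3, 0]) (z := [.a5]) (by decide +kernel) (by decide +kernel)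

def P165 : List Ent := [⟨1, [.a0, .a6, .a7, .a8], [.a0, .a2, .a3, .a6, .a7]⟩,
  ⟨2, [.a1, .a7, .a9], [.a1, .a2, .a6, .a7, .a9]⟩,
  ⟨4, [.a2, .a5, .a6], [.a2, .a5, .a6]⟩,
  ⟨8, [.a3, .a6, .a8], [.a3, .a6, .a8]⟩]
def B165 : List Gv := [⟨[.a0, .a6, .a7, .a8], [.a0, .a2, .a3, .a6, .a7]⟩, ⟨[.a1, .a7, .a9], [.a1, .a2, .a6, .a7, .a9]⟩]
def D165 : List Dv := [⟨[.a2, .a3, .a5, .a8], [0, 0], []⟩,
  ⟨[.a3, .a6, .a8], [0, 2, 1], [1, 2]⟩,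
  ⟨[.a2, .a5, .a6], [1], [0]⟩]
theorem bad165 (c : CtxF Goal γ) : Bad Goal γ [] P165 :=
  c.toCtx.cent (B := B165) (D := D165) (I := [3, 4, 0, 1]) (z := [.a5]) (by decide +kernel) (by decide +kernel)

def P166 : List Ent := [⟨1, [.a0, .a7], [.a0, .a2, .a3, .a5, .a7, .a8]⟩,
  ⟨2, [.a1, .a7, .a8, .a9], [.a1, .a2, .a6, .a7, .a8, .a9]⟩,
  ⟨4, [.a2, .a5, .a6], [.a2, .a5, .a6]⟩,
  ⟨8, [.a3, .a5, .a6, .a8], [.a3, .a5, .a6, .a8]⟩]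
def B166 : List Gv := [⟨[.a0, .a7], [.a0, .a2, .a3, .a5, .a7, .a8]⟩, ⟨[.a1, .a7, .a8, .a9], [.a1, .a2, .a6, .a7, .a8, .a9]⟩]
def D166 : List Dv := [⟨[.a2, .a3, .a8], [0, 0], []⟩,
  ⟨[.a3, .a5, .a6, .a8], [0, 2, 1], [1, 2]⟩,
  ⟨[.a2, .a5, .a6], [1], [0]⟩]
theorem bad166 (c : CtxF Goal γ) : Bad Goal γ [] P166 :=
  c.toCtx.cent (B := B166) (D := D166) (I := [3, 4, 0, 1]) (z := [.a5]) (by decide +kernel) (by decide +kernel)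

def P167 : List Ent := [⟨1, [.a0, .a7, .a10], [.a0, .a1, .a3, .a4, .a7, .a10, .a11]⟩,
  ⟨2, [.a1, .a6, .a7, .a9, .a11], [.a1, .a2, .a6, .a7, .a11]⟩,
  ⟨4, [.a2, .a6, .a8, .a9], [.a2, .a5, .a6, .a8, .a9]⟩,
  ⟨32, [.a5], [.a5]⟩]
def B167 : List Gv := [⟨[.a0, .a7, .a10], [.a0, .a1, .a3, .a4, .a7, .a10, .a11]⟩]
def D167 : List Dv := [⟨[.a1, .a2, .a6, .a7, .a11], [0, 0], []⟩,
  ⟨[.a2, .a6, .a8, .a9], [0, 0], []⟩,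
  ⟨[.a5], [0, 0], []⟩,
  ⟨[.a1, .a6, .a7, .a9, .a11], [2], [1]⟩]
def C167 : List Ch := [⟨P2, 0, [.a0, .a2, .a4, .a5, .a6, .a9, .a10], [.a0, .a1, .a2, .a10, .a11]⟩]
def N167 : List Ent := [⟨1, [.a0, .a7, .a10], [.a0, .a1, .a3, .a4, .a7, .a10, .a11]⟩,
  ⟨2, [.a1, .a6, .a7, .a9, .a11], [.a1, .a2, .a6, .a7, .a11]⟩,
  ⟨4, [.a2, .a6, .a8, .a9], [.a2, .a5, .a6, .a8, .a9]⟩,
  ⟨32, [.a5], [.a5]⟩,
  ⟨64, [.a6, .a7], [.a6, .a7, .a8]⟩,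
  ⟨256, [.a8], [.a8]⟩]
theorem bad167 (c : CtxF Goal γ) : Bad Goal γ [] P167 :=
  c.toCtx.bnd (B := B167) (D := D167) (I := [4, 0, 2, 1]) (r := 1) (C := C167) (N := N167) (by decide +kernel) (by decide +kernel) (by decide +kernel) (by decide +kernel)
    (allB_cons (bad2 c) (allB_nil))

def P168 : List Ent := [⟨1, [.a0], [.a0]⟩,
  ⟨4, [.a2, .a7, .a11], [.a2, .a5, .a6, .a7, .a11]⟩,
  ⟨16, [.a4, .a6, .a7, .a9], [.a4, .a5, .a7, .a9]⟩,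
  ⟨32, [.a5, .a6], [.a5, .a6]⟩]
def B168 : List Gv := [⟨[.a0], [.a0]⟩, ⟨[.a2, .a7, .a11], [.a2, .a5, .a6, .a7, .a11]⟩]
def D168 : List Dv := [⟨[.a4, .a6, .a7, .a9], [1, 0], [0, 1]⟩,
  ⟨[.a5, .a6], [2, 2], []⟩]
theorem bad168 (c : CtxF Goal γ) : Bad Goal γ [] P168 :=
  c.toCtx.cent (B := B168) (D := D168) (I := [2, 3, 1, 0]) (z := [.a5]) (by decide +kernel) (by decide +kernel)

def P169 : List Ent := [⟨1, [.a0], [.a0]⟩,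
  ⟨2, [.a1], [.a1, .a2]⟩,
  ⟨4, [.a2], [.a2]⟩,
  ⟨32, [.a5], [.a5]⟩]
def B169 : List Gv := [⟨[.a0], [.a0]⟩, ⟨[.a1], [.a1, .a2]⟩, ⟨[.a5], [.a5]⟩]
def D169 : List Dv := [⟨[.a2], [1, 1], []⟩]
theorem bad169 (c : CtxF Goal γ) : Bad Goal γ [] P169 :=
  c.toCtx.cent (B := B169) (D := D169) (I := [1, 2, 0, 3]) (z := [.a3]) (by decide +kernel) (by decide +kernel)

def P170 : List Ent := [⟨1, [.a0], [.a0]⟩,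
  ⟨2, [.a1], [.a1, .a2]⟩,
  ⟨4, [.a2], [.a2]⟩,
  ⟨8, [.a3], [.a3]⟩]
def B170 : List Gv := [⟨[.a0], [.a0]⟩, ⟨[.a1], [.a1, .a2]⟩, ⟨[.a3], [.a3]⟩]
def D170 : List Dv := [⟨[.a2], [1, 1], []⟩]
theorem bad170 (c : CtxF Goal γ) : Bad Goal γ [] P170 :=
  c.toCtx.cent (B := B170) (D := D170) (I := [1, 2, 0, 3]) (z := [.a5]) (by decide +kernel) (by decide +kernel)

def P171 : List Ent := [⟨1, [.a0, .a8], [.a0, .a5, .a8]⟩,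
  ⟨2, [.a1], [.a1, .a2]⟩,
  ⟨4, [.a2], [.a2]⟩,
  ⟨32, [.a5], [.a5]⟩]
def B171 : List Gv := [⟨[.a0, .a8], [.a0, .a5, .a8]⟩, ⟨[.a1], [.a1, .a2]⟩]
def D171 : List Dv := [⟨[.a5], [0, 0], []⟩,
  ⟨[.a2], [2, 2], []⟩]
theorem bad171 (c : CtxF Goal γ) : Bad Goal γ [] P171 :=
  c.toCtx.cent (B := B171) (D := D171) (I := [2, 3, 0, 1]) (z := [.a3]) (by decide +kernel) (by decide +kernel)

def P172 : List Ent := [⟨1, [.a0, .a6], [.a0, .a6]⟩,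
  ⟨2, [.a1, .a8], [.a1, .a2, .a8]⟩,
  ⟨4, [.a2], [.a2]⟩,
  ⟨32, [.a5], [.a5]⟩]
def B172 : List Gv := [⟨[.a0, .a6], [.a0, .a6]⟩, ⟨[.a1, .a8], [.a1, .a2, .a8]⟩, ⟨[.a5], [.a5]⟩]
def D172 : List Dv := [⟨[.a2], [1, 1], []⟩]
theorem bad172 (c : CtxF Goal γ) : Bad Goal γ [] P172 :=
  c.toCtx.cent (B := B172) (D := D172) (I := [1, 2, 0, 3]) (z := [.a3]) (by decide +kernel) (by decide +kernel)

def P173 : List Ent := [⟨1, [.a0, .a6], [.a0, .a6]⟩,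
  ⟨2, [.a1, .a8], [.a1, .a2, .a8]⟩,
  ⟨4, [.a2], [.a2]⟩,
  ⟨8, [.a3], [.a3]⟩]
def B173 : List Gv := [⟨[.a0, .a6], [.a0, .a6]⟩, ⟨[.a1, .a8], [.a1, .a2, .a8]⟩, ⟨[.a3], [.a3]⟩]
def D173 : List Dv := [⟨[.a2], [1, 1], []⟩]
theorem bad173 (c : CtxF Goal γ) : Bad Goal γ [] P173 :=
  c.toCtx.cent (B := B173) (D := D173) (I := [1, 2, 0, 3]) (z := [.a5]) (by decide +kernel) (by decide +kernel)

def P174 : List Ent := [⟨1, [.a0, .a6, .a8], [.a0, .a5, .a6, .a8]⟩,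
  ⟨2, [.a1, .a8], [.a1, .a2, .a8]⟩,
  ⟨4, [.a2], [.a2]⟩,
  ⟨32, [.a5], [.a5]⟩]
def B174 : List Gv := [⟨[.a0, .a6, .a8], [.a0, .a5, .a6, .a8]⟩, ⟨[.a1, .a8], [.a1, .a2, .a8]⟩]
def D174 : List Dv := [⟨[.a5], [0, 0], []⟩,
  ⟨[.a2], [2, 2], []⟩]
theorem bad174 (c : CtxF Goal γ) : Bad Goal γ [] P174 :=
  c.toCtx.cent (B := B174) (D := D174) (I := [2, 3, 0, 1]) (z := [.a3]) (by decide +kernel) (by decide +kernel)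

def P175 : List Ent := [⟨1, [.a0, .a9], [.a0, .a3, .a6, .a9]⟩,
  ⟨2, [.a1, .a4, .a7], [.a1, .a2, .a3, .a4, .a6, .a7, .a8]⟩,
  ⟨4, [.a2, .a5, .a8], [.a2, .a5, .a8]⟩,
  ⟨8, [.a3, .a6], [.a3, .a6]⟩]
def B175 : List Gv := [⟨[.a0, .a9], [.a0, .a3, .a6, .a9]⟩, ⟨[.a1, .a4, .a7], [.a1, .a2, .a3, .a4, .a6, .a7, .a8]⟩]
def D175 : List Dv := [⟨[.a3, .a6], [0, 0], []⟩,
  ⟨[.a2, .a3, .a5, .a6, .a8], [2, 2], []⟩,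
  ⟨[.a2, .a5, .a8], [0], [1]⟩]
theorem bad175 (c : CtxF Goal γ) : Bad Goal γ [] P175 :=
  c.toCtx.cent (B := B175) (D := D175) (I := [3, 4, 0, 2]) (z := [.a5]) (by decide +kernel) (by decide +kernel)

def P176 : List Ent := [⟨1, [.a0, .a9], [.a0, .a3, .a6, .a9]⟩,
  ⟨2, [.a1, .a4, .a7, .a9], [.a1, .a2, .a3, .a4, .a7, .a8, .a9]⟩,
  ⟨4, [.a2, .a6, .a8], [.a2, .a6, .a8]⟩,
  ⟨8, [.a3, .a6], [.a3, .a6]⟩]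
def B176 : List Gv := [⟨[.a0, .a9], [.a0, .a3, .a6, .a9]⟩, ⟨[.a1, .a4, .a7, .a9], [.a1, .a2, .a3, .a4, .a7, .a8, .a9]⟩]
def D176 : List Dv := [⟨[.a3, .a6], [0, 0], []⟩,
  ⟨[.a2, .a3, .a8], [2, 2], []⟩,
  ⟨[.a2, .a6, .a8], [0], [1]⟩]
theorem bad176 (c : CtxF Goal γ) : Bad Goal γ [] P176 :=
  c.toCtx.cent (B := B176) (D := D176) (I := [3, 4, 0, 2]) (z := [.a5]) (by decide +kernel) (by decide +kernel)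

def P177 : List Ent := [⟨1, [.a0, .a6, .a9], [.a0, .a3, .a9]⟩,
  ⟨2, [.a1, .a4, .a7, .a8], [.a1, .a2, .a3, .a4, .a6, .a7]⟩,
  ⟨4, [.a2, .a5, .a8], [.a2, .a5, .a8]⟩,
  ⟨8, [.a3, .a6], [.a3, .a6]⟩]
def B177 : List Gv := [⟨[.a0, .a6, .a9], [.a0, .a3, .a9]⟩, ⟨[.a1, .a4, .a7, .a8], [.a1, .a2, .a3, .a4, .a6, .a7]⟩]
def D177 : List Dv := [⟨[.a3, .a6], [0, 0], []⟩,
  ⟨[.a2, .a3, .a5, .a6, .a8], [2, 2], []⟩,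
  ⟨[.a2, .a5, .a8], [0], [1]⟩]
theorem bad177 (c : CtxF Goal γ) : Bad Goal γ [] P177 :=
  c.toCtx.cent (B := B177) (D := D177) (I := [3, 4, 0, 2]) (z := [.a5]) (by decide +kernel) (by decide +kernel)

def P178 : List Ent := [⟨128, [.a7], [.a7, .a8]⟩,
  ⟨256, [.a8], [.a8]⟩,
  ⟨512, [.a9], [.a9]⟩,
  ⟨1024, [.a10], [.a10, .a11]⟩,
  ⟨2048, [.a11], [.a11]⟩]
def B178 : List Gv := [⟨[.a7], [.a7, .a8]⟩, ⟨[.a10], [.a10, .a11]⟩]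
def D178 : List Dv := [⟨[.a8], [0, 0], []⟩,
  ⟨[.a9], [2, 1], [1, 2]⟩,
  ⟨[.a11], [3, 3], []⟩]
theorem bad178 (c : CtxF Goal γ) : Bad Goal γ [] P178 :=
  c.toCtx.cent (B := B178) (D := D178) (I := [3, 2, 1, 4, 0]) (z := [.a5]) (by decide +kernel) (by decide +kernel)

def P179 : List Ent := [⟨32, [.a5], [.a5]⟩,
  ⟨256, [.a8], [.a8]⟩,
  ⟨512, [.a9], [.a9]⟩,
  ⟨1024, [.a10], [.a10, .a11]⟩,
  ⟨2048, [.a11], [.a11]⟩]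
def B179 : List Gv := [⟨[.a5], [.a5]⟩, ⟨[.a8], [.a8]⟩, ⟨[.a9], [.a9]⟩, ⟨[.a10], [.a10, .a11]⟩]
def D179 : List Dv := [⟨[.a11], [3, 3], []⟩]
def C179 : List Ch := [⟨P5, 0, [], []⟩,
  ⟨P6, 1, [], []⟩,
  ⟨P7, 0, [], []⟩,
  ⟨P8, 2, [], []⟩,
  ⟨P9, 0, [], []⟩,
  ⟨P6, 1, [.a4], [.a4, .a5]⟩,
  ⟨P7, 0, [.a4], [.a4, .a5]⟩,
  ⟨P10, 3, [], []⟩,
  ⟨P11, 0, [], []⟩,
  ⟨P6, 1, [.a6], [.a6]⟩,
  ⟨P7, 0, [.a6], [.a6]⟩,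
  ⟨P8, 2, [.a7], [.a7, .a8]⟩,
  ⟨P9, 0, [.a7], [.a7, .a8]⟩,
  ⟨P6, 1, [.a4, .a6, .a7], [.a4, .a5, .a7, .a8]⟩,
  ⟨P7, 0, [.a4, .a6, .a7], [.a4, .a5, .a7, .a8]⟩]
def N179 : List Ent := [⟨16, [.a4], [.a4, .a5]⟩,
  ⟨32, [.a5], [.a5]⟩,
  ⟨64, [.a6], [.a6]⟩,
  ⟨128, [.a7], [.a7, .a8]⟩,
  ⟨256, [.a8], [.a8]⟩,
  ⟨512, [.a9], [.a9]⟩,
  ⟨1024, [.a10], [.a10, .a11]⟩,
  ⟨2048, [.a11], [.a11]⟩]
theorem bad179 (c : CtxF Goal γ) : Bad Goal γ [] P179 :=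
  c.toCtx.bnd (B := B179) (D := D179) (I := [1, 2, 3, 4, 0]) (r := 4) (C := C179) (N := N179) (by decide +kernel) (by decide +kernel) (by decide +kernel) (by decide +kernel)
    (allB_cons (bad5 c) (allB_cons (bad6 c) (allB_cons (bad7 c) (allB_cons (bad8 c) (allB_cons (bad9 c) (allB_cons (bad6 c) (allB_cons (bad7 c) (allB_cons (bad10 c) (allB_cons (bad11 c) (allB_cons (bad6 c) (allB_cons (bad7 c) (allB_cons (bad8 c) (allB_cons (bad9 c) (allB_cons (bad6 c) (allB_cons (bad7 c) (allB_nil))))))))))))))))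

def P180 : List Ent := [⟨32, [.a5, .a7], [.a5, .a7, .a8]⟩,
  ⟨256, [.a8], [.a8]⟩,
  ⟨512, [.a9], [.a9]⟩,
  ⟨1024, [.a10], [.a10, .a11]⟩,
  ⟨2048, [.a11], [.a11]⟩]
def B180 : List Gv := [⟨[.a5, .a7], [.a5, .a7, .a8]⟩, ⟨[.a10], [.a10, .a11]⟩]
def D180 : List Dv := [⟨[.a8], [0, 0], []⟩,
  ⟨[.a9], [2, 1], [1, 2]⟩,
  ⟨[.a11], [3, 3], []⟩]
theorem bad180 (c : CtxF Goal γ) : Bad Goal γ [] P180 :=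
  c.toCtx.cent (B := B180) (D := D180) (I := [3, 2, 1, 4, 0]) (z := [.a5]) (by decide +kernel) (by decide +kernel)

def P181 : List Ent := [⟨32, [.a5], [.a5]⟩,
  ⟨128, [.a7], [.a7, .a8]⟩,
  ⟨256, [.a8], [.a8]⟩,
  ⟨512, [.a9], [.a9]⟩,
  ⟨2048, [.a11], [.a11]⟩]
def B181 : List Gv := [⟨[.a5], [.a5]⟩, ⟨[.a7], [.a7, .a8]⟩, ⟨[.a9], [.a9]⟩, ⟨[.a11], [.a11]⟩]
def D181 : List Dv := [⟨[.a8], [1, 1], []⟩]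
theorem bad181 (c : CtxF Goal γ) : Bad Goal γ [] P181 :=
  c.toCtx.cent (B := B181) (D := D181) (I := [1, 2, 0, 3, 4]) (z := [.a6]) (by decide +kernel) (by decide +kernel)

def P182 : List Ent := [⟨32, [.a5, .a10], [.a5, .a10, .a11]⟩,
  ⟨128, [.a7], [.a7, .a8]⟩,
  ⟨256, [.a8], [.a8]⟩,
  ⟨512, [.a9], [.a9]⟩,
  ⟨2048, [.a11], [.a11]⟩]
def B182 : List Gv := [⟨[.a5, .a10], [.a5, .a10, .a11]⟩, ⟨[.a7], [.a7, .a8]⟩]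
def D182 : List Dv := [⟨[.a11], [0, 0], []⟩,
  ⟨[.a9], [2, 1], [1, 2]⟩,
  ⟨[.a8], [3, 3], []⟩]
theorem bad182 (c : CtxF Goal γ) : Bad Goal γ [] P182 :=
  c.toCtx.cent (B := B182) (D := D182) (I := [3, 4, 0, 1, 2]) (z := [.a5]) (by decide +kernel) (by decide +kernel)

def P183 : List Ent := [⟨32, [.a5], [.a5]⟩,
  ⟨128, [.a7, .a10], [.a7, .a8, .a9, .a10, .a11]⟩,
  ⟨256, [.a8], [.a8]⟩,
  ⟨512, [.a9], [.a9]⟩,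
  ⟨2048, [.a11], [.a11]⟩]
def B183 : List Gv := [⟨[.a5], [.a5]⟩, ⟨[.a7, .a10], [.a7, .a8, .a9, .a10, .a11]⟩, ⟨[.a8], [.a8]⟩, ⟨[.a9], [.a9]⟩]
def D183 : List Dv := [⟨[.a11], [3, 2, 1, 1], []⟩]
def C183 : List Ch := [⟨P12, 0, [], []⟩,
  ⟨P10, 1, [], []⟩,
  ⟨P13, 0, [], []⟩,
  ⟨P14, 2, [], []⟩,
  ⟨P15, 0, [], []⟩,
  ⟨P14, 1, [.a6], [.a6]⟩,
  ⟨P15, 0, [.a6], [.a6]⟩,
  ⟨P16, 3, [], []⟩,
  ⟨P17, 0, [], []⟩,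
  ⟨P16, 1, [.a10], [.a10, .a11]⟩,
  ⟨P17, 0, [.a10], [.a10, .a11]⟩,
  ⟨P14, 2, [.a3, .a4], [.a3, .a4, .a5]⟩,
  ⟨P15, 0, [.a3, .a4], [.a3, .a4, .a5]⟩,
  ⟨P14, 1, [.a3, .a4, .a6, .a7], [.a3, .a4, .a7, .a8]⟩,
  ⟨P15, 0, [.a3, .a4, .a6, .a7], [.a3, .a4, .a7, .a8]⟩]
def N183 : List Ent := [⟨8, [.a3, .a4], [.a3, .a4, .a5]⟩,
  ⟨32, [.a5], [.a5]⟩,
  ⟨64, [.a6], [.a6]⟩,
  ⟨128, [.a7, .a10], [.a7, .a8, .a9, .a10, .a11]⟩,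
  ⟨256, [.a8], [.a8]⟩,
  ⟨512, [.a9], [.a9]⟩,
  ⟨1024, [.a10], [.a10, .a11]⟩,
  ⟨2048, [.a11], [.a11]⟩]
theorem bad183 (c : CtxF Goal γ) : Bad Goal γ [] P183 :=
  c.toCtx.bnd (B := B183) (D := D183) (I := [1, 2, 3, 4, 0]) (r := 4) (C := C183) (N := N183) (by decide +kernel) (by decide +kernel) (by decide +kernel) (by decide +kernel)
    (allB_cons (bad12 c) (allB_cons (bad10 c) (allB_cons (bad13 c) (allB_cons (bad14 c) (allB_cons (bad15 c) (allB_cons (bad14 c) (allB_cons (bad15 c) (allB_cons (bad16 c) (allB_cons (bad17 c) (allB_cons (bad16 c) (allB_cons (bad17 c) (allB_cons (bad14 c) (allB_cons (bad15 c) (allB_cons (bad14 c) (allB_cons (bad15 c) (allB_nil))))))))))))))))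

def P184 : List Ent := [⟨32, [.a5, .a10], [.a5, .a10, .a11]⟩,
  ⟨128, [.a7, .a10], [.a7, .a8, .a9, .a10, .a11]⟩,
  ⟨256, [.a8], [.a8]⟩,
  ⟨512, [.a9], [.a9]⟩,
  ⟨2048, [.a11], [.a11]⟩]
def B184 : List Gv := [⟨[.a5, .a10], [.a5, .a10, .a11]⟩, ⟨[.a7, .a10], [.a7, .a8, .a9, .a10, .a11]⟩]
def D184 : List Dv := [⟨[.a11], [0, 0], []⟩,
  ⟨[.a9], [2, 1], [1, 2]⟩,
  ⟨[.a8, .a9, .a11], [3, 3], []⟩,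
  ⟨[.a8], [0], [1, 2]⟩]
theorem bad184 (c : CtxF Goal γ) : Bad Goal γ [] P184 :=
  c.toCtx.cent (B := B184) (D := D184) (I := [4, 5, 0, 2, 3]) (z := [.a5]) (by decide +kernel) (by decide +kernel)

def P185 : List Ent := [⟨64, [.a6], [.a6]⟩,
  ⟨256, [.a8], [.a8]⟩,
  ⟨512, [.a9], [.a9]⟩,
  ⟨1024, [.a10], [.a10, .a11]⟩,
  ⟨2048, [.a11], [.a11]⟩]
def B185 : List Gv := [⟨[.a6], [.a6]⟩, ⟨[.a9], [.a9]⟩, ⟨[.a10], [.a10, .a11]⟩]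
def D185 : List Dv := [⟨[.a8], [2, 0], [0, 2]⟩,
  ⟨[.a11], [3, 3], []⟩]
theorem bad185 (c : CtxF Goal γ) : Bad Goal γ [] P185 :=
  c.toCtx.cent (B := B185) (D := D185) (I := [2, 1, 3, 4, 0]) (z := [.a5]) (by decide +kernel) (by decide +kernel)

def P186 : List Ent := [⟨32, [.a5, .a6], [.a5, .a6]⟩,
  ⟨256, [.a8], [.a8]⟩,
  ⟨512, [.a9], [.a9]⟩,
  ⟨1024, [.a10], [.a10, .a11]⟩,
  ⟨2048, [.a11], [.a11]⟩]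
def B186 : List Gv := [⟨[.a5, .a6], [.a5, .a6]⟩, ⟨[.a9], [.a9]⟩, ⟨[.a10], [.a10, .a11]⟩]
def D186 : List Dv := [⟨[.a8], [2, 0], [0, 2]⟩,
  ⟨[.a11], [3, 3], []⟩]
theorem bad186 (c : CtxF Goal γ) : Bad Goal γ [] P186 :=
  c.toCtx.cent (B := B186) (D := D186) (I := [2, 1, 3, 4, 0]) (z := [.a5]) (by decide +kernel) (by decide +kernel)

def P187 : List Ent := [⟨32, [.a5], [.a5]⟩,
  ⟨64, [.a6], [.a6]⟩,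
  ⟨256, [.a8], [.a8]⟩,
  ⟨1024, [.a10], [.a10, .a11]⟩,
  ⟨2048, [.a11], [.a11]⟩]
def B187 : List Gv := [⟨[.a5], [.a5]⟩, ⟨[.a6], [.a6]⟩, ⟨[.a10], [.a10, .a11]⟩]
def D187 : List Dv := [⟨[.a8], [2, 1], [1, 2]⟩,
  ⟨[.a11], [3, 3], []⟩]
theorem bad187 (c : CtxF Goal γ) : Bad Goal γ [] P187 :=
  c.toCtx.cent (B := B187) (D := D187) (I := [2, 3, 1, 4, 0]) (z := [.a4]) (by decide +kernel) (by decide +kernel)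

def P188 : List Ent := [⟨32, [.a5, .a9], [.a5, .a9]⟩,
  ⟨64, [.a6], [.a6]⟩,
  ⟨256, [.a8], [.a8]⟩,
  ⟨1024, [.a10], [.a10, .a11]⟩,
  ⟨2048, [.a11], [.a11]⟩]
def B188 : List Gv := [⟨[.a5, .a9], [.a5, .a9]⟩, ⟨[.a6], [.a6]⟩, ⟨[.a10], [.a10, .a11]⟩]
def D188 : List Dv := [⟨[.a8], [2, 1], [1, 2]⟩,
  ⟨[.a11], [3, 3], []⟩]
theorem bad188 (c : CtxF Goal γ) : Bad Goal γ [] P188 :=
  c.toCtx.cent (B := B188) (D := D188) (I := [2, 3, 1, 4, 0]) (z := [.a5]) (by decide +kernel) (by decide +kernel)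

def P189 : List Ent := [⟨32, [.a5], [.a5]⟩,
  ⟨64, [.a6, .a9], [.a6, .a9]⟩,
  ⟨256, [.a8], [.a8]⟩,
  ⟨1024, [.a10], [.a10, .a11]⟩,
  ⟨2048, [.a11], [.a11]⟩]
def B189 : List Gv := [⟨[.a5], [.a5]⟩, ⟨[.a6, .a9], [.a6, .a9]⟩, ⟨[.a10], [.a10, .a11]⟩]
def D189 : List Dv := [⟨[.a8], [2, 1], [1, 2]⟩,
  ⟨[.a11], [3, 3], []⟩]
theorem bad189 (c : CtxF Goal γ) : Bad Goal γ [] P189 :=
  c.toCtx.cent (B := B189) (D := D189) (I := [2, 3, 1, 4, 0]) (z := [.a9]) (by decide +kernel) (by decide +kernel)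

def P190 : List Ent := [⟨32, [.a5, .a9], [.a5, .a9]⟩,
  ⟨64, [.a6, .a9], [.a6, .a9]⟩,
  ⟨256, [.a8], [.a8]⟩,
  ⟨1024, [.a10], [.a10, .a11]⟩,
  ⟨2048, [.a11], [.a11]⟩]
def B190 : List Gv := [⟨[.a5, .a9], [.a5, .a9]⟩, ⟨[.a6, .a9], [.a6, .a9]⟩, ⟨[.a10], [.a10, .a11]⟩]
def D190 : List Dv := [⟨[.a8], [2, 1], [1, 2]⟩,
  ⟨[.a11], [3, 3], []⟩]
theorem bad190 (c : CtxF Goal γ) : Bad Goal γ [] P190 :=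
  c.toCtx.cent (B := B190) (D := D190) (I := [2, 3, 1, 4, 0]) (z := [.a5]) (by decide +kernel) (by decide +kernel)

def P191 : List Ent := [⟨32, [.a5], [.a5]⟩,
  ⟨64, [.a6], [.a6]⟩,
  ⟨256, [.a8], [.a8]⟩,
  ⟨512, [.a9], [.a9]⟩,
  ⟨2048, [.a11], [.a11]⟩]
def B191 : List Gv := [⟨[.a5], [.a5]⟩, ⟨[.a6], [.a6]⟩, ⟨[.a8], [.a8]⟩, ⟨[.a9], [.a9]⟩, ⟨[.a11], [.a11]⟩]
def D191 : List Dv := []
theorem bad191 (c : CtxF Goal γ) : Bad Goal γ [] P191 :=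
  c.toCtx.cent (B := B191) (D := D191) (I := [0, 1, 2, 3, 4]) (z := [.a7]) (by decide +kernel) (by decide +kernel)

def P192 : List Ent := [⟨32, [.a5, .a10], [.a5, .a10, .a11]⟩,
  ⟨64, [.a6, .a10], [.a6, .a8, .a10, .a11]⟩,
  ⟨256, [.a8], [.a8]⟩,
  ⟨512, [.a9], [.a9]⟩,
  ⟨2048, [.a11], [.a11]⟩]
def B192 : List Gv := [⟨[.a5, .a10], [.a5, .a10, .a11]⟩, ⟨[.a6, .a10], [.a6, .a8, .a10, .a11]⟩, ⟨[.a9], [.a9]⟩]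
def D192 : List Dv := [⟨[.a11], [0, 0], []⟩,
  ⟨[.a8], [2, 1], [1, 2]⟩]
theorem bad192 (c : CtxF Goal γ) : Bad Goal γ [] P192 :=
  c.toCtx.cent (B := B192) (D := D192) (I := [2, 3, 0, 4, 1]) (z := [.a5]) (by decide +kernel) (by decide +kernel)

def P193 : List Ent := [⟨64, [.a6], [.a6]⟩,
  ⟨128, [.a7], [.a7, .a8]⟩,
  ⟨256, [.a8], [.a8]⟩,
  ⟨512, [.a9], [.a9]⟩,
  ⟨2048, [.a11], [.a11]⟩]
def B193 : List Gv := [⟨[.a6], [.a6]⟩, ⟨[.a7], [.a7, .a8]⟩, ⟨[.a9], [.a9]⟩, ⟨[.a11], [.a11]⟩]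
def D193 : List Dv := [⟨[.a8], [1, 1], []⟩]
theorem bad193 (c : CtxF Goal γ) : Bad Goal γ [] P193 :=
  c.toCtx.cent (B := B193) (D := D193) (I := [1, 2, 0, 3, 4]) (z := [.a5]) (by decide +kernel) (by decide +kernel)

def P194 : List Ent := [⟨32, [.a5, .a6], [.a5, .a6]⟩,
  ⟨128, [.a7], [.a7, .a8]⟩,
  ⟨256, [.a8], [.a8]⟩,
  ⟨512, [.a9], [.a9]⟩,
  ⟨2048, [.a11], [.a11]⟩]
def B194 : List Gv := [⟨[.a5, .a6], [.a5, .a6]⟩, ⟨[.a7], [.a7, .a8]⟩, ⟨[.a9], [.a9]⟩, ⟨[.a11], [.a11]⟩]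
def D194 : List Dv := [⟨[.a8], [1, 1], []⟩]
theorem bad194 (c : CtxF Goal γ) : Bad Goal γ [] P194 :=
  c.toCtx.cent (B := B194) (D := D194) (I := [1, 2, 0, 3, 4]) (z := [.a5]) (by decide +kernel) (by decide +kernel)

def P195 : List Ent := [⟨32, [.a5], [.a5]⟩,
  ⟨64, [.a6], [.a6]⟩,
  ⟨128, [.a7], [.a7, .a8]⟩,
  ⟨256, [.a8], [.a8]⟩,
  ⟨2048, [.a11], [.a11]⟩]
def B195 : List Gv := [⟨[.a5], [.a5]⟩, ⟨[.a6], [.a6]⟩, ⟨[.a7], [.a7, .a8]⟩, ⟨[.a11], [.a11]⟩]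
def D195 : List Dv := [⟨[.a8], [2, 2], []⟩]
theorem bad195 (c : CtxF Goal γ) : Bad Goal γ [] P195 :=
  c.toCtx.cent (B := B195) (D := D195) (I := [1, 2, 3, 0, 4]) (z := [.a9]) (by decide +kernel) (by decide +kernel)

def P196 : List Ent := [⟨32, [.a5], [.a5]⟩,
  ⟨64, [.a6], [.a6]⟩,
  ⟨128, [.a7], [.a7, .a8]⟩,
  ⟨256, [.a8], [.a8]⟩,
  ⟨512, [.a9], [.a9]⟩]
def B196 : List Gv := [⟨[.a5], [.a5]⟩, ⟨[.a6], [.a6]⟩, ⟨[.a7], [.a7, .a8]⟩, ⟨[.a9], [.a9]⟩]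
def D196 : List Dv := [⟨[.a8], [2, 2], []⟩]
theorem bad196 (c : CtxF Goal γ) : Bad Goal γ [] P196 :=
  c.toCtx.cent (B := B196) (D := D196) (I := [1, 2, 3, 0, 4]) (z := [.a11]) (by decide +kernel) (by decide +kernel)

def P197 : List Ent := [⟨32, [.a5], [.a5]⟩,
  ⟨64, [.a6], [.a6]⟩,
  ⟨128, [.a7, .a11], [.a7, .a8, .a11]⟩,
  ⟨256, [.a8], [.a8]⟩,
  ⟨512, [.a9], [.a9]⟩]
def B197 : List Gv := [⟨[.a5], [.a5]⟩, ⟨[.a6], [.a6]⟩, ⟨[.a7, .a11], [.a7, .a8, .a11]⟩, ⟨[.a9], [.a9]⟩]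
def D197 : List Dv := [⟨[.a8], [2, 2], []⟩]
theorem bad197 (c : CtxF Goal γ) : Bad Goal γ [] P197 :=
  c.toCtx.cent (B := B197) (D := D197) (I := [1, 2, 3, 0, 4]) (z := [.a7]) (by decide +kernel) (by decide +kernel)

def P198 : List Ent := [⟨64, [.a6], [.a6]⟩,
  ⟨128, [.a7, .a10], [.a7, .a8, .a9, .a10, .a11]⟩,
  ⟨256, [.a8], [.a8]⟩,
  ⟨512, [.a9], [.a9]⟩,
  ⟨2048, [.a11], [.a11]⟩]
def B198 : List Gv := [⟨[.a6], [.a6]⟩, ⟨[.a7, .a10], [.a7, .a8, .a9, .a10, .a11]⟩, ⟨[.a9], [.a9]⟩]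
def D198 : List Dv := [⟨[.a8], [1, 0], [0, 1]⟩,
  ⟨[.a11], [3, 0, 2, 2], []⟩]
theorem bad198 (c : CtxF Goal γ) : Bad Goal γ [] P198 :=
  c.toCtx.cent (B := B198) (D := D198) (I := [2, 3, 1, 4, 0]) (z := [.a5]) (by decide +kernel) (by decide +kernel)

def P199 : List Ent := [⟨32, [.a5, .a6], [.a5, .a6]⟩,
  ⟨128, [.a7, .a10], [.a7, .a8, .a9, .a10, .a11]⟩,
  ⟨256, [.a8], [.a8]⟩,
  ⟨512, [.a9], [.a9]⟩,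
  ⟨2048, [.a11], [.a11]⟩]
def B199 : List Gv := [⟨[.a5, .a6], [.a5, .a6]⟩, ⟨[.a7, .a10], [.a7, .a8, .a9, .a10, .a11]⟩, ⟨[.a9], [.a9]⟩]
def D199 : List Dv := [⟨[.a8], [1, 0], [0, 1]⟩,
  ⟨[.a11], [3, 0, 2, 2], []⟩]
theorem bad199 (c : CtxF Goal γ) : Bad Goal γ [] P199 :=
  c.toCtx.cent (B := B199) (D := D199) (I := [2, 3, 1, 4, 0]) (z := [.a5]) (by decide +kernel) (by decide +kernel)

end Cfsg.Agent.H782.TF.Full
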