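import Cfsg.Agent.H782.TF.Full1

/-!
# S5262, q = 2: certificate of the subgroup tree, part 2 (generated; helper782)
-/

set_option autoImplicit false
set_option maxRecDepth 100000

namespace Cfsg.Agent.H782.TF.Full

open Cfsg.Agent.H782.TF

universe u

variable {U : Type u} [Group U] {Goal : Subgroup U → Prop} {γ : ℕ → U}

def P200 : List Ent := [⟨32, [.a5, .a7, .a10], [.a5, .a7, .a8, .a9, .a10, .a11]⟩,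
  ⟨64, [.a6], [.a6]⟩,
  ⟨256, [.a8], [.a8]⟩,
  ⟨512, [.a9], [.a9]⟩,
  ⟨2048, [.a11], [.a11]⟩]
def B200 : List Gv := [⟨[.a5, .a7, .a10], [.a5, .a7, .a8, .a9, .a10, .a11]⟩, ⟨[.a6], [.a6]⟩, ⟨[.a9], [.a9]⟩]
def D200 : List Dv := [⟨[.a8, .a9, .a11], [0, 0], []⟩,
  ⟨[.a11], [3, 0, 2, 1], [1, 2]⟩,
  ⟨[.a8], [1], [4, 0]⟩]
theorem bad200 (c : CtxF Goal γ) : Bad Goal γ [] P200 :=
  c.toCtx.cent (B := B200) (D := D200) (I := [3, 4, 0, 5, 1]) (z := [.a5]) (by decide +kernel) (by decide +kernel)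

def P201 : List Ent := [⟨32, [.a5], [.a5]⟩,
  ⟨64, [.a6], [.a6]⟩,
  ⟨128, [.a7, .a10], [.a7, .a8, .a9, .a10, .a11]⟩,
  ⟨256, [.a8], [.a8]⟩,
  ⟨512, [.a9, .a11], [.a9, .a11]⟩]
def B201 : List Gv := [⟨[.a5], [.a5]⟩, ⟨[.a6], [.a6]⟩, ⟨[.a7, .a10], [.a7, .a8, .a9, .a10, .a11]⟩]
def D201 : List Dv := [⟨[.a8], [2, 1], [1, 2]⟩,
  ⟨[.a9, .a11], [0, 3, 3], []⟩]
theorem bad201 (c : CtxF Goal γ) : Bad Goal γ [] P201 :=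
  c.toCtx.cent (B := B201) (D := D201) (I := [2, 3, 4, 1, 0]) (z := [.a3, .a4]) (by decide +kernel) (by decide +kernel)

def P202 : List Ent := [⟨32, [.a5, .a11], [.a5, .a11]⟩,
  ⟨64, [.a6], [.a6]⟩,
  ⟨128, [.a7, .a10], [.a7, .a8, .a9, .a10, .a11]⟩,
  ⟨256, [.a8], [.a8]⟩,
  ⟨512, [.a9, .a11], [.a9, .a11]⟩]
def B202 : List Gv := [⟨[.a5, .a11], [.a5, .a11]⟩, ⟨[.a6], [.a6]⟩, ⟨[.a7, .a10], [.a7, .a8, .a9, .a10, .a11]⟩]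
def D202 : List Dv := [⟨[.a8], [2, 1], [1, 2]⟩,
  ⟨[.a9, .a11], [0, 3, 3], []⟩]
theorem bad202 (c : CtxF Goal γ) : Bad Goal γ [] P202 :=
  c.toCtx.cent (B := B202) (D := D202) (I := [2, 3, 4, 1, 0]) (z := [.a5]) (by decide +kernel) (by decide +kernel)

def P203 : List Ent := [⟨32, [.a5], [.a5]⟩,
  ⟨64, [.a6, .a11], [.a6, .a11]⟩,
  ⟨128, [.a7, .a10], [.a7, .a8, .a9, .a10, .a11]⟩,
  ⟨256, [.a8], [.a8]⟩,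
  ⟨512, [.a9, .a11], [.a9, .a11]⟩]
def B203 : List Gv := [⟨[.a5], [.a5]⟩, ⟨[.a6, .a11], [.a6, .a11]⟩, ⟨[.a7, .a10], [.a7, .a8, .a9, .a10, .a11]⟩]
def D203 : List Dv := [⟨[.a8], [2, 1], [1, 2]⟩,
  ⟨[.a9, .a11], [0, 3, 3], []⟩]
theorem bad203 (c : CtxF Goal γ) : Bad Goal γ [] P203 :=
  c.toCtx.cent (B := B203) (D := D203) (I := [2, 3, 4, 1, 0]) (z := [.a9]) (by decide +kernel) (by decide +kernel)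

def P204 : List Ent := [⟨32, [.a5, .a11], [.a5, .a11]⟩,
  ⟨64, [.a6, .a11], [.a6, .a11]⟩,
  ⟨128, [.a7, .a10], [.a7, .a8, .a9, .a10, .a11]⟩,
  ⟨256, [.a8], [.a8]⟩,
  ⟨512, [.a9, .a11], [.a9, .a11]⟩]
def B204 : List Gv := [⟨[.a5, .a11], [.a5, .a11]⟩, ⟨[.a6, .a11], [.a6, .a11]⟩, ⟨[.a7, .a10], [.a7, .a8, .a9, .a10, .a11]⟩]
def D204 : List Dv := [⟨[.a8], [2, 1], [1, 2]⟩,
  ⟨[.a9, .a11], [0, 3, 3], []⟩]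
theorem bad204 (c : CtxF Goal γ) : Bad Goal γ [] P204 :=
  c.toCtx.cent (B := B204) (D := D204) (I := [2, 3, 4, 1, 0]) (z := [.a5]) (by decide +kernel) (by decide +kernel)

def P205 : List Ent := [⟨16, [.a4], [.a4, .a5]⟩,
  ⟨32, [.a5], [.a5]⟩,
  ⟨256, [.a8], [.a8]⟩,
  ⟨1024, [.a10], [.a10, .a11]⟩,
  ⟨2048, [.a11], [.a11]⟩]
def B205 : List Gv := [⟨[.a4], [.a4, .a5]⟩, ⟨[.a8], [.a8]⟩, ⟨[.a10], [.a10, .a11]⟩]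
def D205 : List Dv := [⟨[.a5], [0, 0], []⟩,
  ⟨[.a11], [3, 3], []⟩]
def C205 : List Ch := [⟨P8, 0, [], []⟩,
  ⟨P18, 1, [], []⟩,
  ⟨P18, 0, [.a9], [.a9]⟩,
  ⟨P19, 2, [], []⟩,
  ⟨P16, 0, [.a1], [.a1, .a2]⟩,
  ⟨P18, 1, [.a6], [.a6]⟩,
  ⟨P18, 0, [.a6, .a9], [.a6, .a9]⟩]
def N205 : List Ent := [⟨16, [.a4], [.a4, .a5]⟩,
  ⟨32, [.a5], [.a5]⟩,
  ⟨64, [.a6], [.a6]⟩,
  ⟨256, [.a8], [.a8]⟩,
  ⟨512, [.a9], [.a9]⟩,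
  ⟨1024, [.a10], [.a10, .a11]⟩,
  ⟨2048, [.a11], [.a11]⟩]
theorem bad205 (c : CtxF Goal γ) : Bad Goal γ [] P205 :=
  c.toCtx.bnd (B := B205) (D := D205) (I := [2, 1, 3, 4, 0]) (r := 3) (C := C205) (N := N205) (by decide +kernel) (by decide +kernel) (by decide +kernel) (by decide +kernel)
    (allB_cons (bad8 c) (allB_cons (bad18 c) (allB_cons (bad18 c) (allB_cons (bad19 c) (allB_cons (bad16 c) (allB_cons (bad18 c) (allB_cons (bad18 c) (allB_nil))))))))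

def P206 : List Ent := [⟨16, [.a4, .a9], [.a4, .a5, .a8, .a9]⟩,
  ⟨32, [.a5], [.a5]⟩,
  ⟨256, [.a8], [.a8]⟩,
  ⟨1024, [.a10], [.a10, .a11]⟩,
  ⟨2048, [.a11], [.a11]⟩]
def B206 : List Gv := [⟨[.a4, .a9], [.a4, .a5, .a8, .a9]⟩, ⟨[.a5], [.a5]⟩, ⟨[.a10], [.a10, .a11]⟩]
def D206 : List Dv := [⟨[.a8], [1, 0, 0], []⟩,
  ⟨[.a11], [3, 3], []⟩]
def C206 : List Ch := [⟨P8, 0, [], []⟩,
  ⟨P20, 1, [], []⟩,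
  ⟨P20, 0, [.a4], [.a4, .a5]⟩,
  ⟨P21, 2, [], []⟩,
  ⟨P16, 0, [.a1, .a3, .a10], [.a1, .a2, .a3, .a4, .a5, .a6, .a7, .a8, .a9, .a10, .a11]⟩,
  ⟨P20, 1, [.a6], [.a6]⟩,
  ⟨P20, 0, [.a4, .a6], [.a4, .a5, .a6]⟩]
def N206 : List Ent := [⟨16, [.a4, .a9], [.a4, .a5, .a8, .a9]⟩,
  ⟨32, [.a5], [.a5]⟩,
  ⟨64, [.a6], [.a6]⟩,
  ⟨256, [.a8], [.a8]⟩,
  ⟨512, [.a9], [.a9]⟩,
  ⟨1024, [.a10], [.a10, .a11]⟩,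
  ⟨2048, [.a11], [.a11]⟩]
theorem bad206 (c : CtxF Goal γ) : Bad Goal γ [] P206 :=
  c.toCtx.bnd (B := B206) (D := D206) (I := [2, 3, 1, 4, 0]) (r := 3) (C := C206) (N := N206) (by decide +kernel) (by decide +kernel) (by decide +kernel) (by decide +kernel)
    (allB_cons (bad8 c) (allB_cons (bad20 c) (allB_cons (bad20 c) (allB_cons (bad21 c) (allB_cons (bad16 c) (allB_cons (bad20 c) (allB_cons (bad20 c) (allB_nil))))))))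

def P207 : List Ent := [⟨16, [.a4], [.a4, .a5]⟩,
  ⟨32, [.a5], [.a5]⟩,
  ⟨256, [.a8], [.a8]⟩,
  ⟨512, [.a9], [.a9]⟩,
  ⟨2048, [.a11], [.a11]⟩]
def B207 : List Gv := [⟨[.a4], [.a4, .a5]⟩, ⟨[.a9], [.a9]⟩, ⟨[.a11], [.a11]⟩]
def D207 : List Dv := [⟨[.a5], [0, 0], []⟩,
  ⟨[.a8], [2, 1], [1, 2]⟩]
theorem bad207 (c : CtxF Goal γ) : Bad Goal γ [] P207 :=
  c.toCtx.cent (B := B207) (D := D207) (I := [2, 1, 0, 3, 4]) (z := [.a6]) (by decide +kernel) (by decide +kernel)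

def P208 : List Ent := [⟨16, [.a4], [.a4, .a5]⟩,
  ⟨32, [.a5], [.a5]⟩,
  ⟨256, [.a8], [.a8]⟩,
  ⟨512, [.a9, .a10], [.a9, .a10, .a11]⟩,
  ⟨2048, [.a11], [.a11]⟩]
def B208 : List Gv := [⟨[.a4], [.a4, .a5]⟩, ⟨[.a9, .a10], [.a9, .a10, .a11]⟩]
def D208 : List Dv := [⟨[.a5], [0, 0], []⟩,
  ⟨[.a8], [2, 1], [1, 2]⟩,
  ⟨[.a11], [3, 3], []⟩]
theorem bad208 (c : CtxF Goal γ) : Bad Goal γ [] P208 :=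
  c.toCtx.cent (B := B208) (D := D208) (I := [3, 2, 1, 4, 0]) (z := [.a4, .a6]) (by decide +kernel) (by decide +kernel)

def P209 : List Ent := [⟨16, [.a4, .a10], [.a4, .a5, .a10, .a11]⟩,
  ⟨32, [.a5], [.a5]⟩,
  ⟨256, [.a8], [.a8]⟩,
  ⟨512, [.a9, .a10], [.a9, .a10, .a11]⟩,
  ⟨2048, [.a11], [.a11]⟩]
def B209 : List Gv := [⟨[.a4, .a10], [.a4, .a5, .a10, .a11]⟩, ⟨[.a9, .a10], [.a9, .a10, .a11]⟩]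
def D209 : List Dv := [⟨[.a5, .a11], [0, 0], []⟩,
  ⟨[.a8], [2, 1], [1, 2]⟩,
  ⟨[.a11], [3, 3], []⟩,
  ⟨[.a5], [2], [0]⟩]
theorem bad209 (c : CtxF Goal γ) : Bad Goal γ [] P209 :=
  c.toCtx.cent (B := B209) (D := D209) (I := [4, 0, 2, 5, 1]) (z := [.a4, .a6, .a9]) (by decide +kernel) (by decide +kernel)

def P210 : List Ent := [⟨16, [.a4], [.a4, .a5]⟩,
  ⟨32, [.a5], [.a5]⟩,
  ⟨64, [.a6], [.a6]⟩,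
  ⟨256, [.a8], [.a8]⟩,
  ⟨2048, [.a11], [.a11]⟩]
def B210 : List Gv := [⟨[.a4], [.a4, .a5]⟩, ⟨[.a6], [.a6]⟩, ⟨[.a8], [.a8]⟩, ⟨[.a11], [.a11]⟩]
def D210 : List Dv := [⟨[.a5], [0, 0], []⟩]
def C210 : List Ch := [⟨P22, 0, [], []⟩,
  ⟨P19, 1, [], []⟩,
  ⟨P19, 0, [.a7], [.a7, .a8]⟩,
  ⟨P23, 2, [], []⟩,
  ⟨P23, 0, [.a9], [.a9]⟩,
  ⟨P23, 1, [.a10], [.a10, .a11]⟩,
  ⟨P23, 0, [.a7, .a10], [.a7, .a8, .a9, .a10, .a11]⟩,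
  ⟨P24, 3, [], []⟩,
  ⟨P25, 0, [], []⟩,
  ⟨P19, 1, [.a2], [.a2]⟩,
  ⟨P19, 0, [.a2, .a3, .a7], [.a2, .a3, .a5, .a7, .a8]⟩,
  ⟨P23, 2, [.a3], [.a3]⟩,
  ⟨P23, 0, [.a3, .a9], [.a3, .a9]⟩,
  ⟨P23, 1, [.a3, .a10], [.a3, .a5, .a6, .a8, .a10, .a11]⟩,
  ⟨P23, 0, [.a3, .a7, .a10], [.a3, .a6, .a7, .a9, .a10, .a11]⟩]
def N210 : List Ent := [⟨4, [.a2], [.a2]⟩,
  ⟨8, [.a3], [.a3]⟩,
  ⟨16, [.a4], [.a4, .a5]⟩,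
  ⟨32, [.a5], [.a5]⟩,
  ⟨64, [.a6], [.a6]⟩,
  ⟨128, [.a7], [.a7, .a8]⟩,
  ⟨256, [.a8], [.a8]⟩,
  ⟨512, [.a9], [.a9]⟩,
  ⟨1024, [.a10], [.a10, .a11]⟩,
  ⟨2048, [.a11], [.a11]⟩]
theorem bad210 (c : CtxF Goal γ) : Bad Goal γ [] P210 :=
  c.toCtx.bnd (B := B210) (D := D210) (I := [1, 0, 2, 3, 4]) (r := 4) (C := C210) (N := N210) (by decide +kernel) (by decide +kernel) (by decide +kernel) (by decide +kernel)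
    (allB_cons (bad22 c) (allB_cons (bad19 c) (allB_cons (bad19 c) (allB_cons (bad23 c) (allB_cons (bad23 c) (allB_cons (bad23 c) (allB_cons (bad23 c) (allB_cons (bad24 c) (allB_cons (bad25 c) (allB_cons (bad19 c) (allB_cons (bad19 c) (allB_cons (bad23 c) (allB_cons (bad23 c) (allB_cons (bad23 c) (allB_cons (bad23 c) (allB_nil))))))))))))))))

def P211 : List Ent := [⟨16, [.a4, .a9], [.a4, .a5, .a8, .a9]⟩,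
  ⟨32, [.a5], [.a5]⟩,
  ⟨64, [.a6], [.a6]⟩,
  ⟨256, [.a8], [.a8]⟩,
  ⟨2048, [.a11], [.a11]⟩]
def B211 : List Gv := [⟨[.a4, .a9], [.a4, .a5, .a8, .a9]⟩, ⟨[.a5], [.a5]⟩, ⟨[.a6], [.a6]⟩, ⟨[.a11], [.a11]⟩]
def D211 : List Dv := [⟨[.a8], [1, 0, 0], []⟩]
def C211 : List Ch := [⟨P22, 0, [], []⟩,
  ⟨P26, 1, [], []⟩,
  ⟨P26, 0, [.a4], [.a4, .a5]⟩,
  ⟨P21, 2, [], []⟩,
  ⟨P21, 0, [.a7], [.a7, .a8]⟩,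
  ⟨P26, 1, [.a10], [.a10, .a11]⟩,
  ⟨P26, 0, [.a4, .a10], [.a4, .a5, .a10, .a11]⟩,
  ⟨P27, 3, [], []⟩,
  ⟨P28, 0, [], []⟩,
  ⟨P26, 1, [.a3], [.a3]⟩,
  ⟨P26, 0, [.a3, .a4], [.a3, .a4, .a5]⟩,
  ⟨P21, 2, [.a2], [.a2]⟩,
  ⟨P21, 0, [.a2, .a3, .a7], [.a2, .a3, .a5, .a7, .a8]⟩,
  ⟨P26, 1, [.a3, .a10], [.a3, .a5, .a6, .a8, .a10, .a11]⟩,
  ⟨P26, 0, [.a2, .a10], [.a2, .a3, .a5, .a8, .a10, .a11]⟩]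
def N211 : List Ent := [⟨4, [.a2], [.a2]⟩,
  ⟨8, [.a3], [.a3]⟩,
  ⟨16, [.a4, .a9], [.a4, .a5, .a8, .a9]⟩,
  ⟨32, [.a5], [.a5]⟩,
  ⟨64, [.a6], [.a6]⟩,
  ⟨128, [.a7], [.a7, .a8]⟩,
  ⟨256, [.a8], [.a8]⟩,
  ⟨512, [.a9], [.a9]⟩,
  ⟨1024, [.a10], [.a10, .a11]⟩,
  ⟨2048, [.a11], [.a11]⟩]
theorem bad211 (c : CtxF Goal γ) : Bad Goal γ [] P211 :=
  c.toCtx.bnd (B := B211) (D := D211) (I := [1, 2, 3, 0, 4]) (r := 4) (C := C211) (N := N211) (by decide +kernel) (by decide +kernel) (by decide +kernel) (by decide +kernel)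
    (allB_cons (bad22 c) (allB_cons (bad26 c) (allB_cons (bad26 c) (allB_cons (bad21 c) (allB_cons (bad21 c) (allB_cons (bad26 c) (allB_cons (bad26 c) (allB_cons (bad27 c) (allB_cons (bad28 c) (allB_cons (bad26 c) (allB_cons (bad26 c) (allB_cons (bad21 c) (allB_cons (bad21 c) (allB_cons (bad26 c) (allB_cons (bad26 c) (allB_nil))))))))))))))))

def P212 : List Ent := [⟨16, [.a4], [.a4, .a5]⟩,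
  ⟨32, [.a5], [.a5]⟩,
  ⟨64, [.a6, .a9], [.a6, .a9]⟩,
  ⟨256, [.a8], [.a8]⟩,
  ⟨2048, [.a11], [.a11]⟩]
def B212 : List Gv := [⟨[.a4], [.a4, .a5]⟩, ⟨[.a6, .a9], [.a6, .a9]⟩, ⟨[.a11], [.a11]⟩]
def D212 : List Dv := [⟨[.a5], [0, 0], []⟩,
  ⟨[.a8], [2, 1], [1, 2]⟩]
theorem bad212 (c : CtxF Goal γ) : Bad Goal γ [] P212 :=
  c.toCtx.cent (B := B212) (D := D212) (I := [2, 1, 3, 0, 4]) (z := [.a6]) (by decide +kernel) (by decide +kernel)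

def P213 : List Ent := [⟨16, [.a4], [.a4, .a5]⟩,
  ⟨32, [.a5], [.a5]⟩,
  ⟨64, [.a6], [.a6]⟩,
  ⟨256, [.a8], [.a8]⟩,
  ⟨512, [.a9], [.a9]⟩]
def B213 : List Gv := [⟨[.a4], [.a4, .a5]⟩, ⟨[.a6], [.a6]⟩, ⟨[.a9], [.a9]⟩]
def D213 : List Dv := [⟨[.a5], [0, 0], []⟩,
  ⟨[.a8], [3, 1], [1, 3]⟩]
theorem bad213 (c : CtxF Goal γ) : Bad Goal γ [] P213 :=
  c.toCtx.cent (B := B213) (D := D213) (I := [2, 1, 3, 0, 4]) (z := [.a3]) (by decide +kernel) (by decide +kernel)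

def P214 : List Ent := [⟨16, [.a4, .a11], [.a4, .a5, .a11]⟩,
  ⟨32, [.a5], [.a5]⟩,
  ⟨64, [.a6], [.a6]⟩,
  ⟨256, [.a8], [.a8]⟩,
  ⟨512, [.a9], [.a9]⟩]
def B214 : List Gv := [⟨[.a4, .a11], [.a4, .a5, .a11]⟩, ⟨[.a6], [.a6]⟩, ⟨[.a9], [.a9]⟩]
def D214 : List Dv := [⟨[.a5], [0, 0], []⟩,
  ⟨[.a8], [3, 1], [1, 3]⟩]
theorem bad214 (c : CtxF Goal γ) : Bad Goal γ [] P214 :=
  c.toCtx.cent (B := B214) (D := D214) (I := [2, 1, 3, 0, 4]) (z := [.a3, .a9]) (by decide +kernel) (by decide +kernel)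

def P215 : List Ent := [⟨16, [.a4], [.a4, .a5]⟩,
  ⟨32, [.a5], [.a5]⟩,
  ⟨64, [.a6], [.a6]⟩,
  ⟨256, [.a8], [.a8]⟩,
  ⟨512, [.a9, .a11], [.a9, .a11]⟩]
def B215 : List Gv := [⟨[.a4], [.a4, .a5]⟩, ⟨[.a6], [.a6]⟩, ⟨[.a9, .a11], [.a9, .a11]⟩]
def D215 : List Dv := [⟨[.a5], [0, 0], []⟩,
  ⟨[.a8], [3, 1], [1, 3]⟩]
theorem bad215 (c : CtxF Goal γ) : Bad Goal γ [] P215 :=
  c.toCtx.cent (B := B215) (D := D215) (I := [2, 1, 3, 0, 4]) (z := [.a3, .a4]) (by decide +kernel) (by decide +kernel)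

def P216 : List Ent := [⟨16, [.a4, .a11], [.a4, .a5, .a11]⟩,
  ⟨32, [.a5], [.a5]⟩,
  ⟨64, [.a6], [.a6]⟩,
  ⟨256, [.a8], [.a8]⟩,
  ⟨512, [.a9, .a11], [.a9, .a11]⟩]
def B216 : List Gv := [⟨[.a4, .a11], [.a4, .a5, .a11]⟩, ⟨[.a6], [.a6]⟩, ⟨[.a9, .a11], [.a9, .a11]⟩]
def D216 : List Dv := [⟨[.a5], [0, 0], []⟩,
  ⟨[.a8], [3, 1], [1, 3]⟩]
theorem bad216 (c : CtxF Goal γ) : Bad Goal γ [] P216 :=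
  c.toCtx.cent (B := B216) (D := D216) (I := [2, 1, 3, 0, 4]) (z := [.a3, .a4, .a9]) (by decide +kernel) (by decide +kernel)

def P217 : List Ent := [⟨16, [.a4, .a7], [.a4, .a5, .a6, .a7, .a8]⟩,
  ⟨32, [.a5, .a6], [.a5, .a6]⟩,
  ⟨256, [.a8], [.a8]⟩,
  ⟨512, [.a9], [.a9]⟩,
  ⟨2048, [.a11], [.a11]⟩]
def B217 : List Gv := [⟨[.a4, .a7], [.a4, .a5, .a6, .a7, .a8]⟩, ⟨[.a9], [.a9]⟩, ⟨[.a11], [.a11]⟩]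
def D217 : List Dv := [⟨[.a5, .a6, .a8], [0, 0], []⟩,
  ⟨[.a8], [2, 1], [1, 2]⟩,
  ⟨[.a5, .a6], [1], [0]⟩]
theorem bad217 (c : CtxF Goal γ) : Bad Goal γ [] P217 :=
  c.toCtx.cent (B := B217) (D := D217) (I := [3, 0, 1, 4, 5]) (z := [.a5]) (by decide +kernel) (by decide +kernel)

def P218 : List Ent := [⟨16, [.a4, .a7], [.a4, .a5, .a6, .a7, .a8]⟩,
  ⟨32, [.a5], [.a5]⟩,
  ⟨64, [.a6], [.a6]⟩,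
  ⟨256, [.a8], [.a8]⟩,
  ⟨2048, [.a11], [.a11]⟩]
def B218 : List Gv := [⟨[.a4, .a7], [.a4, .a5, .a6, .a7, .a8]⟩, ⟨[.a5], [.a5]⟩, ⟨[.a6], [.a6]⟩, ⟨[.a11], [.a11]⟩]
def D218 : List Dv := [⟨[.a8], [2, 1, 0, 0], []⟩]
def C218 : List Ch := [⟨P22, 0, [], []⟩,
  ⟨P29, 1, [], []⟩,
  ⟨P29, 0, [.a9], [.a9]⟩,
  ⟨P30, 2, [], []⟩,
  ⟨P30, 0, [.a4], [.a4, .a5]⟩,
  ⟨P31, 1, [], []⟩,
  ⟨P31, 0, [.a4], [.a4, .a5]⟩,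
  ⟨P32, 3, [], []⟩,
  ⟨P33, 0, [], []⟩,
  ⟨P29, 1, [.a3, .a9], [.a3, .a9]⟩,
  ⟨P29, 0, [.a3], [.a3]⟩,
  ⟨P30, 2, [.a3], [.a3]⟩,
  ⟨P30, 0, [.a3, .a4], [.a3, .a4, .a5]⟩,
  ⟨P34, 1, [], []⟩,
  ⟨P34, 0, [.a4], [.a4, .a5]⟩]
def N218 : List Ent := [⟨4, [.a2], [.a2]⟩,
  ⟨8, [.a3], [.a3]⟩,
  ⟨16, [.a4, .a7], [.a4, .a5, .a6, .a7, .a8]⟩,
  ⟨32, [.a5], [.a5]⟩,
  ⟨64, [.a6], [.a6]⟩,
  ⟨128, [.a7], [.a7, .a8]⟩,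
  ⟨256, [.a8], [.a8]⟩,
  ⟨512, [.a9], [.a9]⟩,
  ⟨2048, [.a11], [.a11]⟩]
theorem bad218 (c : CtxF Goal γ) : Bad Goal γ [] P218 :=
  c.toCtx.bnd (B := B218) (D := D218) (I := [1, 2, 3, 0, 4]) (r := 4) (C := C218) (N := N218) (by decide +kernel) (by decide +kernel) (by decide +kernel) (by decide +kernel)
    (allB_cons (bad22 c) (allB_cons (bad29 c) (allB_cons (bad29 c) (allB_cons (bad30 c) (allB_cons (bad30 c) (allB_cons (bad31 c) (allB_cons (bad31 c) (allB_cons (bad32 c) (allB_cons (bad33 c) (allB_cons (bad29 c) (allB_cons (bad29 c) (allB_cons (bad30 c) (allB_cons (bad30 c) (allB_cons (bad34 c) (allB_cons (bad34 c) (allB_nil))))))))))))))))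

def P219 : List Ent := [⟨16, [.a4, .a7], [.a4, .a5, .a6, .a7, .a8]⟩,
  ⟨32, [.a5], [.a5]⟩,
  ⟨64, [.a6], [.a6]⟩,
  ⟨256, [.a8], [.a8]⟩,
  ⟨512, [.a9], [.a9]⟩]
def B219 : List Gv := [⟨[.a4, .a7], [.a4, .a5, .a6, .a7, .a8]⟩, ⟨[.a5], [.a5]⟩, ⟨[.a9], [.a9]⟩]
def D219 : List Dv := [⟨[.a6, .a8], [1, 0, 0], []⟩,
  ⟨[.a8], [3, 1], [1, 3]⟩,
  ⟨[.a6], [1], [0]⟩]
theorem bad219 (c : CtxF Goal γ) : Bad Goal γ [] P219 :=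
  c.toCtx.cent (B := B219) (D := D219) (I := [3, 4, 0, 1, 5]) (z := [.a11]) (by decide +kernel) (by decide +kernel)

def P220 : List Ent := [⟨16, [.a4, .a7, .a11], [.a4, .a5, .a6, .a7, .a8, .a11]⟩,
  ⟨32, [.a5], [.a5]⟩,
  ⟨64, [.a6], [.a6]⟩,
  ⟨256, [.a8], [.a8]⟩,
  ⟨512, [.a9], [.a9]⟩]
def B220 : List Gv := [⟨[.a4, .a7, .a11], [.a4, .a5, .a6, .a7, .a8, .a11]⟩, ⟨[.a5], [.a5]⟩, ⟨[.a9], [.a9]⟩]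
def D220 : List Dv := [⟨[.a6, .a8], [1, 0, 0], []⟩,
  ⟨[.a8], [3, 1], [1, 3]⟩,
  ⟨[.a6], [1], [0]⟩]
theorem bad220 (c : CtxF Goal γ) : Bad Goal γ [] P220 :=
  c.toCtx.cent (B := B220) (D := D220) (I := [3, 4, 0, 1, 5]) (z := [.a11]) (by decide +kernel) (by decide +kernel)

def P221 : List Ent := [⟨16, [.a4, .a7], [.a4, .a5, .a6, .a7, .a8]⟩,
  ⟨32, [.a5, .a11], [.a5, .a11]⟩,
  ⟨64, [.a6, .a11], [.a6, .a11]⟩,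
  ⟨256, [.a8], [.a8]⟩,
  ⟨512, [.a9], [.a9]⟩]
def B221 : List Gv := [⟨[.a4, .a7], [.a4, .a5, .a6, .a7, .a8]⟩, ⟨[.a5, .a11], [.a5, .a11]⟩, ⟨[.a9], [.a9]⟩]
def D221 : List Dv := [⟨[.a6, .a8, .a11], [1, 0, 0], []⟩,
  ⟨[.a8], [3, 1], [1, 3]⟩,
  ⟨[.a6, .a11], [1], [0]⟩]
theorem bad221 (c : CtxF Goal γ) : Bad Goal γ [] P221 :=
  c.toCtx.cent (B := B221) (D := D221) (I := [3, 4, 0, 1, 5]) (z := [.a5]) (by decide +kernel) (by decide +kernel)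

def P222 : List Ent := [⟨16, [.a4, .a7], [.a4, .a5, .a6, .a7, .a8]⟩,
  ⟨32, [.a5], [.a5]⟩,
  ⟨64, [.a6], [.a6]⟩,
  ⟨256, [.a8], [.a8]⟩,
  ⟨512, [.a9, .a11], [.a9, .a11]⟩]
def B222 : List Gv := [⟨[.a4, .a7], [.a4, .a5, .a6, .a7, .a8]⟩, ⟨[.a5], [.a5]⟩, ⟨[.a9, .a11], [.a9, .a11]⟩]
def D222 : List Dv := [⟨[.a6, .a8], [1, 0, 0], []⟩,
  ⟨[.a8], [3, 1], [1, 3]⟩,
  ⟨[.a6], [1], [0]⟩]
theorem bad222 (c : CtxF Goal γ) : Bad Goal γ [] P222 :=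
  c.toCtx.cent (B := B222) (D := D222) (I := [3, 4, 0, 1, 5]) (z := [.a11]) (by decide +kernel) (by decide +kernel)

def P223 : List Ent := [⟨16, [.a4], [.a4, .a5]⟩,
  ⟨32, [.a5], [.a5]⟩,
  ⟨64, [.a6], [.a6]⟩,
  ⟨128, [.a7], [.a7, .a8]⟩,
  ⟨256, [.a8], [.a8]⟩]
def B223 : List Gv := [⟨[.a4], [.a4, .a5]⟩, ⟨[.a7], [.a7, .a8]⟩]
def D223 : List Dv := [⟨[.a5], [0, 0], []⟩,
  ⟨[.a6], [2, 1], [1, 2]⟩,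
  ⟨[.a8], [3, 3], []⟩]
theorem bad223 (c : CtxF Goal γ) : Bad Goal γ [] P223 :=
  c.toCtx.cent (B := B223) (D := D223) (I := [3, 2, 1, 4, 0]) (z := [.a2]) (by decide +kernel) (by decide +kernel)

def P224 : List Ent := [⟨16, [.a4, .a11], [.a4, .a5, .a11]⟩,
  ⟨32, [.a5], [.a5]⟩,
  ⟨64, [.a6], [.a6]⟩,
  ⟨128, [.a7], [.a7, .a8]⟩,
  ⟨256, [.a8], [.a8]⟩]
def B224 : List Gv := [⟨[.a4, .a11], [.a4, .a5, .a11]⟩, ⟨[.a7], [.a7, .a8]⟩]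
def D224 : List Dv := [⟨[.a5], [0, 0], []⟩,
  ⟨[.a6], [2, 1], [1, 2]⟩,
  ⟨[.a8], [3, 3], []⟩]
theorem bad224 (c : CtxF Goal γ) : Bad Goal γ [] P224 :=
  c.toCtx.cent (B := B224) (D := D224) (I := [3, 2, 1, 4, 0]) (z := [.a11]) (by decide +kernel) (by decide +kernel)

def P225 : List Ent := [⟨16, [.a4], [.a4, .a5]⟩,
  ⟨32, [.a5], [.a5]⟩,
  ⟨64, [.a6], [.a6]⟩,
  ⟨128, [.a7, .a11], [.a7, .a8, .a11]⟩,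
  ⟨256, [.a8], [.a8]⟩]
def B225 : List Gv := [⟨[.a4], [.a4, .a5]⟩, ⟨[.a7, .a11], [.a7, .a8, .a11]⟩]
def D225 : List Dv := [⟨[.a5], [0, 0], []⟩,
  ⟨[.a6], [2, 1], [1, 2]⟩,
  ⟨[.a8], [3, 3], []⟩]
theorem bad225 (c : CtxF Goal γ) : Bad Goal γ [] P225 :=
  c.toCtx.cent (B := B225) (D := D225) (I := [3, 2, 1, 4, 0]) (z := [.a2, .a3, .a4]) (by decide +kernel) (by decide +kernel)

def P226 : List Ent := [⟨16, [.a4, .a11], [.a4, .a5, .a11]⟩,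
  ⟨32, [.a5], [.a5]⟩,
  ⟨64, [.a6], [.a6]⟩,
  ⟨128, [.a7, .a11], [.a7, .a8, .a11]⟩,
  ⟨256, [.a8], [.a8]⟩]
def B226 : List Gv := [⟨[.a4, .a11], [.a4, .a5, .a11]⟩, ⟨[.a7, .a11], [.a7, .a8, .a11]⟩]
def D226 : List Dv := [⟨[.a5], [0, 0], []⟩,
  ⟨[.a6], [2, 1], [1, 2]⟩,
  ⟨[.a8], [3, 3], []⟩]
theorem bad226 (c : CtxF Goal γ) : Bad Goal γ [] P226 :=
  c.toCtx.cent (B := B226) (D := D226) (I := [3, 2, 1, 4, 0]) (z := [.a11]) (by decide +kernel) (by decide +kernel)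

def P227 : List Ent := [⟨16, [.a4, .a9], [.a4, .a5, .a8, .a9]⟩,
  ⟨32, [.a5], [.a5]⟩,
  ⟨64, [.a6], [.a6]⟩,
  ⟨128, [.a7], [.a7, .a8]⟩,
  ⟨256, [.a8], [.a8]⟩]
def B227 : List Gv := [⟨[.a4, .a9], [.a4, .a5, .a8, .a9]⟩, ⟨[.a7], [.a7, .a8]⟩]
def D227 : List Dv := [⟨[.a5, .a8], [0, 0], []⟩,
  ⟨[.a6], [2, 1], [1, 2]⟩,
  ⟨[.a8], [3, 3], []⟩,
  ⟨[.a5], [2], [0]⟩]
theorem bad227 (c : CtxF Goal γ) : Bad Goal γ [] P227 :=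
  c.toCtx.cent (B := B227) (D := D227) (I := [4, 0, 2, 5, 1]) (z := [.a11]) (by decide +kernel) (by decide +kernel)

def P228 : List Ent := [⟨16, [.a4, .a9, .a11], [.a4, .a5, .a8, .a9, .a11]⟩,
  ⟨32, [.a5], [.a5]⟩,
  ⟨64, [.a6], [.a6]⟩,
  ⟨128, [.a7], [.a7, .a8]⟩,
  ⟨256, [.a8], [.a8]⟩]
def B228 : List Gv := [⟨[.a4, .a9, .a11], [.a4, .a5, .a8, .a9, .a11]⟩, ⟨[.a7], [.a7, .a8]⟩]
def D228 : List Dv := [⟨[.a5, .a8], [0, 0], []⟩,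
  ⟨[.a6], [2, 1], [1, 2]⟩,
  ⟨[.a8], [3, 3], []⟩,
  ⟨[.a5], [2], [0]⟩]
theorem bad228 (c : CtxF Goal γ) : Bad Goal γ [] P228 :=
  c.toCtx.cent (B := B228) (D := D228) (I := [4, 0, 2, 5, 1]) (z := [.a2, .a7, .a9]) (by decide +kernel) (by decide +kernel)

def P229 : List Ent := [⟨16, [.a4, .a9], [.a4, .a5, .a8, .a9]⟩,
  ⟨32, [.a5], [.a5]⟩,
  ⟨64, [.a6], [.a6]⟩,
  ⟨128, [.a7, .a11], [.a7, .a8, .a11]⟩,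
  ⟨256, [.a8], [.a8]⟩]
def B229 : List Gv := [⟨[.a4, .a9], [.a4, .a5, .a8, .a9]⟩, ⟨[.a7, .a11], [.a7, .a8, .a11]⟩]
def D229 : List Dv := [⟨[.a5, .a8], [0, 0], []⟩,
  ⟨[.a6], [2, 1], [1, 2]⟩,
  ⟨[.a8], [3, 3], []⟩,
  ⟨[.a5], [2], [0]⟩]
theorem bad229 (c : CtxF Goal γ) : Bad Goal γ [] P229 :=
  c.toCtx.cent (B := B229) (D := D229) (I := [4, 0, 2, 5, 1]) (z := [.a11]) (by decide +kernel) (by decide +kernel)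

def P230 : List Ent := [⟨16, [.a4, .a9, .a11], [.a4, .a5, .a8, .a9, .a11]⟩,
  ⟨32, [.a5], [.a5]⟩,
  ⟨64, [.a6], [.a6]⟩,
  ⟨128, [.a7, .a11], [.a7, .a8, .a11]⟩,
  ⟨256, [.a8], [.a8]⟩]
def B230 : List Gv := [⟨[.a4, .a9, .a11], [.a4, .a5, .a8, .a9, .a11]⟩, ⟨[.a7, .a11], [.a7, .a8, .a11]⟩]
def D230 : List Dv := [⟨[.a5, .a8], [0, 0], []⟩,
  ⟨[.a6], [2, 1], [1, 2]⟩,
  ⟨[.a8], [3, 3], []⟩,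
  ⟨[.a5], [2], [0]⟩]
theorem bad230 (c : CtxF Goal γ) : Bad Goal γ [] P230 :=
  c.toCtx.cent (B := B230) (D := D230) (I := [4, 0, 2, 5, 1]) (z := [.a2, .a3, .a4, .a7, .a9]) (by decide +kernel) (by decide +kernel)

def P231 : List Ent := [⟨8, [.a3], [.a3]⟩,
  ⟨64, [.a6], [.a6]⟩,
  ⟨256, [.a8], [.a8]⟩,
  ⟨512, [.a9], [.a9]⟩,
  ⟨2048, [.a11], [.a11]⟩]
def B231 : List Gv := [⟨[.a3], [.a3]⟩, ⟨[.a6], [.a6]⟩, ⟨[.a9], [.a9]⟩, ⟨[.a11], [.a11]⟩]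
def D231 : List Dv := [⟨[.a8], [3, 0], [0, 3]⟩]
theorem bad231 (c : CtxF Goal γ) : Bad Goal γ [] P231 :=
  c.toCtx.cent (B := B231) (D := D231) (I := [1, 2, 0, 3, 4]) (z := [.a5]) (by decide +kernel) (by decide +kernel)

def P232 : List Ent := [⟨8, [.a3], [.a3]⟩,
  ⟨32, [.a5], [.a5]⟩,
  ⟨256, [.a8], [.a8]⟩,
  ⟨512, [.a9], [.a9]⟩,
  ⟨2048, [.a11], [.a11]⟩]
def B232 : List Gv := [⟨[.a3], [.a3]⟩, ⟨[.a5], [.a5]⟩, ⟨[.a9], [.a9]⟩, ⟨[.a11], [.a11]⟩]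
def D232 : List Dv := [⟨[.a8], [3, 0], [0, 3]⟩]
theorem bad232 (c : CtxF Goal γ) : Bad Goal γ [] P232 :=
  c.toCtx.cent (B := B232) (D := D232) (I := [1, 2, 0, 3, 4]) (z := [.a6]) (by decide +kernel) (by decide +kernel)

def P233 : List Ent := [⟨8, [.a3], [.a3]⟩,
  ⟨32, [.a5, .a6], [.a5, .a6]⟩,
  ⟨256, [.a8], [.a8]⟩,
  ⟨512, [.a9], [.a9]⟩,
  ⟨2048, [.a11], [.a11]⟩]
def B233 : List Gv := [⟨[.a3], [.a3]⟩, ⟨[.a5, .a6], [.a5, .a6]⟩, ⟨[.a9], [.a9]⟩, ⟨[.a11], [.a11]⟩]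
def D233 : List Dv := [⟨[.a8], [3, 0], [0, 3]⟩]
theorem bad233 (c : CtxF Goal γ) : Bad Goal γ [] P233 :=
  c.toCtx.cent (B := B233) (D := D233) (I := [1, 2, 0, 3, 4]) (z := [.a5]) (by decide +kernel) (by decide +kernel)

def P234 : List Ent := [⟨8, [.a3], [.a3]⟩,
  ⟨32, [.a5], [.a5]⟩,
  ⟨64, [.a6], [.a6]⟩,
  ⟨256, [.a8], [.a8]⟩,
  ⟨2048, [.a11], [.a11]⟩]
def B234 : List Gv := [⟨[.a3], [.a3]⟩, ⟨[.a5], [.a5]⟩, ⟨[.a6], [.a6]⟩, ⟨[.a11], [.a11]⟩]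
def D234 : List Dv := [⟨[.a8], [3, 0], [0, 3]⟩]
theorem bad234 (c : CtxF Goal γ) : Bad Goal γ [] P234 :=
  c.toCtx.cent (B := B234) (D := D234) (I := [1, 2, 3, 0, 4]) (z := [.a4]) (by decide +kernel) (by decide +kernel)

def P235 : List Ent := [⟨8, [.a3, .a9], [.a3, .a9]⟩,
  ⟨32, [.a5], [.a5]⟩,
  ⟨64, [.a6], [.a6]⟩,
  ⟨256, [.a8], [.a8]⟩,
  ⟨2048, [.a11], [.a11]⟩]
def B235 : List Gv := [⟨[.a3, .a9], [.a3, .a9]⟩, ⟨[.a5], [.a5]⟩, ⟨[.a6], [.a6]⟩, ⟨[.a11], [.a11]⟩]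
def D235 : List Dv := [⟨[.a8], [3, 0], [0, 3]⟩]
theorem bad235 (c : CtxF Goal γ) : Bad Goal γ [] P235 :=
  c.toCtx.cent (B := B235) (D := D235) (I := [1, 2, 3, 0, 4]) (z := [.a9]) (by decide +kernel) (by decide +kernel)

def P236 : List Ent := [⟨8, [.a3], [.a3]⟩,
  ⟨32, [.a5], [.a5]⟩,
  ⟨64, [.a6], [.a6]⟩,
  ⟨256, [.a8], [.a8]⟩,
  ⟨512, [.a9], [.a9]⟩]
def B236 : List Gv := [⟨[.a3], [.a3]⟩, ⟨[.a5], [.a5]⟩, ⟨[.a6], [.a6]⟩, ⟨[.a8], [.a8]⟩, ⟨[.a9], [.a9]⟩]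
def D236 : List Dv := []
def C236 : List Ch := [⟨P35, 0, [], []⟩,
  ⟨P36, 1, [], []⟩,
  ⟨P36, 0, [.a10], [.a10, .a11]⟩,
  ⟨P37, 2, [], []⟩,
  ⟨P37, 0, [.a10], [.a10, .a11]⟩,
  ⟨P36, 1, [.a1, .a2], [.a1]⟩,
  ⟨P36, 0, [.a1, .a2, .a6, .a9, .a10], [.a1, .a3, .a4, .a7, .a10, .a11]⟩,
  ⟨P38, 3, [], []⟩,
  ⟨P38, 0, [.a11], [.a11]⟩,
  ⟨P36, 1, [.a0], [.a0]⟩,
  ⟨P36, 0, [.a0, .a2, .a3, .a7], [.a0, .a7, .a8]⟩,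
  ⟨P38, 2, [.a10, .a11], [.a10]⟩,
  ⟨P38, 0, [.a10], [.a10, .a11]⟩,
  ⟨P36, 1, [.a0, .a1, .a3, .a5, .a6, .a7, .a8, .a9, .a10], [.a0, .a10, .a11]⟩,
  ⟨P36, 0, [.a0, .a1, .a2, .a6, .a9, .a10], [.a0, .a7, .a8, .a9, .a10, .a11]⟩,
  ⟨P39, 4, [], []⟩,
  ⟨P35, 0, [.a0], [.a0]⟩,
  ⟨P36, 1, [.a2], [.a2]⟩,
  ⟨P36, 0, [.a2, .a3, .a7], [.a2, .a3, .a5, .a7, .a8]⟩,
  ⟨P37, 2, [.a0], [.a0]⟩,
  ⟨P37, 0, [.a0, .a1, .a3, .a5, .a6, .a7, .a8, .a9, .a10], [.a0, .a10, .a11]⟩,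
  ⟨P36, 1, [.a1], [.a1, .a2]⟩,
  ⟨P36, 0, [.a1, .a10], [.a1, .a2, .a4, .a5, .a7, .a9, .a10, .a11]⟩,
  ⟨P38, 3, [.a1], [.a1, .a2]⟩,
  ⟨P38, 0, [.a0, .a11], [.a0, .a2, .a3, .a4, .a5, .a6, .a7, .a9, .a11]⟩,
  ⟨P36, 1, [.a0, .a2, .a4], [.a0, .a4, .a5]⟩,
  ⟨P36, 0, [.a0, .a10], [.a0, .a1, .a2, .a3, .a4, .a6, .a8, .a9, .a10, .a11]⟩,
  ⟨P38, 2, [.a0, .a1, .a3, .a5, .a6, .a7, .a8, .a9, .a10, .a11], [.a0, .a2, .a3, .a4, .a5, .a6, .a7, .a9, .a10]⟩,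
  ⟨P38, 0, [.a4, .a10], [.a4, .a5, .a10, .a11]⟩,
  ⟨P36, 1, [.a0, .a1, .a2, .a4, .a5, .a6, .a7, .a8, .a9, .a10], [.a0, .a4, .a5, .a10, .a11]⟩,
  ⟨P36, 0, [.a0, .a1, .a3, .a5, .a6, .a7, .a8, .a9, .a11], [.a0, .a1, .a2, .a3, .a4, .a6, .a8, .a9, .a11]⟩]
def N236 : List Ent := [⟨1, [.a0], [.a0]⟩,
  ⟨2, [.a1], [.a1, .a2]⟩,
  ⟨4, [.a2], [.a2]⟩,
  ⟨8, [.a3], [.a3]⟩,
  ⟨16, [.a4], [.a4, .a5]⟩,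
  ⟨32, [.a5], [.a5]⟩,
  ⟨64, [.a6], [.a6]⟩,
  ⟨128, [.a7], [.a7, .a8]⟩,
  ⟨256, [.a8], [.a8]⟩,
  ⟨512, [.a9], [.a9]⟩,
  ⟨1024, [.a10], [.a10, .a11]⟩,
  ⟨2048, [.a11], [.a11]⟩]
theorem bad236 (c : CtxF Goal γ) : Bad Goal γ [] P236 :=
  c.toCtx.bnd (B := B236) (D := D236) (I := [0, 1, 2, 3, 4]) (r := 5) (C := C236) (N := N236) (by decide +kernel) (by decide +kernel) (by decide +kernel) (by decide +kernel)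
    (allB_cons (bad35 c) (allB_cons (bad36 c) (allB_cons (bad36 c) (allB_cons (bad37 c) (allB_cons (bad37 c) (allB_cons (bad36 c) (allB_cons (bad36 c) (allB_cons (bad38 c) (allB_cons (bad38 c) (allB_cons (bad36 c) (allB_cons (bad36 c) (allB_cons (bad38 c) (allB_cons (bad38 c) (allB_cons (bad36 c) (allB_cons (bad36 c) (allB_cons (bad39 c) (allB_cons (bad35 c) (allB_cons (bad36 c) (allB_cons (bad36 c) (allB_cons (bad37 c) (allB_cons (bad37 c) (allB_cons (bad36 c) (allB_cons (bad36 c) (allB_cons (bad38 c) (allB_cons (bad38 c) (allB_cons (bad36 c) (allB_cons (bad36 c) (allB_cons (bad38 c) (allB_cons (bad38 c) (allB_cons (bad36 c) (allB_cons (bad36 c) (allB_nil))))))))))))))))))))))))))))))))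

def P237 : List Ent := [⟨8, [.a3, .a11], [.a3, .a8, .a11]⟩,
  ⟨32, [.a5], [.a5]⟩,
  ⟨64, [.a6], [.a6]⟩,
  ⟨256, [.a8], [.a8]⟩,
  ⟨512, [.a9], [.a9]⟩]
def B237 : List Gv := [⟨[.a3, .a11], [.a3, .a8, .a11]⟩, ⟨[.a5], [.a5]⟩, ⟨[.a6], [.a6]⟩, ⟨[.a9], [.a9]⟩]
def D237 : List Dv := [⟨[.a8], [0, 0], []⟩]
def C237 : List Ch := [⟨P35, 0, [], []⟩,
  ⟨P40, 1, [], []⟩,
  ⟨P40, 0, [.a10], [.a10, .a11]⟩,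
  ⟨P41, 2, [], []⟩,
  ⟨P41, 0, [.a10], [.a10, .a11]⟩,
  ⟨P40, 1, [.a1, .a2, .a6, .a9, .a10], [.a1, .a3, .a4, .a7, .a10, .a11]⟩,
  ⟨P40, 0, [.a1, .a2], [.a1]⟩,
  ⟨P42, 3, [], []⟩,
  ⟨P42, 0, [.a1], [.a1, .a2]⟩,
  ⟨P40, 1, [.a2, .a3, .a7], [.a2, .a3, .a5, .a7, .a8]⟩,
  ⟨P40, 0, [.a2], [.a2]⟩,
  ⟨P41, 2, [.a1], [.a1, .a2]⟩,
  ⟨P41, 0, [.a1, .a10], [.a1, .a2, .a4, .a5, .a7, .a9, .a10, .a11]⟩,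
  ⟨P40, 1, [.a1, .a10], [.a1, .a2, .a4, .a5, .a7, .a9, .a10, .a11]⟩,
  ⟨P40, 0, [.a1], [.a1, .a2]⟩]
def N237 : List Ent := [⟨2, [.a1], [.a1, .a2]⟩,
  ⟨4, [.a2], [.a2]⟩,
  ⟨8, [.a3, .a11], [.a3, .a8, .a11]⟩,
  ⟨16, [.a4], [.a4, .a5]⟩,
  ⟨32, [.a5], [.a5]⟩,
  ⟨64, [.a6], [.a6]⟩,
  ⟨128, [.a7], [.a7, .a8]⟩,
  ⟨256, [.a8], [.a8]⟩,
  ⟨512, [.a9], [.a9]⟩,
  ⟨1024, [.a10], [.a10, .a11]⟩,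
  ⟨2048, [.a11], [.a11]⟩]
theorem bad237 (c : CtxF Goal γ) : Bad Goal γ [] P237 :=
  c.toCtx.bnd (B := B237) (D := D237) (I := [1, 2, 3, 0, 4]) (r := 4) (C := C237) (N := N237) (by decide +kernel) (by decide +kernel) (by decide +kernel) (by decide +kernel)
    (allB_cons (bad35 c) (allB_cons (bad40 c) (allB_cons (bad40 c) (allB_cons (bad41 c) (allB_cons (bad41 c) (allB_cons (bad40 c) (allB_cons (bad40 c) (allB_cons (bad42 c) (allB_cons (bad42 c) (allB_cons (bad40 c) (allB_cons (bad40 c) (allB_cons (bad41 c) (allB_cons (bad41 c) (allB_cons (bad40 c) (allB_cons (bad40 c) (allB_nil))))))))))))))))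

def P238 : List Ent := [⟨8, [.a3, .a7], [.a3, .a5, .a7, .a8]⟩,
  ⟨32, [.a5], [.a5]⟩,
  ⟨256, [.a8], [.a8]⟩,
  ⟨512, [.a9], [.a9]⟩,
  ⟨2048, [.a11], [.a11]⟩]
def B238 : List Gv := [⟨[.a3, .a7], [.a3, .a5, .a7, .a8]⟩, ⟨[.a9], [.a9]⟩, ⟨[.a11], [.a11]⟩]
def D238 : List Dv := [⟨[.a5, .a8], [0, 0], []⟩,
  ⟨[.a8], [3, 1], [1, 3]⟩,
  ⟨[.a5], [1], [0]⟩]
theorem bad238 (c : CtxF Goal γ) : Bad Goal γ [] P238 :=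
  c.toCtx.cent (B := B238) (D := D238) (I := [3, 0, 1, 4, 5]) (z := [.a6]) (by decide +kernel) (by decide +kernel)

def P239 : List Ent := [⟨8, [.a3, .a7], [.a3, .a5, .a7, .a8]⟩,
  ⟨32, [.a5], [.a5]⟩,
  ⟨64, [.a6], [.a6]⟩,
  ⟨256, [.a8], [.a8]⟩,
  ⟨2048, [.a11], [.a11]⟩]
def B239 : List Gv := [⟨[.a3, .a7], [.a3, .a5, .a7, .a8]⟩, ⟨[.a6], [.a6]⟩, ⟨[.a11], [.a11]⟩]
def D239 : List Dv := [⟨[.a5, .a8], [0, 0], []⟩,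
  ⟨[.a8], [3, 1], [1, 3]⟩,
  ⟨[.a5], [1], [0]⟩]
theorem bad239 (c : CtxF Goal γ) : Bad Goal γ [] P239 :=
  c.toCtx.cent (B := B239) (D := D239) (I := [3, 0, 4, 1, 5]) (z := [.a9]) (by decide +kernel) (by decide +kernel)

def P240 : List Ent := [⟨8, [.a3, .a7], [.a3, .a5, .a7, .a8]⟩,
  ⟨32, [.a5], [.a5]⟩,
  ⟨64, [.a6], [.a6]⟩,
  ⟨256, [.a8], [.a8]⟩,
  ⟨512, [.a9], [.a9]⟩]
def B240 : List Gv := [⟨[.a3, .a7], [.a3, .a5, .a7, .a8]⟩, ⟨[.a5], [.a5]⟩, ⟨[.a6], [.a6]⟩, ⟨[.a9], [.a9]⟩]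
def D240 : List Dv := [⟨[.a8], [1, 0, 0], []⟩]
def C240 : List Ch := [⟨P35, 0, [], []⟩,
  ⟨P43, 1, [], []⟩,
  ⟨P43, 0, [.a7], [.a7, .a8]⟩,
  ⟨P44, 2, [], []⟩,
  ⟨P44, 0, [.a10], [.a10, .a11]⟩,
  ⟨P43, 1, [.a10], [.a10, .a11]⟩,
  ⟨P43, 0, [.a7, .a10], [.a7, .a8, .a9, .a10, .a11]⟩,
  ⟨P45, 3, [], []⟩,
  ⟨P45, 0, [.a10], [.a10, .a11]⟩,
  ⟨P43, 1, [.a4], [.a4, .a5]⟩,
  ⟨P43, 0, [.a4, .a6, .a7], [.a4, .a5, .a7, .a8]⟩,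
  ⟨P44, 2, [.a1], [.a1, .a2]⟩,
  ⟨P44, 0, [.a1, .a10], [.a1, .a2, .a4, .a5, .a7, .a9, .a10, .a11]⟩,
  ⟨P43, 1, [.a1, .a4], [.a1, .a2, .a3, .a4, .a5]⟩,
  ⟨P43, 0, [.a4, .a10], [.a4, .a5, .a10, .a11]⟩]
def N240 : List Ent := [⟨2, [.a1], [.a1, .a2]⟩,
  ⟨4, [.a2], [.a2]⟩,
  ⟨8, [.a3, .a7], [.a3, .a5, .a7, .a8]⟩,
  ⟨16, [.a4], [.a4, .a5]⟩,
  ⟨32, [.a5], [.a5]⟩,
  ⟨64, [.a6], [.a6]⟩,
  ⟨128, [.a7], [.a7, .a8]⟩,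
  ⟨256, [.a8], [.a8]⟩,
  ⟨512, [.a9], [.a9]⟩,
  ⟨1024, [.a10], [.a10, .a11]⟩,
  ⟨2048, [.a11], [.a11]⟩]
theorem bad240 (c : CtxF Goal γ) : Bad Goal γ [] P240 :=
  c.toCtx.bnd (B := B240) (D := D240) (I := [1, 2, 3, 0, 4]) (r := 4) (C := C240) (N := N240) (by decide +kernel) (by decide +kernel) (by decide +kernel) (by decide +kernel)
    (allB_cons (bad35 c) (allB_cons (bad43 c) (allB_cons (bad43 c) (allB_cons (bad44 c) (allB_cons (bad44 c) (allB_cons (bad43 c) (allB_cons (bad43 c) (allB_cons (bad45 c) (allB_cons (bad45 c) (allB_cons (bad43 c) (allB_cons (bad43 c) (allB_cons (bad44 c) (allB_cons (bad44 c) (allB_cons (bad43 c) (allB_cons (bad43 c) (allB_nil))))))))))))))))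

def P241 : List Ent := [⟨8, [.a3, .a7, .a11], [.a3, .a5, .a7, .a11]⟩,
  ⟨32, [.a5], [.a5]⟩,
  ⟨64, [.a6], [.a6]⟩,
  ⟨256, [.a8], [.a8]⟩,
  ⟨512, [.a9], [.a9]⟩]
def B241 : List Gv := [⟨[.a3, .a7, .a11], [.a3, .a5, .a7, .a11]⟩, ⟨[.a6], [.a6]⟩, ⟨[.a8], [.a8]⟩, ⟨[.a9], [.a9]⟩]
def D241 : List Dv := [⟨[.a5], [0, 0], []⟩]
def C241 : List Ch := [⟨P35, 0, [], []⟩,
  ⟨P46, 1, [], []⟩,
  ⟨P46, 0, [.a10], [.a10, .a11]⟩,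
  ⟨P47, 2, [], []⟩,
  ⟨P47, 0, [.a3], [.a3]⟩,
  ⟨P47, 1, [.a1, .a10], [.a1, .a2, .a4, .a5, .a7, .a9, .a10, .a11]⟩,
  ⟨P47, 0, [.a10], [.a10, .a11]⟩,
  ⟨P25, 3, [.a0, .a1, .a3, .a5, .a6, .a7, .a8, .a9, .a10], [.a0, .a10, .a11]⟩,
  ⟨P25, 0, [.a0], [.a0]⟩,
  ⟨P46, 1, [.a1], [.a1, .a2]⟩,
  ⟨P46, 0, [.a1, .a10], [.a1, .a2, .a4, .a5, .a7, .a9, .a10, .a11]⟩,
  ⟨P47, 2, [.a4], [.a4, .a5]⟩,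
  ⟨P47, 0, [.a1], [.a1, .a2]⟩,
  ⟨P47, 1, [.a4, .a10], [.a4, .a5, .a10, .a11]⟩,
  ⟨P47, 0, [.a1, .a3, .a4, .a5, .a7, .a10], [.a1, .a2, .a10, .a11]⟩]
def N241 : List Ent := [⟨2, [.a1], [.a1, .a2]⟩,
  ⟨4, [.a2], [.a2]⟩,
  ⟨8, [.a3, .a7, .a11], [.a3, .a5, .a7, .a11]⟩,
  ⟨16, [.a4], [.a4, .a5]⟩,
  ⟨32, [.a5], [.a5]⟩,
  ⟨64, [.a6], [.a6]⟩,
  ⟨128, [.a7], [.a7, .a8]⟩,
  ⟨256, [.a8], [.a8]⟩,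
  ⟨512, [.a9], [.a9]⟩,
  ⟨1024, [.a10], [.a10, .a11]⟩,
  ⟨2048, [.a11], [.a11]⟩]
theorem bad241 (c : CtxF Goal γ) : Bad Goal γ [] P241 :=
  c.toCtx.bnd (B := B241) (D := D241) (I := [1, 0, 2, 3, 4]) (r := 4) (C := C241) (N := N241) (by decide +kernel) (by decide +kernel) (by decide +kernel) (by decide +kernel)
    (allB_cons (bad35 c) (allB_cons (bad46 c) (allB_cons (bad46 c) (allB_cons (bad47 c) (allB_cons (bad47 c) (allB_cons (bad47 c) (allB_cons (bad47 c) (allB_cons (bad25 c) (allB_cons (bad25 c) (allB_cons (bad46 c) (allB_cons (bad46 c) (allB_cons (bad47 c) (allB_cons (bad47 c) (allB_cons (bad47 c) (allB_cons (bad47 c) (allB_nil))))))))))))))))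

def P242 : List Ent := [⟨8, [.a3], [.a3]⟩,
  ⟨32, [.a5], [.a5]⟩,
  ⟨128, [.a7], [.a7, .a8]⟩,
  ⟨256, [.a8], [.a8]⟩,
  ⟨512, [.a9], [.a9]⟩]
def B242 : List Gv := [⟨[.a3], [.a3]⟩, ⟨[.a7], [.a7, .a8]⟩, ⟨[.a9], [.a9]⟩]
def D242 : List Dv := [⟨[.a5], [1, 0], [0, 1]⟩,
  ⟨[.a8], [2, 2], []⟩]
theorem bad242 (c : CtxF Goal γ) : Bad Goal γ [] P242 :=
  c.toCtx.cent (B := B242) (D := D242) (I := [2, 1, 3, 0, 4]) (z := [.a6]) (by decide +kernel) (by decide +kernel)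

def P243 : List Ent := [⟨8, [.a3], [.a3]⟩,
  ⟨32, [.a5], [.a5]⟩,
  ⟨64, [.a6], [.a6]⟩,
  ⟨128, [.a7], [.a7, .a8]⟩,
  ⟨256, [.a8], [.a8]⟩]
def B243 : List Gv := [⟨[.a3], [.a3]⟩, ⟨[.a6], [.a6]⟩, ⟨[.a7], [.a7, .a8]⟩]
def D243 : List Dv := [⟨[.a5], [2, 0], [0, 2]⟩,
  ⟨[.a8], [3, 3], []⟩]
theorem bad243 (c : CtxF Goal γ) : Bad Goal γ [] P243 :=
  c.toCtx.cent (B := B243) (D := D243) (I := [2, 1, 3, 4, 0]) (z := [.a2]) (by decide +kernel) (by decide +kernel)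

def P244 : List Ent := [⟨8, [.a3, .a9], [.a3, .a9]⟩,
  ⟨32, [.a5], [.a5]⟩,
  ⟨64, [.a6], [.a6]⟩,
  ⟨128, [.a7], [.a7, .a8]⟩,
  ⟨256, [.a8], [.a8]⟩]
def B244 : List Gv := [⟨[.a3, .a9], [.a3, .a9]⟩, ⟨[.a6], [.a6]⟩, ⟨[.a7], [.a7, .a8]⟩]
def D244 : List Dv := [⟨[.a5], [2, 0], [0, 2]⟩,
  ⟨[.a8], [3, 3], []⟩]
theorem bad244 (c : CtxF Goal γ) : Bad Goal γ [] P244 :=
  c.toCtx.cent (B := B244) (D := D244) (I := [2, 1, 3, 4, 0]) (z := [.a2, .a7]) (by decide +kernel) (by decide +kernel)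

def P245 : List Ent := [⟨8, [.a3, .a11], [.a3, .a8, .a11]⟩,
  ⟨32, [.a5], [.a5]⟩,
  ⟨128, [.a7], [.a7, .a8]⟩,
  ⟨256, [.a8], [.a8]⟩,
  ⟨512, [.a9], [.a9]⟩]
def B245 : List Gv := [⟨[.a3, .a11], [.a3, .a8, .a11]⟩, ⟨[.a7], [.a7, .a8]⟩, ⟨[.a9], [.a9]⟩]
def D245 : List Dv := [⟨[.a8], [0, 0], []⟩,
  ⟨[.a5], [2, 1], [1, 2]⟩]
theorem bad245 (c : CtxF Goal γ) : Bad Goal γ [] P245 :=
  c.toCtx.cent (B := B245) (D := D245) (I := [2, 0, 3, 1, 4]) (z := [.a6]) (by decide +kernel) (by decide +kernel)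

def P246 : List Ent := [⟨8, [.a3, .a11], [.a3, .a8, .a11]⟩,
  ⟨32, [.a5], [.a5]⟩,
  ⟨64, [.a6], [.a6]⟩,
  ⟨128, [.a7], [.a7, .a8]⟩,
  ⟨256, [.a8], [.a8]⟩]
def B246 : List Gv := [⟨[.a3, .a11], [.a3, .a8, .a11]⟩, ⟨[.a6], [.a6]⟩, ⟨[.a7], [.a7, .a8]⟩]
def D246 : List Dv := [⟨[.a8], [0, 0], []⟩,
  ⟨[.a5], [3, 1], [1, 3]⟩]
theorem bad246 (c : CtxF Goal γ) : Bad Goal γ [] P246 :=
  c.toCtx.cent (B := B246) (D := D246) (I := [2, 0, 3, 4, 1]) (z := [.a9]) (by decide +kernel) (by decide +kernel)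

def P247 : List Ent := [⟨8, [.a3], [.a3]⟩,
  ⟨32, [.a5], [.a5]⟩,
  ⟨128, [.a7, .a11], [.a7, .a8, .a11]⟩,
  ⟨256, [.a8], [.a8]⟩,
  ⟨512, [.a9], [.a9]⟩]
def B247 : List Gv := [⟨[.a3], [.a3]⟩, ⟨[.a7, .a11], [.a7, .a8, .a11]⟩, ⟨[.a9], [.a9]⟩]
def D247 : List Dv := [⟨[.a5, .a8], [1, 0], [0, 1]⟩,
  ⟨[.a8], [2, 2], []⟩,
  ⟨[.a5], [1], [0]⟩]
theorem bad247 (c : CtxF Goal γ) : Bad Goal γ [] P247 :=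
  c.toCtx.cent (B := B247) (D := D247) (I := [3, 0, 4, 1, 5]) (z := [.a6]) (by decide +kernel) (by decide +kernel)

def P248 : List Ent := [⟨8, [.a3], [.a3]⟩,
  ⟨32, [.a5], [.a5]⟩,
  ⟨64, [.a6], [.a6]⟩,
  ⟨128, [.a7, .a11], [.a7, .a8, .a11]⟩,
  ⟨256, [.a8], [.a8]⟩]
def B248 : List Gv := [⟨[.a3], [.a3]⟩, ⟨[.a6], [.a6]⟩, ⟨[.a7, .a11], [.a7, .a8, .a11]⟩]
def D248 : List Dv := [⟨[.a5, .a8], [2, 0], [0, 2]⟩,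
  ⟨[.a8], [3, 3], []⟩,
  ⟨[.a5], [1], [0]⟩]
theorem bad248 (c : CtxF Goal γ) : Bad Goal γ [] P248 :=
  c.toCtx.cent (B := B248) (D := D248) (I := [3, 0, 4, 5, 1]) (z := [.a2, .a3, .a4]) (by decide +kernel) (by decide +kernel)

def P249 : List Ent := [⟨8, [.a3, .a11], [.a3, .a8, .a11]⟩,
  ⟨32, [.a5], [.a5]⟩,
  ⟨128, [.a7, .a11], [.a7, .a8, .a11]⟩,
  ⟨256, [.a8], [.a8]⟩,
  ⟨512, [.a9], [.a9]⟩]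
def B249 : List Gv := [⟨[.a3, .a11], [.a3, .a8, .a11]⟩, ⟨[.a7, .a11], [.a7, .a8, .a11]⟩, ⟨[.a9], [.a9]⟩]
def D249 : List Dv := [⟨[.a8], [0, 0], []⟩,
  ⟨[.a5, .a8], [2, 1], [1, 2]⟩,
  ⟨[.a5], [0], [1]⟩]
theorem bad249 (c : CtxF Goal γ) : Bad Goal γ [] P249 :=
  c.toCtx.cent (B := B249) (D := D249) (I := [3, 0, 4, 2, 5]) (z := [.a6]) (by decide +kernel) (by decide +kernel)

def P250 : List Ent := [⟨8, [.a3, .a11], [.a3, .a8, .a11]⟩,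
  ⟨32, [.a5], [.a5]⟩,
  ⟨64, [.a6], [.a6]⟩,
  ⟨128, [.a7, .a11], [.a7, .a8, .a11]⟩,
  ⟨256, [.a8], [.a8]⟩]
def B250 : List Gv := [⟨[.a3, .a11], [.a3, .a8, .a11]⟩, ⟨[.a6], [.a6]⟩, ⟨[.a7, .a11], [.a7, .a8, .a11]⟩]
def D250 : List Dv := [⟨[.a8], [0, 0], []⟩,
  ⟨[.a5, .a8], [3, 1], [1, 3]⟩,
  ⟨[.a5], [0], [1]⟩]
theorem bad250 (c : CtxF Goal γ) : Bad Goal γ [] P250 :=
  c.toCtx.cent (B := B250) (D := D250) (I := [3, 0, 4, 5, 2]) (z := [.a9]) (by decide +kernel) (by decide +kernel)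

def P251 : List Ent := [⟨8, [.a3], [.a3]⟩,
  ⟨16, [.a4], [.a4, .a5]⟩,
  ⟨32, [.a5], [.a5]⟩,
  ⟨256, [.a8], [.a8]⟩,
  ⟨2048, [.a11], [.a11]⟩]
def B251 : List Gv := [⟨[.a3], [.a3]⟩, ⟨[.a4], [.a4, .a5]⟩, ⟨[.a11], [.a11]⟩]
def D251 : List Dv := [⟨[.a5], [1, 1], []⟩,
  ⟨[.a8], [3, 1], [1, 3]⟩]
theorem bad251 (c : CtxF Goal γ) : Bad Goal γ [] P251 :=
  c.toCtx.cent (B := B251) (D := D251) (I := [2, 3, 1, 0, 4]) (z := [.a6]) (by decide +kernel) (by decide +kernel)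

def P252 : List Ent := [⟨8, [.a3], [.a3]⟩,
  ⟨16, [.a4], [.a4, .a5]⟩,
  ⟨32, [.a5], [.a5]⟩,
  ⟨64, [.a6], [.a6]⟩,
  ⟨256, [.a8], [.a8]⟩]
def B252 : List Gv := [⟨[.a3], [.a3]⟩, ⟨[.a4], [.a4, .a5]⟩, ⟨[.a6], [.a6]⟩, ⟨[.a8], [.a8]⟩]
def D252 : List Dv := [⟨[.a5], [1, 1], []⟩]
theorem bad252 (c : CtxF Goal γ) : Bad Goal γ [] P252 :=
  c.toCtx.cent (B := B252) (D := D252) (I := [1, 2, 0, 3, 4]) (z := [.a2]) (by decide +kernel) (by decide +kernel)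

def P253 : List Ent := [⟨8, [.a3, .a11], [.a3, .a8, .a11]⟩,
  ⟨16, [.a4], [.a4, .a5]⟩,
  ⟨32, [.a5], [.a5]⟩,
  ⟨64, [.a6], [.a6]⟩,
  ⟨256, [.a8], [.a8]⟩]
def B253 : List Gv := [⟨[.a3, .a11], [.a3, .a8, .a11]⟩, ⟨[.a4], [.a4, .a5]⟩, ⟨[.a6], [.a6]⟩]
def D253 : List Dv := [⟨[.a8], [0, 0], []⟩,
  ⟨[.a5], [2, 2], []⟩]
def C253 : List Ch := [⟨P24, 0, [], []⟩,
  ⟨P42, 1, [], []⟩,
  ⟨P28, 0, [.a1], [.a1, .a2]⟩,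
  ⟨P48, 2, [], []⟩,
  ⟨P48, 0, [.a10], [.a10, .a11]⟩,
  ⟨P48, 1, [.a7], [.a7, .a8]⟩,
  ⟨P48, 0, [.a7, .a10], [.a7, .a8, .a9, .a10, .a11]⟩]
def N253 : List Ent := [⟨4, [.a2], [.a2]⟩,
  ⟨8, [.a3, .a11], [.a3, .a8, .a11]⟩,
  ⟨16, [.a4], [.a4, .a5]⟩,
  ⟨32, [.a5], [.a5]⟩,
  ⟨64, [.a6], [.a6]⟩,
  ⟨128, [.a7], [.a7, .a8]⟩,
  ⟨256, [.a8], [.a8]⟩,
  ⟨512, [.a9], [.a9]⟩,
  ⟨1024, [.a10], [.a10, .a11]⟩,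
  ⟨2048, [.a11], [.a11]⟩]
theorem bad253 (c : CtxF Goal γ) : Bad Goal γ [] P253 :=
  c.toCtx.bnd (B := B253) (D := D253) (I := [2, 3, 0, 4, 1]) (r := 3) (C := C253) (N := N253) (by decide +kernel) (by decide +kernel) (by decide +kernel) (by decide +kernel)
    (allB_cons (bad24 c) (allB_cons (bad42 c) (allB_cons (bad28 c) (allB_cons (bad48 c) (allB_cons (bad48 c) (allB_cons (bad48 c) (allB_cons (bad48 c) (allB_nil))))))))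

def P254 : List Ent := [⟨8, [.a3, .a11], [.a3, .a8, .a11]⟩,
  ⟨16, [.a4, .a11], [.a4, .a5, .a11]⟩,
  ⟨32, [.a5], [.a5]⟩,
  ⟨64, [.a6], [.a6]⟩,
  ⟨256, [.a8], [.a8]⟩]
def B254 : List Gv := [⟨[.a3, .a11], [.a3, .a8, .a11]⟩, ⟨[.a4, .a11], [.a4, .a5, .a11]⟩, ⟨[.a6], [.a6]⟩]
def D254 : List Dv := [⟨[.a8], [0, 0], []⟩,
  ⟨[.a5], [2, 2], []⟩]
theorem bad254 (c : CtxF Goal γ) : Bad Goal γ [] P254 :=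
  c.toCtx.cent (B := B254) (D := D254) (I := [2, 3, 0, 4, 1]) (z := [.a4]) (by decide +kernel) (by decide +kernel)

def P255 : List Ent := [⟨8, [.a3, .a9], [.a3, .a9]⟩,
  ⟨16, [.a4], [.a4, .a5]⟩,
  ⟨32, [.a5], [.a5]⟩,
  ⟨256, [.a8], [.a8]⟩,
  ⟨2048, [.a11], [.a11]⟩]
def B255 : List Gv := [⟨[.a3, .a9], [.a3, .a9]⟩, ⟨[.a4], [.a4, .a5]⟩, ⟨[.a11], [.a11]⟩]
def D255 : List Dv := [⟨[.a8], [1, 0], [0, 1]⟩,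
  ⟨[.a5], [2, 2], []⟩]
theorem bad255 (c : CtxF Goal γ) : Bad Goal γ [] P255 :=
  c.toCtx.cent (B := B255) (D := D255) (I := [2, 3, 0, 1, 4]) (z := [.a6]) (by decide +kernel) (by decide +kernel)

def P256 : List Ent := [⟨8, [.a3, .a9], [.a3, .a9]⟩,
  ⟨16, [.a4], [.a4, .a5]⟩,
  ⟨32, [.a5], [.a5]⟩,
  ⟨64, [.a6], [.a6]⟩,
  ⟨256, [.a8], [.a8]⟩]
def B256 : List Gv := [⟨[.a3, .a9], [.a3, .a9]⟩, ⟨[.a4], [.a4, .a5]⟩, ⟨[.a6], [.a6]⟩]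
def D256 : List Dv := [⟨[.a8], [1, 0], [0, 1]⟩,
  ⟨[.a5], [2, 2], []⟩]
theorem bad256 (c : CtxF Goal γ) : Bad Goal γ [] P256 :=
  c.toCtx.cent (B := B256) (D := D256) (I := [2, 3, 0, 4, 1]) (z := [.a3]) (by decide +kernel) (by decide +kernel)

def P257 : List Ent := [⟨8, [.a3, .a9, .a11], [.a3, .a8, .a9, .a11]⟩,
  ⟨16, [.a4, .a11], [.a4, .a5, .a11]⟩,
  ⟨32, [.a5], [.a5]⟩,
  ⟨64, [.a6], [.a6]⟩,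
  ⟨256, [.a8], [.a8]⟩]
def B257 : List Gv := [⟨[.a3, .a9, .a11], [.a3, .a8, .a9, .a11]⟩, ⟨[.a4, .a11], [.a4, .a5, .a11]⟩, ⟨[.a6], [.a6]⟩]
def D257 : List Dv := [⟨[.a8], [0, 0], []⟩,
  ⟨[.a5], [2, 2], []⟩]
def C257 : List Ch := [⟨P25, 0, [], []⟩,
  ⟨P42, 1, [.a1], [.a1, .a2]⟩,
  ⟨P27, 0, [.a1], [.a1, .a2]⟩,
  ⟨P49, 2, [], []⟩,
  ⟨P49, 0, [.a10], [.a10, .a11]⟩,
  ⟨P49, 1, [.a7], [.a7, .a8]⟩,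
  ⟨P49, 0, [.a7, .a10], [.a7, .a8, .a9, .a10, .a11]⟩]
def N257 : List Ent := [⟨4, [.a2], [.a2]⟩,
  ⟨8, [.a3, .a9, .a11], [.a3, .a8, .a9, .a11]⟩,
  ⟨16, [.a4, .a11], [.a4, .a5, .a11]⟩,
  ⟨32, [.a5], [.a5]⟩,
  ⟨64, [.a6], [.a6]⟩,
  ⟨128, [.a7], [.a7, .a8]⟩,
  ⟨256, [.a8], [.a8]⟩,
  ⟨512, [.a9], [.a9]⟩,
  ⟨1024, [.a10], [.a10, .a11]⟩,
  ⟨2048, [.a11], [.a11]⟩]
theorem bad257 (c : CtxF Goal γ) : Bad Goal γ [] P257 :=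
  c.toCtx.bnd (B := B257) (D := D257) (I := [2, 3, 0, 4, 1]) (r := 3) (C := C257) (N := N257) (by decide +kernel) (by decide +kernel) (by decide +kernel) (by decide +kernel)
    (allB_cons (bad25 c) (allB_cons (bad42 c) (allB_cons (bad27 c) (allB_cons (bad49 c) (allB_cons (bad49 c) (allB_cons (bad49 c) (allB_cons (bad49 c) (allB_nil))))))))

def P258 : List Ent := [⟨8, [.a3], [.a3]⟩,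
  ⟨16, [.a4, .a9], [.a4, .a5, .a8, .a9]⟩,
  ⟨32, [.a5], [.a5]⟩,
  ⟨256, [.a8], [.a8]⟩,
  ⟨2048, [.a11], [.a11]⟩]
def B258 : List Gv := [⟨[.a3], [.a3]⟩, ⟨[.a4, .a9], [.a4, .a5, .a8, .a9]⟩, ⟨[.a11], [.a11]⟩]
def D258 : List Dv := [⟨[.a5, .a8], [1, 1], []⟩,
  ⟨[.a8], [3, 1], [1, 3]⟩,
  ⟨[.a5], [1], [0]⟩]
theorem bad258 (c : CtxF Goal γ) : Bad Goal γ [] P258 :=
  c.toCtx.cent (B := B258) (D := D258) (I := [3, 4, 0, 1, 5]) (z := [.a6]) (by decide +kernel) (by decide +kernel)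

def P259 : List Ent := [⟨8, [.a3], [.a3]⟩,
  ⟨16, [.a4, .a9], [.a4, .a5, .a8, .a9]⟩,
  ⟨32, [.a5], [.a5]⟩,
  ⟨64, [.a6], [.a6]⟩,
  ⟨256, [.a8], [.a8]⟩]
def B259 : List Gv := [⟨[.a3], [.a3]⟩, ⟨[.a4, .a9], [.a4, .a5, .a8, .a9]⟩, ⟨[.a5], [.a5]⟩, ⟨[.a6], [.a6]⟩]
def D259 : List Dv := [⟨[.a8], [2, 1, 1], []⟩]
def C259 : List Ch := [⟨P27, 0, [], []⟩,
  ⟨P39, 1, [], []⟩,
  ⟨P27, 0, [.a1], [.a1, .a2]⟩,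
  ⟨P50, 2, [], []⟩,
  ⟨P50, 0, [.a7], [.a7, .a8]⟩,
  ⟨P50, 1, [.a4], [.a4, .a5]⟩,
  ⟨P50, 0, [.a4, .a6, .a7], [.a4, .a5, .a7, .a8]⟩,
  ⟨P51, 3, [], []⟩,
  ⟨P51, 0, [.a10], [.a10, .a11]⟩,
  ⟨P51, 1, [.a1], [.a1, .a2]⟩,
  ⟨P51, 0, [.a7, .a10], [.a7, .a8, .a9, .a10, .a11]⟩,
  ⟨P50, 2, [.a10], [.a10, .a11]⟩,
  ⟨P50, 0, [.a7, .a9, .a10], [.a7, .a8, .a10, .a11]⟩,
  ⟨P50, 1, [.a4, .a10], [.a4, .a5, .a10, .a11]⟩,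
  ⟨P50, 0, [.a7, .a10], [.a7, .a8, .a9, .a10, .a11]⟩]
def N259 : List Ent := [⟨2, [.a1], [.a1, .a2]⟩,
  ⟨4, [.a2], [.a2]⟩,
  ⟨8, [.a3], [.a3]⟩,
  ⟨16, [.a4, .a9], [.a4, .a5, .a8, .a9]⟩,
  ⟨32, [.a5], [.a5]⟩,
  ⟨64, [.a6], [.a6]⟩,
  ⟨128, [.a7], [.a7, .a8]⟩,
  ⟨256, [.a8], [.a8]⟩,
  ⟨512, [.a9], [.a9]⟩,
  ⟨1024, [.a10], [.a10, .a11]⟩,
  ⟨2048, [.a11], [.a11]⟩]
theorem bad259 (c : CtxF Goal γ) : Bad Goal γ [] P259 :=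
  c.toCtx.bnd (B := B259) (D := D259) (I := [1, 2, 3, 4, 0]) (r := 4) (C := C259) (N := N259) (by decide +kernel) (by decide +kernel) (by decide +kernel) (by decide +kernel)
    (allB_cons (bad27 c) (allB_cons (bad39 c) (allB_cons (bad27 c) (allB_cons (bad50 c) (allB_cons (bad50 c) (allB_cons (bad50 c) (allB_cons (bad50 c) (allB_cons (bad51 c) (allB_cons (bad51 c) (allB_cons (bad51 c) (allB_cons (bad51 c) (allB_cons (bad50 c) (allB_cons (bad50 c) (allB_cons (bad50 c) (allB_cons (bad50 c) (allB_nil))))))))))))))))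

def P260 : List Ent := [⟨8, [.a3, .a11], [.a3, .a8, .a11]⟩,
  ⟨16, [.a4, .a9, .a11], [.a4, .a5, .a8, .a9, .a11]⟩,
  ⟨32, [.a5], [.a5]⟩,
  ⟨64, [.a6], [.a6]⟩,
  ⟨256, [.a8], [.a8]⟩]
def B260 : List Gv := [⟨[.a3, .a11], [.a3, .a8, .a11]⟩, ⟨[.a4, .a9, .a11], [.a4, .a5, .a8, .a9, .a11]⟩, ⟨[.a6], [.a6]⟩]
def D260 : List Dv := [⟨[.a8], [0, 0], []⟩,
  ⟨[.a5, .a8], [2, 2], []⟩,
  ⟨[.a5], [0], [1]⟩]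
theorem bad260 (c : CtxF Goal γ) : Bad Goal γ [] P260 :=
  c.toCtx.cent (B := B260) (D := D260) (I := [3, 4, 0, 5, 2]) (z := [.a4, .a9]) (by decide +kernel) (by decide +kernel)

def P261 : List Ent := [⟨8, [.a3, .a9], [.a3, .a9]⟩,
  ⟨16, [.a4, .a9], [.a4, .a5, .a8, .a9]⟩,
  ⟨32, [.a5], [.a5]⟩,
  ⟨256, [.a8], [.a8]⟩,
  ⟨2048, [.a11], [.a11]⟩]
def B261 : List Gv := [⟨[.a3, .a9], [.a3, .a9]⟩, ⟨[.a4, .a9], [.a4, .a5, .a8, .a9]⟩, ⟨[.a11], [.a11]⟩]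
def D261 : List Dv := [⟨[.a8], [1, 0], [0, 1]⟩,
  ⟨[.a5, .a8], [2, 2], []⟩,
  ⟨[.a5], [0], [1]⟩]
theorem bad261 (c : CtxF Goal γ) : Bad Goal γ [] P261 :=
  c.toCtx.cent (B := B261) (D := D261) (I := [3, 4, 0, 2, 5]) (z := [.a6]) (by decide +kernel) (by decide +kernel)

def P262 : List Ent := [⟨8, [.a3], [.a3]⟩,
  ⟨16, [.a4], [.a4, .a5]⟩,
  ⟨32, [.a5], [.a5]⟩,
  ⟨256, [.a8], [.a8]⟩,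
  ⟨512, [.a9], [.a9]⟩]
def B262 : List Gv := [⟨[.a3], [.a3]⟩, ⟨[.a4], [.a4, .a5]⟩, ⟨[.a9], [.a9]⟩]
def D262 : List Dv := [⟨[.a5], [1, 1], []⟩,
  ⟨[.a8], [3, 2], [2, 3]⟩]
theorem bad262 (c : CtxF Goal γ) : Bad Goal γ [] P262 :=
  c.toCtx.cent (B := B262) (D := D262) (I := [2, 3, 1, 0, 4]) (z := [.a6]) (by decide +kernel) (by decide +kernel)

def P263 : List Ent := [⟨8, [.a3, .a11], [.a3, .a8, .a11]⟩,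
  ⟨16, [.a4], [.a4, .a5]⟩,
  ⟨32, [.a5], [.a5]⟩,
  ⟨256, [.a8], [.a8]⟩,
  ⟨512, [.a9], [.a9]⟩]
def B263 : List Gv := [⟨[.a3, .a11], [.a3, .a8, .a11]⟩, ⟨[.a4], [.a4, .a5]⟩, ⟨[.a9], [.a9]⟩]
def D263 : List Dv := [⟨[.a8], [0, 0], []⟩,
  ⟨[.a5], [2, 2], []⟩]
theorem bad263 (c : CtxF Goal γ) : Bad Goal γ [] P263 :=
  c.toCtx.cent (B := B263) (D := D263) (I := [2, 3, 0, 1, 4]) (z := [.a6]) (by decide +kernel) (by decide +kernel)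

def P264 : List Ent := [⟨8, [.a3, .a11], [.a3, .a8, .a11]⟩,
  ⟨16, [.a4], [.a4, .a5]⟩,
  ⟨32, [.a5], [.a5]⟩,
  ⟨64, [.a6, .a9], [.a6, .a9]⟩,
  ⟨256, [.a8], [.a8]⟩]
def B264 : List Gv := [⟨[.a3, .a11], [.a3, .a8, .a11]⟩, ⟨[.a4], [.a4, .a5]⟩, ⟨[.a6, .a9], [.a6, .a9]⟩]
def D264 : List Dv := [⟨[.a8], [0, 0], []⟩,
  ⟨[.a5], [2, 2], []⟩]
theorem bad264 (c : CtxF Goal γ) : Bad Goal γ [] P264 :=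
  c.toCtx.cent (B := B264) (D := D264) (I := [2, 3, 0, 4, 1]) (z := [.a6]) (by decide +kernel) (by decide +kernel)

def P265 : List Ent := [⟨8, [.a3, .a7], [.a3, .a5, .a7, .a8]⟩,
  ⟨16, [.a4], [.a4, .a5]⟩,
  ⟨32, [.a5], [.a5]⟩,
  ⟨64, [.a6], [.a6]⟩,
  ⟨256, [.a8], [.a8]⟩]
def B265 : List Gv := [⟨[.a3, .a7], [.a3, .a5, .a7, .a8]⟩, ⟨[.a4], [.a4, .a5]⟩]
def D265 : List Dv := [⟨[.a5, .a8], [0, 0], []⟩,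
  ⟨[.a6], [2, 1], [1, 2]⟩,
  ⟨[.a8], [1, 3, 3], []⟩,
  ⟨[.a5], [2], [0]⟩]
theorem bad265 (c : CtxF Goal γ) : Bad Goal γ [] P265 :=
  c.toCtx.cent (B := B265) (D := D265) (I := [4, 5, 0, 2, 1]) (z := [.a2]) (by decide +kernel) (by decide +kernel)

def P266 : List Ent := [⟨8, [.a3, .a7, .a11], [.a3, .a5, .a7, .a11]⟩,
  ⟨16, [.a4], [.a4, .a5]⟩,
  ⟨32, [.a5], [.a5]⟩,
  ⟨64, [.a6], [.a6]⟩,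
  ⟨256, [.a8], [.a8]⟩]
def B266 : List Gv := [⟨[.a3, .a7, .a11], [.a3, .a5, .a7, .a11]⟩, ⟨[.a4], [.a4, .a5]⟩, ⟨[.a8], [.a8]⟩]
def D266 : List Dv := [⟨[.a5], [0, 0], []⟩,
  ⟨[.a6], [2, 1], [1, 2]⟩]
theorem bad266 (c : CtxF Goal γ) : Bad Goal γ [] P266 :=
  c.toCtx.cent (B := B266) (D := D266) (I := [2, 3, 1, 0, 4]) (z := [.a2, .a3, .a4]) (by decide +kernel) (by decide +kernel)

def P267 : List Ent := [⟨8, [.a3, .a7], [.a3, .a5, .a7, .a8]⟩,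
  ⟨16, [.a4, .a11], [.a4, .a5, .a11]⟩,
  ⟨32, [.a5], [.a5]⟩,
  ⟨64, [.a6], [.a6]⟩,
  ⟨256, [.a8], [.a8]⟩]
def B267 : List Gv := [⟨[.a3, .a7], [.a3, .a5, .a7, .a8]⟩, ⟨[.a4, .a11], [.a4, .a5, .a11]⟩]
def D267 : List Dv := [⟨[.a5, .a8], [0, 0], []⟩,
  ⟨[.a6, .a8], [2, 1], [1, 2]⟩,
  ⟨[.a8], [1, 3, 3], []⟩,
  ⟨[.a6], [1], [0]⟩,
  ⟨[.a5], [3], [1]⟩]
def C267 : List Ch := [⟨P25, 0, [], []⟩,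
  ⟨P45, 1, [], []⟩,
  ⟨P33, 0, [.a1, .a10], [.a1, .a2, .a4, .a5, .a7, .a9, .a10, .a11]⟩]
def N267 : List Ent := [⟨4, [.a2], [.a2]⟩,
  ⟨8, [.a3, .a7], [.a3, .a5, .a7, .a8]⟩,
  ⟨16, [.a4, .a11], [.a4, .a5, .a11]⟩,
  ⟨32, [.a5], [.a5]⟩,
  ⟨64, [.a6], [.a6]⟩,
  ⟨128, [.a7], [.a7, .a8]⟩,
  ⟨256, [.a8], [.a8]⟩,
  ⟨512, [.a9], [.a9]⟩,
  ⟨2048, [.a11], [.a11]⟩]
theorem bad267 (c : CtxF Goal γ) : Bad Goal γ [] P267 :=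
  c.toCtx.bnd (B := B267) (D := D267) (I := [5, 6, 0, 1, 2]) (r := 2) (C := C267) (N := N267) (by decide +kernel) (by decide +kernel) (by decide +kernel) (by decide +kernel)
    (allB_cons (bad25 c) (allB_cons (bad45 c) (allB_cons (bad33 c) (allB_nil))))

def P268 : List Ent := [⟨8, [.a3, .a7, .a11], [.a3, .a5, .a7, .a11]⟩,
  ⟨16, [.a4, .a11], [.a4, .a5, .a11]⟩,
  ⟨32, [.a5], [.a5]⟩,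
  ⟨64, [.a6], [.a6]⟩,
  ⟨256, [.a8], [.a8]⟩]
def B268 : List Gv := [⟨[.a3, .a7, .a11], [.a3, .a5, .a7, .a11]⟩, ⟨[.a4, .a11], [.a4, .a5, .a11]⟩, ⟨[.a6], [.a6]⟩]
def D268 : List Dv := [⟨[.a5], [0, 0], []⟩,
  ⟨[.a8], [3, 2, 1], [1, 2]⟩]
def C268 : List Ch := [⟨P25, 0, [], []⟩,
  ⟨P25, 1, [.a0, .a1, .a3, .a5, .a6, .a7, .a8, .a9, .a10], [.a0, .a10, .a11]⟩,
  ⟨P32, 0, [.a0], [.a0]⟩,
  ⟨P52, 2, [], []⟩,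
  ⟨P52, 0, [.a4], [.a4, .a5]⟩,
  ⟨P52, 1, [.a7], [.a7, .a8]⟩,
  ⟨P52, 0, [.a3], [.a3]⟩]
def N268 : List Ent := [⟨1, [.a0, .a1], [.a0, .a1, .a2]⟩,
  ⟨4, [.a2], [.a2]⟩,
  ⟨8, [.a3, .a7, .a11], [.a3, .a5, .a7, .a11]⟩,
  ⟨16, [.a4, .a11], [.a4, .a5, .a11]⟩,
  ⟨32, [.a5], [.a5]⟩,
  ⟨64, [.a6], [.a6]⟩,
  ⟨128, [.a7], [.a7, .a8]⟩,
  ⟨256, [.a8], [.a8]⟩,
  ⟨512, [.a9], [.a9]⟩,
  ⟨2048, [.a11], [.a11]⟩]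
theorem bad268 (c : CtxF Goal γ) : Bad Goal γ [] P268 :=
  c.toCtx.bnd (B := B268) (D := D268) (I := [2, 3, 1, 4, 0]) (r := 3) (C := C268) (N := N268) (by decide +kernel) (by decide +kernel) (by decide +kernel) (by decide +kernel)
    (allB_cons (bad25 c) (allB_cons (bad25 c) (allB_cons (bad32 c) (allB_cons (bad52 c) (allB_cons (bad52 c) (allB_cons (bad52 c) (allB_cons (bad52 c) (allB_nil))))))))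

def P269 : List Ent := [⟨8, [.a3, .a7], [.a3, .a5, .a7, .a8]⟩,
  ⟨16, [.a4, .a9], [.a4, .a5, .a8, .a9]⟩,
  ⟨32, [.a5], [.a5]⟩,
  ⟨64, [.a6], [.a6]⟩,
  ⟨256, [.a8], [.a8]⟩]
def B269 : List Gv := [⟨[.a3, .a7], [.a3, .a5, .a7, .a8]⟩, ⟨[.a4, .a9], [.a4, .a5, .a8, .a9]⟩, ⟨[.a5], [.a5]⟩]
def D269 : List Dv := [⟨[.a8], [2, 0, 0], []⟩,
  ⟨[.a6], [2, 1], [1, 2]⟩]
def C269 : List Ch := [⟨P27, 0, [], []⟩,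
  ⟨P45, 1, [], []⟩,
  ⟨P32, 0, [.a0, .a1, .a3, .a5, .a6, .a7, .a8, .a9, .a10], [.a0, .a10, .a11]⟩,
  ⟨P53, 2, [], []⟩,
  ⟨P53, 0, [.a7], [.a7, .a8]⟩,
  ⟨P53, 1, [.a4], [.a4, .a5]⟩,
  ⟨P53, 0, [.a4, .a6, .a7], [.a4, .a5, .a7, .a8]⟩]
def N269 : List Ent := [⟨4, [.a2], [.a2]⟩,
  ⟨8, [.a3, .a7], [.a3, .a5, .a7, .a8]⟩,
  ⟨16, [.a4, .a9], [.a4, .a5, .a8, .a9]⟩,
  ⟨32, [.a5], [.a5]⟩,
  ⟨64, [.a6], [.a6]⟩,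
  ⟨128, [.a7], [.a7, .a8]⟩,
  ⟨256, [.a8], [.a8]⟩,
  ⟨512, [.a9], [.a9]⟩,
  ⟨2048, [.a11], [.a11]⟩]
theorem bad269 (c : CtxF Goal γ) : Bad Goal γ [] P269 :=
  c.toCtx.bnd (B := B269) (D := D269) (I := [2, 3, 4, 0, 1]) (r := 3) (C := C269) (N := N269) (by decide +kernel) (by decide +kernel) (by decide +kernel) (by decide +kernel)
    (allB_cons (bad27 c) (allB_cons (bad45 c) (allB_cons (bad32 c) (allB_cons (bad53 c) (allB_cons (bad53 c) (allB_cons (bad53 c) (allB_cons (bad53 c) (allB_nil))))))))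

def P270 : List Ent := [⟨8, [.a3, .a7, .a11], [.a3, .a5, .a7, .a11]⟩,
  ⟨16, [.a4, .a9], [.a4, .a5, .a8, .a9]⟩,
  ⟨32, [.a5], [.a5]⟩,
  ⟨64, [.a6], [.a6]⟩,
  ⟨256, [.a8], [.a8]⟩]
def B270 : List Gv := [⟨[.a3, .a7, .a11], [.a3, .a5, .a7, .a11]⟩, ⟨[.a4, .a9], [.a4, .a5, .a8, .a9]⟩]
def D270 : List Dv := [⟨[.a5], [0, 0], []⟩,
  ⟨[.a6], [2, 1], [1, 2]⟩,
  ⟨[.a8], [1, 3, 3], []⟩]
def C270 : List Ch := [⟨P27, 0, [], []⟩,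
  ⟨P25, 1, [.a0, .a1, .a3, .a5, .a6, .a7, .a8, .a9, .a10], [.a0, .a10, .a11]⟩,
  ⟨P33, 0, [.a1], [.a1, .a2]⟩]
def N270 : List Ent := [⟨4, [.a2], [.a2]⟩,
  ⟨8, [.a3, .a7, .a11], [.a3, .a5, .a7, .a11]⟩,
  ⟨16, [.a4, .a9], [.a4, .a5, .a8, .a9]⟩,
  ⟨32, [.a5], [.a5]⟩,
  ⟨64, [.a6], [.a6]⟩,
  ⟨128, [.a7], [.a7, .a8]⟩,
  ⟨256, [.a8], [.a8]⟩,
  ⟨512, [.a9], [.a9]⟩,
  ⟨2048, [.a11], [.a11]⟩]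
theorem bad270 (c : CtxF Goal γ) : Bad Goal γ [] P270 :=
  c.toCtx.bnd (B := B270) (D := D270) (I := [3, 4, 2, 1, 0]) (r := 2) (C := C270) (N := N270) (by decide +kernel) (by decide +kernel) (by decide +kernel) (by decide +kernel)
    (allB_cons (bad27 c) (allB_cons (bad25 c) (allB_cons (bad33 c) (allB_nil))))

def P271 : List Ent := [⟨8, [.a3, .a7], [.a3, .a5, .a7, .a8]⟩,
  ⟨16, [.a4, .a9, .a11], [.a4, .a5, .a8, .a9, .a11]⟩,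
  ⟨32, [.a5], [.a5]⟩,
  ⟨64, [.a6], [.a6]⟩,
  ⟨256, [.a8], [.a8]⟩]
def B271 : List Gv := [⟨[.a3, .a7], [.a3, .a5, .a7, .a8]⟩, ⟨[.a4, .a9, .a11], [.a4, .a5, .a8, .a9, .a11]⟩, ⟨[.a5], [.a5]⟩]
def D271 : List Dv := [⟨[.a8], [2, 0, 0], []⟩,
  ⟨[.a6, .a8], [2, 1], [1, 2]⟩,
  ⟨[.a6], [0], [1]⟩]
theorem bad271 (c : CtxF Goal γ) : Bad Goal γ [] P271 :=
  c.toCtx.cent (B := B271) (D := D271) (I := [3, 4, 5, 0, 2]) (z := [.a2, .a3, .a7]) (by decide +kernel) (by decide +kernel)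

def P272 : List Ent := [⟨8, [.a3], [.a3]⟩,
  ⟨16, [.a4, .a7], [.a4, .a5, .a6, .a7, .a8]⟩,
  ⟨32, [.a5], [.a5]⟩,
  ⟨64, [.a6], [.a6]⟩,
  ⟨256, [.a8], [.a8]⟩]
def B272 : List Gv := [⟨[.a3], [.a3]⟩, ⟨[.a4, .a7], [.a4, .a5, .a6, .a7, .a8]⟩, ⟨[.a6], [.a6]⟩]
def D272 : List Dv := [⟨[.a5], [1, 0], [0, 1]⟩,
  ⟨[.a8], [3, 0, 2, 2], []⟩]
theorem bad272 (c : CtxF Goal γ) : Bad Goal γ [] P272 :=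
  c.toCtx.cent (B := B272) (D := D272) (I := [2, 3, 1, 4, 0]) (z := [.a2]) (by decide +kernel) (by decide +kernel)

def P273 : List Ent := [⟨8, [.a3, .a11], [.a3, .a8, .a11]⟩,
  ⟨16, [.a4, .a7], [.a4, .a5, .a6, .a7, .a8]⟩,
  ⟨32, [.a5], [.a5]⟩,
  ⟨64, [.a6], [.a6]⟩,
  ⟨256, [.a8], [.a8]⟩]
def B273 : List Gv := [⟨[.a3, .a11], [.a3, .a8, .a11]⟩, ⟨[.a4, .a7], [.a4, .a5, .a6, .a7, .a8]⟩]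
def D273 : List Dv := [⟨[.a8], [0, 0], []⟩,
  ⟨[.a5], [2, 1], [1, 2]⟩,
  ⟨[.a6, .a8], [0, 3, 3], []⟩,
  ⟨[.a6], [0], [2]⟩]
def C273 : List Ch := [⟨P32, 0, [], []⟩,
  ⟨P42, 1, [], []⟩,
  ⟨P33, 0, [.a1, .a10], [.a1, .a2, .a4, .a5, .a7, .a9, .a10, .a11]⟩]
def N273 : List Ent := [⟨4, [.a2], [.a2]⟩,
  ⟨8, [.a3, .a11], [.a3, .a8, .a11]⟩,
  ⟨16, [.a4, .a7], [.a4, .a5, .a6, .a7, .a8]⟩,
  ⟨32, [.a5], [.a5]⟩,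
  ⟨64, [.a6], [.a6]⟩,
  ⟨128, [.a7], [.a7, .a8]⟩,
  ⟨256, [.a8], [.a8]⟩,
  ⟨512, [.a9], [.a9]⟩,
  ⟨2048, [.a11], [.a11]⟩]
theorem bad273 (c : CtxF Goal γ) : Bad Goal γ [] P273 :=
  c.toCtx.bnd (B := B273) (D := D273) (I := [4, 5, 2, 0, 3]) (r := 2) (C := C273) (N := N273) (by decide +kernel) (by decide +kernel) (by decide +kernel) (by decide +kernel)
    (allB_cons (bad32 c) (allB_cons (bad42 c) (allB_cons (bad33 c) (allB_nil))))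

def P274 : List Ent := [⟨8, [.a3], [.a3]⟩,
  ⟨16, [.a4, .a7, .a11], [.a4, .a5, .a6, .a7, .a8, .a11]⟩,
  ⟨32, [.a5], [.a5]⟩,
  ⟨64, [.a6], [.a6]⟩,
  ⟨256, [.a8], [.a8]⟩]
def B274 : List Gv := [⟨[.a3], [.a3]⟩, ⟨[.a4, .a7, .a11], [.a4, .a5, .a6, .a7, .a8, .a11]⟩, ⟨[.a5], [.a5]⟩]
def D274 : List Dv := [⟨[.a8], [2, 1, 0], [0, 1]⟩,
  ⟨[.a6, .a8], [3, 2, 2], []⟩,
  ⟨[.a6], [0], [1]⟩]
theorem bad274 (c : CtxF Goal γ) : Bad Goal γ [] P274 :=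
  c.toCtx.cent (B := B274) (D := D274) (I := [3, 4, 5, 0, 2]) (z := [.a2, .a3, .a4]) (by decide +kernel) (by decide +kernel)

def P275 : List Ent := [⟨8, [.a3, .a11], [.a3, .a8, .a11]⟩,
  ⟨16, [.a4, .a7, .a11], [.a4, .a5, .a6, .a7, .a8, .a11]⟩,
  ⟨32, [.a5], [.a5]⟩,
  ⟨64, [.a6], [.a6]⟩,
  ⟨256, [.a8], [.a8]⟩]
def B275 : List Gv := [⟨[.a3, .a11], [.a3, .a8, .a11]⟩, ⟨[.a4, .a7, .a11], [.a4, .a5, .a6, .a7, .a8, .a11]⟩]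
def D275 : List Dv := [⟨[.a8], [0, 0], []⟩,
  ⟨[.a5, .a8], [2, 1], [1, 2]⟩,
  ⟨[.a6], [0, 3, 3], []⟩,
  ⟨[.a5], [1], [2]⟩]
def C275 : List Ch := [⟨P33, 0, [], []⟩,
  ⟨P42, 1, [], []⟩,
  ⟨P32, 0, [.a0], [.a0]⟩]
def N275 : List Ent := [⟨4, [.a2], [.a2]⟩,
  ⟨8, [.a3, .a11], [.a3, .a8, .a11]⟩,
  ⟨16, [.a4, .a7, .a11], [.a4, .a5, .a6, .a7, .a8, .a11]⟩,
  ⟨32, [.a5], [.a5]⟩,
  ⟨64, [.a6], [.a6]⟩,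
  ⟨128, [.a7], [.a7, .a8]⟩,
  ⟨256, [.a8], [.a8]⟩,
  ⟨512, [.a9], [.a9]⟩,
  ⟨2048, [.a11], [.a11]⟩]
theorem bad275 (c : CtxF Goal γ) : Bad Goal γ [] P275 :=
  c.toCtx.bnd (B := B275) (D := D275) (I := [4, 5, 0, 1, 3]) (r := 2) (C := C275) (N := N275) (by decide +kernel) (by decide +kernel) (by decide +kernel) (by decide +kernel)
    (allB_cons (bad33 c) (allB_cons (bad42 c) (allB_cons (bad32 c) (allB_nil))))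

def P276 : List Ent := [⟨8, [.a3, .a9], [.a3, .a9]⟩,
  ⟨16, [.a4, .a7, .a11], [.a4, .a5, .a6, .a7, .a8, .a11]⟩,
  ⟨32, [.a5], [.a5]⟩,
  ⟨64, [.a6], [.a6]⟩,
  ⟨256, [.a8], [.a8]⟩]
def B276 : List Gv := [⟨[.a3, .a9], [.a3, .a9]⟩, ⟨[.a4, .a7, .a11], [.a4, .a5, .a6, .a7, .a8, .a11]⟩, ⟨[.a6], [.a6]⟩]
def D276 : List Dv := [⟨[.a5], [1, 0], [0, 1]⟩,
  ⟨[.a8], [3, 0, 2, 2], []⟩]
theorem bad276 (c : CtxF Goal γ) : Bad Goal γ [] P276 :=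
  c.toCtx.cent (B := B276) (D := D276) (I := [2, 3, 1, 4, 0]) (z := [.a2, .a3, .a7]) (by decide +kernel) (by decide +kernel)

def P277 : List Ent := [⟨4, [.a2, .a9], [.a2, .a5, .a9]⟩,
  ⟨32, [.a5], [.a5]⟩,
  ⟨64, [.a6], [.a6]⟩,
  ⟨256, [.a8], [.a8]⟩,
  ⟨2048, [.a11], [.a11]⟩]
def B277 : List Gv := [⟨[.a2, .a9], [.a2, .a5, .a9]⟩, ⟨[.a6], [.a6]⟩, ⟨[.a11], [.a11]⟩]
def D277 : List Dv := [⟨[.a5], [0, 0], []⟩,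
  ⟨[.a8], [2, 0, 3, 1], [1, 3]⟩]
theorem bad277 (c : CtxF Goal γ) : Bad Goal γ [] P277 :=
  c.toCtx.cent (B := B277) (D := D277) (I := [2, 1, 3, 0, 4]) (z := [.a7]) (by decide +kernel) (by decide +kernel)

def P278 : List Ent := [⟨4, [.a2, .a9], [.a2, .a5, .a9]⟩,
  ⟨8, [.a3], [.a3]⟩,
  ⟨32, [.a5], [.a5]⟩,
  ⟨64, [.a6], [.a6]⟩,
  ⟨256, [.a8], [.a8]⟩]
def B278 : List Gv := [⟨[.a2, .a9], [.a2, .a5, .a9]⟩, ⟨[.a3], [.a3]⟩, ⟨[.a6], [.a6]⟩, ⟨[.a8], [.a8]⟩]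
def D278 : List Dv := [⟨[.a5], [0, 0], []⟩]
def C278 : List Ch := [⟨P39, 0, [], []⟩,
  ⟨P54, 1, [], []⟩,
  ⟨P54, 0, [.a0], [.a0]⟩,
  ⟨P55, 2, [], []⟩,
  ⟨P55, 0, [.a0], [.a0]⟩,
  ⟨P55, 1, [.a10], [.a10, .a11]⟩,
  ⟨P55, 0, [.a0, .a1, .a3, .a5, .a6, .a7, .a8, .a9, .a10], [.a0, .a10, .a11]⟩,
  ⟨P56, 3, [], []⟩,
  ⟨P56, 0, [.a1], [.a1, .a2]⟩,
  ⟨P56, 1, [.a0, .a11], [.a0, .a2, .a3, .a4, .a5, .a6, .a7, .a9, .a11]⟩,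
  ⟨P56, 0, [.a11], [.a11]⟩,
  ⟨P56, 2, [.a0, .a1, .a3, .a5, .a6, .a7, .a8, .a9, .a10, .a11], [.a0, .a2, .a3, .a4, .a5, .a6, .a7, .a9, .a10]⟩,
  ⟨P56, 0, [.a10, .a11], [.a10]⟩,
  ⟨P56, 1, [.a4, .a10], [.a4, .a5, .a10, .a11]⟩,
  ⟨P56, 0, [.a10], [.a10, .a11]⟩]
def N278 : List Ent := [⟨1, [.a0], [.a0]⟩,
  ⟨2, [.a1], [.a1, .a2]⟩,
  ⟨4, [.a2, .a9], [.a2, .a5, .a9]⟩,
  ⟨8, [.a3], [.a3]⟩,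
  ⟨16, [.a4], [.a4, .a5]⟩,
  ⟨32, [.a5], [.a5]⟩,
  ⟨64, [.a6], [.a6]⟩,
  ⟨128, [.a7], [.a7, .a8]⟩,
  ⟨256, [.a8], [.a8]⟩,
  ⟨512, [.a9], [.a9]⟩,
  ⟨1024, [.a10], [.a10, .a11]⟩,
  ⟨2048, [.a11], [.a11]⟩]
theorem bad278 (c : CtxF Goal γ) : Bad Goal γ [] P278 :=
  c.toCtx.bnd (B := B278) (D := D278) (I := [1, 2, 0, 3, 4]) (r := 4) (C := C278) (N := N278) (by decide +kernel) (by decide +kernel) (by decide +kernel) (by decide +kernel)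
    (allB_cons (bad39 c) (allB_cons (bad54 c) (allB_cons (bad54 c) (allB_cons (bad55 c) (allB_cons (bad55 c) (allB_cons (bad55 c) (allB_cons (bad55 c) (allB_cons (bad56 c) (allB_cons (bad56 c) (allB_cons (bad56 c) (allB_cons (bad56 c) (allB_cons (bad56 c) (allB_cons (bad56 c) (allB_cons (bad56 c) (allB_cons (bad56 c) (allB_nil))))))))))))))))

def P279 : List Ent := [⟨4, [.a2, .a9], [.a2, .a5, .a9]⟩,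
  ⟨8, [.a3, .a11], [.a3, .a8, .a11]⟩,
  ⟨32, [.a5], [.a5]⟩,
  ⟨64, [.a6], [.a6]⟩,
  ⟨256, [.a8], [.a8]⟩]
def B279 : List Gv := [⟨[.a2, .a9], [.a2, .a5, .a9]⟩, ⟨[.a3, .a11], [.a3, .a8, .a11]⟩]
def D279 : List Dv := [⟨[.a5], [0, 0], []⟩,
  ⟨[.a6, .a8], [0, 2, 1], [1, 2]⟩,
  ⟨[.a8], [3, 3], []⟩,
  ⟨[.a6], [1], [0]⟩]
def C279 : List Ch := [⟨P42, 0, [], []⟩,
  ⟨P54, 1, [], []⟩,
  ⟨P33, 0, [.a0, .a1, .a3, .a5, .a6, .a7, .a8, .a9, .a10], [.a0, .a10, .a11]⟩]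
def N279 : List Ent := [⟨4, [.a2, .a9], [.a2, .a5, .a9]⟩,
  ⟨8, [.a3, .a11], [.a3, .a8, .a11]⟩,
  ⟨16, [.a4], [.a4, .a5]⟩,
  ⟨32, [.a5], [.a5]⟩,
  ⟨64, [.a6], [.a6]⟩,
  ⟨128, [.a7], [.a7, .a8]⟩,
  ⟨256, [.a8], [.a8]⟩,
  ⟨512, [.a9], [.a9]⟩,
  ⟨2048, [.a11], [.a11]⟩]
theorem bad279 (c : CtxF Goal γ) : Bad Goal γ [] P279 :=
  c.toCtx.bnd (B := B279) (D := D279) (I := [4, 5, 3, 0, 1]) (r := 2) (C := C279) (N := N279) (by decide +kernel) (by decide +kernel) (by decide +kernel) (by decide +kernel)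
    (allB_cons (bad42 c) (allB_cons (bad54 c) (allB_cons (bad33 c) (allB_nil))))

def P280 : List Ent := [⟨4, [.a2], [.a2]⟩,
  ⟨32, [.a5], [.a5]⟩,
  ⟨64, [.a6], [.a6]⟩,
  ⟨256, [.a8], [.a8]⟩,
  ⟨2048, [.a11], [.a11]⟩]
def B280 : List Gv := [⟨[.a2], [.a2]⟩, ⟨[.a5], [.a5]⟩, ⟨[.a6], [.a6]⟩, ⟨[.a11], [.a11]⟩]
def D280 : List Dv := [⟨[.a8], [2, 1, 3, 0], [0, 3]⟩]
theorem bad280 (c : CtxF Goal γ) : Bad Goal γ [] P280 :=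
  c.toCtx.cent (B := B280) (D := D280) (I := [1, 2, 3, 0, 4]) (z := [.a4]) (by decide +kernel) (by decide +kernel)

def P281 : List Ent := [⟨4, [.a2], [.a2]⟩,
  ⟨8, [.a3, .a9], [.a3, .a9]⟩,
  ⟨32, [.a5], [.a5]⟩,
  ⟨64, [.a6], [.a6]⟩,
  ⟨256, [.a8], [.a8]⟩]
def B281 : List Gv := [⟨[.a2], [.a2]⟩, ⟨[.a3, .a9], [.a3, .a9]⟩, ⟨[.a6], [.a6]⟩, ⟨[.a8], [.a8]⟩]
def D281 : List Dv := [⟨[.a5], [1, 0], [0, 1]⟩]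
theorem bad281 (c : CtxF Goal γ) : Bad Goal γ [] P281 :=
  c.toCtx.cent (B := B281) (D := D281) (I := [1, 2, 0, 3, 4]) (z := [.a3]) (by decide +kernel) (by decide +kernel)

def P282 : List Ent := [⟨4, [.a2], [.a2]⟩,
  ⟨8, [.a3, .a9, .a11], [.a3, .a8, .a9, .a11]⟩,
  ⟨32, [.a5], [.a5]⟩,
  ⟨64, [.a6], [.a6]⟩,
  ⟨256, [.a8], [.a8]⟩]
def B282 : List Gv := [⟨[.a2], [.a2]⟩, ⟨[.a3, .a9, .a11], [.a3, .a8, .a9, .a11]⟩, ⟨[.a5], [.a5]⟩]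
def D282 : List Dv := [⟨[.a6, .a8], [1, 0], [0, 1]⟩,
  ⟨[.a8], [2, 2], []⟩,
  ⟨[.a6], [1], [0]⟩]
theorem bad282 (c : CtxF Goal γ) : Bad Goal γ [] P282 :=
  c.toCtx.cent (B := B282) (D := D282) (I := [3, 4, 5, 0, 1]) (z := [.a3, .a4]) (by decide +kernel) (by decide +kernel)

def P283 : List Ent := [⟨4, [.a2], [.a2]⟩,
  ⟨8, [.a3], [.a3]⟩,
  ⟨32, [.a5], [.a5]⟩,
  ⟨256, [.a8], [.a8]⟩,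
  ⟨512, [.a9], [.a9]⟩]
def B283 : List Gv := [⟨[.a2], [.a2]⟩, ⟨[.a3], [.a3]⟩, ⟨[.a8], [.a8]⟩, ⟨[.a9], [.a9]⟩]
def D283 : List Dv := [⟨[.a5], [3, 0], [0, 3]⟩]
theorem bad283 (c : CtxF Goal γ) : Bad Goal γ [] P283 :=
  c.toCtx.cent (B := B283) (D := D283) (I := [1, 2, 0, 3, 4]) (z := [.a6]) (by decide +kernel) (by decide +kernel)

def P284 : List Ent := [⟨4, [.a2], [.a2]⟩,
  ⟨8, [.a3], [.a3]⟩,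
  ⟨32, [.a5], [.a5]⟩,
  ⟨64, [.a6], [.a6]⟩,
  ⟨512, [.a9], [.a9]⟩]
def B284 : List Gv := [⟨[.a2], [.a2]⟩, ⟨[.a3], [.a3]⟩, ⟨[.a6], [.a6]⟩, ⟨[.a9], [.a9]⟩]
def D284 : List Dv := [⟨[.a5], [3, 0], [0, 3]⟩]
theorem bad284 (c : CtxF Goal γ) : Bad Goal γ [] P284 :=
  c.toCtx.cent (B := B284) (D := D284) (I := [1, 2, 0, 3, 4]) (z := [.a8]) (by decide +kernel) (by decide +kernel)

def P285 : List Ent := [⟨4, [.a2, .a8], [.a2, .a8]⟩,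
  ⟨8, [.a3], [.a3]⟩,
  ⟨32, [.a5], [.a5]⟩,
  ⟨64, [.a6], [.a6]⟩,
  ⟨512, [.a9], [.a9]⟩]
def B285 : List Gv := [⟨[.a2, .a8], [.a2, .a8]⟩, ⟨[.a3], [.a3]⟩, ⟨[.a6], [.a6]⟩, ⟨[.a9], [.a9]⟩]
def D285 : List Dv := [⟨[.a5], [3, 0], [0, 3]⟩]
theorem bad285 (c : CtxF Goal γ) : Bad Goal γ [] P285 :=
  c.toCtx.cent (B := B285) (D := D285) (I := [1, 2, 0, 3, 4]) (z := [.a8]) (by decide +kernel) (by decide +kernel)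

def P286 : List Ent := [⟨4, [.a2], [.a2]⟩,
  ⟨8, [.a3], [.a3]⟩,
  ⟨32, [.a5], [.a5]⟩,
  ⟨64, [.a6], [.a6]⟩,
  ⟨256, [.a8], [.a8]⟩]
def B286 : List Gv := [⟨[.a2], [.a2]⟩, ⟨[.a3], [.a3]⟩, ⟨[.a5], [.a5]⟩, ⟨[.a6], [.a6]⟩, ⟨[.a8], [.a8]⟩]
def D286 : List Dv := []
theorem bad286 (c : CtxF Goal γ) : Bad Goal γ [] P286 :=
  c.toCtx.cent (B := B286) (D := D286) (I := [0, 1, 2, 3, 4]) (z := [.a4]) (by decide +kernel) (by decide +kernel)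

def P287 : List Ent := [⟨4, [.a2, .a10], [.a2, .a3, .a5, .a8, .a10, .a11]⟩,
  ⟨8, [.a3, .a6, .a11], [.a3, .a6, .a8, .a11]⟩,
  ⟨32, [.a5], [.a5]⟩,
  ⟨256, [.a8], [.a8]⟩,
  ⟨512, [.a9], [.a9]⟩]
def B287 : List Gv := [⟨[.a2, .a10], [.a2, .a3, .a5, .a8, .a10, .a11]⟩, ⟨[.a9], [.a9]⟩]
def D287 : List Dv := [⟨[.a3, .a6, .a8, .a11], [0, 0], []⟩,
  ⟨[.a5], [2, 1], [1, 2]⟩,
  ⟨[.a8], [1, 1], []⟩,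
  ⟨[.a3, .a6, .a11], [2], [0]⟩]
def C287 : List Ch := [⟨P41, 0, [.a10], [.a10, .a11]⟩,
  ⟨P57, 1, [], []⟩,
  ⟨P57, 0, [.a7], [.a7, .a8]⟩]
def N287 : List Ent := [⟨4, [.a2, .a10], [.a2, .a3, .a5, .a8, .a10, .a11]⟩,
  ⟨8, [.a3, .a6, .a11], [.a3, .a6, .a8, .a11]⟩,
  ⟨16, [.a4], [.a4, .a5]⟩,
  ⟨32, [.a5], [.a5]⟩,
  ⟨64, [.a6], [.a6]⟩,
  ⟨128, [.a7], [.a7, .a8]⟩,
  ⟨256, [.a8], [.a8]⟩,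
  ⟨512, [.a9], [.a9]⟩]
theorem bad287 (c : CtxF Goal γ) : Bad Goal γ [] P287 :=
  c.toCtx.bnd (B := B287) (D := D287) (I := [4, 0, 2, 1, 5]) (r := 2) (C := C287) (N := N287) (by decide +kernel) (by decide +kernel) (by decide +kernel) (by decide +kernel)
    (allB_cons (bad41 c) (allB_cons (bad57 c) (allB_cons (bad57 c) (allB_nil))))

def P288 : List Ent := [⟨4, [.a2, .a10], [.a2, .a3, .a5, .a8, .a10, .a11]⟩,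
  ⟨8, [.a3, .a11], [.a3, .a8, .a11]⟩,
  ⟨32, [.a5], [.a5]⟩,
  ⟨64, [.a6], [.a6]⟩,
  ⟨256, [.a8], [.a8]⟩]
def B288 : List Gv := [⟨[.a2, .a10], [.a2, .a3, .a5, .a8, .a10, .a11]⟩, ⟨[.a3, .a11], [.a3, .a8, .a11]⟩, ⟨[.a5], [.a5]⟩]
def D288 : List Dv := [⟨[.a6], [1, 0, 0], []⟩,
  ⟨[.a8], [2, 1], [1, 2]⟩]
theorem bad288 (c : CtxF Goal γ) : Bad Goal γ [] P288 :=
  c.toCtx.cent (B := B288) (D := D288) (I := [2, 3, 4, 1, 0]) (z := [.a4]) (by decide +kernel) (by decide +kernel)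

def P289 : List Ent := [⟨4, [.a2, .a10], [.a2, .a3, .a5, .a8, .a10, .a11]⟩,
  ⟨8, [.a3, .a9, .a11], [.a3, .a8, .a9, .a11]⟩,
  ⟨32, [.a5], [.a5]⟩,
  ⟨64, [.a6, .a9], [.a6, .a9]⟩,
  ⟨256, [.a8], [.a8]⟩]
def B289 : List Gv := [⟨[.a2, .a10], [.a2, .a3, .a5, .a8, .a10, .a11]⟩, ⟨[.a3, .a9, .a11], [.a3, .a8, .a9, .a11]⟩]
def D289 : List Dv := [⟨[.a6, .a9], [1, 0, 0], []⟩,
  ⟨[.a5, .a8], [2, 1], [1, 2]⟩,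
  ⟨[.a8], [3, 3], []⟩,
  ⟨[.a5], [1], [0]⟩]
def C289 : List Ch := [⟨P41, 0, [.a1, .a10], [.a1, .a2, .a4, .a5, .a7, .a9, .a10, .a11]⟩,
  ⟨P57, 1, [], []⟩,
  ⟨P57, 0, [.a3, .a7], [.a3, .a5, .a7, .a8]⟩]
def N289 : List Ent := [⟨4, [.a2, .a10], [.a2, .a3, .a5, .a8, .a10, .a11]⟩,
  ⟨8, [.a3, .a9, .a11], [.a3, .a8, .a9, .a11]⟩,
  ⟨16, [.a4], [.a4, .a5]⟩,
  ⟨32, [.a5], [.a5]⟩,
  ⟨64, [.a6, .a9], [.a6, .a9]⟩,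
  ⟨128, [.a7, .a11], [.a7, .a8, .a11]⟩,
  ⟨256, [.a8], [.a8]⟩,
  ⟨512, [.a9], [.a9]⟩]
theorem bad289 (c : CtxF Goal γ) : Bad Goal γ [] P289 :=
  c.toCtx.bnd (B := B289) (D := D289) (I := [4, 5, 0, 3, 1]) (r := 2) (C := C289) (N := N289) (by decide +kernel) (by decide +kernel) (by decide +kernel) (by decide +kernel)
    (allB_cons (bad41 c) (allB_cons (bad57 c) (allB_cons (bad57 c) (allB_nil))))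

def P290 : List Ent := [⟨4, [.a2, .a7], [.a2, .a7, .a8]⟩,
  ⟨32, [.a5], [.a5]⟩,
  ⟨64, [.a6], [.a6]⟩,
  ⟨256, [.a8], [.a8]⟩,
  ⟨2048, [.a11], [.a11]⟩]
def B290 : List Gv := [⟨[.a2, .a7], [.a2, .a7, .a8]⟩, ⟨[.a5], [.a5]⟩, ⟨[.a11], [.a11]⟩]
def D290 : List Dv := [⟨[.a8], [0, 0], []⟩,
  ⟨[.a6, .a8], [2, 3, 1], [1, 3]⟩,
  ⟨[.a6], [0], [1]⟩]
theorem bad290 (c : CtxF Goal γ) : Bad Goal γ [] P290 :=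
  c.toCtx.cent (B := B290) (D := D290) (I := [3, 4, 0, 2, 5]) (z := [.a7]) (by decide +kernel) (by decide +kernel)

def P291 : List Ent := [⟨4, [.a2, .a7], [.a2, .a7, .a8]⟩,
  ⟨8, [.a3, .a9], [.a3, .a9]⟩,
  ⟨32, [.a5, .a6], [.a5, .a6]⟩,
  ⟨256, [.a8], [.a8]⟩,
  ⟨2048, [.a11], [.a11]⟩]
def B291 : List Gv := [⟨[.a2, .a7], [.a2, .a7, .a8]⟩, ⟨[.a3, .a9], [.a3, .a9]⟩, ⟨[.a11], [.a11]⟩]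
def D291 : List Dv := [⟨[.a8], [0, 0], []⟩,
  ⟨[.a5, .a6, .a8], [3, 1], [1, 3]⟩,
  ⟨[.a5, .a6], [0], [1]⟩]
theorem bad291 (c : CtxF Goal γ) : Bad Goal γ [] P291 :=
  c.toCtx.cent (B := B291) (D := D291) (I := [3, 4, 0, 2, 5]) (z := [.a5]) (by decide +kernel) (by decide +kernel)

def P292 : List Ent := [⟨4, [.a2, .a7, .a11], [.a2, .a5, .a6, .a7, .a11]⟩,
  ⟨8, [.a3, .a9], [.a3, .a9]⟩,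
  ⟨32, [.a5], [.a5]⟩,
  ⟨64, [.a6], [.a6]⟩,
  ⟨256, [.a8], [.a8]⟩]
def B292 : List Gv := [⟨[.a2, .a7, .a11], [.a2, .a5, .a6, .a7, .a11]⟩, ⟨[.a3, .a9], [.a3, .a9]⟩, ⟨[.a5], [.a5]⟩]
def D292 : List Dv := [⟨[.a6], [2, 0, 0], []⟩,
  ⟨[.a8], [2, 1], [1, 2]⟩]
theorem bad292 (c : CtxF Goal γ) : Bad Goal γ [] P292 :=
  c.toCtx.cent (B := B292) (D := D292) (I := [2, 3, 4, 1, 0]) (z := [.a3, .a4, .a11]) (by decide +kernel) (by decide +kernel)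

def P293 : List Ent := [⟨4, [.a2, .a7], [.a2, .a7, .a8]⟩,
  ⟨8, [.a3, .a9, .a11], [.a3, .a8, .a9, .a11]⟩,
  ⟨32, [.a5], [.a5]⟩,
  ⟨64, [.a6], [.a6]⟩,
  ⟨256, [.a8], [.a8]⟩]
def B293 : List Gv := [⟨[.a2, .a7], [.a2, .a7, .a8]⟩, ⟨[.a3, .a9, .a11], [.a3, .a8, .a9, .a11]⟩, ⟨[.a5], [.a5]⟩]
def D293 : List Dv := [⟨[.a8], [0, 0], []⟩,
  ⟨[.a6, .a8], [3, 2, 1], [1, 2]⟩,
  ⟨[.a6], [0], [1]⟩]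
def C293 : List Ch := [⟨P42, 0, [.a1], [.a1, .a2]⟩,
  ⟨P45, 1, [.a0], [.a0]⟩,
  ⟨P58, 0, [], []⟩,
  ⟨P59, 2, [], []⟩,
  ⟨P59, 0, [.a4], [.a4, .a5]⟩,
  ⟨P59, 1, [.a7], [.a7, .a8]⟩,
  ⟨P59, 0, [.a4, .a6, .a7], [.a4, .a5, .a7, .a8]⟩]
def N293 : List Ent := [⟨4, [.a2, .a7], [.a2, .a7, .a8]⟩,
  ⟨8, [.a3, .a9, .a11], [.a3, .a8, .a9, .a11]⟩,
  ⟨16, [.a4], [.a4, .a5]⟩,
  ⟨32, [.a5], [.a5]⟩,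
  ⟨64, [.a6], [.a6]⟩,
  ⟨128, [.a7], [.a7, .a8]⟩,
  ⟨256, [.a8], [.a8]⟩,
  ⟨512, [.a9], [.a9]⟩,
  ⟨2048, [.a11], [.a11]⟩]
theorem bad293 (c : CtxF Goal γ) : Bad Goal γ [] P293 :=
  c.toCtx.bnd (B := B293) (D := D293) (I := [3, 4, 5, 0, 2]) (r := 3) (C := C293) (N := N293) (by decide +kernel) (by decide +kernel) (by decide +kernel) (by decide +kernel)
    (allB_cons (bad42 c) (allB_cons (bad45 c) (allB_cons (bad58 c) (allB_cons (bad59 c) (allB_cons (bad59 c) (allB_cons (bad59 c) (allB_cons (bad59 c) (allB_nil))))))))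

def P294 : List Ent := [⟨4, [.a2, .a7], [.a2, .a7, .a8]⟩,
  ⟨8, [.a3, .a9], [.a3, .a9]⟩,
  ⟨32, [.a5, .a11], [.a5, .a11]⟩,
  ⟨64, [.a6, .a11], [.a6, .a11]⟩,
  ⟨256, [.a8], [.a8]⟩]
def B294 : List Gv := [⟨[.a2, .a7], [.a2, .a7, .a8]⟩, ⟨[.a3, .a9], [.a3, .a9]⟩, ⟨[.a5, .a11], [.a5, .a11]⟩]
def D294 : List Dv := [⟨[.a8], [0, 0], []⟩,
  ⟨[.a6, .a8, .a11], [3, 3, 1], [1, 3]⟩,
  ⟨[.a6, .a11], [0], [1]⟩]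
theorem bad294 (c : CtxF Goal γ) : Bad Goal γ [] P294 :=
  c.toCtx.cent (B := B294) (D := D294) (I := [3, 4, 5, 0, 2]) (z := [.a5]) (by decide +kernel) (by decide +kernel)

def P295 : List Ent := [⟨4, [.a2, .a3, .a7], [.a2, .a3, .a5, .a7, .a8]⟩,
  ⟨32, [.a5], [.a5]⟩,
  ⟨64, [.a6], [.a6]⟩,
  ⟨256, [.a8], [.a8]⟩,
  ⟨2048, [.a11], [.a11]⟩]
def B295 : List Gv := [⟨[.a2, .a3, .a7], [.a2, .a3, .a5, .a7, .a8]⟩, ⟨[.a5], [.a5]⟩, ⟨[.a11], [.a11]⟩]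
def D295 : List Dv := [⟨[.a8], [1, 0, 0], []⟩,
  ⟨[.a6], [2, 3, 1], [1, 3]⟩]
theorem bad295 (c : CtxF Goal γ) : Bad Goal γ [] P295 :=
  c.toCtx.cent (B := B295) (D := D295) (I := [2, 3, 0, 1, 4]) (z := [.a7, .a9]) (by decide +kernel) (by decide +kernel)

def P296 : List Ent := [⟨4, [.a2, .a7, .a11], [.a2, .a5, .a6, .a7, .a11]⟩,
  ⟨8, [.a3], [.a3]⟩,
  ⟨32, [.a5], [.a5]⟩,
  ⟨64, [.a6], [.a6]⟩,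
  ⟨256, [.a8], [.a8]⟩]
def B296 : List Gv := [⟨[.a2, .a7, .a11], [.a2, .a5, .a6, .a7, .a11]⟩, ⟨[.a3], [.a3]⟩, ⟨[.a5], [.a5]⟩]
def D296 : List Dv := [⟨[.a6], [2, 0, 0], []⟩,
  ⟨[.a8], [3, 2, 1], [1, 2]⟩]
theorem bad296 (c : CtxF Goal γ) : Bad Goal γ [] P296 :=
  c.toCtx.cent (B := B296) (D := D296) (I := [2, 3, 4, 1, 0]) (z := [.a2, .a3, .a4]) (by decide +kernel) (by decide +kernel)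

def P297 : List Ent := [⟨4, [.a2, .a7, .a11], [.a2, .a5, .a6, .a7, .a11]⟩,
  ⟨8, [.a3, .a11], [.a3, .a8, .a11]⟩,
  ⟨32, [.a5], [.a5]⟩,
  ⟨64, [.a6], [.a6]⟩,
  ⟨256, [.a8], [.a8]⟩]
def B297 : List Gv := [⟨[.a2, .a7, .a11], [.a2, .a5, .a6, .a7, .a11]⟩, ⟨[.a3, .a11], [.a3, .a8, .a11]⟩]
def D297 : List Dv := [⟨[.a5, .a6], [0, 0], []⟩,
  ⟨[.a6], [2, 1], [1, 2]⟩,
  ⟨[.a8], [3, 3], []⟩,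
  ⟨[.a5], [2], [1]⟩]
theorem bad297 (c : CtxF Goal γ) : Bad Goal γ [] P297 :=
  c.toCtx.cent (B := B297) (D := D297) (I := [4, 5, 0, 2, 1]) (z := [.a3, .a4, .a11]) (by decide +kernel) (by decide +kernel)

def P298 : List Ent := [⟨4, [.a2, .a7, .a11], [.a2, .a5, .a6, .a7, .a11]⟩,
  ⟨32, [.a5], [.a5]⟩,
  ⟨64, [.a6], [.a6]⟩,
  ⟨256, [.a8], [.a8]⟩,
  ⟨512, [.a9], [.a9]⟩]
def B298 : List Gv := [⟨[.a2, .a7, .a11], [.a2, .a5, .a6, .a7, .a11]⟩, ⟨[.a8], [.a8]⟩, ⟨[.a9], [.a9]⟩]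
def D298 : List Dv := [⟨[.a5, .a6], [0, 0], []⟩,
  ⟨[.a6], [0, 3, 1], [1, 3]⟩,
  ⟨[.a5], [1], [0]⟩]
theorem bad298 (c : CtxF Goal γ) : Bad Goal γ [] P298 :=
  c.toCtx.cent (B := B298) (D := D298) (I := [3, 0, 1, 4, 5]) (z := [.a7]) (by decide +kernel) (by decide +kernel)

def P299 : List Ent := [⟨4, [.a2, .a7, .a10], [.a2, .a3, .a5, .a7, .a9, .a10, .a11]⟩,
  ⟨8, [.a3, .a9, .a11], [.a3, .a8, .a9, .a11]⟩,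
  ⟨32, [.a5], [.a5]⟩,
  ⟨64, [.a6], [.a6]⟩,
  ⟨256, [.a8], [.a8]⟩]
def B299 : List Gv := [⟨[.a2, .a7, .a10], [.a2, .a3, .a5, .a7, .a9, .a10, .a11]⟩, ⟨[.a3, .a9, .a11], [.a3, .a8, .a9, .a11]⟩, ⟨[.a5], [.a5]⟩]
def D299 : List Dv := [⟨[.a6, .a8], [2, 1, 0, 0], []⟩,
  ⟨[.a8], [2, 1], [1, 2]⟩,
  ⟨[.a6], [1], [0]⟩]
theorem bad299 (c : CtxF Goal γ) : Bad Goal γ [] P299 :=
  c.toCtx.cent (B := B299) (D := D299) (I := [3, 4, 5, 0, 1]) (z := [.a3, .a4]) (by decide +kernel) (by decide +kernel)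

def P300 : List Ent := [⟨4, [.a2, .a7, .a10], [.a2, .a3, .a5, .a7, .a9, .a10, .a11]⟩,
  ⟨8, [.a3, .a11], [.a3, .a8, .a11]⟩,
  ⟨32, [.a5], [.a5]⟩,
  ⟨64, [.a6, .a9], [.a6, .a9]⟩,
  ⟨256, [.a8], [.a8]⟩]
def B300 : List Gv := [⟨[.a2, .a7, .a10], [.a2, .a3, .a5, .a7, .a9, .a10, .a11]⟩, ⟨[.a3, .a11], [.a3, .a8, .a11]⟩]
def D300 : List Dv := [⟨[.a5, .a6, .a8, .a9], [1, 0, 0], []⟩,
  ⟨[.a6, .a9], [0, 2, 1], [1, 2]⟩,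
  ⟨[.a8], [3, 3], []⟩,
  ⟨[.a5], [2], [1, 0]⟩]
def C300 : List Ch := [⟨P41, 0, [.a1], [.a1, .a2]⟩,
  ⟨P60, 1, [], []⟩,
  ⟨P60, 0, [.a4, .a6, .a7], [.a4, .a5, .a7, .a8]⟩]
def N300 : List Ent := [⟨4, [.a2, .a7, .a10], [.a2, .a3, .a5, .a7, .a9, .a10, .a11]⟩,
  ⟨8, [.a3, .a11], [.a3, .a8, .a11]⟩,
  ⟨16, [.a4, .a11], [.a4, .a5, .a11]⟩,
  ⟨32, [.a5], [.a5]⟩,
  ⟨64, [.a6, .a9], [.a6, .a9]⟩,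
  ⟨128, [.a7, .a11], [.a7, .a8, .a11]⟩,
  ⟨256, [.a8], [.a8]⟩,
  ⟨512, [.a9], [.a9]⟩]
theorem bad300 (c : CtxF Goal γ) : Bad Goal γ [] P300 :=
  c.toCtx.bnd (B := B300) (D := D300) (I := [4, 5, 0, 2, 1]) (r := 2) (C := C300) (N := N300) (by decide +kernel) (by decide +kernel) (by decide +kernel) (by decide +kernel)
    (allB_cons (bad41 c) (allB_cons (bad60 c) (allB_cons (bad60 c) (allB_nil))))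

def P301 : List Ent := [⟨4, [.a2, .a7, .a10], [.a2, .a3, .a5, .a7, .a9, .a10, .a11]⟩,
  ⟨8, [.a3, .a6, .a11], [.a3, .a6, .a8, .a11]⟩,
  ⟨32, [.a5], [.a5]⟩,
  ⟨256, [.a8], [.a8]⟩,
  ⟨512, [.a9], [.a9]⟩]
def B301 : List Gv := [⟨[.a2, .a7, .a10], [.a2, .a3, .a5, .a7, .a9, .a10, .a11]⟩, ⟨[.a3, .a6, .a11], [.a3, .a6, .a8, .a11]⟩]
def D301 : List Dv := [⟨[.a5, .a8, .a9], [1, 0, 0], []⟩,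
  ⟨[.a8, .a9], [0, 2, 1], [1, 2]⟩,
  ⟨[.a9], [0, 3, 3], []⟩,
  ⟨[.a8], [1], [0]⟩,
  ⟨[.a5], [3], [0, 1]⟩]
def C301 : List Ch := [⟨P41, 0, [.a10], [.a10, .a11]⟩,
  ⟨P60, 1, [], []⟩,
  ⟨P60, 0, [.a7], [.a7, .a8]⟩]
def N301 : List Ent := [⟨4, [.a2, .a7, .a10], [.a2, .a3, .a5, .a7, .a9, .a10, .a11]⟩,
  ⟨8, [.a3, .a6, .a11], [.a3, .a6, .a8, .a11]⟩,
  ⟨16, [.a4, .a11], [.a4, .a5, .a11]⟩,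
  ⟨32, [.a5], [.a5]⟩,
  ⟨64, [.a6], [.a6]⟩,
  ⟨128, [.a7], [.a7, .a8]⟩,
  ⟨256, [.a8], [.a8]⟩,
  ⟨512, [.a9], [.a9]⟩]
theorem bad301 (c : CtxF Goal γ) : Bad Goal γ [] P301 :=
  c.toCtx.bnd (B := B301) (D := D301) (I := [5, 6, 0, 1, 2]) (r := 2) (C := C301) (N := N301) (by decide +kernel) (by decide +kernel) (by decide +kernel) (by decide +kernel)
    (allB_cons (bad41 c) (allB_cons (bad60 c) (allB_cons (bad60 c) (allB_nil))))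

def P302 : List Ent := [⟨4, [.a2], [.a2]⟩,
  ⟨32, [.a5, .a6], [.a5, .a6]⟩,
  ⟨128, [.a7], [.a7, .a8]⟩,
  ⟨256, [.a8], [.a8]⟩,
  ⟨2048, [.a11], [.a11]⟩]
def B302 : List Gv := [⟨[.a2], [.a2]⟩, ⟨[.a7], [.a7, .a8]⟩, ⟨[.a11], [.a11]⟩]
def D302 : List Dv := [⟨[.a8], [1, 1], []⟩,
  ⟨[.a5, .a6, .a8], [3, 1], [1, 3]⟩,
  ⟨[.a5, .a6], [0], [1]⟩]
theorem bad302 (c : CtxF Goal γ) : Bad Goal γ [] P302 :=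
  c.toCtx.cent (B := B302) (D := D302) (I := [3, 0, 4, 2, 5]) (z := [.a5]) (by decide +kernel) (by decide +kernel)

def P303 : List Ent := [⟨4, [.a2], [.a2]⟩,
  ⟨32, [.a5], [.a5]⟩,
  ⟨64, [.a6], [.a6]⟩,
  ⟨128, [.a7], [.a7, .a8]⟩,
  ⟨256, [.a8], [.a8]⟩]
def B303 : List Gv := [⟨[.a2], [.a2]⟩, ⟨[.a5], [.a5]⟩, ⟨[.a6], [.a6]⟩, ⟨[.a7], [.a7, .a8]⟩]
def D303 : List Dv := [⟨[.a8], [3, 3], []⟩]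
def C303 : List Ch := [⟨P61, 0, [], []⟩,
  ⟨P62, 1, [], []⟩,
  ⟨P62, 0, [.a9], [.a9]⟩,
  ⟨P63, 2, [], []⟩,
  ⟨P63, 0, [.a11], [.a11]⟩,
  ⟨P62, 1, [.a1], [.a1, .a2]⟩,
  ⟨P62, 0, [.a1, .a5, .a6, .a8, .a9], [.a1, .a2, .a9]⟩,
  ⟨P64, 3, [], []⟩,
  ⟨P45, 0, [.a0], [.a0]⟩,
  ⟨P62, 1, [.a3], [.a3]⟩,
  ⟨P62, 0, [.a3, .a9], [.a3, .a9]⟩,
  ⟨P63, 2, [.a4], [.a4, .a5]⟩,
  ⟨P63, 0, [.a4, .a11], [.a4, .a5, .a11]⟩,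
  ⟨P62, 1, [.a1, .a3, .a4], [.a1, .a2, .a4, .a5]⟩,
  ⟨P62, 0, [.a1, .a3, .a4, .a5, .a7, .a11], [.a1, .a2, .a4, .a5, .a7, .a9, .a11]⟩]
def N303 : List Ent := [⟨2, [.a1], [.a1, .a2]⟩,
  ⟨4, [.a2], [.a2]⟩,
  ⟨8, [.a3], [.a3]⟩,
  ⟨16, [.a4], [.a4, .a5]⟩,
  ⟨32, [.a5], [.a5]⟩,
  ⟨64, [.a6], [.a6]⟩,
  ⟨128, [.a7], [.a7, .a8]⟩,
  ⟨256, [.a8], [.a8]⟩,
  ⟨512, [.a9], [.a9]⟩,
  ⟨2048, [.a11], [.a11]⟩]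
theorem bad303 (c : CtxF Goal γ) : Bad Goal γ [] P303 :=
  c.toCtx.bnd (B := B303) (D := D303) (I := [1, 2, 3, 4, 0]) (r := 4) (C := C303) (N := N303) (by decide +kernel) (by decide +kernel) (by decide +kernel) (by decide +kernel)
    (allB_cons (bad61 c) (allB_cons (bad62 c) (allB_cons (bad62 c) (allB_cons (bad63 c) (allB_cons (bad63 c) (allB_cons (bad62 c) (allB_cons (bad62 c) (allB_cons (bad64 c) (allB_cons (bad45 c) (allB_cons (bad62 c) (allB_cons (bad62 c) (allB_cons (bad63 c) (allB_cons (bad63 c) (allB_cons (bad62 c) (allB_cons (bad62 c) (allB_nil))))))))))))))))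

def P304 : List Ent := [⟨4, [.a2, .a11], [.a2, .a5, .a6, .a8, .a11]⟩,
  ⟨32, [.a5], [.a5]⟩,
  ⟨64, [.a6], [.a6]⟩,
  ⟨128, [.a7], [.a7, .a8]⟩,
  ⟨256, [.a8], [.a8]⟩]
def B304 : List Gv := [⟨[.a2, .a11], [.a2, .a5, .a6, .a8, .a11]⟩, ⟨[.a5], [.a5]⟩, ⟨[.a7], [.a7, .a8]⟩]
def D304 : List Dv := [⟨[.a6, .a8], [1, 0, 0], []⟩,
  ⟨[.a8], [3, 3], []⟩,
  ⟨[.a6], [1], [0]⟩]
def C304 : List Ch := [⟨P61, 0, [], []⟩,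
  ⟨P65, 1, [], []⟩,
  ⟨P65, 0, [.a9], [.a9]⟩,
  ⟨P33, 2, [.a0, .a1], [.a0, .a1, .a2]⟩,
  ⟨P58, 0, [.a10], [.a10, .a11]⟩,
  ⟨P65, 1, [.a4], [.a4, .a5]⟩,
  ⟨P65, 0, [.a4, .a8, .a9], [.a4, .a5, .a9]⟩]
def N304 : List Ent := [⟨4, [.a2, .a11], [.a2, .a5, .a6, .a8, .a11]⟩,
  ⟨8, [.a3], [.a3]⟩,
  ⟨16, [.a4], [.a4, .a5]⟩,
  ⟨32, [.a5], [.a5]⟩,
  ⟨64, [.a6], [.a6]⟩,
  ⟨128, [.a7], [.a7, .a8]⟩,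
  ⟨256, [.a8], [.a8]⟩,
  ⟨512, [.a9], [.a9]⟩,
  ⟨2048, [.a11], [.a11]⟩]
theorem bad304 (c : CtxF Goal γ) : Bad Goal γ [] P304 :=
  c.toCtx.bnd (B := B304) (D := D304) (I := [3, 4, 0, 5, 1]) (r := 3) (C := C304) (N := N304) (by decide +kernel) (by decide +kernel) (by decide +kernel) (by decide +kernel)
    (allB_cons (bad61 c) (allB_cons (bad65 c) (allB_cons (bad65 c) (allB_cons (bad33 c) (allB_cons (bad58 c) (allB_cons (bad65 c) (allB_cons (bad65 c) (allB_nil))))))))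

def P305 : List Ent := [⟨4, [.a2], [.a2]⟩,
  ⟨32, [.a5, .a11], [.a5, .a11]⟩,
  ⟨64, [.a6, .a11], [.a6, .a11]⟩,
  ⟨128, [.a7], [.a7, .a8]⟩,
  ⟨256, [.a8], [.a8]⟩]
def B305 : List Gv := [⟨[.a2], [.a2]⟩, ⟨[.a5, .a11], [.a5, .a11]⟩, ⟨[.a7], [.a7, .a8]⟩]
def D305 : List Dv := [⟨[.a6, .a8, .a11], [1, 1, 0], [0, 1]⟩,
  ⟨[.a8], [3, 3], []⟩,
  ⟨[.a6, .a11], [1], [0]⟩]
theorem bad305 (c : CtxF Goal γ) : Bad Goal γ [] P305 :=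
  c.toCtx.cent (B := B305) (D := D305) (I := [3, 4, 0, 5, 1]) (z := [.a5]) (by decide +kernel) (by decide +kernel)

def P306 : List Ent := [⟨4, [.a2], [.a2]⟩,
  ⟨32, [.a5], [.a5]⟩,
  ⟨64, [.a6], [.a6]⟩,
  ⟨128, [.a7, .a11], [.a7, .a8, .a11]⟩,
  ⟨256, [.a8], [.a8]⟩]
def B306 : List Gv := [⟨[.a2], [.a2]⟩, ⟨[.a5], [.a5]⟩, ⟨[.a7, .a11], [.a7, .a8, .a11]⟩]
def D306 : List Dv := [⟨[.a6, .a8], [1, 2, 0], [0, 2]⟩,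
  ⟨[.a8], [3, 3], []⟩,
  ⟨[.a6], [1], [0]⟩]
theorem bad306 (c : CtxF Goal γ) : Bad Goal γ [] P306 :=
  c.toCtx.cent (B := B306) (D := D306) (I := [3, 4, 0, 5, 1]) (z := [.a2, .a3, .a4]) (by decide +kernel) (by decide +kernel)

def P307 : List Ent := [⟨4, [.a2, .a9], [.a2, .a5, .a9]⟩,
  ⟨32, [.a5], [.a5]⟩,
  ⟨64, [.a6], [.a6]⟩,
  ⟨128, [.a7], [.a7, .a8]⟩,
  ⟨256, [.a8], [.a8]⟩]
def B307 : List Gv := [⟨[.a2, .a9], [.a2, .a5, .a9]⟩, ⟨[.a6], [.a6]⟩, ⟨[.a7], [.a7, .a8]⟩]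
def D307 : List Dv := [⟨[.a5], [0, 0], []⟩,
  ⟨[.a8], [3, 3], []⟩]
def C307 : List Ch := [⟨P61, 0, [], []⟩,
  ⟨P66, 1, [], []⟩,
  ⟨P66, 0, [.a1], [.a1, .a2]⟩,
  ⟨P54, 2, [], []⟩,
  ⟨P61, 0, [.a0, .a1, .a3, .a5, .a6, .a7, .a8, .a9, .a10], [.a0, .a10, .a11]⟩,
  ⟨P66, 1, [.a4], [.a4, .a5]⟩,
  ⟨P66, 0, [.a0, .a1, .a3, .a5, .a6, .a7, .a8, .a9, .a10], [.a0, .a10, .a11]⟩]
def N307 : List Ent := [⟨1, [.a0, .a10], [.a0, .a1, .a2, .a3, .a4, .a6, .a8, .a9, .a10, .a11]⟩,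
  ⟨2, [.a1], [.a1, .a2]⟩,
  ⟨4, [.a2, .a9], [.a2, .a5, .a9]⟩,
  ⟨8, [.a3], [.a3]⟩,
  ⟨16, [.a4], [.a4, .a5]⟩,
  ⟨32, [.a5], [.a5]⟩,
  ⟨64, [.a6], [.a6]⟩,
  ⟨128, [.a7], [.a7, .a8]⟩,
  ⟨256, [.a8], [.a8]⟩,
  ⟨512, [.a9], [.a9]⟩,
  ⟨2048, [.a11], [.a11]⟩]
theorem bad307 (c : CtxF Goal γ) : Bad Goal γ [] P307 :=
  c.toCtx.bnd (B := B307) (D := D307) (I := [2, 1, 3, 4, 0]) (r := 3) (C := C307) (N := N307) (by decide +kernel) (by decide +kernel) (by decide +kernel) (by decide +kernel)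
    (allB_cons (bad61 c) (allB_cons (bad66 c) (allB_cons (bad66 c) (allB_cons (bad54 c) (allB_cons (bad61 c) (allB_cons (bad66 c) (allB_cons (bad66 c) (allB_nil))))))))

def P308 : List Ent := [⟨4, [.a2, .a9], [.a2, .a5, .a9]⟩,
  ⟨32, [.a5], [.a5]⟩,
  ⟨64, [.a6], [.a6]⟩,
  ⟨128, [.a7, .a11], [.a7, .a8, .a11]⟩,
  ⟨256, [.a8], [.a8]⟩]
def B308 : List Gv := [⟨[.a2, .a9], [.a2, .a5, .a9]⟩, ⟨[.a7, .a11], [.a7, .a8, .a11]⟩]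
def D308 : List Dv := [⟨[.a5], [0, 0], []⟩,
  ⟨[.a6, .a8], [0, 2, 1], [1, 2]⟩,
  ⟨[.a8], [3, 3], []⟩,
  ⟨[.a6], [1], [0]⟩]
theorem bad308 (c : CtxF Goal γ) : Bad Goal γ [] P308 :=
  c.toCtx.cent (B := B308) (D := D308) (I := [4, 3, 0, 5, 1]) (z := [.a7]) (by decide +kernel) (by decide +kernel)

def P309 : List Ent := [⟨4, [.a2], [.a2]⟩,
  ⟨32, [.a5], [.a5]⟩,
  ⟨128, [.a7], [.a7, .a8]⟩,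
  ⟨256, [.a8], [.a8]⟩,
  ⟨512, [.a9], [.a9]⟩]
def B309 : List Gv := [⟨[.a2], [.a2]⟩, ⟨[.a7], [.a7, .a8]⟩, ⟨[.a9], [.a9]⟩]
def D309 : List Dv := [⟨[.a8], [1, 1], []⟩,
  ⟨[.a5], [3, 1], [1, 3]⟩]
theorem bad309 (c : CtxF Goal γ) : Bad Goal γ [] P309 :=
  c.toCtx.cent (B := B309) (D := D309) (I := [2, 0, 3, 1, 4]) (z := [.a6]) (by decide +kernel) (by decide +kernel)

def P310 : List Ent := [⟨4, [.a2], [.a2]⟩,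
  ⟨32, [.a5], [.a5]⟩,
  ⟨64, [.a6], [.a6]⟩,
  ⟨128, [.a7, .a9], [.a7, .a8, .a9]⟩,
  ⟨256, [.a8], [.a8]⟩]
def B310 : List Gv := [⟨[.a2], [.a2]⟩, ⟨[.a6], [.a6]⟩, ⟨[.a7, .a9], [.a7, .a8, .a9]⟩]
def D310 : List Dv := [⟨[.a5], [2, 0], [0, 2]⟩,
  ⟨[.a8], [3, 3], []⟩]
theorem bad310 (c : CtxF Goal γ) : Bad Goal γ [] P310 :=
  c.toCtx.cent (B := B310) (D := D310) (I := [2, 1, 3, 4, 0]) (z := [.a2, .a3]) (by decide +kernel) (by decide +kernel)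

def P311 : List Ent := [⟨4, [.a2, .a9], [.a2, .a5, .a9]⟩,
  ⟨32, [.a5], [.a5]⟩,
  ⟨64, [.a6], [.a6]⟩,
  ⟨128, [.a7, .a9], [.a7, .a8, .a9]⟩,
  ⟨256, [.a8], [.a8]⟩]
def B311 : List Gv := [⟨[.a2, .a9], [.a2, .a5, .a9]⟩, ⟨[.a6], [.a6]⟩, ⟨[.a7, .a9], [.a7, .a8, .a9]⟩]
def D311 : List Dv := [⟨[.a5], [0, 0], []⟩,
  ⟨[.a8], [3, 3], []⟩]
theorem bad311 (c : CtxF Goal γ) : Bad Goal γ [] P311 :=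
  c.toCtx.cent (B := B311) (D := D311) (I := [2, 1, 3, 4, 0]) (z := [.a7]) (by decide +kernel) (by decide +kernel)

def P312 : List Ent := [⟨4, [.a2, .a11], [.a2, .a5, .a6, .a8, .a11]⟩,
  ⟨32, [.a5], [.a5]⟩,
  ⟨64, [.a6], [.a6]⟩,
  ⟨128, [.a7, .a9], [.a7, .a8, .a9]⟩,
  ⟨256, [.a8], [.a8]⟩]
def B312 : List Gv := [⟨[.a2, .a11], [.a2, .a5, .a6, .a8, .a11]⟩, ⟨[.a7, .a9], [.a7, .a8, .a9]⟩]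
def D312 : List Dv := [⟨[.a5, .a6, .a8], [0, 0], []⟩,
  ⟨[.a6, .a8], [0, 2, 1], [1, 2]⟩,
  ⟨[.a8], [3, 3], []⟩,
  ⟨[.a6], [1], [0]⟩,
  ⟨[.a5], [3], [0, 1]⟩]
theorem bad312 (c : CtxF Goal γ) : Bad Goal γ [] P312 :=
  c.toCtx.cent (B := B312) (D := D312) (I := [5, 0, 1, 6, 2]) (z := [.a7]) (by decide +kernel) (by decide +kernel)

def P313 : List Ent := [⟨4, [.a2, .a11], [.a2, .a5, .a6, .a8, .a11]⟩,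
  ⟨8, [.a3, .a7], [.a3, .a5, .a7, .a8]⟩,
  ⟨32, [.a5], [.a5]⟩,
  ⟨64, [.a6], [.a6]⟩,
  ⟨256, [.a8], [.a8]⟩]
def B313 : List Gv := [⟨[.a2, .a11], [.a2, .a5, .a6, .a8, .a11]⟩, ⟨[.a3, .a7], [.a3, .a5, .a7, .a8]⟩]
def D313 : List Dv := [⟨[.a5, .a6, .a8], [0, 0], []⟩,
  ⟨[.a8], [2, 1], [1, 2]⟩,
  ⟨[.a6], [1, 3, 3], []⟩,
  ⟨[.a5], [2], [0, 1]⟩]
def C313 : List Ch := [⟨P45, 0, [], []⟩,
  ⟨P33, 1, [.a0, .a1], [.a0, .a1, .a2]⟩,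
  ⟨P58, 0, [.a1], [.a1, .a2]⟩]
def N313 : List Ent := [⟨4, [.a2, .a11], [.a2, .a5, .a6, .a8, .a11]⟩,
  ⟨8, [.a3, .a7], [.a3, .a5, .a7, .a8]⟩,
  ⟨16, [.a4], [.a4, .a5]⟩,
  ⟨32, [.a5], [.a5]⟩,
  ⟨64, [.a6], [.a6]⟩,
  ⟨128, [.a7], [.a7, .a8]⟩,
  ⟨256, [.a8], [.a8]⟩,
  ⟨512, [.a9], [.a9]⟩,
  ⟨2048, [.a11], [.a11]⟩]
theorem bad313 (c : CtxF Goal γ) : Bad Goal γ [] P313 :=
  c.toCtx.bnd (B := B313) (D := D313) (I := [4, 5, 0, 1, 2]) (r := 2) (C := C313) (N := N313) (by decide +kernel) (by decide +kernel) (by decide +kernel) (by decide +kernel)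
    (allB_cons (bad45 c) (allB_cons (bad33 c) (allB_cons (bad58 c) (allB_nil))))

def P314 : List Ent := [⟨4, [.a2], [.a2]⟩,
  ⟨8, [.a3, .a7, .a11], [.a3, .a5, .a7, .a11]⟩,
  ⟨32, [.a5], [.a5]⟩,
  ⟨64, [.a6], [.a6]⟩,
  ⟨256, [.a8], [.a8]⟩]
def B314 : List Gv := [⟨[.a2], [.a2]⟩, ⟨[.a3, .a7, .a11], [.a3, .a5, .a7, .a11]⟩, ⟨[.a6], [.a6]⟩]
def D314 : List Dv := [⟨[.a5, .a6, .a8], [1, 0], [0, 1]⟩,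
  ⟨[.a8], [3, 0, 2, 2], []⟩,
  ⟨[.a5], [1], [4, 0]⟩]
theorem bad314 (c : CtxF Goal γ) : Bad Goal γ [] P314 :=
  c.toCtx.cent (B := B314) (D := D314) (I := [3, 4, 0, 5, 1]) (z := [.a2, .a3, .a4]) (by decide +kernel) (by decide +kernel)

def P315 : List Ent := [⟨4, [.a2, .a9], [.a2, .a5, .a9]⟩,
  ⟨8, [.a3, .a7], [.a3, .a5, .a7, .a8]⟩,
  ⟨32, [.a5], [.a5]⟩,
  ⟨64, [.a6], [.a6]⟩,
  ⟨256, [.a8], [.a8]⟩]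
def B315 : List Gv := [⟨[.a2, .a9], [.a2, .a5, .a9]⟩, ⟨[.a3, .a7], [.a3, .a5, .a7, .a8]⟩, ⟨[.a6], [.a6]⟩]
def D315 : List Dv := [⟨[.a5], [0, 0], []⟩,
  ⟨[.a8], [0, 2, 2], []⟩]
def C315 : List Ch := [⟨P45, 0, [], []⟩,
  ⟨P54, 1, [], []⟩,
  ⟨P45, 0, [.a0, .a1, .a3, .a5, .a6, .a7, .a8, .a9, .a10], [.a0, .a10, .a11]⟩,
  ⟨P67, 2, [], []⟩,
  ⟨P67, 0, [.a1], [.a1, .a2]⟩,
  ⟨P67, 1, [.a4], [.a4, .a5]⟩,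
  ⟨P67, 0, [.a1, .a3, .a4], [.a1, .a2, .a4, .a5]⟩]
def N315 : List Ent := [⟨1, [.a0, .a10], [.a0, .a1, .a2, .a3, .a4, .a6, .a8, .a9, .a10, .a11]⟩,
  ⟨2, [.a1], [.a1, .a2]⟩,
  ⟨4, [.a2, .a9], [.a2, .a5, .a9]⟩,
  ⟨8, [.a3, .a7], [.a3, .a5, .a7, .a8]⟩,
  ⟨16, [.a4], [.a4, .a5]⟩,
  ⟨32, [.a5], [.a5]⟩,
  ⟨64, [.a6], [.a6]⟩,
  ⟨128, [.a7], [.a7, .a8]⟩,
  ⟨256, [.a8], [.a8]⟩,
  ⟨512, [.a9], [.a9]⟩,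
  ⟨2048, [.a11], [.a11]⟩]
theorem bad315 (c : CtxF Goal γ) : Bad Goal γ [] P315 :=
  c.toCtx.bnd (B := B315) (D := D315) (I := [2, 3, 1, 4, 0]) (r := 3) (C := C315) (N := N315) (by decide +kernel) (by decide +kernel) (by decide +kernel) (by decide +kernel)
    (allB_cons (bad45 c) (allB_cons (bad54 c) (allB_cons (bad45 c) (allB_cons (bad67 c) (allB_cons (bad67 c) (allB_cons (bad67 c) (allB_cons (bad67 c) (allB_nil))))))))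

def P316 : List Ent := [⟨4, [.a2, .a9], [.a2, .a5, .a9]⟩,
  ⟨8, [.a3, .a7, .a11], [.a3, .a5, .a7, .a11]⟩,
  ⟨32, [.a5], [.a5]⟩,
  ⟨64, [.a6], [.a6]⟩,
  ⟨256, [.a8], [.a8]⟩]
def B316 : List Gv := [⟨[.a2, .a9], [.a2, .a5, .a9]⟩, ⟨[.a3, .a7, .a11], [.a3, .a5, .a7, .a11]⟩, ⟨[.a6], [.a6]⟩]
def D316 : List Dv := [⟨[.a5], [0, 0], []⟩,
  ⟨[.a8], [3, 0, 2, 1], [1, 2]⟩]
def C316 : List Ch := [⟨P25, 0, [.a0, .a1, .a3, .a5, .a6, .a7, .a8, .a9, .a10], [.a0, .a10, .a11]⟩,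
  ⟨P54, 1, [], []⟩,
  ⟨P58, 0, [], []⟩,
  ⟨P68, 2, [], []⟩,
  ⟨P68, 0, [.a3, .a4], [.a3, .a4, .a5]⟩,
  ⟨P68, 1, [.a3], [.a3]⟩,
  ⟨P68, 0, [.a4], [.a4, .a5]⟩]
def N316 : List Ent := [⟨4, [.a2, .a9], [.a2, .a5, .a9]⟩,
  ⟨8, [.a3, .a7, .a11], [.a3, .a5, .a7, .a11]⟩,
  ⟨16, [.a4], [.a4, .a5]⟩,
  ⟨32, [.a5], [.a5]⟩,
  ⟨64, [.a6], [.a6]⟩,
  ⟨128, [.a7], [.a7, .a8]⟩,
  ⟨256, [.a8], [.a8]⟩,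
  ⟨512, [.a9], [.a9]⟩,
  ⟨2048, [.a11], [.a11]⟩]
theorem bad316 (c : CtxF Goal γ) : Bad Goal γ [] P316 :=
  c.toCtx.bnd (B := B316) (D := D316) (I := [2, 3, 1, 4, 0]) (r := 3) (C := C316) (N := N316) (by decide +kernel) (by decide +kernel) (by decide +kernel) (by decide +kernel)
    (allB_cons (bad25 c) (allB_cons (bad54 c) (allB_cons (bad58 c) (allB_cons (bad68 c) (allB_cons (bad68 c) (allB_cons (bad68 c) (allB_cons (bad68 c) (allB_nil))))))))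

def P317 : List Ent := [⟨4, [.a2], [.a2]⟩,
  ⟨8, [.a3, .a7, .a9], [.a3, .a5, .a7, .a8, .a9]⟩,
  ⟨32, [.a5], [.a5]⟩,
  ⟨64, [.a6], [.a6]⟩,
  ⟨256, [.a8], [.a8]⟩]
def B317 : List Gv := [⟨[.a2], [.a2]⟩, ⟨[.a3, .a7, .a9], [.a3, .a5, .a7, .a8, .a9]⟩, ⟨[.a6], [.a6]⟩]
def D317 : List Dv := [⟨[.a5], [1, 0], [0, 1]⟩,
  ⟨[.a8], [0, 2, 2], []⟩]
theorem bad317 (c : CtxF Goal γ) : Bad Goal γ [] P317 :=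
  c.toCtx.cent (B := B317) (D := D317) (I := [2, 3, 1, 4, 0]) (z := [.a2, .a3]) (by decide +kernel) (by decide +kernel)

def P318 : List Ent := [⟨4, [.a2, .a11], [.a2, .a5, .a6, .a8, .a11]⟩,
  ⟨8, [.a3, .a7, .a9], [.a3, .a5, .a7, .a8, .a9]⟩,
  ⟨32, [.a5], [.a5]⟩,
  ⟨64, [.a6], [.a6]⟩,
  ⟨256, [.a8], [.a8]⟩]
def B318 : List Gv := [⟨[.a2, .a11], [.a2, .a5, .a6, .a8, .a11]⟩, ⟨[.a3, .a7, .a9], [.a3, .a5, .a7, .a8, .a9]⟩, ⟨[.a5], [.a5]⟩]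
def D318 : List Dv := [⟨[.a6, .a8], [2, 0, 0], []⟩,
  ⟨[.a8], [3, 2, 1], [1, 2]⟩,
  ⟨[.a6], [1], [0]⟩]
def C318 : List Ch := [⟨P45, 0, [.a10], [.a10, .a11]⟩,
  ⟨P33, 1, [.a0, .a1], [.a0, .a1, .a2]⟩,
  ⟨P58, 0, [], []⟩,
  ⟨P69, 2, [], []⟩,
  ⟨P69, 0, [.a9], [.a9]⟩,
  ⟨P69, 1, [.a4], [.a4, .a5]⟩,
  ⟨P69, 0, [.a3], [.a3]⟩]
def N318 : List Ent := [⟨4, [.a2, .a11], [.a2, .a5, .a6, .a8, .a11]⟩,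
  ⟨8, [.a3, .a7, .a9], [.a3, .a5, .a7, .a8, .a9]⟩,
  ⟨16, [.a4], [.a4, .a5]⟩,
  ⟨32, [.a5], [.a5]⟩,
  ⟨64, [.a6], [.a6]⟩,
  ⟨128, [.a7], [.a7, .a8]⟩,
  ⟨256, [.a8], [.a8]⟩,
  ⟨512, [.a9], [.a9]⟩,
  ⟨2048, [.a11], [.a11]⟩]
theorem bad318 (c : CtxF Goal γ) : Bad Goal γ [] P318 :=
  c.toCtx.bnd (B := B318) (D := D318) (I := [3, 4, 5, 0, 1]) (r := 3) (C := C318) (N := N318) (by decide +kernel) (by decide +kernel) (by decide +kernel) (by decide +kernel)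
    (allB_cons (bad45 c) (allB_cons (bad33 c) (allB_cons (bad58 c) (allB_cons (bad69 c) (allB_cons (bad69 c) (allB_cons (bad69 c) (allB_cons (bad69 c) (allB_nil))))))))

def P319 : List Ent := [⟨4, [.a2], [.a2]⟩,
  ⟨8, [.a3, .a7], [.a3, .a5, .a7, .a8]⟩,
  ⟨32, [.a5], [.a5]⟩,
  ⟨256, [.a8], [.a8]⟩,
  ⟨512, [.a9], [.a9]⟩]
def B319 : List Gv := [⟨[.a2], [.a2]⟩, ⟨[.a3, .a7], [.a3, .a5, .a7, .a8]⟩, ⟨[.a9], [.a9]⟩]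
def D319 : List Dv := [⟨[.a5, .a8], [1, 1], []⟩,
  ⟨[.a8], [0, 3, 1], [1, 3]⟩,
  ⟨[.a5], [1], [0]⟩]
theorem bad319 (c : CtxF Goal γ) : Bad Goal γ [] P319 :=
  c.toCtx.cent (B := B319) (D := D319) (I := [3, 4, 0, 1, 5]) (z := [.a6]) (by decide +kernel) (by decide +kernel)

def P320 : List Ent := [⟨4, [.a2], [.a2]⟩,
  ⟨8, [.a3, .a7, .a11], [.a3, .a5, .a7, .a11]⟩,
  ⟨32, [.a5], [.a5]⟩,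
  ⟨64, [.a6, .a8], [.a6, .a8]⟩,
  ⟨512, [.a9], [.a9]⟩]
def B320 : List Gv := [⟨[.a2], [.a2]⟩, ⟨[.a3, .a7, .a11], [.a3, .a5, .a7, .a11]⟩, ⟨[.a9], [.a9]⟩]
def D320 : List Dv := [⟨[.a5, .a6, .a8], [1, 0], [0, 1]⟩,
  ⟨[.a6, .a8], [0, 2, 2], []⟩,
  ⟨[.a5], [1], [0]⟩]
theorem bad320 (c : CtxF Goal γ) : Bad Goal γ [] P320 :=
  c.toCtx.cent (B := B320) (D := D320) (I := [3, 4, 0, 1, 5]) (z := [.a6]) (by decide +kernel) (by decide +kernel)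

def P321 : List Ent := [⟨4, [.a2, .a8], [.a2, .a8]⟩,
  ⟨8, [.a3, .a7, .a11], [.a3, .a5, .a7, .a11]⟩,
  ⟨32, [.a5], [.a5]⟩,
  ⟨64, [.a6, .a8], [.a6, .a8]⟩,
  ⟨512, [.a9], [.a9]⟩]
def B321 : List Gv := [⟨[.a2, .a8], [.a2, .a8]⟩, ⟨[.a3, .a7, .a11], [.a3, .a5, .a7, .a11]⟩, ⟨[.a9], [.a9]⟩]
def D321 : List Dv := [⟨[.a5, .a6, .a8], [1, 0], [0, 1]⟩,
  ⟨[.a6, .a8], [0, 2, 2], []⟩,
  ⟨[.a5], [1], [0]⟩]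
theorem bad321 (c : CtxF Goal γ) : Bad Goal γ [] P321 :=
  c.toCtx.cent (B := B321) (D := D321) (I := [3, 4, 0, 1, 5]) (z := [.a6]) (by decide +kernel) (by decide +kernel)

def P322 : List Ent := [⟨4, [.a2], [.a2]⟩,
  ⟨8, [.a3], [.a3]⟩,
  ⟨32, [.a5], [.a5]⟩,
  ⟨128, [.a7], [.a7, .a8]⟩,
  ⟨256, [.a8], [.a8]⟩]
def B322 : List Gv := [⟨[.a2], [.a2]⟩, ⟨[.a3], [.a3]⟩, ⟨[.a7], [.a7, .a8]⟩]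
def D322 : List Dv := [⟨[.a5], [2, 1], [1, 2]⟩,
  ⟨[.a8], [3, 3], []⟩]
theorem bad322 (c : CtxF Goal γ) : Bad Goal γ [] P322 :=
  c.toCtx.cent (B := B322) (D := D322) (I := [2, 3, 1, 4, 0]) (z := [.a1]) (by decide +kernel) (by decide +kernel)

def P323 : List Ent := [⟨4, [.a2], [.a2]⟩,
  ⟨8, [.a3, .a6], [.a3, .a6]⟩,
  ⟨32, [.a5], [.a5]⟩,
  ⟨128, [.a7], [.a7, .a8]⟩,
  ⟨256, [.a8], [.a8]⟩]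
def B323 : List Gv := [⟨[.a2], [.a2]⟩, ⟨[.a3, .a6], [.a3, .a6]⟩, ⟨[.a7], [.a7, .a8]⟩]
def D323 : List Dv := [⟨[.a5], [2, 1], [1, 2]⟩,
  ⟨[.a8], [3, 3], []⟩]
theorem bad323 (c : CtxF Goal γ) : Bad Goal γ [] P323 :=
  c.toCtx.cent (B := B323) (D := D323) (I := [2, 3, 1, 4, 0]) (z := [.a6]) (by decide +kernel) (by decide +kernel)

def P324 : List Ent := [⟨4, [.a2, .a9], [.a2, .a5, .a9]⟩,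
  ⟨8, [.a3], [.a3]⟩,
  ⟨32, [.a5], [.a5]⟩,
  ⟨128, [.a7], [.a7, .a8]⟩,
  ⟨256, [.a8], [.a8]⟩]
def B324 : List Gv := [⟨[.a2, .a9], [.a2, .a5, .a9]⟩, ⟨[.a3], [.a3]⟩, ⟨[.a7], [.a7, .a8]⟩]
def D324 : List Dv := [⟨[.a5], [0, 0], []⟩,
  ⟨[.a8], [3, 3], []⟩]
theorem bad324 (c : CtxF Goal γ) : Bad Goal γ [] P324 :=
  c.toCtx.cent (B := B324) (D := D324) (I := [2, 3, 1, 4, 0]) (z := [.a6]) (by decide +kernel) (by decide +kernel)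

def P325 : List Ent := [⟨4, [.a2, .a4, .a9], [.a2, .a4, .a8, .a9]⟩,
  ⟨32, [.a5], [.a5]⟩,
  ⟨64, [.a6], [.a6]⟩,
  ⟨256, [.a8], [.a8]⟩,
  ⟨2048, [.a11], [.a11]⟩]
def B325 : List Gv := [⟨[.a2, .a4, .a9], [.a2, .a4, .a8, .a9]⟩, ⟨[.a5], [.a5]⟩, ⟨[.a11], [.a11]⟩]
def D325 : List Dv := [⟨[.a8], [0, 0], []⟩,
  ⟨[.a6, .a8], [2, 3, 1], [1, 3]⟩,
  ⟨[.a6], [0], [1]⟩]
theorem bad325 (c : CtxF Goal γ) : Bad Goal γ [] P325 :=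
  c.toCtx.cent (B := B325) (D := D325) (I := [3, 4, 0, 2, 5]) (z := [.a7, .a9, .a11]) (by decide +kernel) (by decide +kernel)

def P326 : List Ent := [⟨4, [.a2, .a4, .a9], [.a2, .a4, .a8, .a9]⟩,
  ⟨8, [.a3], [.a3]⟩,
  ⟨32, [.a5, .a6], [.a5, .a6]⟩,
  ⟨256, [.a8], [.a8]⟩,
  ⟨2048, [.a11], [.a11]⟩]
def B326 : List Gv := [⟨[.a2, .a4, .a9], [.a2, .a4, .a8, .a9]⟩, ⟨[.a3], [.a3]⟩, ⟨[.a11], [.a11]⟩]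
def D326 : List Dv := [⟨[.a8], [0, 0], []⟩,
  ⟨[.a5, .a6, .a8], [3, 1], [1, 3]⟩,
  ⟨[.a5, .a6], [0], [1]⟩]
theorem bad326 (c : CtxF Goal γ) : Bad Goal γ [] P326 :=
  c.toCtx.cent (B := B326) (D := D326) (I := [3, 4, 0, 2, 5]) (z := [.a5]) (by decide +kernel) (by decide +kernel)

def P327 : List Ent := [⟨4, [.a2, .a4, .a9], [.a2, .a4, .a8, .a9]⟩,
  ⟨8, [.a3, .a11], [.a3, .a8, .a11]⟩,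
  ⟨32, [.a5], [.a5]⟩,
  ⟨64, [.a6], [.a6]⟩,
  ⟨256, [.a8], [.a8]⟩]
def B327 : List Gv := [⟨[.a2, .a4, .a9], [.a2, .a4, .a8, .a9]⟩, ⟨[.a3, .a11], [.a3, .a8, .a11]⟩, ⟨[.a5], [.a5]⟩]
def D327 : List Dv := [⟨[.a8], [0, 0], []⟩,
  ⟨[.a6, .a8], [3, 2, 1], [1, 2]⟩,
  ⟨[.a6], [0], [1]⟩]
def C327 : List Ch := [⟨P42, 0, [], []⟩,
  ⟨P27, 1, [.a0, .a1, .a3, .a5, .a6, .a7, .a8, .a9, .a10], [.a0, .a10, .a11]⟩,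
  ⟨P58, 0, [.a0, .a1], [.a0, .a1, .a2]⟩,
  ⟨P70, 2, [], []⟩,
  ⟨P70, 0, [.a9], [.a9]⟩,
  ⟨P70, 1, [.a7, .a9], [.a7, .a8, .a9]⟩,
  ⟨P70, 0, [.a7], [.a7, .a8]⟩]
def N327 : List Ent := [⟨4, [.a2, .a4, .a9], [.a2, .a4, .a8, .a9]⟩,
  ⟨8, [.a3, .a11], [.a3, .a8, .a11]⟩,
  ⟨16, [.a4], [.a4, .a5]⟩,
  ⟨32, [.a5], [.a5]⟩,
  ⟨64, [.a6], [.a6]⟩,
  ⟨128, [.a7], [.a7, .a8]⟩,
  ⟨256, [.a8], [.a8]⟩,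
  ⟨512, [.a9], [.a9]⟩,
  ⟨2048, [.a11], [.a11]⟩]
theorem bad327 (c : CtxF Goal γ) : Bad Goal γ [] P327 :=
  c.toCtx.bnd (B := B327) (D := D327) (I := [3, 4, 5, 0, 2]) (r := 3) (C := C327) (N := N327) (by decide +kernel) (by decide +kernel) (by decide +kernel) (by decide +kernel)
    (allB_cons (bad42 c) (allB_cons (bad27 c) (allB_cons (bad58 c) (allB_cons (bad70 c) (allB_cons (bad70 c) (allB_cons (bad70 c) (allB_cons (bad70 c) (allB_nil))))))))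

def P328 : List Ent := [⟨4, [.a2, .a4, .a9], [.a2, .a4, .a8, .a9]⟩,
  ⟨8, [.a3], [.a3]⟩,
  ⟨32, [.a5, .a11], [.a5, .a11]⟩,
  ⟨64, [.a6, .a11], [.a6, .a11]⟩,
  ⟨256, [.a8], [.a8]⟩]
def B328 : List Gv := [⟨[.a2, .a4, .a9], [.a2, .a4, .a8, .a9]⟩, ⟨[.a3], [.a3]⟩, ⟨[.a5, .a11], [.a5, .a11]⟩]
def D328 : List Dv := [⟨[.a8], [0, 0], []⟩,
  ⟨[.a6, .a8, .a11], [3, 3, 1], [1, 3]⟩,
  ⟨[.a6, .a11], [0], [1]⟩]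
theorem bad328 (c : CtxF Goal γ) : Bad Goal γ [] P328 :=
  c.toCtx.cent (B := B328) (D := D328) (I := [3, 4, 5, 0, 2]) (z := [.a5]) (by decide +kernel) (by decide +kernel)

def P329 : List Ent := [⟨4, [.a2, .a4], [.a2, .a4, .a5]⟩,
  ⟨32, [.a5], [.a5]⟩,
  ⟨64, [.a6], [.a6]⟩,
  ⟨256, [.a8], [.a8]⟩,
  ⟨2048, [.a11], [.a11]⟩]
def B329 : List Gv := [⟨[.a2, .a4], [.a2, .a4, .a5]⟩, ⟨[.a6], [.a6]⟩, ⟨[.a11], [.a11]⟩]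
def D329 : List Dv := [⟨[.a5], [0, 0], []⟩,
  ⟨[.a8], [2, 0, 3, 1], [1, 3]⟩]
theorem bad329 (c : CtxF Goal γ) : Bad Goal γ [] P329 :=
  c.toCtx.cent (B := B329) (D := D329) (I := [2, 1, 3, 0, 4]) (z := [.a4]) (by decide +kernel) (by decide +kernel)

def P330 : List Ent := [⟨4, [.a2, .a4], [.a2, .a4, .a5]⟩,
  ⟨8, [.a3, .a9, .a11], [.a3, .a8, .a9, .a11]⟩,
  ⟨32, [.a5], [.a5]⟩,
  ⟨64, [.a6], [.a6]⟩,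
  ⟨256, [.a8], [.a8]⟩]
def B330 : List Gv := [⟨[.a2, .a4], [.a2, .a4, .a5]⟩, ⟨[.a3, .a9, .a11], [.a3, .a8, .a9, .a11]⟩]
def D330 : List Dv := [⟨[.a5], [0, 0], []⟩,
  ⟨[.a6], [2, 1], [1, 2]⟩,
  ⟨[.a8], [3, 3], []⟩]
theorem bad330 (c : CtxF Goal γ) : Bad Goal γ [] P330 :=
  c.toCtx.cent (B := B330) (D := D330) (I := [3, 4, 2, 1, 0]) (z := [.a3, .a4]) (by decide +kernel) (by decide +kernel)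

def P331 : List Ent := [⟨4, [.a2, .a4, .a7, .a9], [.a2, .a4, .a6, .a7, .a9]⟩,
  ⟨32, [.a5], [.a5]⟩,
  ⟨64, [.a6], [.a6]⟩,
  ⟨256, [.a8], [.a8]⟩,
  ⟨2048, [.a11], [.a11]⟩]
def B331 : List Gv := [⟨[.a2, .a4, .a7, .a9], [.a2, .a4, .a6, .a7, .a9]⟩, ⟨[.a5], [.a5]⟩, ⟨[.a11], [.a11]⟩]
def D331 : List Dv := [⟨[.a6], [0, 0], []⟩,
  ⟨[.a8], [0, 2, 3, 1], [1, 3]⟩]
theorem bad331 (c : CtxF Goal γ) : Bad Goal γ [] P331 :=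
  c.toCtx.cent (B := B331) (D := D331) (I := [2, 3, 1, 0, 4]) (z := [.a7, .a9, .a11]) (by decide +kernel) (by decide +kernel)

def P332 : List Ent := [⟨4, [.a2, .a4, .a7, .a9], [.a2, .a4, .a6, .a7, .a9]⟩,
  ⟨8, [.a3, .a9], [.a3, .a9]⟩,
  ⟨32, [.a5], [.a5]⟩,
  ⟨64, [.a6], [.a6]⟩,
  ⟨256, [.a8], [.a8]⟩]
def B332 : List Gv := [⟨[.a2, .a4, .a7, .a9], [.a2, .a4, .a6, .a7, .a9]⟩, ⟨[.a3, .a9], [.a3, .a9]⟩, ⟨[.a5], [.a5]⟩]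
def D332 : List Dv := [⟨[.a6], [0, 0], []⟩,
  ⟨[.a8], [2, 1], [1, 2]⟩]
theorem bad332 (c : CtxF Goal γ) : Bad Goal γ [] P332 :=
  c.toCtx.cent (B := B332) (D := D332) (I := [2, 3, 4, 1, 0]) (z := [.a3, .a4, .a11]) (by decide +kernel) (by decide +kernel)

def P333 : List Ent := [⟨4, [.a2, .a4, .a7, .a9], [.a2, .a4, .a6, .a7, .a9]⟩,
  ⟨8, [.a3, .a9, .a11], [.a3, .a8, .a9, .a11]⟩,
  ⟨32, [.a5], [.a5]⟩,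
  ⟨64, [.a6], [.a6]⟩,
  ⟨256, [.a8], [.a8]⟩]
def B333 : List Gv := [⟨[.a2, .a4, .a7, .a9], [.a2, .a4, .a6, .a7, .a9]⟩, ⟨[.a3, .a9, .a11], [.a3, .a8, .a9, .a11]⟩]
def D333 : List Dv := [⟨[.a6], [0, 0], []⟩,
  ⟨[.a5, .a6], [2, 1], [1, 2]⟩,
  ⟨[.a8], [3, 3], []⟩,
  ⟨[.a5], [1], [2]⟩]
def C333 : List Ch := [⟨P42, 0, [.a1], [.a1, .a2]⟩,
  ⟨P71, 1, [], []⟩,
  ⟨P42, 0, [.a0, .a1, .a3, .a5, .a6, .a7, .a8, .a9, .a10], [.a0, .a10, .a11]⟩]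
def N333 : List Ent := [⟨1, [.a0], [.a0]⟩,
  ⟨4, [.a2, .a4, .a7, .a9], [.a2, .a4, .a6, .a7, .a9]⟩,
  ⟨8, [.a3, .a9, .a11], [.a3, .a8, .a9, .a11]⟩,
  ⟨16, [.a4], [.a4, .a5]⟩,
  ⟨32, [.a5], [.a5]⟩,
  ⟨64, [.a6], [.a6]⟩,
  ⟨128, [.a7], [.a7, .a8]⟩,
  ⟨256, [.a8], [.a8]⟩,
  ⟨512, [.a9], [.a9]⟩,
  ⟨2048, [.a11], [.a11]⟩]
theorem bad333 (c : CtxF Goal γ) : Bad Goal γ [] P333 :=
  c.toCtx.bnd (B := B333) (D := D333) (I := [4, 5, 0, 3, 1]) (r := 2) (C := C333) (N := N333) (by decide +kernel) (by decide +kernel) (by decide +kernel) (by decide +kernel)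
    (allB_cons (bad42 c) (allB_cons (bad71 c) (allB_cons (bad42 c) (allB_nil))))

def P334 : List Ent := [⟨4, [.a2, .a4, .a7], [.a2, .a4, .a5, .a6, .a7, .a8]⟩,
  ⟨32, [.a5], [.a5]⟩,
  ⟨64, [.a6], [.a6]⟩,
  ⟨256, [.a8], [.a8]⟩,
  ⟨2048, [.a11], [.a11]⟩]
def B334 : List Gv := [⟨[.a2, .a4, .a7], [.a2, .a4, .a5, .a6, .a7, .a8]⟩, ⟨[.a5], [.a5]⟩, ⟨[.a6], [.a6]⟩, ⟨[.a11], [.a11]⟩]
def D334 : List Dv := [⟨[.a8], [2, 1, 0, 0], []⟩]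
theorem bad334 (c : CtxF Goal γ) : Bad Goal γ [] P334 :=
  c.toCtx.cent (B := B334) (D := D334) (I := [1, 2, 3, 0, 4]) (z := [.a4, .a7]) (by decide +kernel) (by decide +kernel)

def P335 : List Ent := [⟨4, [.a2, .a4, .a7], [.a2, .a4, .a5, .a6, .a7, .a8]⟩,
  ⟨8, [.a3], [.a3]⟩,
  ⟨32, [.a5], [.a5]⟩,
  ⟨64, [.a6], [.a6]⟩,
  ⟨256, [.a8], [.a8]⟩]
def B335 : List Gv := [⟨[.a2, .a4, .a7], [.a2, .a4, .a5, .a6, .a7, .a8]⟩, ⟨[.a3], [.a3]⟩, ⟨[.a6], [.a6]⟩]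
def D335 : List Dv := [⟨[.a5, .a6, .a8], [0, 0], []⟩,
  ⟨[.a8], [3, 0, 2, 1], [1, 2]⟩,
  ⟨[.a5], [1], [4, 0]⟩]
theorem bad335 (c : CtxF Goal γ) : Bad Goal γ [] P335 :=
  c.toCtx.cent (B := B335) (D := D335) (I := [3, 4, 0, 5, 1]) (z := [.a2]) (by decide +kernel) (by decide +kernel)

def P336 : List Ent := [⟨4, [.a2, .a4], [.a2, .a4, .a5]⟩,
  ⟨32, [.a5], [.a5]⟩,
  ⟨64, [.a6], [.a6]⟩,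
  ⟨128, [.a7, .a9], [.a7, .a8, .a9]⟩,
  ⟨256, [.a8], [.a8]⟩]
def B336 : List Gv := [⟨[.a2, .a4], [.a2, .a4, .a5]⟩, ⟨[.a7, .a9], [.a7, .a8, .a9]⟩]
def D336 : List Dv := [⟨[.a5], [0, 0], []⟩,
  ⟨[.a6, .a8], [0, 2, 1], [1, 2]⟩,
  ⟨[.a8], [3, 3], []⟩,
  ⟨[.a6], [1], [0]⟩]
theorem bad336 (c : CtxF Goal γ) : Bad Goal γ [] P336 :=
  c.toCtx.cent (B := B336) (D := D336) (I := [4, 3, 0, 5, 1]) (z := [.a2, .a3]) (by decide +kernel) (by decide +kernel)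

def P337 : List Ent := [⟨4, [.a2, .a4, .a11], [.a2, .a4, .a6, .a8, .a11]⟩,
  ⟨32, [.a5], [.a5]⟩,
  ⟨64, [.a6], [.a6]⟩,
  ⟨128, [.a7, .a9, .a11], [.a7, .a8, .a9, .a11]⟩,
  ⟨256, [.a8], [.a8]⟩]
def B337 : List Gv := [⟨[.a2, .a4, .a11], [.a2, .a4, .a6, .a8, .a11]⟩, ⟨[.a5], [.a5]⟩, ⟨[.a7, .a9, .a11], [.a7, .a8, .a9, .a11]⟩]
def D337 : List Dv := [⟨[.a6, .a8], [0, 0], []⟩,
  ⟨[.a8], [3, 3], []⟩,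
  ⟨[.a6], [1], [0]⟩]
def C337 : List Ch := [⟨P28, 0, [.a0, .a1, .a3, .a5, .a6, .a7, .a8, .a9, .a10], [.a0, .a10, .a11]⟩,
  ⟨P72, 1, [], []⟩,
  ⟨P72, 0, [.a9], [.a9]⟩,
  ⟨P58, 2, [.a0], [.a0]⟩,
  ⟨P71, 0, [], []⟩,
  ⟨P72, 1, [.a3], [.a3]⟩,
  ⟨P72, 0, [.a3, .a9], [.a3, .a9]⟩]
def N337 : List Ent := [⟨4, [.a2, .a4, .a11], [.a2, .a4, .a6, .a8, .a11]⟩,
  ⟨8, [.a3], [.a3]⟩,
  ⟨16, [.a4], [.a4, .a5]⟩,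
  ⟨32, [.a5], [.a5]⟩,
  ⟨64, [.a6], [.a6]⟩,
  ⟨128, [.a7, .a9, .a11], [.a7, .a8, .a9, .a11]⟩,
  ⟨256, [.a8], [.a8]⟩,
  ⟨512, [.a9], [.a9]⟩,
  ⟨2048, [.a11], [.a11]⟩]
theorem bad337 (c : CtxF Goal γ) : Bad Goal γ [] P337 :=
  c.toCtx.bnd (B := B337) (D := D337) (I := [3, 4, 0, 5, 1]) (r := 3) (C := C337) (N := N337) (by decide +kernel) (by decide +kernel) (by decide +kernel) (by decide +kernel)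
    (allB_cons (bad28 c) (allB_cons (bad72 c) (allB_cons (bad72 c) (allB_cons (bad58 c) (allB_cons (bad71 c) (allB_cons (bad72 c) (allB_cons (bad72 c) (allB_nil))))))))

def P338 : List Ent := [⟨4, [.a2, .a4, .a9], [.a2, .a4, .a8, .a9]⟩,
  ⟨32, [.a5, .a6], [.a5, .a6]⟩,
  ⟨128, [.a7, .a9], [.a7, .a8, .a9]⟩,
  ⟨256, [.a8], [.a8]⟩,
  ⟨2048, [.a11], [.a11]⟩]
def B338 : List Gv := [⟨[.a2, .a4, .a9], [.a2, .a4, .a8, .a9]⟩, ⟨[.a7, .a9], [.a7, .a8, .a9]⟩, ⟨[.a11], [.a11]⟩]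
def D338 : List Dv := [⟨[.a8], [0, 0], []⟩,
  ⟨[.a5, .a6, .a8], [2, 1], [1, 2]⟩,
  ⟨[.a5, .a6], [0], [1]⟩]
theorem bad338 (c : CtxF Goal γ) : Bad Goal γ [] P338 :=
  c.toCtx.cent (B := B338) (D := D338) (I := [3, 0, 4, 2, 5]) (z := [.a5]) (by decide +kernel) (by decide +kernel)

def P339 : List Ent := [⟨4, [.a2, .a4, .a9], [.a2, .a4, .a8, .a9]⟩,
  ⟨32, [.a5], [.a5]⟩,
  ⟨64, [.a6], [.a6]⟩,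
  ⟨128, [.a7, .a9], [.a7, .a8, .a9]⟩,
  ⟨256, [.a8], [.a8]⟩]
def B339 : List Gv := [⟨[.a2, .a4, .a9], [.a2, .a4, .a8, .a9]⟩, ⟨[.a5], [.a5]⟩, ⟨[.a7, .a9], [.a7, .a8, .a9]⟩]
def D339 : List Dv := [⟨[.a8], [0, 0], []⟩,
  ⟨[.a6, .a8], [2, 3, 1], [1, 3]⟩,
  ⟨[.a6], [0], [1]⟩]
theorem bad339 (c : CtxF Goal γ) : Bad Goal γ [] P339 :=
  c.toCtx.cent (B := B339) (D := D339) (I := [3, 4, 0, 5, 2]) (z := [.a7, .a9, .a11]) (by decide +kernel) (by decide +kernel)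

def P340 : List Ent := [⟨4, [.a2, .a4, .a9], [.a2, .a4, .a8, .a9]⟩,
  ⟨32, [.a5, .a11], [.a5, .a11]⟩,
  ⟨64, [.a6, .a11], [.a6, .a11]⟩,
  ⟨128, [.a7, .a9], [.a7, .a8, .a9]⟩,
  ⟨256, [.a8], [.a8]⟩]
def B340 : List Gv := [⟨[.a2, .a4, .a9], [.a2, .a4, .a8, .a9]⟩, ⟨[.a5, .a11], [.a5, .a11]⟩, ⟨[.a7, .a9], [.a7, .a8, .a9]⟩]
def D340 : List Dv := [⟨[.a8], [0, 0], []⟩,
  ⟨[.a6, .a8, .a11], [2, 2, 1], [1, 2]⟩,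
  ⟨[.a6, .a11], [0], [1]⟩]
theorem bad340 (c : CtxF Goal γ) : Bad Goal γ [] P340 :=
  c.toCtx.cent (B := B340) (D := D340) (I := [3, 4, 0, 5, 2]) (z := [.a5]) (by decide +kernel) (by decide +kernel)

def P341 : List Ent := [⟨4, [.a2, .a4, .a11], [.a2, .a4, .a6, .a8, .a11]⟩,
  ⟨32, [.a5], [.a5]⟩,
  ⟨64, [.a6], [.a6]⟩,
  ⟨128, [.a7, .a11], [.a7, .a8, .a11]⟩,
  ⟨256, [.a8], [.a8]⟩]
def B341 : List Gv := [⟨[.a2, .a4, .a11], [.a2, .a4, .a6, .a8, .a11]⟩, ⟨[.a7, .a11], [.a7, .a8, .a11]⟩]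
def D341 : List Dv := [⟨[.a6, .a8], [0, 0], []⟩,
  ⟨[.a5, .a8], [2, 1], [1, 2]⟩,
  ⟨[.a8], [3, 3], []⟩,
  ⟨[.a6], [2], [0]⟩,
  ⟨[.a5], [2], [1]⟩]
theorem bad341 (c : CtxF Goal γ) : Bad Goal γ [] P341 :=
  c.toCtx.cent (B := B341) (D := D341) (I := [5, 0, 1, 6, 2]) (z := [.a7, .a9, .a11]) (by decide +kernel) (by decide +kernel)

def P342 : List Ent := [⟨4, [.a2, .a4], [.a2, .a4, .a5]⟩,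
  ⟨8, [.a3, .a7], [.a3, .a5, .a7, .a8]⟩,
  ⟨32, [.a5], [.a5]⟩,
  ⟨64, [.a6], [.a6]⟩,
  ⟨256, [.a8], [.a8]⟩]
def B342 : List Gv := [⟨[.a2, .a4], [.a2, .a4, .a5]⟩, ⟨[.a3, .a7], [.a3, .a5, .a7, .a8]⟩]
def D342 : List Dv := [⟨[.a5], [0, 0], []⟩,
  ⟨[.a6], [2, 1], [1, 2]⟩,
  ⟨[.a8], [1, 3, 3], []⟩]
theorem bad342 (c : CtxF Goal γ) : Bad Goal γ [] P342 :=
  c.toCtx.cent (B := B342) (D := D342) (I := [3, 4, 2, 1, 0]) (z := [.a2]) (by decide +kernel) (by decide +kernel)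

def P343 : List Ent := [⟨4, [.a2, .a4, .a11], [.a2, .a4, .a6, .a8, .a11]⟩,
  ⟨8, [.a3, .a7, .a11], [.a3, .a5, .a7, .a11]⟩,
  ⟨32, [.a5], [.a5]⟩,
  ⟨64, [.a6], [.a6]⟩,
  ⟨256, [.a8], [.a8]⟩]
def B343 : List Gv := [⟨[.a2, .a4, .a11], [.a2, .a4, .a6, .a8, .a11]⟩, ⟨[.a3, .a7, .a11], [.a3, .a5, .a7, .a11]⟩, ⟨[.a6], [.a6]⟩]
def D343 : List Dv := [⟨[.a8], [2, 0, 0], []⟩,
  ⟨[.a5], [2, 1], [1, 2]⟩]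
def C343 : List Ch := [⟨P25, 0, [.a0, .a1, .a3, .a5, .a6, .a7, .a8, .a9, .a10], [.a0, .a10, .a11]⟩,
  ⟨P58, 1, [.a0], [.a0]⟩,
  ⟨P71, 0, [.a10], [.a10, .a11]⟩,
  ⟨P73, 2, [], []⟩,
  ⟨P73, 0, [.a7], [.a7, .a8]⟩,
  ⟨P73, 1, [.a4], [.a4, .a5]⟩,
  ⟨P73, 0, [.a3], [.a3]⟩]
def N343 : List Ent := [⟨4, [.a2, .a4, .a11], [.a2, .a4, .a6, .a8, .a11]⟩,
  ⟨8, [.a3, .a7, .a11], [.a3, .a5, .a7, .a11]⟩,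
  ⟨16, [.a4], [.a4, .a5]⟩,
  ⟨32, [.a5], [.a5]⟩,
  ⟨64, [.a6], [.a6]⟩,
  ⟨128, [.a7], [.a7, .a8]⟩,
  ⟨256, [.a8], [.a8]⟩,
  ⟨512, [.a9], [.a9]⟩,
  ⟨2048, [.a11], [.a11]⟩]
theorem bad343 (c : CtxF Goal γ) : Bad Goal γ [] P343 :=
  c.toCtx.bnd (B := B343) (D := D343) (I := [2, 3, 0, 4, 1]) (r := 3) (C := C343) (N := N343) (by decide +kernel) (by decide +kernel) (by decide +kernel) (by decide +kernel)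
    (allB_cons (bad25 c) (allB_cons (bad58 c) (allB_cons (bad71 c) (allB_cons (bad73 c) (allB_cons (bad73 c) (allB_cons (bad73 c) (allB_cons (bad73 c) (allB_nil))))))))

def P344 : List Ent := [⟨4, [.a2, .a4, .a9], [.a2, .a4, .a8, .a9]⟩,
  ⟨8, [.a3, .a7], [.a3, .a5, .a7, .a8]⟩,
  ⟨32, [.a5], [.a5]⟩,
  ⟨64, [.a6], [.a6]⟩,
  ⟨256, [.a8], [.a8]⟩]
def B344 : List Gv := [⟨[.a2, .a4, .a9], [.a2, .a4, .a8, .a9]⟩, ⟨[.a3, .a7], [.a3, .a5, .a7, .a8]⟩]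
def D344 : List Dv := [⟨[.a8], [0, 0], []⟩,
  ⟨[.a6], [2, 1], [1, 2]⟩,
  ⟨[.a5, .a8], [3, 3], []⟩,
  ⟨[.a5], [0], [2]⟩]
def C344 : List Ch := [⟨P45, 0, [], []⟩,
  ⟨P27, 1, [.a0, .a1, .a3, .a5, .a6, .a7, .a8, .a9, .a10], [.a0, .a10, .a11]⟩,
  ⟨P71, 0, [.a1], [.a1, .a2]⟩]
def N344 : List Ent := [⟨4, [.a2, .a4, .a9], [.a2, .a4, .a8, .a9]⟩,
  ⟨8, [.a3, .a7], [.a3, .a5, .a7, .a8]⟩,
  ⟨16, [.a4], [.a4, .a5]⟩,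
  ⟨32, [.a5], [.a5]⟩,
  ⟨64, [.a6], [.a6]⟩,
  ⟨128, [.a7], [.a7, .a8]⟩,
  ⟨256, [.a8], [.a8]⟩,
  ⟨512, [.a9], [.a9]⟩,
  ⟨2048, [.a11], [.a11]⟩]
theorem bad344 (c : CtxF Goal γ) : Bad Goal γ [] P344 :=
  c.toCtx.bnd (B := B344) (D := D344) (I := [4, 5, 0, 2, 3]) (r := 2) (C := C344) (N := N344) (by decide +kernel) (by decide +kernel) (by decide +kernel) (by decide +kernel)
    (allB_cons (bad45 c) (allB_cons (bad27 c) (allB_cons (bad71 c) (allB_nil))))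

def P345 : List Ent := [⟨4, [.a2, .a4, .a11], [.a2, .a4, .a6, .a8, .a11]⟩,
  ⟨8, [.a3, .a7, .a9, .a11], [.a3, .a5, .a7, .a9, .a11]⟩,
  ⟨32, [.a5], [.a5]⟩,
  ⟨64, [.a6], [.a6]⟩,
  ⟨256, [.a8], [.a8]⟩]
def B345 : List Gv := [⟨[.a2, .a4, .a11], [.a2, .a4, .a6, .a8, .a11]⟩, ⟨[.a3, .a7, .a9, .a11], [.a3, .a5, .a7, .a9, .a11]⟩]
def D345 : List Dv := [⟨[.a6, .a8], [0, 0], []⟩,
  ⟨[.a8], [2, 1], [1, 2]⟩,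
  ⟨[.a5], [3, 3], []⟩,
  ⟨[.a6], [2], [1]⟩]
def C345 : List Ch := [⟨P25, 0, [.a0], [.a0]⟩,
  ⟨P58, 1, [.a0], [.a0]⟩,
  ⟨P71, 0, [.a1], [.a1, .a2]⟩]
def N345 : List Ent := [⟨4, [.a2, .a4, .a11], [.a2, .a4, .a6, .a8, .a11]⟩,
  ⟨8, [.a3, .a7, .a9, .a11], [.a3, .a5, .a7, .a9, .a11]⟩,
  ⟨16, [.a4], [.a4, .a5]⟩,
  ⟨32, [.a5], [.a5]⟩,
  ⟨64, [.a6], [.a6]⟩,
  ⟨128, [.a7], [.a7, .a8]⟩,
  ⟨256, [.a8], [.a8]⟩,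
  ⟨512, [.a9], [.a9]⟩,
  ⟨2048, [.a11], [.a11]⟩]
theorem bad345 (c : CtxF Goal γ) : Bad Goal γ [] P345 :=
  c.toCtx.bnd (B := B345) (D := D345) (I := [4, 5, 1, 0, 2]) (r := 2) (C := C345) (N := N345) (by decide +kernel) (by decide +kernel) (by decide +kernel) (by decide +kernel)
    (allB_cons (bad25 c) (allB_cons (bad58 c) (allB_cons (bad71 c) (allB_nil))))

def P346 : List Ent := [⟨4, [.a2], [.a2]⟩,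
  ⟨16, [.a4], [.a4, .a5]⟩,
  ⟨32, [.a5], [.a5]⟩,
  ⟨64, [.a6, .a8], [.a6, .a8]⟩,
  ⟨2048, [.a11], [.a11]⟩]
def B346 : List Gv := [⟨[.a2], [.a2]⟩, ⟨[.a4], [.a4, .a5]⟩, ⟨[.a11], [.a11]⟩]
def D346 : List Dv := [⟨[.a5], [1, 1], []⟩,
  ⟨[.a6, .a8], [0, 3, 1], [1, 3]⟩]
theorem bad346 (c : CtxF Goal γ) : Bad Goal γ [] P346 :=
  c.toCtx.cent (B := B346) (D := D346) (I := [2, 3, 1, 0, 4]) (z := [.a6]) (by decide +kernel) (by decide +kernel)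

def P347 : List Ent := [⟨4, [.a2, .a8], [.a2, .a8]⟩,
  ⟨16, [.a4], [.a4, .a5]⟩,
  ⟨32, [.a5], [.a5]⟩,
  ⟨64, [.a6, .a8], [.a6, .a8]⟩,
  ⟨2048, [.a11], [.a11]⟩]
def B347 : List Gv := [⟨[.a2, .a8], [.a2, .a8]⟩, ⟨[.a4], [.a4, .a5]⟩, ⟨[.a11], [.a11]⟩]
def D347 : List Dv := [⟨[.a5], [1, 1], []⟩,
  ⟨[.a6, .a8], [0, 3, 1], [1, 3]⟩]
theorem bad347 (c : CtxF Goal γ) : Bad Goal γ [] P347 :=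
  c.toCtx.cent (B := B347) (D := D347) (I := [2, 3, 1, 0, 4]) (z := [.a6]) (by decide +kernel) (by decide +kernel)

def P348 : List Ent := [⟨4, [.a2], [.a2]⟩,
  ⟨16, [.a4], [.a4, .a5]⟩,
  ⟨32, [.a5], [.a5]⟩,
  ⟨64, [.a6], [.a6]⟩,
  ⟨256, [.a8], [.a8]⟩]
def B348 : List Gv := [⟨[.a2], [.a2]⟩, ⟨[.a4], [.a4, .a5]⟩, ⟨[.a6], [.a6]⟩, ⟨[.a8], [.a8]⟩]
def D348 : List Dv := [⟨[.a5], [1, 1], []⟩]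
theorem bad348 (c : CtxF Goal γ) : Bad Goal γ [] P348 :=
  c.toCtx.cent (B := B348) (D := D348) (I := [1, 2, 0, 3, 4]) (z := [.a3]) (by decide +kernel) (by decide +kernel)

def P349 : List Ent := [⟨4, [.a2, .a11], [.a2, .a5, .a6, .a8, .a11]⟩,
  ⟨16, [.a4], [.a4, .a5]⟩,
  ⟨32, [.a5], [.a5]⟩,
  ⟨64, [.a6], [.a6]⟩,
  ⟨256, [.a8], [.a8]⟩]
def B349 : List Gv := [⟨[.a2, .a11], [.a2, .a5, .a6, .a8, .a11]⟩, ⟨[.a4], [.a4, .a5]⟩, ⟨[.a6], [.a6]⟩]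
def D349 : List Dv := [⟨[.a5, .a6, .a8], [0, 0], []⟩,
  ⟨[.a8], [3, 0, 2, 2], []⟩,
  ⟨[.a5], [1], [4, 0]⟩]
def C349 : List Ch := [⟨P24, 0, [], []⟩,
  ⟨P33, 1, [.a0, .a1], [.a0, .a1, .a2]⟩,
  ⟨P58, 0, [.a0], [.a0]⟩,
  ⟨P74, 2, [], []⟩,
  ⟨P74, 0, [.a3], [.a3]⟩,
  ⟨P74, 1, [.a7], [.a7, .a8]⟩,
  ⟨P74, 0, [.a3, .a7], [.a3, .a5, .a7, .a8]⟩]
def N349 : List Ent := [⟨4, [.a2, .a11], [.a2, .a5, .a6, .a8, .a11]⟩,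
  ⟨8, [.a3], [.a3]⟩,
  ⟨16, [.a4], [.a4, .a5]⟩,
  ⟨32, [.a5], [.a5]⟩,
  ⟨64, [.a6], [.a6]⟩,
  ⟨128, [.a7], [.a7, .a8]⟩,
  ⟨256, [.a8], [.a8]⟩,
  ⟨512, [.a9], [.a9]⟩,
  ⟨2048, [.a11], [.a11]⟩]
theorem bad349 (c : CtxF Goal γ) : Bad Goal γ [] P349 :=
  c.toCtx.bnd (B := B349) (D := D349) (I := [3, 4, 0, 5, 1]) (r := 3) (C := C349) (N := N349) (by decide +kernel) (by decide +kernel) (by decide +kernel) (by decide +kernel)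
    (allB_cons (bad24 c) (allB_cons (bad33 c) (allB_cons (bad58 c) (allB_cons (bad74 c) (allB_cons (bad74 c) (allB_cons (bad74 c) (allB_cons (bad74 c) (allB_nil))))))))

def P350 : List Ent := [⟨4, [.a2], [.a2]⟩,
  ⟨8, [.a3], [.a3]⟩,
  ⟨16, [.a4], [.a4, .a5]⟩,
  ⟨32, [.a5], [.a5]⟩,
  ⟨256, [.a8], [.a8]⟩]
def B350 : List Gv := [⟨[.a2], [.a2]⟩, ⟨[.a3], [.a3]⟩, ⟨[.a4], [.a4, .a5]⟩, ⟨[.a8], [.a8]⟩]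
def D350 : List Dv := [⟨[.a5], [2, 2], []⟩]
theorem bad350 (c : CtxF Goal γ) : Bad Goal γ [] P350 :=
  c.toCtx.cent (B := B350) (D := D350) (I := [1, 2, 3, 0, 4]) (z := [.a6]) (by decide +kernel) (by decide +kernel)

def P351 : List Ent := [⟨4, [.a2], [.a2]⟩,
  ⟨8, [.a3], [.a3]⟩,
  ⟨16, [.a4], [.a4, .a5]⟩,
  ⟨32, [.a5], [.a5]⟩,
  ⟨64, [.a6], [.a6]⟩]
def B351 : List Gv := [⟨[.a2], [.a2]⟩, ⟨[.a3], [.a3]⟩, ⟨[.a4], [.a4, .a5]⟩, ⟨[.a6], [.a6]⟩]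
def D351 : List Dv := [⟨[.a5], [2, 2], []⟩]
theorem bad351 (c : CtxF Goal γ) : Bad Goal γ [] P351 :=
  c.toCtx.cent (B := B351) (D := D351) (I := [1, 2, 3, 0, 4]) (z := [.a8]) (by decide +kernel) (by decide +kernel)

def P352 : List Ent := [⟨4, [.a2, .a8], [.a2, .a8]⟩,
  ⟨8, [.a3], [.a3]⟩,
  ⟨16, [.a4], [.a4, .a5]⟩,
  ⟨32, [.a5], [.a5]⟩,
  ⟨64, [.a6], [.a6]⟩]
def B352 : List Gv := [⟨[.a2, .a8], [.a2, .a8]⟩, ⟨[.a3], [.a3]⟩, ⟨[.a4], [.a4, .a5]⟩, ⟨[.a6], [.a6]⟩]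
def D352 : List Dv := [⟨[.a5], [2, 2], []⟩]
theorem bad352 (c : CtxF Goal γ) : Bad Goal γ [] P352 :=
  c.toCtx.cent (B := B352) (D := D352) (I := [1, 2, 3, 0, 4]) (z := [.a2]) (by decide +kernel) (by decide +kernel)

def P353 : List Ent := [⟨4, [.a2, .a11], [.a2, .a5, .a6, .a8, .a11]⟩,
  ⟨8, [.a3, .a4], [.a3, .a4, .a5]⟩,
  ⟨32, [.a5], [.a5]⟩,
  ⟨64, [.a6], [.a6]⟩,
  ⟨256, [.a8], [.a8]⟩]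
def B353 : List Gv := [⟨[.a2, .a11], [.a2, .a5, .a6, .a8, .a11]⟩, ⟨[.a3, .a4], [.a3, .a4, .a5]⟩]
def D353 : List Dv := [⟨[.a5, .a6, .a8], [0, 0], []⟩,
  ⟨[.a8], [2, 1], [1, 2]⟩,
  ⟨[.a6, .a8], [1, 3, 3], []⟩,
  ⟨[.a6], [0], [1]⟩,
  ⟨[.a5], [3], [0, 2]⟩]
theorem bad353 (c : CtxF Goal γ) : Bad Goal γ [] P353 :=
  c.toCtx.cent (B := B353) (D := D353) (I := [5, 6, 0, 1, 3]) (z := [.a4]) (by decide +kernel) (by decide +kernel)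

def P354 : List Ent := [⟨4, [.a2, .a10], [.a2, .a3, .a5, .a8, .a10, .a11]⟩,
  ⟨8, [.a3, .a6, .a11], [.a3, .a6, .a8, .a11]⟩,
  ⟨16, [.a4], [.a4, .a5]⟩,
  ⟨32, [.a5], [.a5]⟩,
  ⟨256, [.a8], [.a8]⟩]
def B354 : List Gv := [⟨[.a2, .a10], [.a2, .a3, .a5, .a8, .a10, .a11]⟩, ⟨[.a4], [.a4, .a5]⟩]
def D354 : List Dv := [⟨[.a3, .a6, .a8, .a11], [0, 0], []⟩,
  ⟨[.a5], [2, 2], []⟩,
  ⟨[.a8], [1, 1], []⟩,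
  ⟨[.a3, .a6, .a11], [2], [0]⟩]
def C354 : List Ch := [⟨P48, 0, [.a10], [.a10, .a11]⟩,
  ⟨P57, 1, [], []⟩,
  ⟨P60, 0, [.a1], [.a1, .a2]⟩]
def N354 : List Ent := [⟨4, [.a2, .a10], [.a2, .a3, .a5, .a8, .a10, .a11]⟩,
  ⟨8, [.a3, .a6, .a11], [.a3, .a6, .a8, .a11]⟩,
  ⟨16, [.a4], [.a4, .a5]⟩,
  ⟨32, [.a5], [.a5]⟩,
  ⟨64, [.a6], [.a6]⟩,
  ⟨256, [.a8], [.a8]⟩,
  ⟨512, [.a9], [.a9]⟩]
theorem bad354 (c : CtxF Goal γ) : Bad Goal γ [] P354 :=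
  c.toCtx.bnd (B := B354) (D := D354) (I := [4, 0, 5, 2, 1]) (r := 2) (C := C354) (N := N354) (by decide +kernel) (by decide +kernel) (by decide +kernel) (by decide +kernel)
    (allB_cons (bad48 c) (allB_cons (bad57 c) (allB_cons (bad60 c) (allB_nil))))

def P355 : List Ent := [⟨4, [.a2, .a10], [.a2, .a3, .a5, .a8, .a10, .a11]⟩,
  ⟨8, [.a3, .a6, .a11], [.a3, .a6, .a8, .a11]⟩,
  ⟨16, [.a4, .a6], [.a4, .a5, .a6]⟩,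
  ⟨32, [.a5], [.a5]⟩,
  ⟨256, [.a8], [.a8]⟩]
def B355 : List Gv := [⟨[.a2, .a10], [.a2, .a3, .a5, .a8, .a10, .a11]⟩, ⟨[.a4, .a6], [.a4, .a5, .a6]⟩]
def D355 : List Dv := [⟨[.a3, .a6, .a8, .a11], [0, 0], []⟩,
  ⟨[.a8], [2, 1], [1, 2]⟩,
  ⟨[.a5], [3, 3], []⟩,
  ⟨[.a3, .a6, .a11], [2], [1]⟩]
theorem bad355 (c : CtxF Goal γ) : Bad Goal γ [] P355 :=
  c.toCtx.cent (B := B355) (D := D355) (I := [4, 0, 5, 1, 2]) (z := [.a4]) (by decide +kernel) (by decide +kernel)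

def P356 : List Ent := [⟨4, [.a2, .a9], [.a2, .a5, .a9]⟩,
  ⟨16, [.a4], [.a4, .a5]⟩,
  ⟨32, [.a5], [.a5]⟩,
  ⟨64, [.a6], [.a6]⟩,
  ⟨256, [.a8], [.a8]⟩]
def B356 : List Gv := [⟨[.a2, .a9], [.a2, .a5, .a9]⟩, ⟨[.a4], [.a4, .a5]⟩, ⟨[.a6], [.a6]⟩]
def D356 : List Dv := [⟨[.a5], [0, 0], []⟩,
  ⟨[.a8], [2, 1], [1, 2]⟩]
theorem bad356 (c : CtxF Goal γ) : Bad Goal γ [] P356 :=
  c.toCtx.cent (B := B356) (D := D356) (I := [2, 3, 1, 4, 0]) (z := [.a3]) (by decide +kernel) (by decide +kernel)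

def P357 : List Ent := [⟨4, [.a2, .a9], [.a2, .a5, .a9]⟩,
  ⟨8, [.a3], [.a3]⟩,
  ⟨16, [.a4], [.a4, .a5]⟩,
  ⟨32, [.a5], [.a5]⟩,
  ⟨256, [.a8], [.a8]⟩]
def B357 : List Gv := [⟨[.a2, .a9], [.a2, .a5, .a9]⟩, ⟨[.a3], [.a3]⟩, ⟨[.a4], [.a4, .a5]⟩]
def D357 : List Dv := [⟨[.a5], [0, 0], []⟩,
  ⟨[.a8], [3, 1], [1, 3]⟩]
theorem bad357 (c : CtxF Goal γ) : Bad Goal γ [] P357 :=
  c.toCtx.cent (B := B357) (D := D357) (I := [2, 3, 4, 1, 0]) (z := [.a6]) (by decide +kernel) (by decide +kernel)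

def P358 : List Ent := [⟨4, [.a2], [.a2]⟩,
  ⟨16, [.a4, .a9], [.a4, .a5, .a8, .a9]⟩,
  ⟨32, [.a5], [.a5]⟩,
  ⟨64, [.a6], [.a6]⟩,
  ⟨256, [.a8], [.a8]⟩]
def B358 : List Gv := [⟨[.a2], [.a2]⟩, ⟨[.a4, .a9], [.a4, .a5, .a8, .a9]⟩, ⟨[.a6], [.a6]⟩]
def D358 : List Dv := [⟨[.a5], [1, 0], [0, 1]⟩,
  ⟨[.a8], [0, 2, 2], []⟩]
theorem bad358 (c : CtxF Goal γ) : Bad Goal γ [] P358 :=
  c.toCtx.cent (B := B358) (D := D358) (I := [2, 3, 1, 4, 0]) (z := [.a3]) (by decide +kernel) (by decide +kernel)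

def P359 : List Ent := [⟨4, [.a2, .a11], [.a2, .a5, .a6, .a8, .a11]⟩,
  ⟨16, [.a4, .a9], [.a4, .a5, .a8, .a9]⟩,
  ⟨32, [.a5], [.a5]⟩,
  ⟨64, [.a6], [.a6]⟩,
  ⟨256, [.a8], [.a8]⟩]
def B359 : List Gv := [⟨[.a2, .a11], [.a2, .a5, .a6, .a8, .a11]⟩, ⟨[.a4, .a9], [.a4, .a5, .a8, .a9]⟩]
def D359 : List Dv := [⟨[.a5, .a6, .a8], [0, 0], []⟩,
  ⟨[.a6, .a8], [0, 2, 1], [1, 2]⟩,
  ⟨[.a8], [0, 1, 3, 3], []⟩,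
  ⟨[.a6], [1], [0]⟩,
  ⟨[.a5], [3], [0, 1]⟩]
def C359 : List Ch := [⟨P27, 0, [], []⟩,
  ⟨P33, 1, [.a0, .a1], [.a0, .a1, .a2]⟩,
  ⟨P58, 0, [.a0, .a10], [.a0, .a1, .a2, .a3, .a4, .a6, .a8, .a9, .a10, .a11]⟩]
def N359 : List Ent := [⟨4, [.a2, .a11], [.a2, .a5, .a6, .a8, .a11]⟩,
  ⟨8, [.a3], [.a3]⟩,
  ⟨16, [.a4, .a9], [.a4, .a5, .a8, .a9]⟩,
  ⟨32, [.a5], [.a5]⟩,
  ⟨64, [.a6], [.a6]⟩,
  ⟨128, [.a7], [.a7, .a8]⟩,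
  ⟨256, [.a8], [.a8]⟩,
  ⟨512, [.a9], [.a9]⟩,
  ⟨2048, [.a11], [.a11]⟩]
theorem bad359 (c : CtxF Goal γ) : Bad Goal γ [] P359 :=
  c.toCtx.bnd (B := B359) (D := D359) (I := [5, 6, 0, 1, 2]) (r := 2) (C := C359) (N := N359) (by decide +kernel) (by decide +kernel) (by decide +kernel) (by decide +kernel)
    (allB_cons (bad27 c) (allB_cons (bad33 c) (allB_cons (bad58 c) (allB_nil))))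

def P360 : List Ent := [⟨4, [.a2, .a11], [.a2, .a5, .a6, .a8, .a11]⟩,
  ⟨8, [.a3, .a4, .a9], [.a3, .a4, .a5, .a8, .a9]⟩,
  ⟨32, [.a5], [.a5]⟩,
  ⟨64, [.a6], [.a6]⟩,
  ⟨256, [.a8], [.a8]⟩]
def B360 : List Gv := [⟨[.a2, .a11], [.a2, .a5, .a6, .a8, .a11]⟩, ⟨[.a3, .a4, .a9], [.a3, .a4, .a5, .a8, .a9]⟩, ⟨[.a5], [.a5]⟩]
def D360 : List Dv := [⟨[.a6, .a8], [2, 0, 0], []⟩,
  ⟨[.a8], [3, 2, 1], [1, 2]⟩,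
  ⟨[.a6], [1], [0]⟩]
def C360 : List Ch := [⟨P27, 0, [.a1], [.a1, .a2]⟩,
  ⟨P33, 1, [.a0, .a1], [.a0, .a1, .a2]⟩,
  ⟨P58, 0, [.a0, .a1], [.a0, .a1, .a2]⟩,
  ⟨P75, 2, [], []⟩,
  ⟨P75, 0, [.a3], [.a3]⟩,
  ⟨P75, 1, [.a4], [.a4, .a5]⟩,
  ⟨P75, 0, [.a9], [.a9]⟩]
def N360 : List Ent := [⟨4, [.a2, .a11], [.a2, .a5, .a6, .a8, .a11]⟩,
  ⟨8, [.a3, .a4, .a9], [.a3, .a4, .a5, .a8, .a9]⟩,
  ⟨16, [.a4], [.a4, .a5]⟩,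
  ⟨32, [.a5], [.a5]⟩,
  ⟨64, [.a6], [.a6]⟩,
  ⟨128, [.a7], [.a7, .a8]⟩,
  ⟨256, [.a8], [.a8]⟩,
  ⟨512, [.a9], [.a9]⟩,
  ⟨2048, [.a11], [.a11]⟩]
theorem bad360 (c : CtxF Goal γ) : Bad Goal γ [] P360 :=
  c.toCtx.bnd (B := B360) (D := D360) (I := [3, 4, 5, 0, 1]) (r := 3) (C := C360) (N := N360) (by decide +kernel) (by decide +kernel) (by decide +kernel) (by decide +kernel)
    (allB_cons (bad27 c) (allB_cons (bad33 c) (allB_cons (bad58 c) (allB_cons (bad75 c) (allB_cons (bad75 c) (allB_cons (bad75 c) (allB_cons (bad75 c) (allB_nil))))))))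

def P361 : List Ent := [⟨4, [.a2], [.a2]⟩,
  ⟨8, [.a3], [.a3]⟩,
  ⟨16, [.a4, .a9], [.a4, .a5, .a8, .a9]⟩,
  ⟨32, [.a5], [.a5]⟩,
  ⟨256, [.a8], [.a8]⟩]
def B361 : List Gv := [⟨[.a2], [.a2]⟩, ⟨[.a3], [.a3]⟩, ⟨[.a4, .a9], [.a4, .a5, .a8, .a9]⟩]
def D361 : List Dv := [⟨[.a5], [2, 0], [0, 2]⟩,
  ⟨[.a8], [0, 3, 3], []⟩]
theorem bad361 (c : CtxF Goal γ) : Bad Goal γ [] P361 :=
  c.toCtx.cent (B := B361) (D := D361) (I := [2, 3, 4, 1, 0]) (z := [.a6]) (by decide +kernel) (by decide +kernel)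

def P362 : List Ent := [⟨4, [.a2, .a10], [.a2, .a3, .a5, .a8, .a10, .a11]⟩,
  ⟨8, [.a3, .a6, .a11], [.a3, .a6, .a8, .a11]⟩,
  ⟨16, [.a4, .a9], [.a4, .a5, .a8, .a9]⟩,
  ⟨32, [.a5], [.a5]⟩,
  ⟨256, [.a8], [.a8]⟩]
def B362 : List Gv := [⟨[.a2, .a10], [.a2, .a3, .a5, .a8, .a10, .a11]⟩, ⟨[.a4, .a9], [.a4, .a5, .a8, .a9]⟩]
def D362 : List Dv := [⟨[.a3, .a6, .a8, .a11], [0, 0], []⟩,
  ⟨[.a5], [2, 1], [1, 2]⟩,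
  ⟨[.a8], [0, 3, 3], []⟩,
  ⟨[.a3, .a6, .a11], [2], [0]⟩]
def C362 : List Ch := [⟨P49, 0, [.a1, .a10], [.a1, .a2, .a4, .a5, .a7, .a9, .a10, .a11]⟩,
  ⟨P57, 1, [], []⟩,
  ⟨P60, 0, [.a1, .a3, .a4, .a5, .a7, .a11], [.a1, .a2, .a4, .a5, .a7, .a9, .a11]⟩]
def N362 : List Ent := [⟨4, [.a2, .a10], [.a2, .a3, .a5, .a8, .a10, .a11]⟩,
  ⟨8, [.a3, .a6, .a11], [.a3, .a6, .a8, .a11]⟩,
  ⟨16, [.a4, .a9], [.a4, .a5, .a8, .a9]⟩,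
  ⟨32, [.a5], [.a5]⟩,
  ⟨64, [.a6], [.a6]⟩,
  ⟨256, [.a8], [.a8]⟩,
  ⟨512, [.a9], [.a9]⟩]
theorem bad362 (c : CtxF Goal γ) : Bad Goal γ [] P362 :=
  c.toCtx.bnd (B := B362) (D := D362) (I := [4, 0, 5, 2, 1]) (r := 2) (C := C362) (N := N362) (by decide +kernel) (by decide +kernel) (by decide +kernel) (by decide +kernel)
    (allB_cons (bad49 c) (allB_cons (bad57 c) (allB_cons (bad60 c) (allB_nil))))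

def P363 : List Ent := [⟨4, [.a2, .a10], [.a2, .a3, .a5, .a8, .a10, .a11]⟩,
  ⟨8, [.a3, .a6, .a11], [.a3, .a6, .a8, .a11]⟩,
  ⟨16, [.a4, .a6, .a9], [.a4, .a5, .a6, .a8, .a9]⟩,
  ⟨32, [.a5], [.a5]⟩,
  ⟨256, [.a8], [.a8]⟩]
def B363 : List Gv := [⟨[.a2, .a10], [.a2, .a3, .a5, .a8, .a10, .a11]⟩, ⟨[.a4, .a6, .a9], [.a4, .a5, .a6, .a8, .a9]⟩]
def D363 : List Dv := [⟨[.a3, .a6, .a8, .a11], [0, 0], []⟩,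
  ⟨[.a5, .a8], [2, 1], [1, 2]⟩,
  ⟨[.a8], [1, 1], []⟩,
  ⟨[.a5], [1], [0]⟩,
  ⟨[.a3, .a6, .a11], [3], [1]⟩]
def C363 : List Ch := [⟨P49, 0, [.a1, .a3, .a4, .a5, .a7, .a10], [.a1, .a2, .a10, .a11]⟩,
  ⟨P57, 1, [], []⟩,
  ⟨P60, 0, [.a1, .a7], [.a1, .a2, .a7, .a8]⟩]
def N363 : List Ent := [⟨4, [.a2, .a10], [.a2, .a3, .a5, .a8, .a10, .a11]⟩,
  ⟨8, [.a3, .a6, .a11], [.a3, .a6, .a8, .a11]⟩,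
  ⟨16, [.a4, .a6, .a9], [.a4, .a5, .a6, .a8, .a9]⟩,
  ⟨32, [.a5], [.a5]⟩,
  ⟨64, [.a6], [.a6]⟩,
  ⟨256, [.a8], [.a8]⟩,
  ⟨512, [.a9], [.a9]⟩]
theorem bad363 (c : CtxF Goal γ) : Bad Goal γ [] P363 :=
  c.toCtx.bnd (B := B363) (D := D363) (I := [5, 0, 6, 1, 2]) (r := 2) (C := C363) (N := N363) (by decide +kernel) (by decide +kernel) (by decide +kernel) (by decide +kernel)
    (allB_cons (bad49 c) (allB_cons (bad57 c) (allB_cons (bad60 c) (allB_nil))))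

def P364 : List Ent := [⟨4, [.a2], [.a2]⟩,
  ⟨16, [.a4, .a7], [.a4, .a5, .a6, .a7, .a8]⟩,
  ⟨32, [.a5, .a8], [.a5, .a8]⟩,
  ⟨64, [.a6], [.a6]⟩,
  ⟨2048, [.a11], [.a11]⟩]
def B364 : List Gv := [⟨[.a2], [.a2]⟩, ⟨[.a4, .a7], [.a4, .a5, .a6, .a7, .a8]⟩, ⟨[.a5, .a8], [.a5, .a8]⟩, ⟨[.a11], [.a11]⟩]
def D364 : List Dv := [⟨[.a6], [2, 1, 1], []⟩]
theorem bad364 (c : CtxF Goal γ) : Bad Goal γ [] P364 :=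
  c.toCtx.cent (B := B364) (D := D364) (I := [1, 2, 3, 0, 4]) (z := [.a5]) (by decide +kernel) (by decide +kernel)

def P365 : List Ent := [⟨4, [.a2, .a8], [.a2, .a8]⟩,
  ⟨16, [.a4, .a7], [.a4, .a5, .a6, .a7, .a8]⟩,
  ⟨32, [.a5, .a8], [.a5, .a8]⟩,
  ⟨64, [.a6], [.a6]⟩,
  ⟨2048, [.a11], [.a11]⟩]
def B365 : List Gv := [⟨[.a2, .a8], [.a2, .a8]⟩, ⟨[.a4, .a7], [.a4, .a5, .a6, .a7, .a8]⟩, ⟨[.a5, .a8], [.a5, .a8]⟩, ⟨[.a11], [.a11]⟩]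
def D365 : List Dv := [⟨[.a6], [2, 1, 1], []⟩]
theorem bad365 (c : CtxF Goal γ) : Bad Goal γ [] P365 :=
  c.toCtx.cent (B := B365) (D := D365) (I := [1, 2, 3, 0, 4]) (z := [.a5]) (by decide +kernel) (by decide +kernel)

def P366 : List Ent := [⟨4, [.a2], [.a2]⟩,
  ⟨16, [.a4, .a7], [.a4, .a5, .a6, .a7, .a8]⟩,
  ⟨32, [.a5], [.a5]⟩,
  ⟨64, [.a6, .a8], [.a6, .a8]⟩,
  ⟨2048, [.a11], [.a11]⟩]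
def B366 : List Gv := [⟨[.a2], [.a2]⟩, ⟨[.a4, .a7], [.a4, .a5, .a6, .a7, .a8]⟩, ⟨[.a5], [.a5]⟩, ⟨[.a11], [.a11]⟩]
def D366 : List Dv := [⟨[.a6, .a8], [2, 1, 1], []⟩]
theorem bad366 (c : CtxF Goal γ) : Bad Goal γ [] P366 :=
  c.toCtx.cent (B := B366) (D := D366) (I := [1, 2, 3, 0, 4]) (z := [.a6]) (by decide +kernel) (by decide +kernel)

def P367 : List Ent := [⟨4, [.a2, .a8], [.a2, .a8]⟩,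
  ⟨16, [.a4, .a7], [.a4, .a5, .a6, .a7, .a8]⟩,
  ⟨32, [.a5], [.a5]⟩,
  ⟨64, [.a6, .a8], [.a6, .a8]⟩,
  ⟨2048, [.a11], [.a11]⟩]
def B367 : List Gv := [⟨[.a2, .a8], [.a2, .a8]⟩, ⟨[.a4, .a7], [.a4, .a5, .a6, .a7, .a8]⟩, ⟨[.a5], [.a5]⟩, ⟨[.a11], [.a11]⟩]
def D367 : List Dv := [⟨[.a6, .a8], [2, 1, 1], []⟩]
theorem bad367 (c : CtxF Goal γ) : Bad Goal γ [] P367 :=
  c.toCtx.cent (B := B367) (D := D367) (I := [1, 2, 3, 0, 4]) (z := [.a6]) (by decide +kernel) (by decide +kernel)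

def P368 : List Ent := [⟨4, [.a2], [.a2]⟩,
  ⟨16, [.a4, .a7], [.a4, .a5, .a6, .a7, .a8]⟩,
  ⟨32, [.a5], [.a5]⟩,
  ⟨64, [.a6], [.a6]⟩,
  ⟨256, [.a8], [.a8]⟩]
def B368 : List Gv := [⟨[.a2], [.a2]⟩, ⟨[.a4, .a7], [.a4, .a5, .a6, .a7, .a8]⟩, ⟨[.a5], [.a5]⟩, ⟨[.a6], [.a6]⟩]
def D368 : List Dv := [⟨[.a8], [3, 2, 1, 1], []⟩]
def C368 : List Ch := [⟨P32, 0, [], []⟩,
  ⟨P64, 1, [], []⟩,
  ⟨P71, 0, [.a0, .a10], [.a0, .a1, .a2, .a3, .a4, .a6, .a8, .a9, .a10, .a11]⟩,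
  ⟨P76, 2, [], []⟩,
  ⟨P76, 0, [.a3, .a9], [.a3, .a9]⟩,
  ⟨P76, 1, [.a3], [.a3]⟩,
  ⟨P76, 0, [.a9], [.a9]⟩,
  ⟨P77, 3, [], []⟩,
  ⟨P78, 0, [], []⟩,
  ⟨P77, 1, [.a4], [.a4, .a5]⟩,
  ⟨P78, 0, [.a4], [.a4, .a5]⟩,
  ⟨P76, 2, [.a0, .a1], [.a0, .a1, .a2]⟩,
  ⟨P76, 0, [.a0, .a1, .a3, .a8, .a9], [.a0, .a1, .a2, .a9]⟩,
  ⟨P76, 1, [.a0, .a1, .a2, .a3, .a4], [.a0, .a1, .a2, .a4, .a5]⟩,
  ⟨P76, 0, [.a0, .a1, .a5, .a6, .a8, .a9], [.a0, .a1, .a2, .a3, .a6, .a9]⟩]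
def N368 : List Ent := [⟨1, [.a0, .a1], [.a0, .a1, .a2]⟩,
  ⟨4, [.a2], [.a2]⟩,
  ⟨8, [.a3], [.a3]⟩,
  ⟨16, [.a4, .a7], [.a4, .a5, .a6, .a7, .a8]⟩,
  ⟨32, [.a5], [.a5]⟩,
  ⟨64, [.a6], [.a6]⟩,
  ⟨128, [.a7], [.a7, .a8]⟩,
  ⟨256, [.a8], [.a8]⟩,
  ⟨512, [.a9], [.a9]⟩,
  ⟨2048, [.a11], [.a11]⟩]
theorem bad368 (c : CtxF Goal γ) : Bad Goal γ [] P368 :=
  c.toCtx.bnd (B := B368) (D := D368) (I := [1, 2, 3, 4, 0]) (r := 4) (C := C368) (N := N368) (by decide +kernel) (by decide +kernel) (by decide +kernel) (by decide +kernel)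
    (allB_cons (bad32 c) (allB_cons (bad64 c) (allB_cons (bad71 c) (allB_cons (bad76 c) (allB_cons (bad76 c) (allB_cons (bad76 c) (allB_cons (bad76 c) (allB_cons (bad77 c) (allB_cons (bad78 c) (allB_cons (bad77 c) (allB_cons (bad78 c) (allB_cons (bad76 c) (allB_cons (bad76 c) (allB_cons (bad76 c) (allB_cons (bad76 c) (allB_nil))))))))))))))))

def P369 : List Ent := [⟨4, [.a2, .a11], [.a2, .a5, .a6, .a8, .a11]⟩,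
  ⟨16, [.a4, .a7, .a11], [.a4, .a5, .a6, .a7, .a8, .a11]⟩,
  ⟨32, [.a5], [.a5]⟩,
  ⟨64, [.a6], [.a6]⟩,
  ⟨256, [.a8], [.a8]⟩]
def B369 : List Gv := [⟨[.a2, .a11], [.a2, .a5, .a6, .a8, .a11]⟩, ⟨[.a4, .a7, .a11], [.a4, .a5, .a6, .a7, .a8, .a11]⟩, ⟨[.a5], [.a5]⟩, ⟨[.a6], [.a6]⟩]
def D369 : List Dv := [⟨[.a8], [3, 2, 0, 0], []⟩]
theorem bad369 (c : CtxF Goal γ) : Bad Goal γ [] P369 :=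
  c.toCtx.cent (B := B369) (D := D369) (I := [1, 2, 3, 4, 0]) (z := [.a4, .a7]) (by decide +kernel) (by decide +kernel)

def P370 : List Ent := [⟨4, [.a2, .a9], [.a2, .a5, .a9]⟩,
  ⟨16, [.a4, .a7], [.a4, .a5, .a6, .a7, .a8]⟩,
  ⟨32, [.a5], [.a5]⟩,
  ⟨64, [.a6], [.a6]⟩,
  ⟨256, [.a8], [.a8]⟩]
def B370 : List Gv := [⟨[.a2, .a9], [.a2, .a5, .a9]⟩, ⟨[.a4, .a7], [.a4, .a5, .a6, .a7, .a8]⟩]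
def D370 : List Dv := [⟨[.a5], [0, 0], []⟩,
  ⟨[.a8], [2, 1], [1, 2]⟩,
  ⟨[.a6, .a8], [1, 3, 3], []⟩,
  ⟨[.a6], [0], [1]⟩]
def C370 : List Ch := [⟨P32, 0, [], []⟩,
  ⟨P54, 1, [], []⟩,
  ⟨P71, 0, [], []⟩]
def N370 : List Ent := [⟨4, [.a2, .a9], [.a2, .a5, .a9]⟩,
  ⟨8, [.a3], [.a3]⟩,
  ⟨16, [.a4, .a7], [.a4, .a5, .a6, .a7, .a8]⟩,
  ⟨32, [.a5], [.a5]⟩,
  ⟨64, [.a6], [.a6]⟩,
  ⟨128, [.a7], [.a7, .a8]⟩,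
  ⟨256, [.a8], [.a8]⟩,
  ⟨512, [.a9], [.a9]⟩,
  ⟨2048, [.a11], [.a11]⟩]
theorem bad370 (c : CtxF Goal γ) : Bad Goal γ [] P370 :=
  c.toCtx.bnd (B := B370) (D := D370) (I := [4, 5, 3, 0, 2]) (r := 2) (C := C370) (N := N370) (by decide +kernel) (by decide +kernel) (by decide +kernel) (by decide +kernel)
    (allB_cons (bad32 c) (allB_cons (bad54 c) (allB_cons (bad71 c) (allB_nil))))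

def P371 : List Ent := [⟨4, [.a2, .a9, .a11], [.a2, .a6, .a8, .a9, .a11]⟩,
  ⟨16, [.a4, .a7, .a11], [.a4, .a5, .a6, .a7, .a8, .a11]⟩,
  ⟨32, [.a5], [.a5]⟩,
  ⟨64, [.a6], [.a6]⟩,
  ⟨256, [.a8], [.a8]⟩]
def B371 : List Gv := [⟨[.a2, .a9, .a11], [.a2, .a6, .a8, .a9, .a11]⟩, ⟨[.a4, .a7, .a11], [.a4, .a5, .a6, .a7, .a8, .a11]⟩]
def D371 : List Dv := [⟨[.a6, .a8], [0, 0], []⟩,
  ⟨[.a5, .a6], [2, 1], [1, 2]⟩,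
  ⟨[.a8], [0, 3, 3], []⟩,
  ⟨[.a6], [2], [0]⟩,
  ⟨[.a5], [2], [0]⟩]
def C371 : List Ch := [⟨P33, 0, [], []⟩,
  ⟨P33, 1, [.a0], [.a0]⟩,
  ⟨P71, 0, [], []⟩]
def N371 : List Ent := [⟨1, [.a0], [.a0]⟩,
  ⟨4, [.a2, .a9, .a11], [.a2, .a6, .a8, .a9, .a11]⟩,
  ⟨8, [.a3], [.a3]⟩,
  ⟨16, [.a4, .a7, .a11], [.a4, .a5, .a6, .a7, .a8, .a11]⟩,
  ⟨32, [.a5], [.a5]⟩,
  ⟨64, [.a6], [.a6]⟩,
  ⟨128, [.a7], [.a7, .a8]⟩,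
  ⟨256, [.a8], [.a8]⟩,
  ⟨512, [.a9], [.a9]⟩,
  ⟨2048, [.a11], [.a11]⟩]
theorem bad371 (c : CtxF Goal γ) : Bad Goal γ [] P371 :=
  c.toCtx.bnd (B := B371) (D := D371) (I := [5, 6, 0, 1, 2]) (r := 2) (C := C371) (N := N371) (by decide +kernel) (by decide +kernel) (by decide +kernel) (by decide +kernel)
    (allB_cons (bad33 c) (allB_cons (bad33 c) (allB_cons (bad71 c) (allB_nil))))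

def P372 : List Ent := [⟨4, [.a2], [.a2]⟩,
  ⟨16, [.a4, .a7, .a9], [.a4, .a5, .a6, .a7, .a9]⟩,
  ⟨32, [.a5], [.a5]⟩,
  ⟨64, [.a6], [.a6]⟩,
  ⟨256, [.a8], [.a8]⟩]
def B372 : List Gv := [⟨[.a2], [.a2]⟩, ⟨[.a4, .a7, .a9], [.a4, .a5, .a6, .a7, .a9]⟩, ⟨[.a8], [.a8]⟩]
def D372 : List Dv := [⟨[.a5], [1, 0], [0, 1]⟩,
  ⟨[.a6], [0, 2, 2], []⟩]
theorem bad372 (c : CtxF Goal γ) : Bad Goal γ [] P372 :=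
  c.toCtx.cent (B := B372) (D := D372) (I := [2, 3, 1, 0, 4]) (z := [.a2, .a3]) (by decide +kernel) (by decide +kernel)

def P373 : List Ent := [⟨4, [.a2, .a11], [.a2, .a5, .a6, .a8, .a11]⟩,
  ⟨16, [.a4, .a7, .a9, .a11], [.a4, .a5, .a6, .a7, .a9, .a11]⟩,
  ⟨32, [.a5], [.a5]⟩,
  ⟨64, [.a6], [.a6]⟩,
  ⟨256, [.a8], [.a8]⟩]
def B373 : List Gv := [⟨[.a2, .a11], [.a2, .a5, .a6, .a8, .a11]⟩, ⟨[.a4, .a7, .a9, .a11], [.a4, .a5, .a6, .a7, .a9, .a11]⟩]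
def D373 : List Dv := [⟨[.a5, .a6, .a8], [0, 0], []⟩,
  ⟨[.a6, .a8], [2, 1], [1, 2]⟩,
  ⟨[.a8], [1, 3, 3], []⟩,
  ⟨[.a6], [1], [0]⟩,
  ⟨[.a5], [3], [0, 1]⟩]
theorem bad373 (c : CtxF Goal γ) : Bad Goal γ [] P373 :=
  c.toCtx.cent (B := B373) (D := D373) (I := [5, 6, 0, 1, 2]) (z := [.a2, .a4, .a11]) (by decide +kernel) (by decide +kernel)

def P374 : List Ent := [⟨4, [.a2], [.a2]⟩,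
  ⟨8, [.a3], [.a3]⟩,
  ⟨16, [.a4, .a7], [.a4, .a5, .a6, .a7, .a8]⟩,
  ⟨32, [.a5], [.a5]⟩,
  ⟨64, [.a6, .a8], [.a6, .a8]⟩]
def B374 : List Gv := [⟨[.a2], [.a2]⟩, ⟨[.a3], [.a3]⟩, ⟨[.a4, .a7], [.a4, .a5, .a6, .a7, .a8]⟩]
def D374 : List Dv := [⟨[.a5], [2, 1], [1, 2]⟩,
  ⟨[.a6, .a8], [0, 3, 3], []⟩]
theorem bad374 (c : CtxF Goal γ) : Bad Goal γ [] P374 :=
  c.toCtx.cent (B := B374) (D := D374) (I := [2, 3, 4, 1, 0]) (z := [.a0, .a1]) (by decide +kernel) (by decide +kernel)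

def P375 : List Ent := [⟨4, [.a2, .a8], [.a2, .a8]⟩,
  ⟨8, [.a3], [.a3]⟩,
  ⟨16, [.a4, .a7], [.a4, .a5, .a6, .a7, .a8]⟩,
  ⟨32, [.a5], [.a5]⟩,
  ⟨64, [.a6, .a8], [.a6, .a8]⟩]
def B375 : List Gv := [⟨[.a2, .a8], [.a2, .a8]⟩, ⟨[.a3], [.a3]⟩, ⟨[.a4, .a7], [.a4, .a5, .a6, .a7, .a8]⟩]
def D375 : List Dv := [⟨[.a5], [2, 1], [1, 2]⟩,
  ⟨[.a6, .a8], [0, 3, 3], []⟩]
theorem bad375 (c : CtxF Goal γ) : Bad Goal γ [] P375 :=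
  c.toCtx.cent (B := B375) (D := D375) (I := [2, 3, 4, 1, 0]) (z := [.a2]) (by decide +kernel) (by decide +kernel)

def P376 : List Ent := [⟨4, [.a2, .a7, .a11], [.a2, .a5, .a6, .a7, .a11]⟩,
  ⟨16, [.a4, .a7], [.a4, .a5, .a6, .a7, .a8]⟩,
  ⟨32, [.a5], [.a5]⟩,
  ⟨64, [.a6], [.a6]⟩,
  ⟨256, [.a8], [.a8]⟩]
def B376 : List Gv := [⟨[.a2, .a7, .a11], [.a2, .a5, .a6, .a7, .a11]⟩, ⟨[.a4, .a7], [.a4, .a5, .a6, .a7, .a8]⟩]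
def D376 : List Dv := [⟨[.a5, .a6], [0, 0], []⟩,
  ⟨[.a6], [2, 1], [1, 2]⟩,
  ⟨[.a8], [1, 3, 3], []⟩,
  ⟨[.a5], [2], [1]⟩]
theorem bad376 (c : CtxF Goal γ) : Bad Goal γ [] P376 :=
  c.toCtx.cent (B := B376) (D := D376) (I := [4, 5, 0, 2, 1]) (z := [.a2, .a11]) (by decide +kernel) (by decide +kernel)

def P377 : List Ent := [⟨4, [.a2, .a7, .a9, .a11], [.a2, .a6, .a7, .a9, .a11]⟩,
  ⟨16, [.a4, .a7], [.a4, .a5, .a6, .a7, .a8]⟩,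
  ⟨32, [.a5], [.a5]⟩,
  ⟨64, [.a6], [.a6]⟩,
  ⟨256, [.a8], [.a8]⟩]
def B377 : List Gv := [⟨[.a2, .a7, .a9, .a11], [.a2, .a6, .a7, .a9, .a11]⟩, ⟨[.a4, .a7], [.a4, .a5, .a6, .a7, .a8]⟩]
def D377 : List Dv := [⟨[.a6], [0, 0], []⟩,
  ⟨[.a8], [0, 2, 1], [1, 2]⟩,
  ⟨[.a5, .a6, .a8], [3, 3], []⟩,
  ⟨[.a5], [0], [2, 1]⟩]
theorem bad377 (c : CtxF Goal γ) : Bad Goal γ [] P377 :=
  c.toCtx.cent (B := B377) (D := D377) (I := [4, 5, 0, 3, 2]) (z := [.a2, .a4, .a7]) (by decide +kernel) (by decide +kernel)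

def P378 : List Ent := [⟨4, [.a2, .a7], [.a2, .a7, .a8]⟩,
  ⟨16, [.a4, .a7, .a9], [.a4, .a5, .a6, .a7, .a9]⟩,
  ⟨32, [.a5, .a6], [.a5, .a6]⟩,
  ⟨256, [.a8], [.a8]⟩,
  ⟨2048, [.a11], [.a11]⟩]
def B378 : List Gv := [⟨[.a2, .a7], [.a2, .a7, .a8]⟩, ⟨[.a4, .a7, .a9], [.a4, .a5, .a6, .a7, .a9]⟩, ⟨[.a11], [.a11]⟩]
def D378 : List Dv := [⟨[.a8], [0, 0], []⟩,
  ⟨[.a5, .a6], [2, 1], [1, 2]⟩]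
theorem bad378 (c : CtxF Goal γ) : Bad Goal γ [] P378 :=
  c.toCtx.cent (B := B378) (D := D378) (I := [2, 3, 0, 1, 4]) (z := [.a5]) (by decide +kernel) (by decide +kernel)

def P379 : List Ent := [⟨4, [.a2, .a7, .a11], [.a2, .a5, .a6, .a7, .a11]⟩,
  ⟨16, [.a4, .a7, .a9], [.a4, .a5, .a6, .a7, .a9]⟩,
  ⟨32, [.a5], [.a5]⟩,
  ⟨64, [.a6], [.a6]⟩,
  ⟨256, [.a8], [.a8]⟩]
def B379 : List Gv := [⟨[.a2, .a7, .a11], [.a2, .a5, .a6, .a7, .a11]⟩, ⟨[.a4, .a7, .a9], [.a4, .a5, .a6, .a7, .a9]⟩, ⟨[.a5], [.a5]⟩, ⟨[.a8], [.a8]⟩]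
def D379 : List Dv := [⟨[.a6], [2, 0, 0], []⟩]
def C379 : List Ch := [⟨P32, 0, [.a10], [.a10, .a11]⟩,
  ⟨P58, 1, [.a10], [.a10, .a11]⟩,
  ⟨P58, 0, [.a0, .a10], [.a0, .a1, .a2, .a3, .a4, .a6, .a8, .a9, .a10, .a11]⟩,
  ⟨P79, 2, [], []⟩,
  ⟨P79, 0, [.a9], [.a9]⟩,
  ⟨P79, 1, [.a7], [.a7, .a8]⟩,
  ⟨P79, 0, [.a4], [.a4, .a5]⟩,
  ⟨P80, 3, [], []⟩,
  ⟨P80, 0, [.a3], [.a3]⟩,
  ⟨P80, 1, [.a4], [.a4, .a5]⟩,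
  ⟨P80, 0, [.a0, .a4], [.a0, .a2, .a4, .a5]⟩,
  ⟨P79, 2, [.a0, .a2, .a4], [.a0, .a4, .a5]⟩,
  ⟨P79, 0, [.a0], [.a0]⟩,
  ⟨P79, 1, [.a0, .a3, .a6, .a9], [.a0, .a9]⟩,
  ⟨P79, 0, [.a0, .a2, .a3, .a7], [.a0, .a7, .a8]⟩]
def N379 : List Ent := [⟨1, [.a0], [.a0]⟩,
  ⟨4, [.a2, .a7, .a11], [.a2, .a5, .a6, .a7, .a11]⟩,
  ⟨8, [.a3], [.a3]⟩,
  ⟨16, [.a4, .a7, .a9], [.a4, .a5, .a6, .a7, .a9]⟩,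
  ⟨32, [.a5], [.a5]⟩,
  ⟨64, [.a6], [.a6]⟩,
  ⟨128, [.a7], [.a7, .a8]⟩,
  ⟨256, [.a8], [.a8]⟩,
  ⟨512, [.a9], [.a9]⟩,
  ⟨2048, [.a11], [.a11]⟩]
theorem bad379 (c : CtxF Goal γ) : Bad Goal γ [] P379 :=
  c.toCtx.bnd (B := B379) (D := D379) (I := [1, 2, 3, 0, 4]) (r := 4) (C := C379) (N := N379) (by decide +kernel) (by decide +kernel) (by decide +kernel) (by decide +kernel)
    (allB_cons (bad32 c) (allB_cons (bad58 c) (allB_cons (bad58 c) (allB_cons (bad79 c) (allB_cons (bad79 c) (allB_cons (bad79 c) (allB_cons (bad79 c) (allB_cons (bad80 c) (allB_cons (bad80 c) (allB_cons (bad80 c) (allB_cons (bad80 c) (allB_cons (bad79 c) (allB_cons (bad79 c) (allB_cons (bad79 c) (allB_cons (bad79 c) (allB_nil))))))))))))))))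

def P380 : List Ent := [⟨4, [.a2, .a7], [.a2, .a7, .a8]⟩,
  ⟨16, [.a4, .a7, .a9], [.a4, .a5, .a6, .a7, .a9]⟩,
  ⟨32, [.a5, .a11], [.a5, .a11]⟩,
  ⟨64, [.a6, .a11], [.a6, .a11]⟩,
  ⟨256, [.a8], [.a8]⟩]
def B380 : List Gv := [⟨[.a2, .a7], [.a2, .a7, .a8]⟩, ⟨[.a4, .a7, .a9], [.a4, .a5, .a6, .a7, .a9]⟩, ⟨[.a5, .a11], [.a5, .a11]⟩]
def D380 : List Dv := [⟨[.a8], [0, 0], []⟩,
  ⟨[.a6, .a11], [3, 2, 1], [1, 2]⟩]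
theorem bad380 (c : CtxF Goal γ) : Bad Goal γ [] P380 :=
  c.toCtx.cent (B := B380) (D := D380) (I := [2, 3, 4, 0, 1]) (z := [.a5]) (by decide +kernel) (by decide +kernel)

def P381 : List Ent := [⟨4, [.a2], [.a2]⟩,
  ⟨8, [.a3, .a7, .a11], [.a3, .a5, .a7, .a11]⟩,
  ⟨16, [.a4, .a11], [.a4, .a5, .a11]⟩,
  ⟨32, [.a5], [.a5]⟩,
  ⟨64, [.a6, .a8], [.a6, .a8]⟩]
def B381 : List Gv := [⟨[.a2], [.a2]⟩, ⟨[.a3, .a7, .a11], [.a3, .a5, .a7, .a11]⟩, ⟨[.a4, .a11], [.a4, .a5, .a11]⟩]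
def D381 : List Dv := [⟨[.a5, .a6, .a8], [1, 0], [0, 1]⟩,
  ⟨[.a6, .a8], [0, 2, 2], []⟩,
  ⟨[.a5], [1], [0]⟩]
theorem bad381 (c : CtxF Goal γ) : Bad Goal γ [] P381 :=
  c.toCtx.cent (B := B381) (D := D381) (I := [3, 4, 5, 0, 1]) (z := [.a6]) (by decide +kernel) (by decide +kernel)

def P382 : List Ent := [⟨4, [.a2, .a8], [.a2, .a8]⟩,
  ⟨8, [.a3, .a7, .a11], [.a3, .a5, .a7, .a11]⟩,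
  ⟨16, [.a4, .a11], [.a4, .a5, .a11]⟩,
  ⟨32, [.a5], [.a5]⟩,
  ⟨64, [.a6, .a8], [.a6, .a8]⟩]
def B382 : List Gv := [⟨[.a2, .a8], [.a2, .a8]⟩, ⟨[.a3, .a7, .a11], [.a3, .a5, .a7, .a11]⟩, ⟨[.a4, .a11], [.a4, .a5, .a11]⟩]
def D382 : List Dv := [⟨[.a5, .a6, .a8], [1, 0], [0, 1]⟩,
  ⟨[.a6, .a8], [0, 2, 2], []⟩,
  ⟨[.a5], [1], [0]⟩]
theorem bad382 (c : CtxF Goal γ) : Bad Goal γ [] P382 :=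
  c.toCtx.cent (B := B382) (D := D382) (I := [3, 4, 5, 0, 1]) (z := [.a6]) (by decide +kernel) (by decide +kernel)

def P383 : List Ent := [⟨2, [.a1], [.a1, .a2]⟩,
  ⟨4, [.a2], [.a2]⟩,
  ⟨32, [.a5], [.a5]⟩,
  ⟨64, [.a6], [.a6]⟩,
  ⟨256, [.a8], [.a8]⟩]
def B383 : List Gv := [⟨[.a1], [.a1, .a2]⟩, ⟨[.a6], [.a6]⟩, ⟨[.a8], [.a8]⟩]
def D383 : List Dv := [⟨[.a2], [0, 0], []⟩,
  ⟨[.a5], [2, 1], [1, 2]⟩]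
theorem bad383 (c : CtxF Goal γ) : Bad Goal γ [] P383 :=
  c.toCtx.cent (B := B383) (D := D383) (I := [2, 1, 0, 3, 4]) (z := [.a3]) (by decide +kernel) (by decide +kernel)

def P384 : List Ent := [⟨2, [.a1], [.a1, .a2]⟩,
  ⟨4, [.a2], [.a2]⟩,
  ⟨8, [.a3], [.a3]⟩,
  ⟨32, [.a5], [.a5]⟩,
  ⟨256, [.a8], [.a8]⟩]
def B384 : List Gv := [⟨[.a1], [.a1, .a2]⟩, ⟨[.a3], [.a3]⟩, ⟨[.a5], [.a5]⟩, ⟨[.a8], [.a8]⟩]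
def D384 : List Dv := [⟨[.a2], [0, 0], []⟩]
def C384 : List Ch := [⟨P81, 0, [], []⟩,
  ⟨P82, 1, [], []⟩,
  ⟨P82, 0, [.a4], [.a4, .a5]⟩,
  ⟨P83, 2, [], []⟩,
  ⟨P83, 0, [.a6], [.a6]⟩,
  ⟨P83, 1, [.a7], [.a7, .a8]⟩,
  ⟨P83, 0, [.a4, .a7], [.a4, .a5, .a6, .a7, .a8]⟩,
  ⟨P84, 3, [], []⟩,
  ⟨P85, 0, [], []⟩,
  ⟨P86, 1, [], []⟩,
  ⟨P86, 0, [.a4], [.a4, .a5]⟩,
  ⟨P83, 2, [.a0], [.a0]⟩,
  ⟨P83, 0, [.a0, .a6], [.a0, .a6]⟩,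
  ⟨P83, 1, [.a0, .a2, .a3, .a7], [.a0, .a7, .a8]⟩,
  ⟨P83, 0, [.a0, .a3, .a4, .a7], [.a0, .a4, .a5, .a6, .a7, .a8]⟩]
def N384 : List Ent := [⟨1, [.a0], [.a0]⟩,
  ⟨2, [.a1], [.a1, .a2]⟩,
  ⟨4, [.a2], [.a2]⟩,
  ⟨8, [.a3], [.a3]⟩,
  ⟨16, [.a4], [.a4, .a5]⟩,
  ⟨32, [.a5], [.a5]⟩,
  ⟨64, [.a6], [.a6]⟩,
  ⟨128, [.a7], [.a7, .a8]⟩,
  ⟨256, [.a8], [.a8]⟩]
theorem bad384 (c : CtxF Goal γ) : Bad Goal γ [] P384 :=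
  c.toCtx.bnd (B := B384) (D := D384) (I := [1, 0, 2, 3, 4]) (r := 4) (C := C384) (N := N384) (by decide +kernel) (by decide +kernel) (by decide +kernel) (by decide +kernel)
    (allB_cons (bad81 c) (allB_cons (bad82 c) (allB_cons (bad82 c) (allB_cons (bad83 c) (allB_cons (bad83 c) (allB_cons (bad83 c) (allB_cons (bad83 c) (allB_cons (bad84 c) (allB_cons (bad85 c) (allB_cons (bad86 c) (allB_cons (bad86 c) (allB_cons (bad83 c) (allB_cons (bad83 c) (allB_cons (bad83 c) (allB_cons (bad83 c) (allB_nil))))))))))))))))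

def P385 : List Ent := [⟨2, [.a1], [.a1, .a2]⟩,
  ⟨4, [.a2], [.a2]⟩,
  ⟨8, [.a3, .a6], [.a3, .a6]⟩,
  ⟨32, [.a5], [.a5]⟩,
  ⟨256, [.a8], [.a8]⟩]
def B385 : List Gv := [⟨[.a1], [.a1, .a2]⟩, ⟨[.a3, .a6], [.a3, .a6]⟩, ⟨[.a8], [.a8]⟩]
def D385 : List Dv := [⟨[.a2], [0, 0], []⟩,
  ⟨[.a5], [2, 1], [1, 2]⟩]
theorem bad385 (c : CtxF Goal γ) : Bad Goal γ [] P385 :=
  c.toCtx.cent (B := B385) (D := D385) (I := [2, 1, 3, 0, 4]) (z := [.a3]) (by decide +kernel) (by decide +kernel)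

def P386 : List Ent := [⟨2, [.a1], [.a1, .a2]⟩,
  ⟨4, [.a2], [.a2]⟩,
  ⟨8, [.a3], [.a3]⟩,
  ⟨32, [.a5], [.a5]⟩,
  ⟨64, [.a6], [.a6]⟩]
def B386 : List Gv := [⟨[.a1], [.a1, .a2]⟩, ⟨[.a3], [.a3]⟩, ⟨[.a6], [.a6]⟩]
def D386 : List Dv := [⟨[.a2], [0, 0], []⟩,
  ⟨[.a5], [3, 1], [1, 3]⟩]
theorem bad386 (c : CtxF Goal γ) : Bad Goal γ [] P386 :=
  c.toCtx.cent (B := B386) (D := D386) (I := [2, 1, 3, 0, 4]) (z := [.a0]) (by decide +kernel) (by decide +kernel)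

def P387 : List Ent := [⟨2, [.a1], [.a1, .a2]⟩,
  ⟨4, [.a2], [.a2]⟩,
  ⟨8, [.a3, .a8], [.a3, .a8]⟩,
  ⟨32, [.a5], [.a5]⟩,
  ⟨64, [.a6], [.a6]⟩]
def B387 : List Gv := [⟨[.a1], [.a1, .a2]⟩, ⟨[.a3, .a8], [.a3, .a8]⟩, ⟨[.a6], [.a6]⟩]
def D387 : List Dv := [⟨[.a2], [0, 0], []⟩,
  ⟨[.a5], [3, 1], [1, 3]⟩]
theorem bad387 (c : CtxF Goal γ) : Bad Goal γ [] P387 :=
  c.toCtx.cent (B := B387) (D := D387) (I := [2, 1, 3, 0, 4]) (z := [.a3]) (by decide +kernel) (by decide +kernel)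

def P388 : List Ent := [⟨2, [.a1], [.a1, .a2]⟩,
  ⟨4, [.a2], [.a2]⟩,
  ⟨8, [.a3], [.a3]⟩,
  ⟨32, [.a5], [.a5]⟩,
  ⟨64, [.a6, .a8], [.a6, .a8]⟩]
def B388 : List Gv := [⟨[.a1], [.a1, .a2]⟩, ⟨[.a3], [.a3]⟩, ⟨[.a6, .a8], [.a6, .a8]⟩]
def D388 : List Dv := [⟨[.a2], [0, 0], []⟩,
  ⟨[.a5], [3, 1], [1, 3]⟩]
theorem bad388 (c : CtxF Goal γ) : Bad Goal γ [] P388 :=
  c.toCtx.cent (B := B388) (D := D388) (I := [2, 1, 3, 0, 4]) (z := [.a0, .a1]) (by decide +kernel) (by decide +kernel)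

def P389 : List Ent := [⟨2, [.a1, .a8], [.a1, .a2, .a8]⟩,
  ⟨4, [.a2], [.a2]⟩,
  ⟨8, [.a3], [.a3]⟩,
  ⟨32, [.a5], [.a5]⟩,
  ⟨64, [.a6, .a8], [.a6, .a8]⟩]
def B389 : List Gv := [⟨[.a1, .a8], [.a1, .a2, .a8]⟩, ⟨[.a3], [.a3]⟩, ⟨[.a6, .a8], [.a6, .a8]⟩]
def D389 : List Dv := [⟨[.a2], [0, 0], []⟩,
  ⟨[.a5], [3, 1], [1, 3]⟩]
theorem bad389 (c : CtxF Goal γ) : Bad Goal γ [] P389 :=
  c.toCtx.cent (B := B389) (D := D389) (I := [2, 1, 3, 0, 4]) (z := [.a0, .a1, .a6]) (by decide +kernel) (by decide +kernel)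

def P390 : List Ent := [⟨2, [.a1], [.a1, .a2]⟩,
  ⟨4, [.a2], [.a2]⟩,
  ⟨8, [.a3, .a8], [.a3, .a8]⟩,
  ⟨32, [.a5], [.a5]⟩,
  ⟨64, [.a6, .a8], [.a6, .a8]⟩]
def B390 : List Gv := [⟨[.a1], [.a1, .a2]⟩, ⟨[.a3, .a8], [.a3, .a8]⟩, ⟨[.a6, .a8], [.a6, .a8]⟩]
def D390 : List Dv := [⟨[.a2], [0, 0], []⟩,
  ⟨[.a5], [3, 1], [1, 3]⟩]
theorem bad390 (c : CtxF Goal γ) : Bad Goal γ [] P390 :=
  c.toCtx.cent (B := B390) (D := D390) (I := [2, 1, 3, 0, 4]) (z := [.a3]) (by decide +kernel) (by decide +kernel)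

def P391 : List Ent := [⟨2, [.a1, .a11], [.a1, .a2, .a5, .a6, .a9, .a11]⟩,
  ⟨4, [.a2, .a9], [.a2, .a5, .a9]⟩,
  ⟨32, [.a5], [.a5]⟩,
  ⟨64, [.a6], [.a6]⟩,
  ⟨256, [.a8], [.a8]⟩]
def B391 : List Gv := [⟨[.a1, .a11], [.a1, .a2, .a5, .a6, .a9, .a11]⟩, ⟨[.a2, .a9], [.a2, .a5, .a9]⟩, ⟨[.a6], [.a6]⟩]
def D391 : List Dv := [⟨[.a8], [1, 0, 0], []⟩,
  ⟨[.a5], [2, 2], []⟩]
theorem bad391 (c : CtxF Goal γ) : Bad Goal γ [] P391 :=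
  c.toCtx.cent (B := B391) (D := D391) (I := [2, 3, 0, 4, 1]) (z := [.a7]) (by decide +kernel) (by decide +kernel)

def P392 : List Ent := [⟨2, [.a1, .a11], [.a1, .a2, .a5, .a6, .a9, .a11]⟩,
  ⟨4, [.a2, .a9], [.a2, .a5, .a9]⟩,
  ⟨8, [.a3], [.a3]⟩,
  ⟨32, [.a5], [.a5]⟩,
  ⟨256, [.a8], [.a8]⟩]
def B392 : List Gv := [⟨[.a1, .a11], [.a1, .a2, .a5, .a6, .a9, .a11]⟩, ⟨[.a3], [.a3]⟩]
def D392 : List Dv := [⟨[.a2, .a5, .a8, .a9], [0, 0], []⟩,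
  ⟨[.a8], [2, 1], [1, 2]⟩,
  ⟨[.a5], [1, 1], []⟩,
  ⟨[.a2, .a9], [2], [0, 1]⟩]
def C392 : List Ch := [⟨P55, 0, [], []⟩,
  ⟨P87, 1, [], []⟩,
  ⟨P87, 0, [.a4], [.a4, .a5]⟩]
def N392 : List Ent := [⟨2, [.a1, .a11], [.a1, .a2, .a5, .a6, .a9, .a11]⟩,
  ⟨4, [.a2, .a9], [.a2, .a5, .a9]⟩,
  ⟨8, [.a3], [.a3]⟩,
  ⟨16, [.a4], [.a4, .a5]⟩,
  ⟨32, [.a5], [.a5]⟩,
  ⟨64, [.a6], [.a6]⟩,
  ⟨128, [.a7], [.a7, .a8]⟩,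
  ⟨256, [.a8], [.a8]⟩]
theorem bad392 (c : CtxF Goal γ) : Bad Goal γ [] P392 :=
  c.toCtx.bnd (B := B392) (D := D392) (I := [4, 0, 5, 1, 2]) (r := 2) (C := C392) (N := N392) (by decide +kernel) (by decide +kernel) (by decide +kernel) (by decide +kernel)
    (allB_cons (bad55 c) (allB_cons (bad87 c) (allB_cons (bad87 c) (allB_nil))))

def P393 : List Ent := [⟨2, [.a1, .a7], [.a1, .a2, .a7, .a8]⟩,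
  ⟨4, [.a2, .a8], [.a2, .a8]⟩,
  ⟨8, [.a3], [.a3]⟩,
  ⟨32, [.a5], [.a5]⟩,
  ⟨64, [.a6], [.a6]⟩]
def B393 : List Gv := [⟨[.a1, .a7], [.a1, .a2, .a7, .a8]⟩, ⟨[.a3], [.a3]⟩, ⟨[.a6], [.a6]⟩]
def D393 : List Dv := [⟨[.a2, .a8], [0, 0], []⟩,
  ⟨[.a5], [2, 1], [1, 2]⟩]
theorem bad393 (c : CtxF Goal γ) : Bad Goal γ [] P393 :=
  c.toCtx.cent (B := B393) (D := D393) (I := [2, 1, 3, 0, 4]) (z := [.a2]) (by decide +kernel) (by decide +kernel)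

def P394 : List Ent := [⟨2, [.a1, .a7], [.a1, .a2, .a7, .a8]⟩,
  ⟨4, [.a2], [.a2]⟩,
  ⟨32, [.a5], [.a5]⟩,
  ⟨64, [.a6], [.a6]⟩,
  ⟨256, [.a8], [.a8]⟩]
def B394 : List Gv := [⟨[.a1, .a7], [.a1, .a2, .a7, .a8]⟩, ⟨[.a2], [.a2]⟩, ⟨[.a6], [.a6]⟩]
def D394 : List Dv := [⟨[.a8], [1, 0, 0], []⟩,
  ⟨[.a5], [3, 1], [1, 3]⟩]
theorem bad394 (c : CtxF Goal γ) : Bad Goal γ [] P394 :=
  c.toCtx.cent (B := B394) (D := D394) (I := [2, 3, 0, 4, 1]) (z := [.a3, .a6]) (by decide +kernel) (by decide +kernel)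

def P395 : List Ent := [⟨2, [.a1, .a7], [.a1, .a2, .a7, .a8]⟩,
  ⟨4, [.a2, .a8], [.a2, .a8]⟩,
  ⟨8, [.a3, .a8], [.a3, .a8]⟩,
  ⟨32, [.a5], [.a5]⟩,
  ⟨64, [.a6], [.a6]⟩]
def B395 : List Gv := [⟨[.a1, .a7], [.a1, .a2, .a7, .a8]⟩, ⟨[.a3, .a8], [.a3, .a8]⟩, ⟨[.a6], [.a6]⟩]
def D395 : List Dv := [⟨[.a2, .a8], [0, 0], []⟩,
  ⟨[.a5], [2, 1], [1, 2]⟩]
theorem bad395 (c : CtxF Goal γ) : Bad Goal γ [] P395 :=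
  c.toCtx.cent (B := B395) (D := D395) (I := [2, 1, 3, 0, 4]) (z := [.a2]) (by decide +kernel) (by decide +kernel)

def P396 : List Ent := [⟨2, [.a1, .a7], [.a1, .a2, .a7, .a8]⟩,
  ⟨4, [.a2], [.a2]⟩,
  ⟨8, [.a3], [.a3]⟩,
  ⟨32, [.a5], [.a5]⟩,
  ⟨256, [.a8], [.a8]⟩]
def B396 : List Gv := [⟨[.a1, .a7], [.a1, .a2, .a7, .a8]⟩, ⟨[.a2], [.a2]⟩, ⟨[.a3], [.a3]⟩]
def D396 : List Dv := [⟨[.a8], [1, 0, 0], []⟩,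
  ⟨[.a5], [3, 1], [1, 3]⟩]
theorem bad396 (c : CtxF Goal γ) : Bad Goal γ [] P396 :=
  c.toCtx.cent (B := B396) (D := D396) (I := [2, 3, 4, 0, 1]) (z := [.a1]) (by decide +kernel) (by decide +kernel)

def P397 : List Ent := [⟨2, [.a1, .a7], [.a1, .a2, .a7, .a8]⟩,
  ⟨4, [.a2, .a8], [.a2, .a8]⟩,
  ⟨8, [.a3], [.a3]⟩,
  ⟨32, [.a5], [.a5]⟩,
  ⟨64, [.a6, .a8], [.a6, .a8]⟩]
def B397 : List Gv := [⟨[.a1, .a7], [.a1, .a2, .a7, .a8]⟩, ⟨[.a3], [.a3]⟩, ⟨[.a6, .a8], [.a6, .a8]⟩]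
def D397 : List Dv := [⟨[.a2, .a8], [0, 0], []⟩,
  ⟨[.a5], [2, 1], [1, 2]⟩]
theorem bad397 (c : CtxF Goal γ) : Bad Goal γ [] P397 :=
  c.toCtx.cent (B := B397) (D := D397) (I := [2, 1, 3, 0, 4]) (z := [.a2]) (by decide +kernel) (by decide +kernel)

def P398 : List Ent := [⟨2, [.a1, .a7], [.a1, .a2, .a7, .a8]⟩,
  ⟨4, [.a2], [.a2]⟩,
  ⟨8, [.a3, .a6], [.a3, .a6]⟩,
  ⟨32, [.a5], [.a5]⟩,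
  ⟨256, [.a8], [.a8]⟩]
def B398 : List Gv := [⟨[.a1, .a7], [.a1, .a2, .a7, .a8]⟩, ⟨[.a2], [.a2]⟩, ⟨[.a3, .a6], [.a3, .a6]⟩, ⟨[.a5], [.a5]⟩]
def D398 : List Dv := [⟨[.a8], [1, 0, 0], []⟩]
def C398 : List Ch := [⟨P81, 0, [.a10], [.a10, .a11]⟩,
  ⟨P88, 1, [], []⟩,
  ⟨P89, 0, [], []⟩,
  ⟨P90, 2, [], []⟩,
  ⟨P90, 0, [.a4], [.a4, .a5]⟩,
  ⟨P91, 1, [], []⟩,
  ⟨P91, 0, [.a4], [.a4, .a5]⟩,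
  ⟨P92, 3, [], []⟩,
  ⟨P92, 0, [.a4], [.a4, .a5]⟩,
  ⟨P92, 1, [.a0, .a2, .a3, .a4, .a5, .a6, .a8, .a9], [.a0, .a4, .a5, .a9]⟩,
  ⟨P92, 0, [.a0, .a3, .a6, .a9], [.a0, .a9]⟩,
  ⟨P92, 2, [.a1], [.a1, .a2]⟩,
  ⟨P92, 0, [.a1, .a3], [.a1, .a2, .a3]⟩,
  ⟨P92, 1, [.a0, .a1, .a3, .a8, .a9], [.a0, .a1, .a2, .a9]⟩,
  ⟨P92, 0, [.a0, .a2, .a5, .a6, .a7, .a9], [.a0, .a7, .a8, .a9]⟩]
def N398 : List Ent := [⟨1, [.a0, .a9], [.a0, .a3, .a6, .a9]⟩,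
  ⟨2, [.a1, .a7], [.a1, .a2, .a7, .a8]⟩,
  ⟨4, [.a2], [.a2]⟩,
  ⟨8, [.a3, .a6], [.a3, .a6]⟩,
  ⟨16, [.a4], [.a4, .a5]⟩,
  ⟨32, [.a5], [.a5]⟩,
  ⟨64, [.a6], [.a6]⟩,
  ⟨128, [.a7], [.a7, .a8]⟩,
  ⟨256, [.a8], [.a8]⟩]
theorem bad398 (c : CtxF Goal γ) : Bad Goal γ [] P398 :=
  c.toCtx.bnd (B := B398) (D := D398) (I := [1, 2, 3, 4, 0]) (r := 4) (C := C398) (N := N398) (by decide +kernel) (by decide +kernel) (by decide +kernel) (by decide +kernel)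
    (allB_cons (bad81 c) (allB_cons (bad88 c) (allB_cons (bad89 c) (allB_cons (bad90 c) (allB_cons (bad90 c) (allB_cons (bad91 c) (allB_cons (bad91 c) (allB_cons (bad92 c) (allB_cons (bad92 c) (allB_cons (bad92 c) (allB_cons (bad92 c) (allB_cons (bad92 c) (allB_cons (bad92 c) (allB_cons (bad92 c) (allB_cons (bad92 c) (allB_nil))))))))))))))))

def P399 : List Ent := [⟨2, [.a1, .a7], [.a1, .a2, .a7, .a8]⟩,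
  ⟨4, [.a2, .a8], [.a2, .a8]⟩,
  ⟨8, [.a3, .a8], [.a3, .a8]⟩,
  ⟨32, [.a5], [.a5]⟩,
  ⟨64, [.a6, .a8], [.a6, .a8]⟩]
def B399 : List Gv := [⟨[.a1, .a7], [.a1, .a2, .a7, .a8]⟩, ⟨[.a3, .a8], [.a3, .a8]⟩, ⟨[.a6, .a8], [.a6, .a8]⟩]
def D399 : List Dv := [⟨[.a2, .a8], [0, 0], []⟩,
  ⟨[.a5], [2, 1], [1, 2]⟩]
theorem bad399 (c : CtxF Goal γ) : Bad Goal γ [] P399 :=
  c.toCtx.cent (B := B399) (D := D399) (I := [2, 1, 3, 0, 4]) (z := [.a2]) (by decide +kernel) (by decide +kernel)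

end Cfsg.Agent.H782.TF.Full
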