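import Cfsg.Agent.H782.TF.Full2

/-!
# S5262, q = 2: certificate of the subgroup tree, part 3 (generated; helper782)
-/

set_option autoImplicit false
set_option maxRecDepth 100000

namespace Cfsg.Agent.H782.TF.Full

open Cfsg.Agent.H782.TF

universe u

variable {U : Type u} [Group U] {Goal : Subgroup U → Prop} {γ : ℕ → U}

def P400 : List Ent := [⟨2, [.a1, .a7, .a8], [.a1, .a2, .a7]⟩,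
  ⟨4, [.a2, .a8], [.a2, .a8]⟩,
  ⟨8, [.a3, .a8], [.a3, .a8]⟩,
  ⟨32, [.a5], [.a5]⟩,
  ⟨64, [.a6, .a8], [.a6, .a8]⟩]
def B400 : List Gv := [⟨[.a1, .a7, .a8], [.a1, .a2, .a7]⟩, ⟨[.a3, .a8], [.a3, .a8]⟩, ⟨[.a6, .a8], [.a6, .a8]⟩]
def D400 : List Dv := [⟨[.a2, .a8], [0, 0], []⟩,
  ⟨[.a5], [2, 1], [1, 2]⟩]
theorem bad400 (c : CtxF Goal γ) : Bad Goal γ [] P400 :=
  c.toCtx.cent (B := B400) (D := D400) (I := [2, 1, 3, 0, 4]) (z := [.a2]) (by decide +kernel) (by decide +kernel)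

def P401 : List Ent := [⟨2, [.a1, .a7, .a11], [.a1, .a2, .a5, .a6, .a7, .a8, .a9, .a11]⟩,
  ⟨4, [.a2, .a9], [.a2, .a5, .a9]⟩,
  ⟨32, [.a5], [.a5]⟩,
  ⟨64, [.a6], [.a6]⟩,
  ⟨256, [.a8], [.a8]⟩]
def B401 : List Gv := [⟨[.a1, .a7, .a11], [.a1, .a2, .a5, .a6, .a7, .a8, .a9, .a11]⟩, ⟨[.a6], [.a6]⟩, ⟨[.a8], [.a8]⟩]
def D401 : List Dv := [⟨[.a2, .a5, .a9], [0, 0], []⟩,
  ⟨[.a5], [2, 1], [1, 2]⟩,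
  ⟨[.a2, .a9], [1], [0]⟩]
theorem bad401 (c : CtxF Goal γ) : Bad Goal γ [] P401 :=
  c.toCtx.cent (B := B401) (D := D401) (I := [3, 0, 1, 4, 5]) (z := [.a7]) (by decide +kernel) (by decide +kernel)

def P402 : List Ent := [⟨2, [.a1, .a7, .a11], [.a1, .a2, .a5, .a6, .a7, .a8, .a9, .a11]⟩,
  ⟨4, [.a2, .a9], [.a2, .a5, .a9]⟩,
  ⟨8, [.a3], [.a3]⟩,
  ⟨32, [.a5], [.a5]⟩,
  ⟨256, [.a8], [.a8]⟩]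
def B402 : List Gv := [⟨[.a1, .a7, .a11], [.a1, .a2, .a5, .a6, .a7, .a8, .a9, .a11]⟩, ⟨[.a3], [.a3]⟩]
def D402 : List Dv := [⟨[.a2, .a5, .a9], [0, 0], []⟩,
  ⟨[.a5, .a8], [2, 1], [1, 2]⟩,
  ⟨[.a8], [0, 1, 1], []⟩,
  ⟨[.a5], [1], [0]⟩,
  ⟨[.a2, .a9], [3], [0]⟩]
def C402 : List Ch := [⟨P55, 0, [], []⟩,
  ⟨P93, 1, [], []⟩,
  ⟨P93, 0, [.a0, .a10], [.a0, .a1, .a2, .a3, .a4, .a6, .a8, .a9, .a10, .a11]⟩]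
def N402 : List Ent := [⟨2, [.a1, .a7, .a11], [.a1, .a2, .a5, .a6, .a7, .a8, .a9, .a11]⟩,
  ⟨4, [.a2, .a9], [.a2, .a5, .a9]⟩,
  ⟨8, [.a3], [.a3]⟩,
  ⟨16, [.a4, .a9], [.a4, .a5, .a8, .a9]⟩,
  ⟨32, [.a5], [.a5]⟩,
  ⟨64, [.a6], [.a6]⟩,
  ⟨128, [.a7], [.a7, .a8]⟩,
  ⟨256, [.a8], [.a8]⟩]
theorem bad402 (c : CtxF Goal γ) : Bad Goal γ [] P402 :=
  c.toCtx.bnd (B := B402) (D := D402) (I := [5, 0, 6, 1, 2]) (r := 2) (C := C402) (N := N402) (by decide +kernel) (by decide +kernel) (by decide +kernel) (by decide +kernel)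
    (allB_cons (bad55 c) (allB_cons (bad93 c) (allB_cons (bad93 c) (allB_nil))))

def P403 : List Ent := [⟨2, [.a1], [.a1, .a2]⟩,
  ⟨4, [.a2], [.a2]⟩,
  ⟨32, [.a5], [.a5]⟩,
  ⟨128, [.a7], [.a7, .a8]⟩,
  ⟨256, [.a8], [.a8]⟩]
def B403 : List Gv := [⟨[.a1], [.a1, .a2]⟩, ⟨[.a5], [.a5]⟩, ⟨[.a7], [.a7, .a8]⟩]
def D403 : List Dv := [⟨[.a2], [0, 0], []⟩,
  ⟨[.a8], [3, 3], []⟩]
def C403 : List Ch := [⟨P63, 0, [], []⟩,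
  ⟨P94, 1, [], []⟩,
  ⟨P94, 0, [.a6], [.a6]⟩,
  ⟨P82, 2, [], []⟩,
  ⟨P90, 0, [], []⟩,
  ⟨P94, 1, [.a3], [.a3]⟩,
  ⟨P94, 0, [.a3, .a6], [.a3, .a6]⟩]
def N403 : List Ent := [⟨2, [.a1], [.a1, .a2]⟩,
  ⟨4, [.a2], [.a2]⟩,
  ⟨8, [.a3], [.a3]⟩,
  ⟨32, [.a5], [.a5]⟩,
  ⟨64, [.a6], [.a6]⟩,
  ⟨128, [.a7], [.a7, .a8]⟩,
  ⟨256, [.a8], [.a8]⟩]
theorem bad403 (c : CtxF Goal γ) : Bad Goal γ [] P403 :=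
  c.toCtx.bnd (B := B403) (D := D403) (I := [2, 1, 3, 4, 0]) (r := 3) (C := C403) (N := N403) (by decide +kernel) (by decide +kernel) (by decide +kernel) (by decide +kernel)
    (allB_cons (bad63 c) (allB_cons (bad94 c) (allB_cons (bad94 c) (allB_cons (bad82 c) (allB_cons (bad90 c) (allB_cons (bad94 c) (allB_cons (bad94 c) (allB_nil))))))))

def P404 : List Ent := [⟨2, [.a1], [.a1, .a2]⟩,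
  ⟨4, [.a2], [.a2]⟩,
  ⟨32, [.a5], [.a5]⟩,
  ⟨64, [.a6, .a7], [.a6, .a7, .a8]⟩,
  ⟨256, [.a8], [.a8]⟩]
def B404 : List Gv := [⟨[.a1], [.a1, .a2]⟩, ⟨[.a6, .a7], [.a6, .a7, .a8]⟩]
def D404 : List Dv := [⟨[.a2], [0, 0], []⟩,
  ⟨[.a5], [2, 1], [1, 2]⟩,
  ⟨[.a8], [3, 3], []⟩]
theorem bad404 (c : CtxF Goal γ) : Bad Goal γ [] P404 :=
  c.toCtx.cent (B := B404) (D := D404) (I := [3, 2, 1, 4, 0]) (z := [.a1, .a3]) (by decide +kernel) (by decide +kernel)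

def P405 : List Ent := [⟨2, [.a1, .a11], [.a1, .a2, .a5, .a6, .a9, .a11]⟩,
  ⟨4, [.a2, .a9], [.a2, .a5, .a9]⟩,
  ⟨32, [.a5], [.a5]⟩,
  ⟨128, [.a7], [.a7, .a8]⟩,
  ⟨256, [.a8], [.a8]⟩]
def B405 : List Gv := [⟨[.a1, .a11], [.a1, .a2, .a5, .a6, .a9, .a11]⟩, ⟨[.a7], [.a7, .a8]⟩]
def D405 : List Dv := [⟨[.a2, .a5, .a8, .a9], [0, 0], []⟩,
  ⟨[.a8], [2, 2], []⟩,
  ⟨[.a5], [1, 1], []⟩,
  ⟨[.a2, .a9], [2], [0, 1]⟩]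
def C405 : List Ch := [⟨P66, 0, [], []⟩,
  ⟨P87, 1, [], []⟩,
  ⟨P93, 0, [], []⟩]
def N405 : List Ent := [⟨1, [.a0, .a4, .a10], [.a0, .a1, .a6, .a8, .a9, .a10, .a11]⟩,
  ⟨2, [.a1, .a11], [.a1, .a2, .a5, .a6, .a9, .a11]⟩,
  ⟨4, [.a2, .a9], [.a2, .a5, .a9]⟩,
  ⟨8, [.a3], [.a3]⟩,
  ⟨32, [.a5], [.a5]⟩,
  ⟨64, [.a6], [.a6]⟩,
  ⟨128, [.a7], [.a7, .a8]⟩,
  ⟨256, [.a8], [.a8]⟩]
theorem bad405 (c : CtxF Goal γ) : Bad Goal γ [] P405 :=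
  c.toCtx.bnd (B := B405) (D := D405) (I := [4, 0, 1, 5, 2]) (r := 2) (C := C405) (N := N405) (by decide +kernel) (by decide +kernel) (by decide +kernel) (by decide +kernel)
    (allB_cons (bad66 c) (allB_cons (bad87 c) (allB_cons (bad93 c) (allB_nil))))

def P406 : List Ent := [⟨2, [.a1, .a11], [.a1, .a2, .a5, .a6, .a9, .a11]⟩,
  ⟨4, [.a2, .a9], [.a2, .a5, .a9]⟩,
  ⟨32, [.a5], [.a5]⟩,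
  ⟨64, [.a6, .a7], [.a6, .a7, .a8]⟩,
  ⟨256, [.a8], [.a8]⟩]
def B406 : List Gv := [⟨[.a1, .a11], [.a1, .a2, .a5, .a6, .a9, .a11]⟩, ⟨[.a6, .a7], [.a6, .a7, .a8]⟩]
def D406 : List Dv := [⟨[.a2, .a5, .a8, .a9], [0, 0], []⟩,
  ⟨[.a5], [2, 1], [1, 2]⟩,
  ⟨[.a8], [3, 3], []⟩,
  ⟨[.a2, .a9], [2], [1, 0]⟩]
theorem bad406 (c : CtxF Goal γ) : Bad Goal γ [] P406 :=
  c.toCtx.cent (B := B406) (D := D406) (I := [4, 0, 2, 5, 1]) (z := [.a7]) (by decide +kernel) (by decide +kernel)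

def P407 : List Ent := [⟨2, [.a1, .a11], [.a1, .a2, .a5, .a6, .a9, .a11]⟩,
  ⟨4, [.a2, .a9], [.a2, .a5, .a9]⟩,
  ⟨8, [.a3, .a7], [.a3, .a5, .a7, .a8]⟩,
  ⟨32, [.a5], [.a5]⟩,
  ⟨256, [.a8], [.a8]⟩]
def B407 : List Gv := [⟨[.a1, .a11], [.a1, .a2, .a5, .a6, .a9, .a11]⟩, ⟨[.a3, .a7], [.a3, .a5, .a7, .a8]⟩]
def D407 : List Dv := [⟨[.a2, .a5, .a8, .a9], [0, 0], []⟩,
  ⟨[.a8], [2, 1], [1, 2]⟩,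
  ⟨[.a5, .a8], [3, 3], []⟩,
  ⟨[.a5], [0], [1]⟩,
  ⟨[.a2, .a9], [3], [0, 2]⟩]
def C407 : List Ch := [⟨P67, 0, [], []⟩,
  ⟨P87, 1, [], []⟩,
  ⟨P93, 0, [.a0, .a10], [.a0, .a1, .a2, .a3, .a4, .a6, .a8, .a9, .a10, .a11]⟩]
def N407 : List Ent := [⟨2, [.a1, .a11], [.a1, .a2, .a5, .a6, .a9, .a11]⟩,
  ⟨4, [.a2, .a9], [.a2, .a5, .a9]⟩,
  ⟨8, [.a3, .a7], [.a3, .a5, .a7, .a8]⟩,
  ⟨32, [.a5], [.a5]⟩,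
  ⟨64, [.a6], [.a6]⟩,
  ⟨128, [.a7], [.a7, .a8]⟩,
  ⟨256, [.a8], [.a8]⟩]
theorem bad407 (c : CtxF Goal γ) : Bad Goal γ [] P407 :=
  c.toCtx.bnd (B := B407) (D := D407) (I := [5, 0, 6, 1, 3]) (r := 2) (C := C407) (N := N407) (by decide +kernel) (by decide +kernel) (by decide +kernel) (by decide +kernel)
    (allB_cons (bad67 c) (allB_cons (bad87 c) (allB_cons (bad93 c) (allB_nil))))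

def P408 : List Ent := [⟨2, [.a1], [.a1, .a2]⟩,
  ⟨4, [.a2], [.a2]⟩,
  ⟨8, [.a3], [.a3]⟩,
  ⟨16, [.a4], [.a4, .a5]⟩,
  ⟨32, [.a5], [.a5]⟩]
def B408 : List Gv := [⟨[.a1], [.a1, .a2]⟩, ⟨[.a4], [.a4, .a5]⟩]
def D408 : List Dv := [⟨[.a2], [0, 0], []⟩,
  ⟨[.a3], [2, 1], [1, 2]⟩,
  ⟨[.a5], [3, 3], []⟩]
theorem bad408 (c : CtxF Goal γ) : Bad Goal γ [] P408 :=
  c.toCtx.cent (B := B408) (D := D408) (I := [3, 2, 1, 4, 0]) (z := [.a8]) (by decide +kernel) (by decide +kernel)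

def P409 : List Ent := [⟨2, [.a1, .a8], [.a1, .a2, .a8]⟩,
  ⟨4, [.a2], [.a2]⟩,
  ⟨8, [.a3], [.a3]⟩,
  ⟨16, [.a4], [.a4, .a5]⟩,
  ⟨32, [.a5], [.a5]⟩]
def B409 : List Gv := [⟨[.a1, .a8], [.a1, .a2, .a8]⟩, ⟨[.a4], [.a4, .a5]⟩]
def D409 : List Dv := [⟨[.a2], [0, 0], []⟩,
  ⟨[.a3], [2, 1], [1, 2]⟩,
  ⟨[.a5], [3, 3], []⟩]
theorem bad409 (c : CtxF Goal γ) : Bad Goal γ [] P409 :=
  c.toCtx.cent (B := B409) (D := D409) (I := [3, 2, 1, 4, 0]) (z := [.a8]) (by decide +kernel) (by decide +kernel)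

def P410 : List Ent := [⟨2, [.a1], [.a1, .a2]⟩,
  ⟨4, [.a2], [.a2]⟩,
  ⟨8, [.a3], [.a3]⟩,
  ⟨16, [.a4, .a8], [.a4, .a5, .a8]⟩,
  ⟨32, [.a5], [.a5]⟩]
def B410 : List Gv := [⟨[.a1], [.a1, .a2]⟩, ⟨[.a4, .a8], [.a4, .a5, .a8]⟩]
def D410 : List Dv := [⟨[.a2], [0, 0], []⟩,
  ⟨[.a3], [2, 1], [1, 2]⟩,
  ⟨[.a5], [3, 3], []⟩]
theorem bad410 (c : CtxF Goal γ) : Bad Goal γ [] P410 :=
  c.toCtx.cent (B := B410) (D := D410) (I := [3, 2, 1, 4, 0]) (z := [.a8]) (by decide +kernel) (by decide +kernel)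

def P411 : List Ent := [⟨2, [.a1, .a8], [.a1, .a2, .a8]⟩,
  ⟨4, [.a2], [.a2]⟩,
  ⟨8, [.a3], [.a3]⟩,
  ⟨16, [.a4, .a8], [.a4, .a5, .a8]⟩,
  ⟨32, [.a5], [.a5]⟩]
def B411 : List Gv := [⟨[.a1, .a8], [.a1, .a2, .a8]⟩, ⟨[.a4, .a8], [.a4, .a5, .a8]⟩]
def D411 : List Dv := [⟨[.a2], [0, 0], []⟩,
  ⟨[.a3], [2, 1], [1, 2]⟩,
  ⟨[.a5], [3, 3], []⟩]
theorem bad411 (c : CtxF Goal γ) : Bad Goal γ [] P411 :=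
  c.toCtx.cent (B := B411) (D := D411) (I := [3, 2, 1, 4, 0]) (z := [.a8]) (by decide +kernel) (by decide +kernel)

def P412 : List Ent := [⟨1, [.a0], [.a0]⟩,
  ⟨4, [.a2, .a3, .a4, .a7, .a9], [.a2, .a3, .a4, .a5, .a6, .a7, .a9]⟩,
  ⟨32, [.a5], [.a5]⟩,
  ⟨64, [.a6], [.a6]⟩,
  ⟨2048, [.a11], [.a11]⟩]
def B412 : List Gv := [⟨[.a0], [.a0]⟩, ⟨[.a5], [.a5]⟩, ⟨[.a11], [.a11]⟩]
def D412 : List Dv := [⟨[.a2, .a3, .a4, .a7, .a9], [2, 0], [0, 2]⟩,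
  ⟨[.a6], [2, 0, 1], [1, 0]⟩]
def C412 : List Ch := [⟨P95, 0, [], []⟩,
  ⟨P96, 1, [], []⟩,
  ⟨P96, 0, [.a8], [.a8]⟩,
  ⟨P97, 2, [], []⟩,
  ⟨P98, 0, [], []⟩,
  ⟨P99, 1, [], []⟩,
  ⟨P99, 0, [.a8], [.a8]⟩]
def N412 : List Ent := [⟨1, [.a0], [.a0]⟩,
  ⟨4, [.a2, .a3, .a4, .a7, .a9], [.a2, .a3, .a4, .a5, .a6, .a7, .a9]⟩,
  ⟨16, [.a4, .a7, .a9], [.a4, .a5, .a6, .a7, .a9]⟩,
  ⟨32, [.a5], [.a5]⟩,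
  ⟨64, [.a6], [.a6]⟩,
  ⟨256, [.a8], [.a8]⟩,
  ⟨2048, [.a11], [.a11]⟩]
theorem bad412 (c : CtxF Goal γ) : Bad Goal γ [] P412 :=
  c.toCtx.bnd (B := B412) (D := D412) (I := [2, 1, 3, 0, 4]) (r := 3) (C := C412) (N := N412) (by decide +kernel) (by decide +kernel) (by decide +kernel) (by decide +kernel)
    (allB_cons (bad95 c) (allB_cons (bad96 c) (allB_cons (bad96 c) (allB_cons (bad97 c) (allB_cons (bad98 c) (allB_cons (bad99 c) (allB_cons (bad99 c) (allB_nil))))))))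

def P413 : List Ent := [⟨1, [.a0, .a8], [.a0, .a5, .a8]⟩,
  ⟨4, [.a2, .a3, .a4, .a7, .a9], [.a2, .a3, .a4, .a5, .a6, .a7, .a9]⟩,
  ⟨32, [.a5], [.a5]⟩,
  ⟨64, [.a6], [.a6]⟩,
  ⟨2048, [.a11], [.a11]⟩]
def B413 : List Gv := [⟨[.a0, .a8], [.a0, .a5, .a8]⟩, ⟨[.a11], [.a11]⟩]
def D413 : List Dv := [⟨[.a5], [0, 0], []⟩,
  ⟨[.a2, .a3, .a4, .a7, .a9], [2, 1], [1, 2]⟩,
  ⟨[.a6], [1, 0, 2], [2, 0]⟩]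
def C413 : List Ch := [⟨P95, 0, [], []⟩,
  ⟨P100, 1, [], []⟩,
  ⟨P98, 0, [.a3], [.a3]⟩]
def N413 : List Ent := [⟨1, [.a0, .a8], [.a0, .a5, .a8]⟩,
  ⟨4, [.a2, .a3, .a4, .a7, .a9], [.a2, .a3, .a4, .a5, .a6, .a7, .a9]⟩,
  ⟨16, [.a4, .a7, .a9], [.a4, .a5, .a6, .a7, .a9]⟩,
  ⟨32, [.a5], [.a5]⟩,
  ⟨64, [.a6], [.a6]⟩,
  ⟨256, [.a8], [.a8]⟩,
  ⟨2048, [.a11], [.a11]⟩]
theorem bad413 (c : CtxF Goal γ) : Bad Goal γ [] P413 :=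
  c.toCtx.bnd (B := B413) (D := D413) (I := [3, 1, 2, 0, 4]) (r := 2) (C := C413) (N := N413) (by decide +kernel) (by decide +kernel) (by decide +kernel) (by decide +kernel)
    (allB_cons (bad95 c) (allB_cons (bad100 c) (allB_cons (bad98 c) (allB_nil))))

def P414 : List Ent := [⟨1, [.a0], [.a0]⟩,
  ⟨4, [.a2, .a3, .a4, .a7, .a9], [.a2, .a3, .a4, .a5, .a6, .a7, .a9]⟩,
  ⟨32, [.a5], [.a5]⟩,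
  ⟨64, [.a6], [.a6]⟩,
  ⟨256, [.a8], [.a8]⟩]
def B414 : List Gv := [⟨[.a0], [.a0]⟩, ⟨[.a2, .a3, .a4, .a7, .a9], [.a2, .a3, .a4, .a5, .a6, .a7, .a9]⟩, ⟨[.a8], [.a8]⟩]
def D414 : List Dv := [⟨[.a5, .a6], [1, 0], [0, 1]⟩,
  ⟨[.a6], [0, 3, 1], [1, 3]⟩,
  ⟨[.a5], [1], [0]⟩]
theorem bad414 (c : CtxF Goal γ) : Bad Goal γ [] P414 :=
  c.toCtx.cent (B := B414) (D := D414) (I := [3, 4, 0, 1, 5]) (z := [.a2, .a3]) (by decide +kernel) (by decide +kernel)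

def P415 : List Ent := [⟨1, [.a0, .a11], [.a0, .a2, .a3, .a4, .a5, .a6, .a7, .a9, .a11]⟩,
  ⟨4, [.a2, .a3, .a4, .a7, .a9], [.a2, .a3, .a4, .a5, .a6, .a7, .a9]⟩,
  ⟨32, [.a5], [.a5]⟩,
  ⟨64, [.a6], [.a6]⟩,
  ⟨256, [.a8], [.a8]⟩]
def B415 : List Gv := [⟨[.a0, .a11], [.a0, .a2, .a3, .a4, .a5, .a6, .a7, .a9, .a11]⟩, ⟨[.a8], [.a8]⟩]
def D415 : List Dv := [⟨[.a2, .a3, .a4, .a5, .a6, .a7, .a9], [0, 0], []⟩,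
  ⟨[.a5], [2, 1], [1, 2]⟩,
  ⟨[.a6], [0, 1, 1], []⟩,
  ⟨[.a2, .a3, .a4, .a7, .a9], [2], [1, 0]⟩]
def C415 : List Ch := [⟨P71, 0, [.a1], [.a1, .a2]⟩,
  ⟨P98, 1, [], []⟩,
  ⟨P98, 0, [.a3], [.a3]⟩]
def N415 : List Ent := [⟨1, [.a0, .a11], [.a0, .a2, .a3, .a4, .a5, .a6, .a7, .a9, .a11]⟩,
  ⟨4, [.a2, .a3, .a4, .a7, .a9], [.a2, .a3, .a4, .a5, .a6, .a7, .a9]⟩,
  ⟨8, [.a3], [.a3]⟩,
  ⟨16, [.a4, .a7, .a9], [.a4, .a5, .a6, .a7, .a9]⟩,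
  ⟨32, [.a5], [.a5]⟩,
  ⟨64, [.a6], [.a6]⟩,
  ⟨256, [.a8], [.a8]⟩,
  ⟨2048, [.a11], [.a11]⟩]
theorem bad415 (c : CtxF Goal γ) : Bad Goal γ [] P415 :=
  c.toCtx.bnd (B := B415) (D := D415) (I := [4, 0, 2, 1, 5]) (r := 2) (C := C415) (N := N415) (by decide +kernel) (by decide +kernel) (by decide +kernel) (by decide +kernel)
    (allB_cons (bad71 c) (allB_cons (bad98 c) (allB_cons (bad98 c) (allB_nil))))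

def P416 : List Ent := [⟨1, [.a0], [.a0]⟩,
  ⟨8, [.a3], [.a3]⟩,
  ⟨32, [.a5], [.a5]⟩,
  ⟨64, [.a6], [.a6]⟩,
  ⟨256, [.a8], [.a8]⟩]
def B416 : List Gv := [⟨[.a0], [.a0]⟩, ⟨[.a3], [.a3]⟩, ⟨[.a6], [.a6]⟩, ⟨[.a8], [.a8]⟩]
def D416 : List Dv := [⟨[.a5], [3, 0], [0, 3]⟩]
theorem bad416 (c : CtxF Goal γ) : Bad Goal γ [] P416 :=
  c.toCtx.cent (B := B416) (D := D416) (I := [1, 2, 0, 3, 4]) (z := [.a2]) (by decide +kernel) (by decide +kernel)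

def P417 : List Ent := [⟨1, [.a0, .a2, .a9], [.a0, .a2, .a3, .a5, .a6, .a9]⟩,
  ⟨8, [.a3], [.a3]⟩,
  ⟨32, [.a5], [.a5]⟩,
  ⟨64, [.a6], [.a6]⟩,
  ⟨256, [.a8], [.a8]⟩]
def B417 : List Gv := [⟨[.a0, .a2, .a9], [.a0, .a2, .a3, .a5, .a6, .a9]⟩, ⟨[.a3], [.a3]⟩, ⟨[.a8], [.a8]⟩]
def D417 : List Dv := [⟨[.a5, .a6], [1, 0, 0], []⟩,
  ⟨[.a6], [0, 3, 1], [1, 3]⟩,
  ⟨[.a5], [1], [0]⟩]
theorem bad417 (c : CtxF Goal γ) : Bad Goal γ [] P417 :=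
  c.toCtx.cent (B := B417) (D := D417) (I := [3, 4, 0, 1, 5]) (z := [.a2, .a8]) (by decide +kernel) (by decide +kernel)

def P418 : List Ent := [⟨1, [.a0], [.a0]⟩,
  ⟨4, [.a2, .a9], [.a2, .a5, .a9]⟩,
  ⟨8, [.a3, .a6], [.a3, .a6]⟩,
  ⟨32, [.a5], [.a5]⟩,
  ⟨256, [.a8], [.a8]⟩]
def B418 : List Gv := [⟨[.a0], [.a0]⟩, ⟨[.a2, .a9], [.a2, .a5, .a9]⟩, ⟨[.a8], [.a8]⟩]
def D418 : List Dv := [⟨[.a3, .a6], [1, 0], [0, 1]⟩,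
  ⟨[.a5], [2, 2], []⟩]
theorem bad418 (c : CtxF Goal γ) : Bad Goal γ [] P418 :=
  c.toCtx.cent (B := B418) (D := D418) (I := [2, 3, 1, 0, 4]) (z := [.a3]) (by decide +kernel) (by decide +kernel)

def P419 : List Ent := [⟨1, [.a0], [.a0]⟩,
  ⟨4, [.a2, .a9], [.a2, .a5, .a9]⟩,
  ⟨8, [.a3], [.a3]⟩,
  ⟨32, [.a5], [.a5]⟩,
  ⟨64, [.a6], [.a6]⟩]
def B419 : List Gv := [⟨[.a0], [.a0]⟩, ⟨[.a2, .a9], [.a2, .a5, .a9]⟩, ⟨[.a3], [.a3]⟩]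
def D419 : List Dv := [⟨[.a6], [2, 1, 0], [0, 1]⟩,
  ⟨[.a5], [2, 2], []⟩]
def C419 : List Ch := [⟨P56, 0, [], []⟩,
  ⟨P101, 1, [], []⟩,
  ⟨P102, 0, [], []⟩,
  ⟨P103, 2, [], []⟩,
  ⟨P104, 0, [], []⟩,
  ⟨P104, 1, [.a1, .a3, .a4, .a5, .a6, .a7], [.a1, .a2, .a4, .a5, .a7, .a8]⟩,
  ⟨P103, 0, [.a1, .a3, .a4, .a5, .a6, .a7], [.a1, .a2, .a4, .a5, .a7, .a8]⟩]
def N419 : List Ent := [⟨1, [.a0], [.a0]⟩,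
  ⟨2, [.a1, .a4, .a7], [.a1, .a2, .a3, .a4, .a6, .a7, .a8]⟩,
  ⟨4, [.a2, .a9], [.a2, .a5, .a9]⟩,
  ⟨8, [.a3], [.a3]⟩,
  ⟨32, [.a5], [.a5]⟩,
  ⟨64, [.a6], [.a6]⟩,
  ⟨256, [.a8], [.a8]⟩,
  ⟨512, [.a9], [.a9]⟩]
theorem bad419 (c : CtxF Goal γ) : Bad Goal γ [] P419 :=
  c.toCtx.bnd (B := B419) (D := D419) (I := [2, 3, 4, 0, 1]) (r := 3) (C := C419) (N := N419) (by decide +kernel) (by decide +kernel) (by decide +kernel) (by decide +kernel)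
    (allB_cons (bad56 c) (allB_cons (bad101 c) (allB_cons (bad102 c) (allB_cons (bad103 c) (allB_cons (bad104 c) (allB_cons (bad104 c) (allB_cons (bad103 c) (allB_nil))))))))

def P420 : List Ent := [⟨1, [.a0, .a8], [.a0, .a5, .a8]⟩,
  ⟨4, [.a2, .a9], [.a2, .a5, .a9]⟩,
  ⟨8, [.a3], [.a3]⟩,
  ⟨32, [.a5], [.a5]⟩,
  ⟨64, [.a6], [.a6]⟩]
def B420 : List Gv := [⟨[.a0, .a8], [.a0, .a5, .a8]⟩, ⟨[.a2, .a9], [.a2, .a5, .a9]⟩, ⟨[.a3], [.a3]⟩]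
def D420 : List Dv := [⟨[.a5], [0, 0], []⟩,
  ⟨[.a6], [3, 2, 1], [1, 2]⟩]
def C420 : List Ch := [⟨P56, 0, [], []⟩,
  ⟨P105, 1, [], []⟩,
  ⟨P102, 0, [.a1], [.a1, .a2]⟩,
  ⟨P106, 2, [], []⟩,
  ⟨P107, 0, [], []⟩,
  ⟨P107, 1, [.a1, .a3, .a4, .a5, .a6, .a7], [.a1, .a2, .a4, .a5, .a7, .a8]⟩,
  ⟨P106, 0, [.a1, .a3, .a4, .a5, .a6, .a7], [.a1, .a2, .a4, .a5, .a7, .a8]⟩]
def N420 : List Ent := [⟨1, [.a0, .a8], [.a0, .a5, .a8]⟩,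
  ⟨2, [.a1, .a4, .a7], [.a1, .a2, .a3, .a4, .a6, .a7, .a8]⟩,
  ⟨4, [.a2, .a9], [.a2, .a5, .a9]⟩,
  ⟨8, [.a3], [.a3]⟩,
  ⟨32, [.a5], [.a5]⟩,
  ⟨64, [.a6], [.a6]⟩,
  ⟨256, [.a8], [.a8]⟩,
  ⟨512, [.a9], [.a9]⟩]
theorem bad420 (c : CtxF Goal γ) : Bad Goal γ [] P420 :=
  c.toCtx.bnd (B := B420) (D := D420) (I := [2, 3, 4, 1, 0]) (r := 3) (C := C420) (N := N420) (by decide +kernel) (by decide +kernel) (by decide +kernel) (by decide +kernel)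
    (allB_cons (bad56 c) (allB_cons (bad105 c) (allB_cons (bad102 c) (allB_cons (bad106 c) (allB_cons (bad107 c) (allB_cons (bad107 c) (allB_cons (bad106 c) (allB_nil))))))))

def P421 : List Ent := [⟨1, [.a0], [.a0]⟩,
  ⟨4, [.a2, .a9], [.a2, .a5, .a9]⟩,
  ⟨8, [.a3, .a8], [.a3, .a8]⟩,
  ⟨32, [.a5], [.a5]⟩,
  ⟨64, [.a6, .a8], [.a6, .a8]⟩]
def B421 : List Gv := [⟨[.a0], [.a0]⟩, ⟨[.a2, .a9], [.a2, .a5, .a9]⟩, ⟨[.a3, .a8], [.a3, .a8]⟩]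
def D421 : List Dv := [⟨[.a6, .a8], [2, 1, 0], [0, 1]⟩,
  ⟨[.a5], [2, 2], []⟩]
theorem bad421 (c : CtxF Goal γ) : Bad Goal γ [] P421 :=
  c.toCtx.cent (B := B421) (D := D421) (I := [2, 3, 4, 0, 1]) (z := [.a3]) (by decide +kernel) (by decide +kernel)

def P422 : List Ent := [⟨1, [.a0, .a8], [.a0, .a5, .a8]⟩,
  ⟨4, [.a2, .a9], [.a2, .a5, .a9]⟩,
  ⟨8, [.a3, .a8], [.a3, .a8]⟩,
  ⟨32, [.a5], [.a5]⟩,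
  ⟨64, [.a6, .a8], [.a6, .a8]⟩]
def B422 : List Gv := [⟨[.a0, .a8], [.a0, .a5, .a8]⟩, ⟨[.a2, .a9], [.a2, .a5, .a9]⟩, ⟨[.a3, .a8], [.a3, .a8]⟩]
def D422 : List Dv := [⟨[.a5], [0, 0], []⟩,
  ⟨[.a6, .a8], [3, 2, 1], [1, 2]⟩]
theorem bad422 (c : CtxF Goal γ) : Bad Goal γ [] P422 :=
  c.toCtx.cent (B := B422) (D := D422) (I := [2, 3, 4, 1, 0]) (z := [.a3]) (by decide +kernel) (by decide +kernel)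

def P423 : List Ent := [⟨1, [.a0], [.a0]⟩,
  ⟨4, [.a2, .a4, .a7, .a8, .a9], [.a2, .a4, .a6, .a7, .a8, .a9]⟩,
  ⟨8, [.a3, .a4, .a7, .a11], [.a3, .a4, .a6, .a7, .a11]⟩,
  ⟨32, [.a5], [.a5]⟩,
  ⟨64, [.a6], [.a6]⟩]
def B423 : List Gv := [⟨[.a0], [.a0]⟩, ⟨[.a2, .a4, .a7, .a8, .a9], [.a2, .a4, .a6, .a7, .a8, .a9]⟩, ⟨[.a3, .a4, .a7, .a11], [.a3, .a4, .a6, .a7, .a11]⟩]
def D423 : List Dv := [⟨[.a6], [1, 0], [0, 1]⟩,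
  ⟨[.a5, .a6], [2, 3, 1], [1, 3]⟩,
  ⟨[.a5], [0], [1]⟩]
def C423 : List Ch := [⟨P108, 0, [], []⟩,
  ⟨P109, 1, [], []⟩,
  ⟨P109, 0, [.a8], [.a8]⟩,
  ⟨P97, 2, [.a1], [.a1, .a2]⟩,
  ⟨P98, 0, [.a1, .a3, .a4, .a5, .a6, .a9], [.a1, .a2, .a4, .a5, .a9]⟩,
  ⟨P110, 1, [], []⟩,
  ⟨P110, 0, [.a8], [.a8]⟩]
def N423 : List Ent := [⟨1, [.a0], [.a0]⟩,
  ⟨4, [.a2, .a4, .a7, .a8, .a9], [.a2, .a4, .a6, .a7, .a8, .a9]⟩,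
  ⟨8, [.a3, .a4, .a7, .a11], [.a3, .a4, .a6, .a7, .a11]⟩,
  ⟨32, [.a5], [.a5]⟩,
  ⟨64, [.a6], [.a6]⟩,
  ⟨256, [.a8], [.a8]⟩,
  ⟨512, [.a9, .a11], [.a9, .a11]⟩]
theorem bad423 (c : CtxF Goal γ) : Bad Goal γ [] P423 :=
  c.toCtx.bnd (B := B423) (D := D423) (I := [3, 4, 5, 0, 2]) (r := 3) (C := C423) (N := N423) (by decide +kernel) (by decide +kernel) (by decide +kernel) (by decide +kernel)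
    (allB_cons (bad108 c) (allB_cons (bad109 c) (allB_cons (bad109 c) (allB_cons (bad97 c) (allB_cons (bad98 c) (allB_cons (bad110 c) (allB_cons (bad110 c) (allB_nil))))))))

def P424 : List Ent := [⟨1, [.a0, .a8], [.a0, .a5, .a8]⟩,
  ⟨4, [.a2, .a4, .a7, .a8, .a9], [.a2, .a4, .a6, .a7, .a8, .a9]⟩,
  ⟨8, [.a3, .a4, .a7, .a11], [.a3, .a4, .a6, .a7, .a11]⟩,
  ⟨32, [.a5], [.a5]⟩,
  ⟨64, [.a6], [.a6]⟩]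
def B424 : List Gv := [⟨[.a0, .a8], [.a0, .a5, .a8]⟩, ⟨[.a3, .a4, .a7, .a11], [.a3, .a4, .a6, .a7, .a11]⟩]
def D424 : List Dv := [⟨[.a5], [0, 0], []⟩,
  ⟨[.a2, .a4, .a5, .a7, .a8, .a9], [2, 1], [1, 2]⟩,
  ⟨[.a6], [3, 3], []⟩,
  ⟨[.a2, .a4, .a7, .a8, .a9], [1], [2]⟩]
def C424 : List Ch := [⟨P108, 0, [], []⟩,
  ⟨P100, 1, [.a1], [.a1, .a2]⟩,
  ⟨P98, 0, [.a1, .a7], [.a1, .a2, .a7, .a8]⟩]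
def N424 : List Ent := [⟨1, [.a0, .a8], [.a0, .a5, .a8]⟩,
  ⟨4, [.a2, .a4, .a7, .a8, .a9], [.a2, .a4, .a6, .a7, .a8, .a9]⟩,
  ⟨8, [.a3, .a4, .a7, .a11], [.a3, .a4, .a6, .a7, .a11]⟩,
  ⟨32, [.a5], [.a5]⟩,
  ⟨64, [.a6], [.a6]⟩,
  ⟨256, [.a8], [.a8]⟩,
  ⟨512, [.a9, .a11], [.a9, .a11]⟩]
theorem bad424 (c : CtxF Goal γ) : Bad Goal γ [] P424 :=
  c.toCtx.bnd (B := B424) (D := D424) (I := [4, 0, 5, 3, 1]) (r := 2) (C := C424) (N := N424) (by decide +kernel) (by decide +kernel) (by decide +kernel) (by decide +kernel)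
    (allB_cons (bad108 c) (allB_cons (bad100 c) (allB_cons (bad98 c) (allB_nil))))

def P425 : List Ent := [⟨1, [.a0], [.a0]⟩,
  ⟨4, [.a2, .a3], [.a2, .a3]⟩,
  ⟨16, [.a4, .a7, .a9], [.a4, .a5, .a6, .a7, .a9]⟩,
  ⟨32, [.a5, .a6], [.a5, .a6]⟩,
  ⟨2048, [.a11], [.a11]⟩]
def B425 : List Gv := [⟨[.a0], [.a0]⟩, ⟨[.a2, .a3], [.a2, .a3]⟩, ⟨[.a11], [.a11]⟩]
def D425 : List Dv := [⟨[.a4, .a7, .a9], [1, 2, 0], [0, 2]⟩,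
  ⟨[.a5, .a6], [3, 2], [2, 3]⟩]
theorem bad425 (c : CtxF Goal γ) : Bad Goal γ [] P425 :=
  c.toCtx.cent (B := B425) (D := D425) (I := [2, 3, 1, 0, 4]) (z := [.a5]) (by decide +kernel) (by decide +kernel)

def P426 : List Ent := [⟨1, [.a0], [.a0]⟩,
  ⟨4, [.a2, .a3], [.a2, .a3]⟩,
  ⟨16, [.a4, .a7, .a9], [.a4, .a5, .a6, .a7, .a9]⟩,
  ⟨32, [.a5], [.a5]⟩,
  ⟨64, [.a6], [.a6]⟩]
def B426 : List Gv := [⟨[.a0], [.a0]⟩, ⟨[.a2, .a3], [.a2, .a3]⟩, ⟨[.a4, .a7, .a9], [.a4, .a5, .a6, .a7, .a9]⟩, ⟨[.a5], [.a5]⟩]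
def D426 : List Dv := [⟨[.a6], [3, 2, 0], [0, 2]⟩]
def C426 : List Ch := [⟨P78, 0, [.a10], [.a10, .a11]⟩,
  ⟨P111, 1, [], []⟩,
  ⟨P111, 0, [.a7], [.a7, .a8]⟩,
  ⟨P112, 2, [], []⟩,
  ⟨P112, 0, [.a11], [.a11]⟩,
  ⟨P97, 1, [], []⟩,
  ⟨P97, 0, [.a7], [.a7, .a8]⟩,
  ⟨P113, 3, [], []⟩,
  ⟨P113, 0, [.a8], [.a8]⟩,
  ⟨P113, 1, [.a3, .a4, .a9], [.a3, .a4, .a5, .a8, .a9]⟩,
  ⟨P113, 0, [.a3, .a7], [.a3, .a5, .a7, .a8]⟩,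
  ⟨P113, 2, [.a3], [.a3]⟩,
  ⟨P113, 0, [.a3, .a8], [.a3, .a8]⟩,
  ⟨P113, 1, [.a4, .a9], [.a4, .a5, .a8, .a9]⟩,
  ⟨P113, 0, [.a7], [.a7, .a8]⟩]
def N426 : List Ent := [⟨1, [.a0], [.a0]⟩,
  ⟨4, [.a2, .a3], [.a2, .a3]⟩,
  ⟨8, [.a3], [.a3]⟩,
  ⟨16, [.a4, .a7, .a9], [.a4, .a5, .a6, .a7, .a9]⟩,
  ⟨32, [.a5], [.a5]⟩,
  ⟨64, [.a6], [.a6]⟩,
  ⟨128, [.a7], [.a7, .a8]⟩,
  ⟨256, [.a8], [.a8]⟩,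
  ⟨2048, [.a11], [.a11]⟩]
theorem bad426 (c : CtxF Goal γ) : Bad Goal γ [] P426 :=
  c.toCtx.bnd (B := B426) (D := D426) (I := [1, 2, 3, 4, 0]) (r := 4) (C := C426) (N := N426) (by decide +kernel) (by decide +kernel) (by decide +kernel) (by decide +kernel)
    (allB_cons (bad78 c) (allB_cons (bad111 c) (allB_cons (bad111 c) (allB_cons (bad112 c) (allB_cons (bad112 c) (allB_cons (bad97 c) (allB_cons (bad97 c) (allB_cons (bad113 c) (allB_cons (bad113 c) (allB_cons (bad113 c) (allB_cons (bad113 c) (allB_cons (bad113 c) (allB_cons (bad113 c) (allB_cons (bad113 c) (allB_cons (bad113 c) (allB_nil))))))))))))))))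

def P427 : List Ent := [⟨1, [.a0, .a11], [.a0, .a2, .a3, .a4, .a5, .a6, .a7, .a9, .a11]⟩,
  ⟨4, [.a2, .a3], [.a2, .a3]⟩,
  ⟨16, [.a4, .a7, .a9], [.a4, .a5, .a6, .a7, .a9]⟩,
  ⟨32, [.a5], [.a5]⟩,
  ⟨64, [.a6], [.a6]⟩]
def B427 : List Gv := [⟨[.a0, .a11], [.a0, .a2, .a3, .a4, .a5, .a6, .a7, .a9, .a11]⟩, ⟨[.a2, .a3], [.a2, .a3]⟩, ⟨[.a5], [.a5]⟩]
def D427 : List Dv := [⟨[.a4, .a5, .a6, .a7, .a9], [1, 0, 0], []⟩,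
  ⟨[.a6], [3, 2, 1], [1, 2]⟩,
  ⟨[.a4, .a7, .a9], [1], [4, 0]⟩]
def C427 : List Ch := [⟨P78, 0, [.a10], [.a10, .a11]⟩,
  ⟨P98, 1, [], []⟩,
  ⟨P98, 0, [.a7], [.a7, .a8]⟩,
  ⟨P114, 2, [], []⟩,
  ⟨P114, 0, [.a8], [.a8]⟩,
  ⟨P114, 1, [.a4, .a9], [.a4, .a5, .a8, .a9]⟩,
  ⟨P114, 0, [.a7], [.a7, .a8]⟩]
def N427 : List Ent := [⟨1, [.a0, .a11], [.a0, .a2, .a3, .a4, .a5, .a6, .a7, .a9, .a11]⟩,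
  ⟨4, [.a2, .a3], [.a2, .a3]⟩,
  ⟨16, [.a4, .a7, .a9], [.a4, .a5, .a6, .a7, .a9]⟩,
  ⟨32, [.a5], [.a5]⟩,
  ⟨64, [.a6], [.a6]⟩,
  ⟨128, [.a7], [.a7, .a8]⟩,
  ⟨256, [.a8], [.a8]⟩,
  ⟨2048, [.a11], [.a11]⟩]
theorem bad427 (c : CtxF Goal γ) : Bad Goal γ [] P427 :=
  c.toCtx.bnd (B := B427) (D := D427) (I := [3, 4, 0, 5, 1]) (r := 3) (C := C427) (N := N427) (by decide +kernel) (by decide +kernel) (by decide +kernel) (by decide +kernel)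
    (allB_cons (bad78 c) (allB_cons (bad98 c) (allB_cons (bad98 c) (allB_cons (bad114 c) (allB_cons (bad114 c) (allB_cons (bad114 c) (allB_cons (bad114 c) (allB_nil))))))))

def P428 : List Ent := [⟨1, [.a0], [.a0]⟩,
  ⟨4, [.a2, .a3], [.a2, .a3]⟩,
  ⟨16, [.a4, .a7, .a9], [.a4, .a5, .a6, .a7, .a9]⟩,
  ⟨32, [.a5, .a11], [.a5, .a11]⟩,
  ⟨64, [.a6, .a11], [.a6, .a11]⟩]
def B428 : List Gv := [⟨[.a0], [.a0]⟩, ⟨[.a2, .a3], [.a2, .a3]⟩, ⟨[.a5, .a11], [.a5, .a11]⟩]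
def D428 : List Dv := [⟨[.a4, .a7, .a9], [1, 2, 0], [0, 2]⟩,
  ⟨[.a6, .a11], [3, 3, 2], [2, 3]⟩]
theorem bad428 (c : CtxF Goal γ) : Bad Goal γ [] P428 :=
  c.toCtx.cent (B := B428) (D := D428) (I := [2, 3, 1, 4, 0]) (z := [.a5]) (by decide +kernel) (by decide +kernel)

def P429 : List Ent := [⟨1, [.a0, .a8], [.a0, .a5, .a8]⟩,
  ⟨4, [.a2, .a3], [.a2, .a3]⟩,
  ⟨16, [.a4, .a7, .a9], [.a4, .a5, .a6, .a7, .a9]⟩,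
  ⟨32, [.a5], [.a5]⟩,
  ⟨64, [.a6], [.a6]⟩]
def B429 : List Gv := [⟨[.a0, .a8], [.a0, .a5, .a8]⟩, ⟨[.a2, .a3], [.a2, .a3]⟩, ⟨[.a4, .a7, .a9], [.a4, .a5, .a6, .a7, .a9]⟩]
def D429 : List Dv := [⟨[.a5], [0, 0], []⟩,
  ⟨[.a6], [0, 3, 1], [1, 3]⟩]
def C429 : List Ch := [⟨P78, 0, [.a10], [.a10, .a11]⟩,
  ⟨P115, 1, [], []⟩,
  ⟨P115, 0, [.a7], [.a7, .a8]⟩,
  ⟨P116, 2, [], []⟩,
  ⟨P116, 0, [.a11], [.a11]⟩,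
  ⟨P100, 1, [], []⟩,
  ⟨P100, 0, [.a7], [.a7, .a8]⟩]
def N429 : List Ent := [⟨1, [.a0, .a8], [.a0, .a5, .a8]⟩,
  ⟨4, [.a2, .a3], [.a2, .a3]⟩,
  ⟨8, [.a3], [.a3]⟩,
  ⟨16, [.a4, .a7, .a9], [.a4, .a5, .a6, .a7, .a9]⟩,
  ⟨32, [.a5], [.a5]⟩,
  ⟨64, [.a6], [.a6]⟩,
  ⟨128, [.a7], [.a7, .a8]⟩,
  ⟨256, [.a8], [.a8]⟩,
  ⟨2048, [.a11], [.a11]⟩]
theorem bad429 (c : CtxF Goal γ) : Bad Goal γ [] P429 :=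
  c.toCtx.bnd (B := B429) (D := D429) (I := [2, 3, 4, 1, 0]) (r := 3) (C := C429) (N := N429) (by decide +kernel) (by decide +kernel) (by decide +kernel) (by decide +kernel)
    (allB_cons (bad78 c) (allB_cons (bad115 c) (allB_cons (bad115 c) (allB_cons (bad116 c) (allB_cons (bad116 c) (allB_cons (bad100 c) (allB_cons (bad100 c) (allB_nil))))))))

def P430 : List Ent := [⟨1, [.a0], [.a0]⟩,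
  ⟨4, [.a2, .a3, .a8], [.a2, .a3, .a8]⟩,
  ⟨16, [.a4, .a7, .a8, .a9], [.a4, .a5, .a6, .a7, .a8, .a9]⟩,
  ⟨32, [.a5], [.a5]⟩,
  ⟨64, [.a6], [.a6]⟩]
def B430 : List Gv := [⟨[.a0], [.a0]⟩, ⟨[.a2, .a3, .a8], [.a2, .a3, .a8]⟩, ⟨[.a4, .a7, .a8, .a9], [.a4, .a5, .a6, .a7, .a8, .a9]⟩]
def D430 : List Dv := [⟨[.a5], [1, 0], [0, 1]⟩,
  ⟨[.a6], [3, 1], [1, 3]⟩]
theorem bad430 (c : CtxF Goal γ) : Bad Goal γ [] P430 :=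
  c.toCtx.cent (B := B430) (D := D430) (I := [2, 3, 4, 1, 0]) (z := [.a2, .a3]) (by decide +kernel) (by decide +kernel)

def P431 : List Ent := [⟨1, [.a0, .a11], [.a0, .a2, .a3, .a4, .a5, .a6, .a7, .a9, .a11]⟩,
  ⟨4, [.a2, .a3, .a8], [.a2, .a3, .a8]⟩,
  ⟨16, [.a4, .a7, .a8, .a9], [.a4, .a5, .a6, .a7, .a8, .a9]⟩,
  ⟨32, [.a5], [.a5]⟩,
  ⟨64, [.a6], [.a6]⟩]
def B431 : List Gv := [⟨[.a0, .a11], [.a0, .a2, .a3, .a4, .a5, .a6, .a7, .a9, .a11]⟩, ⟨[.a2, .a3, .a8], [.a2, .a3, .a8]⟩]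
def D431 : List Dv := [⟨[.a4, .a5, .a6, .a7, .a8, .a9], [1, 0, 0], []⟩,
  ⟨[.a6], [2, 1], [1, 2]⟩,
  ⟨[.a5, .a6], [1, 1], []⟩,
  ⟨[.a5], [0], [1]⟩,
  ⟨[.a4, .a7, .a8, .a9], [3], [0, 2]⟩]
def C431 : List Ch := [⟨P77, 0, [.a4, .a10], [.a4, .a5, .a10, .a11]⟩,
  ⟨P98, 1, [], []⟩,
  ⟨P98, 0, [.a3, .a7], [.a3, .a5, .a7, .a8]⟩]
def N431 : List Ent := [⟨1, [.a0, .a11], [.a0, .a2, .a3, .a4, .a5, .a6, .a7, .a9, .a11]⟩,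
  ⟨4, [.a2, .a3, .a8], [.a2, .a3, .a8]⟩,
  ⟨8, [.a3, .a7], [.a3, .a5, .a7, .a8]⟩,
  ⟨16, [.a4, .a7, .a8, .a9], [.a4, .a5, .a6, .a7, .a8, .a9]⟩,
  ⟨32, [.a5], [.a5]⟩,
  ⟨64, [.a6], [.a6]⟩,
  ⟨256, [.a8], [.a8]⟩,
  ⟨2048, [.a11], [.a11]⟩]
theorem bad431 (c : CtxF Goal γ) : Bad Goal γ [] P431 :=
  c.toCtx.bnd (B := B431) (D := D431) (I := [5, 6, 0, 1, 3]) (r := 2) (C := C431) (N := N431) (by decide +kernel) (by decide +kernel) (by decide +kernel) (by decide +kernel)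
    (allB_cons (bad77 c) (allB_cons (bad98 c) (allB_cons (bad98 c) (allB_nil))))

def P432 : List Ent := [⟨1, [.a0], [.a0]⟩,
  ⟨16, [.a4, .a7, .a9], [.a4, .a5, .a6, .a7, .a9]⟩,
  ⟨32, [.a5], [.a5]⟩,
  ⟨64, [.a6], [.a6]⟩,
  ⟨256, [.a8], [.a8]⟩]
def B432 : List Gv := [⟨[.a0], [.a0]⟩, ⟨[.a4, .a7, .a9], [.a4, .a5, .a6, .a7, .a9]⟩, ⟨[.a8], [.a8]⟩]
def D432 : List Dv := [⟨[.a5, .a6], [1, 0], [0, 1]⟩,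
  ⟨[.a6], [0, 3, 1], [1, 3]⟩,
  ⟨[.a5], [1], [0]⟩]
theorem bad432 (c : CtxF Goal γ) : Bad Goal γ [] P432 :=
  c.toCtx.cent (B := B432) (D := D432) (I := [3, 4, 0, 1, 5]) (z := [.a2, .a3]) (by decide +kernel) (by decide +kernel)

def P433 : List Ent := [⟨1, [.a0], [.a0]⟩,
  ⟨4, [.a2, .a3], [.a2, .a3]⟩,
  ⟨32, [.a5], [.a5]⟩,
  ⟨64, [.a6], [.a6]⟩,
  ⟨256, [.a8], [.a8]⟩]
def B433 : List Gv := [⟨[.a0], [.a0]⟩, ⟨[.a2, .a3], [.a2, .a3]⟩, ⟨[.a6], [.a6]⟩, ⟨[.a8], [.a8]⟩]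
def D433 : List Dv := [⟨[.a5], [3, 0], [0, 3]⟩]
theorem bad433 (c : CtxF Goal γ) : Bad Goal γ [] P433 :=
  c.toCtx.cent (B := B433) (D := D433) (I := [1, 2, 0, 3, 4]) (z := [.a2]) (by decide +kernel) (by decide +kernel)

def P434 : List Ent := [⟨1, [.a0], [.a0]⟩,
  ⟨4, [.a2, .a3, .a8], [.a2, .a3, .a8]⟩,
  ⟨16, [.a4, .a7, .a9], [.a4, .a5, .a6, .a7, .a9]⟩,
  ⟨32, [.a5], [.a5]⟩,
  ⟨64, [.a6], [.a6]⟩]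
def B434 : List Gv := [⟨[.a0], [.a0]⟩, ⟨[.a2, .a3, .a8], [.a2, .a3, .a8]⟩, ⟨[.a4, .a7, .a9], [.a4, .a5, .a6, .a7, .a9]⟩]
def D434 : List Dv := [⟨[.a5], [1, 0], [0, 1]⟩,
  ⟨[.a6], [0, 3, 1], [1, 3]⟩]
theorem bad434 (c : CtxF Goal γ) : Bad Goal γ [] P434 :=
  c.toCtx.cent (B := B434) (D := D434) (I := [2, 3, 4, 1, 0]) (z := [.a2, .a3]) (by decide +kernel) (by decide +kernel)

def P435 : List Ent := [⟨1, [.a0], [.a0]⟩,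
  ⟨4, [.a2, .a3], [.a2, .a3]⟩,
  ⟨16, [.a4, .a7, .a8, .a9], [.a4, .a5, .a6, .a7, .a8, .a9]⟩,
  ⟨32, [.a5], [.a5]⟩,
  ⟨64, [.a6], [.a6]⟩]
def B435 : List Gv := [⟨[.a0], [.a0]⟩, ⟨[.a2, .a3], [.a2, .a3]⟩, ⟨[.a4, .a7, .a8, .a9], [.a4, .a5, .a6, .a7, .a8, .a9]⟩]
def D435 : List Dv := [⟨[.a6], [2, 0], [0, 2]⟩,
  ⟨[.a5, .a6], [3, 3], []⟩,
  ⟨[.a5], [0], [1]⟩]
def C435 : List Ch := [⟨P78, 0, [.a4, .a10], [.a4, .a5, .a10, .a11]⟩,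
  ⟨P117, 1, [], []⟩,
  ⟨P117, 0, [.a7], [.a7, .a8]⟩,
  ⟨P112, 2, [], []⟩,
  ⟨P116, 0, [.a11], [.a11]⟩,
  ⟨P118, 1, [], []⟩,
  ⟨P118, 0, [.a7], [.a7, .a8]⟩]
def N435 : List Ent := [⟨1, [.a0], [.a0]⟩,
  ⟨4, [.a2, .a3], [.a2, .a3]⟩,
  ⟨8, [.a3], [.a3]⟩,
  ⟨16, [.a4, .a7, .a8, .a9], [.a4, .a5, .a6, .a7, .a8, .a9]⟩,
  ⟨32, [.a5], [.a5]⟩,
  ⟨64, [.a6], [.a6]⟩,
  ⟨128, [.a7], [.a7, .a8]⟩,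
  ⟨256, [.a8], [.a8]⟩]
theorem bad435 (c : CtxF Goal γ) : Bad Goal γ [] P435 :=
  c.toCtx.bnd (B := B435) (D := D435) (I := [3, 4, 5, 0, 2]) (r := 3) (C := C435) (N := N435) (by decide +kernel) (by decide +kernel) (by decide +kernel) (by decide +kernel)
    (allB_cons (bad78 c) (allB_cons (bad117 c) (allB_cons (bad117 c) (allB_cons (bad112 c) (allB_cons (bad116 c) (allB_cons (bad118 c) (allB_cons (bad118 c) (allB_nil))))))))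

def P436 : List Ent := [⟨1, [.a0], [.a0]⟩,
  ⟨4, [.a2], [.a2]⟩,
  ⟨32, [.a5], [.a5]⟩,
  ⟨64, [.a6], [.a6]⟩,
  ⟨256, [.a8], [.a8]⟩]
def B436 : List Gv := [⟨[.a0], [.a0]⟩, ⟨[.a2], [.a2]⟩, ⟨[.a6], [.a6]⟩, ⟨[.a8], [.a8]⟩]
def D436 : List Dv := [⟨[.a5], [3, 0], [0, 3]⟩]
theorem bad436 (c : CtxF Goal γ) : Bad Goal γ [] P436 :=
  c.toCtx.cent (B := B436) (D := D436) (I := [1, 2, 0, 3, 4]) (z := [.a3]) (by decide +kernel) (by decide +kernel)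

def P437 : List Ent := [⟨1, [.a0], [.a0]⟩,
  ⟨4, [.a2], [.a2]⟩,
  ⟨8, [.a3], [.a3]⟩,
  ⟨32, [.a5], [.a5]⟩,
  ⟨256, [.a8], [.a8]⟩]
def B437 : List Gv := [⟨[.a0], [.a0]⟩, ⟨[.a2], [.a2]⟩, ⟨[.a3], [.a3]⟩, ⟨[.a8], [.a8]⟩]
def D437 : List Dv := [⟨[.a5], [3, 0], [0, 3]⟩]
theorem bad437 (c : CtxF Goal γ) : Bad Goal γ [] P437 :=
  c.toCtx.cent (B := B437) (D := D437) (I := [1, 2, 3, 0, 4]) (z := [.a1]) (by decide +kernel) (by decide +kernel)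

def P438 : List Ent := [⟨1, [.a0], [.a0]⟩,
  ⟨4, [.a2, .a6], [.a2, .a6]⟩,
  ⟨8, [.a3], [.a3]⟩,
  ⟨32, [.a5], [.a5]⟩,
  ⟨256, [.a8], [.a8]⟩]
def B438 : List Gv := [⟨[.a0], [.a0]⟩, ⟨[.a2, .a6], [.a2, .a6]⟩, ⟨[.a3], [.a3]⟩, ⟨[.a8], [.a8]⟩]
def D438 : List Dv := [⟨[.a5], [3, 0], [0, 3]⟩]
theorem bad438 (c : CtxF Goal γ) : Bad Goal γ [] P438 :=
  c.toCtx.cent (B := B438) (D := D438) (I := [1, 2, 3, 0, 4]) (z := [.a2]) (by decide +kernel) (by decide +kernel)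

def P439 : List Ent := [⟨1, [.a0], [.a0]⟩,
  ⟨4, [.a2], [.a2]⟩,
  ⟨8, [.a3, .a6], [.a3, .a6]⟩,
  ⟨32, [.a5], [.a5]⟩,
  ⟨256, [.a8], [.a8]⟩]
def B439 : List Gv := [⟨[.a0], [.a0]⟩, ⟨[.a2], [.a2]⟩, ⟨[.a3, .a6], [.a3, .a6]⟩, ⟨[.a8], [.a8]⟩]
def D439 : List Dv := [⟨[.a5], [3, 0], [0, 3]⟩]
theorem bad439 (c : CtxF Goal γ) : Bad Goal γ [] P439 :=
  c.toCtx.cent (B := B439) (D := D439) (I := [1, 2, 3, 0, 4]) (z := [.a3]) (by decide +kernel) (by decide +kernel)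

def P440 : List Ent := [⟨1, [.a0], [.a0]⟩,
  ⟨4, [.a2, .a6], [.a2, .a6]⟩,
  ⟨8, [.a3, .a6], [.a3, .a6]⟩,
  ⟨32, [.a5], [.a5]⟩,
  ⟨256, [.a8], [.a8]⟩]
def B440 : List Gv := [⟨[.a0], [.a0]⟩, ⟨[.a2, .a6], [.a2, .a6]⟩, ⟨[.a3, .a6], [.a3, .a6]⟩, ⟨[.a8], [.a8]⟩]
def D440 : List Dv := [⟨[.a5], [3, 0], [0, 3]⟩]
theorem bad440 (c : CtxF Goal γ) : Bad Goal γ [] P440 :=
  c.toCtx.cent (B := B440) (D := D440) (I := [1, 2, 3, 0, 4]) (z := [.a2]) (by decide +kernel) (by decide +kernel)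

def P441 : List Ent := [⟨1, [.a0], [.a0]⟩,
  ⟨4, [.a2], [.a2]⟩,
  ⟨8, [.a3], [.a3]⟩,
  ⟨32, [.a5], [.a5]⟩,
  ⟨64, [.a6], [.a6]⟩]
def B441 : List Gv := [⟨[.a0], [.a0]⟩, ⟨[.a2], [.a2]⟩, ⟨[.a3], [.a3]⟩, ⟨[.a5], [.a5]⟩, ⟨[.a6], [.a6]⟩]
def D441 : List Dv := []
def C441 : List Ch := [⟨P119, 0, [], []⟩,
  ⟨P101, 1, [], []⟩,
  ⟨P101, 0, [.a4], [.a4, .a5]⟩,
  ⟨P120, 2, [], []⟩,
  ⟨P120, 0, [.a7], [.a7, .a8]⟩,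
  ⟨P112, 1, [], []⟩,
  ⟨P112, 0, [.a4], [.a4, .a5]⟩,
  ⟨P121, 3, [], []⟩,
  ⟨P121, 0, [.a8], [.a8]⟩,
  ⟨P121, 1, [.a9], [.a9]⟩,
  ⟨P121, 0, [.a4, .a9], [.a4, .a5, .a8, .a9]⟩,
  ⟨P121, 2, [.a7, .a8], [.a7]⟩,
  ⟨P121, 0, [.a7], [.a7, .a8]⟩,
  ⟨P121, 1, [.a7, .a9], [.a7, .a8, .a9]⟩,
  ⟨P121, 0, [.a4, .a7, .a9], [.a4, .a5, .a6, .a7, .a9]⟩,
  ⟨P122, 4, [], []⟩,
  ⟨P122, 0, [.a9], [.a9]⟩,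
  ⟨P123, 1, [], []⟩,
  ⟨P123, 0, [.a4], [.a4, .a5]⟩,
  ⟨P124, 2, [], []⟩,
  ⟨P124, 0, [.a7], [.a7, .a8]⟩,
  ⟨P125, 1, [], []⟩,
  ⟨P125, 0, [.a4], [.a4, .a5]⟩,
  ⟨P121, 3, [.a1], [.a1, .a2]⟩,
  ⟨P121, 0, [.a1, .a8], [.a1, .a2, .a8]⟩,
  ⟨P121, 1, [.a1, .a9], [.a1, .a2, .a6, .a8, .a9]⟩,
  ⟨P121, 0, [.a1, .a5, .a6, .a8, .a9], [.a1, .a2, .a9]⟩,
  ⟨P121, 2, [.a1, .a7, .a8], [.a1, .a2, .a7]⟩,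
  ⟨P121, 0, [.a1, .a7], [.a1, .a2, .a7, .a8]⟩,
  ⟨P121, 1, [.a1, .a7, .a9], [.a1, .a2, .a6, .a7, .a9]⟩,
  ⟨P121, 0, [.a1, .a5, .a6, .a7, .a8, .a9], [.a1, .a2, .a7, .a8, .a9]⟩]
def N441 : List Ent := [⟨1, [.a0], [.a0]⟩,
  ⟨2, [.a1], [.a1, .a2]⟩,
  ⟨4, [.a2], [.a2]⟩,
  ⟨8, [.a3], [.a3]⟩,
  ⟨16, [.a4], [.a4, .a5]⟩,
  ⟨32, [.a5], [.a5]⟩,
  ⟨64, [.a6], [.a6]⟩,
  ⟨128, [.a7], [.a7, .a8]⟩,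
  ⟨256, [.a8], [.a8]⟩,
  ⟨512, [.a9], [.a9]⟩]
theorem bad441 (c : CtxF Goal γ) : Bad Goal γ [] P441 :=
  c.toCtx.bnd (B := B441) (D := D441) (I := [0, 1, 2, 3, 4]) (r := 5) (C := C441) (N := N441) (by decide +kernel) (by decide +kernel) (by decide +kernel) (by decide +kernel)
    (allB_cons (bad119 c) (allB_cons (bad101 c) (allB_cons (bad101 c) (allB_cons (bad120 c) (allB_cons (bad120 c) (allB_cons (bad112 c) (allB_cons (bad112 c) (allB_cons (bad121 c) (allB_cons (bad121 c) (allB_cons (bad121 c) (allB_cons (bad121 c) (allB_cons (bad121 c) (allB_cons (bad121 c) (allB_cons (bad121 c) (allB_cons (bad121 c) (allB_cons (bad122 c) (allB_cons (bad122 c) (allB_cons (bad123 c) (allB_cons (bad123 c) (allB_cons (bad124 c) (allB_cons (bad124 c) (allB_cons (bad125 c)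 (allB_cons (bad125 c) (allB_cons (bad121 c) (allB_cons (bad121 c) (allB_cons (bad121 c) (allB_cons (bad121 c) (allB_cons (bad121 c) (allB_cons (bad121 c) (allB_cons (bad121 c) (allB_cons (bad121 c) (allB_nil))))))))))))))))))))))))))))))))

def P442 : List Ent := [⟨1, [.a0, .a8], [.a0, .a5, .a8]⟩,
  ⟨4, [.a2], [.a2]⟩,
  ⟨8, [.a3], [.a3]⟩,
  ⟨32, [.a5], [.a5]⟩,
  ⟨64, [.a6], [.a6]⟩]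
def B442 : List Gv := [⟨[.a0, .a8], [.a0, .a5, .a8]⟩, ⟨[.a2], [.a2]⟩, ⟨[.a3], [.a3]⟩, ⟨[.a6], [.a6]⟩]
def D442 : List Dv := [⟨[.a5], [0, 0], []⟩]
def C442 : List Ch := [⟨P119, 0, [], []⟩,
  ⟨P105, 1, [], []⟩,
  ⟨P105, 0, [.a4], [.a4, .a5]⟩,
  ⟨P126, 2, [], []⟩,
  ⟨P126, 0, [.a7], [.a7, .a8]⟩,
  ⟨P116, 1, [], []⟩,
  ⟨P116, 0, [.a4], [.a4, .a5]⟩,
  ⟨P127, 3, [], []⟩,
  ⟨P127, 0, [.a9], [.a9]⟩,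
  ⟨P128, 1, [], []⟩,
  ⟨P128, 0, [.a4], [.a4, .a5]⟩,
  ⟨P129, 2, [], []⟩,
  ⟨P129, 0, [.a7], [.a7, .a8]⟩,
  ⟨P130, 1, [], []⟩,
  ⟨P130, 0, [.a4], [.a4, .a5]⟩]
def N442 : List Ent := [⟨1, [.a0, .a8], [.a0, .a5, .a8]⟩,
  ⟨2, [.a1], [.a1, .a2]⟩,
  ⟨4, [.a2], [.a2]⟩,
  ⟨8, [.a3], [.a3]⟩,
  ⟨16, [.a4], [.a4, .a5]⟩,
  ⟨32, [.a5], [.a5]⟩,
  ⟨64, [.a6], [.a6]⟩,
  ⟨128, [.a7], [.a7, .a8]⟩,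
  ⟨256, [.a8], [.a8]⟩,
  ⟨512, [.a9], [.a9]⟩]
theorem bad442 (c : CtxF Goal γ) : Bad Goal γ [] P442 :=
  c.toCtx.bnd (B := B442) (D := D442) (I := [1, 2, 3, 0, 4]) (r := 4) (C := C442) (N := N442) (by decide +kernel) (by decide +kernel) (by decide +kernel) (by decide +kernel)
    (allB_cons (bad119 c) (allB_cons (bad105 c) (allB_cons (bad105 c) (allB_cons (bad126 c) (allB_cons (bad126 c) (allB_cons (bad116 c) (allB_cons (bad116 c) (allB_cons (bad127 c) (allB_cons (bad127 c) (allB_cons (bad128 c) (allB_cons (bad128 c) (allB_cons (bad129 c) (allB_cons (bad129 c) (allB_cons (bad130 c) (allB_cons (bad130 c) (allB_nil))))))))))))))))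

def P443 : List Ent := [⟨1, [.a0], [.a0]⟩,
  ⟨4, [.a2, .a8], [.a2, .a8]⟩,
  ⟨8, [.a3], [.a3]⟩,
  ⟨32, [.a5], [.a5]⟩,
  ⟨64, [.a6], [.a6]⟩]
def B443 : List Gv := [⟨[.a0], [.a0]⟩, ⟨[.a2, .a8], [.a2, .a8]⟩, ⟨[.a3], [.a3]⟩, ⟨[.a6], [.a6]⟩]
def D443 : List Dv := [⟨[.a5], [1, 0], [0, 1]⟩]
theorem bad443 (c : CtxF Goal γ) : Bad Goal γ [] P443 :=
  c.toCtx.cent (B := B443) (D := D443) (I := [1, 2, 3, 0, 4]) (z := [.a2]) (by decide +kernel) (by decide +kernel)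

def P444 : List Ent := [⟨1, [.a0], [.a0]⟩,
  ⟨4, [.a2], [.a2]⟩,
  ⟨8, [.a3, .a8], [.a3, .a8]⟩,
  ⟨32, [.a5], [.a5]⟩,
  ⟨64, [.a6], [.a6]⟩]
def B444 : List Gv := [⟨[.a0], [.a0]⟩, ⟨[.a2], [.a2]⟩, ⟨[.a3, .a8], [.a3, .a8]⟩, ⟨[.a6], [.a6]⟩]
def D444 : List Dv := [⟨[.a5], [2, 0], [0, 2]⟩]
theorem bad444 (c : CtxF Goal γ) : Bad Goal γ [] P444 :=
  c.toCtx.cent (B := B444) (D := D444) (I := [1, 2, 3, 0, 4]) (z := [.a3]) (by decide +kernel) (by decide +kernel)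

def P445 : List Ent := [⟨1, [.a0], [.a0]⟩,
  ⟨4, [.a2, .a8], [.a2, .a8]⟩,
  ⟨8, [.a3, .a8], [.a3, .a8]⟩,
  ⟨32, [.a5], [.a5]⟩,
  ⟨64, [.a6], [.a6]⟩]
def B445 : List Gv := [⟨[.a0], [.a0]⟩, ⟨[.a2, .a8], [.a2, .a8]⟩, ⟨[.a3, .a8], [.a3, .a8]⟩, ⟨[.a6], [.a6]⟩]
def D445 : List Dv := [⟨[.a5], [1, 0], [0, 1]⟩]
theorem bad445 (c : CtxF Goal γ) : Bad Goal γ [] P445 :=
  c.toCtx.cent (B := B445) (D := D445) (I := [1, 2, 3, 0, 4]) (z := [.a2]) (by decide +kernel) (by decide +kernel)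

def P446 : List Ent := [⟨1, [.a0], [.a0]⟩,
  ⟨4, [.a2], [.a2]⟩,
  ⟨8, [.a3], [.a3]⟩,
  ⟨32, [.a5], [.a5]⟩,
  ⟨64, [.a6, .a8], [.a6, .a8]⟩]
def B446 : List Gv := [⟨[.a0], [.a0]⟩, ⟨[.a2], [.a2]⟩, ⟨[.a3], [.a3]⟩, ⟨[.a6, .a8], [.a6, .a8]⟩]
def D446 : List Dv := [⟨[.a5], [3, 0], [0, 3]⟩]
theorem bad446 (c : CtxF Goal γ) : Bad Goal γ [] P446 :=
  c.toCtx.cent (B := B446) (D := D446) (I := [1, 2, 3, 0, 4]) (z := [.a0, .a1]) (by decide +kernel) (by decide +kernel)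

def P447 : List Ent := [⟨1, [.a0], [.a0]⟩,
  ⟨4, [.a2, .a8], [.a2, .a8]⟩,
  ⟨8, [.a3], [.a3]⟩,
  ⟨32, [.a5], [.a5]⟩,
  ⟨64, [.a6, .a8], [.a6, .a8]⟩]
def B447 : List Gv := [⟨[.a0], [.a0]⟩, ⟨[.a2, .a8], [.a2, .a8]⟩, ⟨[.a3], [.a3]⟩, ⟨[.a6, .a8], [.a6, .a8]⟩]
def D447 : List Dv := [⟨[.a5], [1, 0], [0, 1]⟩]
theorem bad447 (c : CtxF Goal γ) : Bad Goal γ [] P447 :=
  c.toCtx.cent (B := B447) (D := D447) (I := [1, 2, 3, 0, 4]) (z := [.a2]) (by decide +kernel) (by decide +kernel)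

def P448 : List Ent := [⟨1, [.a0], [.a0]⟩,
  ⟨4, [.a2], [.a2]⟩,
  ⟨8, [.a3, .a8], [.a3, .a8]⟩,
  ⟨32, [.a5], [.a5]⟩,
  ⟨64, [.a6, .a8], [.a6, .a8]⟩]
def B448 : List Gv := [⟨[.a0], [.a0]⟩, ⟨[.a2], [.a2]⟩, ⟨[.a3, .a8], [.a3, .a8]⟩, ⟨[.a6, .a8], [.a6, .a8]⟩]
def D448 : List Dv := [⟨[.a5], [2, 0], [0, 2]⟩]
theorem bad448 (c : CtxF Goal γ) : Bad Goal γ [] P448 :=
  c.toCtx.cent (B := B448) (D := D448) (I := [1, 2, 3, 0, 4]) (z := [.a3]) (by decide +kernel) (by decide +kernel)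

def P449 : List Ent := [⟨1, [.a0], [.a0]⟩,
  ⟨4, [.a2, .a8], [.a2, .a8]⟩,
  ⟨8, [.a3, .a8], [.a3, .a8]⟩,
  ⟨32, [.a5], [.a5]⟩,
  ⟨64, [.a6, .a8], [.a6, .a8]⟩]
def B449 : List Gv := [⟨[.a0], [.a0]⟩, ⟨[.a2, .a8], [.a2, .a8]⟩, ⟨[.a3, .a8], [.a3, .a8]⟩, ⟨[.a6, .a8], [.a6, .a8]⟩]
def D449 : List Dv := [⟨[.a5], [1, 0], [0, 1]⟩]
theorem bad449 (c : CtxF Goal γ) : Bad Goal γ [] P449 :=
  c.toCtx.cent (B := B449) (D := D449) (I := [1, 2, 3, 0, 4]) (z := [.a2]) (by decide +kernel) (by decide +kernel)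

def P450 : List Ent := [⟨1, [.a0], [.a0]⟩,
  ⟨8, [.a3], [.a3]⟩,
  ⟨16, [.a4, .a7, .a9], [.a4, .a5, .a6, .a7, .a9]⟩,
  ⟨32, [.a5], [.a5]⟩,
  ⟨64, [.a6], [.a6]⟩]
def B450 : List Gv := [⟨[.a0], [.a0]⟩, ⟨[.a3], [.a3]⟩, ⟨[.a4, .a7, .a9], [.a4, .a5, .a6, .a7, .a9]⟩]
def D450 : List Dv := [⟨[.a5, .a6], [2, 0], [0, 2]⟩,
  ⟨[.a6], [0, 3, 2], [2, 3]⟩,
  ⟨[.a5], [1], [0]⟩]
theorem bad450 (c : CtxF Goal γ) : Bad Goal γ [] P450 :=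
  c.toCtx.cent (B := B450) (D := D450) (I := [3, 4, 5, 0, 1]) (z := [.a2, .a3]) (by decide +kernel) (by decide +kernel)

def P451 : List Ent := [⟨1, [.a0], [.a0]⟩,
  ⟨4, [.a2], [.a2]⟩,
  ⟨16, [.a4, .a7, .a9], [.a4, .a5, .a6, .a7, .a9]⟩,
  ⟨32, [.a5], [.a5]⟩,
  ⟨64, [.a6], [.a6]⟩]
def B451 : List Gv := [⟨[.a0], [.a0]⟩, ⟨[.a2], [.a2]⟩, ⟨[.a4, .a7, .a9], [.a4, .a5, .a6, .a7, .a9]⟩]
def D451 : List Dv := [⟨[.a5, .a6], [2, 0], [0, 2]⟩,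
  ⟨[.a6], [0, 3, 2], [2, 3]⟩,
  ⟨[.a5], [1], [0]⟩]
theorem bad451 (c : CtxF Goal γ) : Bad Goal γ [] P451 :=
  c.toCtx.cent (B := B451) (D := D451) (I := [3, 4, 5, 0, 1]) (z := [.a2, .a3]) (by decide +kernel) (by decide +kernel)

def P452 : List Ent := [⟨1, [.a0], [.a0]⟩,
  ⟨4, [.a2, .a4, .a7, .a9], [.a2, .a4, .a6, .a7, .a9]⟩,
  ⟨8, [.a3], [.a3]⟩,
  ⟨32, [.a5], [.a5]⟩,
  ⟨64, [.a6], [.a6]⟩]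
def B452 : List Gv := [⟨[.a0], [.a0]⟩, ⟨[.a2, .a4, .a7, .a9], [.a2, .a4, .a6, .a7, .a9]⟩, ⟨[.a3], [.a3]⟩]
def D452 : List Dv := [⟨[.a5, .a6], [1, 0], [0, 1]⟩,
  ⟨[.a6], [2, 2], []⟩,
  ⟨[.a5], [1], [0]⟩]
theorem bad452 (c : CtxF Goal γ) : Bad Goal γ [] P452 :=
  c.toCtx.cent (B := B452) (D := D452) (I := [3, 4, 5, 0, 1]) (z := [.a2, .a3]) (by decide +kernel) (by decide +kernel)

def P453 : List Ent := [⟨1, [.a0, .a8], [.a0, .a5, .a8]⟩,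
  ⟨8, [.a3], [.a3]⟩,
  ⟨16, [.a4, .a7, .a9], [.a4, .a5, .a6, .a7, .a9]⟩,
  ⟨32, [.a5], [.a5]⟩,
  ⟨64, [.a6], [.a6]⟩]
def B453 : List Gv := [⟨[.a0, .a8], [.a0, .a5, .a8]⟩, ⟨[.a3], [.a3]⟩, ⟨[.a4, .a7, .a9], [.a4, .a5, .a6, .a7, .a9]⟩]
def D453 : List Dv := [⟨[.a5], [0, 0], []⟩,
  ⟨[.a6], [0, 3, 1], [1, 3]⟩]
theorem bad453 (c : CtxF Goal γ) : Bad Goal γ [] P453 :=
  c.toCtx.cent (B := B453) (D := D453) (I := [2, 3, 4, 1, 0]) (z := [.a2, .a3]) (by decide +kernel) (by decide +kernel)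

def P454 : List Ent := [⟨1, [.a0, .a8], [.a0, .a5, .a8]⟩,
  ⟨4, [.a2], [.a2]⟩,
  ⟨16, [.a4, .a7, .a9], [.a4, .a5, .a6, .a7, .a9]⟩,
  ⟨32, [.a5], [.a5]⟩,
  ⟨64, [.a6], [.a6]⟩]
def B454 : List Gv := [⟨[.a0, .a8], [.a0, .a5, .a8]⟩, ⟨[.a2], [.a2]⟩, ⟨[.a4, .a7, .a9], [.a4, .a5, .a6, .a7, .a9]⟩]
def D454 : List Dv := [⟨[.a5], [0, 0], []⟩,
  ⟨[.a6], [0, 3, 1], [1, 3]⟩]
theorem bad454 (c : CtxF Goal γ) : Bad Goal γ [] P454 :=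
  c.toCtx.cent (B := B454) (D := D454) (I := [2, 3, 4, 1, 0]) (z := [.a2, .a3]) (by decide +kernel) (by decide +kernel)

def P455 : List Ent := [⟨1, [.a0, .a8], [.a0, .a5, .a8]⟩,
  ⟨4, [.a2, .a4, .a7, .a9], [.a2, .a4, .a6, .a7, .a9]⟩,
  ⟨8, [.a3], [.a3]⟩,
  ⟨32, [.a5], [.a5]⟩,
  ⟨64, [.a6], [.a6]⟩]
def B455 : List Gv := [⟨[.a0, .a8], [.a0, .a5, .a8]⟩, ⟨[.a2, .a4, .a7, .a9], [.a2, .a4, .a6, .a7, .a9]⟩, ⟨[.a3], [.a3]⟩]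
def D455 : List Dv := [⟨[.a5], [0, 0], []⟩,
  ⟨[.a6], [0, 2, 1], [1, 2]⟩]
theorem bad455 (c : CtxF Goal γ) : Bad Goal γ [] P455 :=
  c.toCtx.cent (B := B455) (D := D455) (I := [2, 3, 4, 1, 0]) (z := [.a2, .a3]) (by decide +kernel) (by decide +kernel)

def P456 : List Ent := [⟨1, [.a0, .a9], [.a0, .a3, .a6, .a9]⟩,
  ⟨4, [.a2], [.a2]⟩,
  ⟨8, [.a3, .a6], [.a3, .a6]⟩,
  ⟨32, [.a5], [.a5]⟩,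
  ⟨256, [.a8], [.a8]⟩]
def B456 : List Gv := [⟨[.a0, .a9], [.a0, .a3, .a6, .a9]⟩, ⟨[.a2], [.a2]⟩, ⟨[.a8], [.a8]⟩]
def D456 : List Dv := [⟨[.a3, .a6], [0, 0], []⟩,
  ⟨[.a5], [2, 1], [1, 2]⟩]
theorem bad456 (c : CtxF Goal γ) : Bad Goal γ [] P456 :=
  c.toCtx.cent (B := B456) (D := D456) (I := [2, 3, 1, 0, 4]) (z := [.a3]) (by decide +kernel) (by decide +kernel)

def P457 : List Ent := [⟨1, [.a0, .a9], [.a0, .a3, .a6, .a9]⟩,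
  ⟨4, [.a2, .a6], [.a2, .a6]⟩,
  ⟨8, [.a3, .a6], [.a3, .a6]⟩,
  ⟨32, [.a5], [.a5]⟩,
  ⟨256, [.a8], [.a8]⟩]
def B457 : List Gv := [⟨[.a0, .a9], [.a0, .a3, .a6, .a9]⟩, ⟨[.a2, .a6], [.a2, .a6]⟩, ⟨[.a8], [.a8]⟩]
def D457 : List Dv := [⟨[.a3, .a6], [0, 0], []⟩,
  ⟨[.a5], [2, 1], [1, 2]⟩]
theorem bad457 (c : CtxF Goal γ) : Bad Goal γ [] P457 :=
  c.toCtx.cent (B := B457) (D := D457) (I := [2, 3, 1, 0, 4]) (z := [.a3]) (by decide +kernel) (by decide +kernel)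

def P458 : List Ent := [⟨1, [.a0, .a9], [.a0, .a3, .a6, .a9]⟩,
  ⟨4, [.a2], [.a2]⟩,
  ⟨8, [.a3], [.a3]⟩,
  ⟨32, [.a5], [.a5]⟩,
  ⟨64, [.a6], [.a6]⟩]
def B458 : List Gv := [⟨[.a0, .a9], [.a0, .a3, .a6, .a9]⟩, ⟨[.a2], [.a2]⟩, ⟨[.a3], [.a3]⟩]
def D458 : List Dv := [⟨[.a6], [2, 0, 0], []⟩,
  ⟨[.a5], [2, 1], [1, 2]⟩]
theorem bad458 (c : CtxF Goal γ) : Bad Goal γ [] P458 :=
  c.toCtx.cent (B := B458) (D := D458) (I := [2, 3, 4, 0, 1]) (z := [.a2, .a8]) (by decide +kernel) (by decide +kernel)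

def P459 : List Ent := [⟨1, [.a0, .a9], [.a0, .a3, .a6, .a9]⟩,
  ⟨4, [.a2, .a8], [.a2, .a8]⟩,
  ⟨8, [.a3], [.a3]⟩,
  ⟨32, [.a5], [.a5]⟩,
  ⟨64, [.a6], [.a6]⟩]
def B459 : List Gv := [⟨[.a0, .a9], [.a0, .a3, .a6, .a9]⟩, ⟨[.a2, .a8], [.a2, .a8]⟩, ⟨[.a3], [.a3]⟩, ⟨[.a5], [.a5]⟩]
def D459 : List Dv := [⟨[.a6], [2, 0, 0], []⟩]
def C459 : List Ch := [⟨P131, 0, [], []⟩,
  ⟨P102, 1, [.a7], [.a7, .a8]⟩,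
  ⟨P102, 0, [.a1], [.a1, .a2]⟩,
  ⟨P132, 2, [], []⟩,
  ⟨P133, 0, [], []⟩,
  ⟨P134, 1, [], []⟩,
  ⟨P134, 0, [.a4], [.a4, .a5]⟩,
  ⟨P135, 3, [], []⟩,
  ⟨P135, 0, [.a4], [.a4, .a5]⟩,
  ⟨P135, 1, [.a0], [.a0]⟩,
  ⟨P135, 0, [.a0, .a4], [.a0, .a2, .a4, .a5]⟩,
  ⟨P135, 2, [.a1, .a3, .a4, .a5, .a6, .a7], [.a1, .a2, .a4, .a5, .a7, .a8]⟩,
  ⟨P135, 0, [.a1, .a7], [.a1, .a2, .a7, .a8]⟩,
  ⟨P135, 1, [.a0, .a1, .a2, .a3, .a7], [.a0, .a1, .a2, .a7, .a8]⟩,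
  ⟨P135, 0, [.a0, .a1, .a7], [.a0, .a1, .a3, .a5, .a7, .a8]⟩]
def N459 : List Ent := [⟨1, [.a0, .a9], [.a0, .a3, .a6, .a9]⟩,
  ⟨2, [.a1, .a7], [.a1, .a2, .a7, .a8]⟩,
  ⟨4, [.a2, .a8], [.a2, .a8]⟩,
  ⟨8, [.a3], [.a3]⟩,
  ⟨16, [.a4], [.a4, .a5]⟩,
  ⟨32, [.a5], [.a5]⟩,
  ⟨64, [.a6], [.a6]⟩,
  ⟨256, [.a8], [.a8]⟩,
  ⟨512, [.a9], [.a9]⟩]
theorem bad459 (c : CtxF Goal γ) : Bad Goal γ [] P459 :=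
  c.toCtx.bnd (B := B459) (D := D459) (I := [1, 2, 3, 4, 0]) (r := 4) (C := C459) (N := N459) (by decide +kernel) (by decide +kernel) (by decide +kernel) (by decide +kernel)
    (allB_cons (bad131 c) (allB_cons (bad102 c) (allB_cons (bad102 c) (allB_cons (bad132 c) (allB_cons (bad133 c) (allB_cons (bad134 c) (allB_cons (bad134 c) (allB_cons (bad135 c) (allB_cons (bad135 c) (allB_cons (bad135 c) (allB_cons (bad135 c) (allB_cons (bad135 c) (allB_cons (bad135 c) (allB_cons (bad135 c) (allB_cons (bad135 c) (allB_nil))))))))))))))))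

def P460 : List Ent := [⟨1, [.a0, .a9], [.a0, .a3, .a6, .a9]⟩,
  ⟨4, [.a2], [.a2]⟩,
  ⟨8, [.a3, .a8], [.a3, .a8]⟩,
  ⟨32, [.a5], [.a5]⟩,
  ⟨64, [.a6, .a8], [.a6, .a8]⟩]
def B460 : List Gv := [⟨[.a0, .a9], [.a0, .a3, .a6, .a9]⟩, ⟨[.a2], [.a2]⟩, ⟨[.a3, .a8], [.a3, .a8]⟩]
def D460 : List Dv := [⟨[.a6, .a8], [2, 0, 0], []⟩,
  ⟨[.a5], [2, 1], [1, 2]⟩]
theorem bad460 (c : CtxF Goal γ) : Bad Goal γ [] P460 :=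
  c.toCtx.cent (B := B460) (D := D460) (I := [2, 3, 4, 0, 1]) (z := [.a3]) (by decide +kernel) (by decide +kernel)

def P461 : List Ent := [⟨1, [.a0, .a9], [.a0, .a3, .a6, .a9]⟩,
  ⟨4, [.a2, .a8], [.a2, .a8]⟩,
  ⟨8, [.a3, .a8], [.a3, .a8]⟩,
  ⟨32, [.a5], [.a5]⟩,
  ⟨64, [.a6, .a8], [.a6, .a8]⟩]
def B461 : List Gv := [⟨[.a0, .a9], [.a0, .a3, .a6, .a9]⟩, ⟨[.a2, .a8], [.a2, .a8]⟩, ⟨[.a3, .a8], [.a3, .a8]⟩]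
def D461 : List Dv := [⟨[.a6, .a8], [2, 0, 0], []⟩,
  ⟨[.a5], [3, 1], [1, 3]⟩]
theorem bad461 (c : CtxF Goal γ) : Bad Goal γ [] P461 :=
  c.toCtx.cent (B := B461) (D := D461) (I := [2, 3, 4, 0, 1]) (z := [.a3]) (by decide +kernel) (by decide +kernel)

def P462 : List Ent := [⟨1, [.a0, .a8, .a9], [.a0, .a3, .a5, .a6, .a8, .a9]⟩,
  ⟨4, [.a2, .a8], [.a2, .a8]⟩,
  ⟨8, [.a3, .a8], [.a3, .a8]⟩,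
  ⟨32, [.a5], [.a5]⟩,
  ⟨64, [.a6, .a8], [.a6, .a8]⟩]
def B462 : List Gv := [⟨[.a0, .a8, .a9], [.a0, .a3, .a5, .a6, .a8, .a9]⟩, ⟨[.a2, .a8], [.a2, .a8]⟩, ⟨[.a3, .a8], [.a3, .a8]⟩]
def D462 : List Dv := [⟨[.a5, .a6, .a8], [2, 0, 0], []⟩,
  ⟨[.a6, .a8], [0, 3, 1], [1, 3]⟩,
  ⟨[.a5], [1], [0]⟩]
theorem bad462 (c : CtxF Goal γ) : Bad Goal γ [] P462 :=
  c.toCtx.cent (B := B462) (D := D462) (I := [3, 4, 5, 0, 1]) (z := [.a3]) (by decide +kernel) (by decide +kernel)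

def P463 : List Ent := [⟨1, [.a0], [.a0]⟩,
  ⟨8, [.a3, .a6], [.a3, .a6]⟩,
  ⟨32, [.a5], [.a5]⟩,
  ⟨256, [.a8], [.a8]⟩,
  ⟨512, [.a9], [.a9]⟩]
def B463 : List Gv := [⟨[.a0], [.a0]⟩, ⟨[.a8], [.a8]⟩, ⟨[.a9], [.a9]⟩]
def D463 : List Dv := [⟨[.a5], [1, 0], [0, 1]⟩,
  ⟨[.a3, .a6], [3, 1], [1, 3]⟩]
theorem bad463 (c : CtxF Goal γ) : Bad Goal γ [] P463 :=
  c.toCtx.cent (B := B463) (D := D463) (I := [2, 0, 1, 3, 4]) (z := [.a3]) (by decide +kernel) (by decide +kernel)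

def P464 : List Ent := [⟨1, [.a0], [.a0]⟩,
  ⟨8, [.a3], [.a3]⟩,
  ⟨32, [.a5], [.a5]⟩,
  ⟨64, [.a6], [.a6]⟩,
  ⟨512, [.a9], [.a9]⟩]
def B464 : List Gv := [⟨[.a0], [.a0]⟩, ⟨[.a3], [.a3]⟩, ⟨[.a5], [.a5]⟩, ⟨[.a9], [.a9]⟩]
def D464 : List Dv := [⟨[.a6], [1, 3, 0], [0, 3]⟩]
def C464 : List Ch := [⟨P38, 0, [], []⟩,
  ⟨P136, 1, [], []⟩,
  ⟨P137, 0, [], []⟩,
  ⟨P138, 2, [], []⟩,
  ⟨P138, 0, [.a8], [.a8]⟩,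
  ⟨P138, 1, [.a0, .a1, .a2, .a4, .a7, .a8, .a9], [.a0, .a1, .a3, .a4, .a6, .a7, .a9]⟩,
  ⟨P138, 0, [.a0, .a1, .a2, .a4, .a5, .a6, .a7], [.a0, .a1, .a4, .a5, .a7, .a8]⟩,
  ⟨P101, 3, [], []⟩,
  ⟨P102, 0, [.a7], [.a7, .a8]⟩,
  ⟨P137, 1, [.a1, .a3, .a4, .a5, .a6, .a7], [.a1, .a2, .a4, .a5, .a7, .a8]⟩,
  ⟨P136, 0, [.a1, .a3, .a4, .a5, .a6, .a7], [.a1, .a2, .a4, .a5, .a7, .a8]⟩,
  ⟨P138, 2, [.a2], [.a2]⟩,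
  ⟨P138, 0, [.a2, .a5, .a6, .a8, .a9], [.a2, .a6, .a8, .a9]⟩,
  ⟨P138, 1, [.a1, .a3, .a4, .a5, .a6, .a7, .a8, .a9], [.a1, .a2, .a4, .a5, .a6, .a7, .a9]⟩,
  ⟨P138, 0, [.a1, .a3, .a4, .a5, .a6, .a7], [.a1, .a2, .a4, .a5, .a7, .a8]⟩]
def N464 : List Ent := [⟨1, [.a0], [.a0]⟩,
  ⟨2, [.a1, .a4, .a7], [.a1, .a2, .a3, .a4, .a6, .a7, .a8]⟩,
  ⟨4, [.a2], [.a2]⟩,
  ⟨8, [.a3], [.a3]⟩,
  ⟨32, [.a5], [.a5]⟩,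
  ⟨64, [.a6], [.a6]⟩,
  ⟨256, [.a8], [.a8]⟩,
  ⟨512, [.a9], [.a9]⟩]
theorem bad464 (c : CtxF Goal γ) : Bad Goal γ [] P464 :=
  c.toCtx.bnd (B := B464) (D := D464) (I := [1, 2, 3, 0, 4]) (r := 4) (C := C464) (N := N464) (by decide +kernel) (by decide +kernel) (by decide +kernel) (by decide +kernel)
    (allB_cons (bad38 c) (allB_cons (bad136 c) (allB_cons (bad137 c) (allB_cons (bad138 c) (allB_cons (bad138 c) (allB_cons (bad138 c) (allB_cons (bad138 c) (allB_cons (bad101 c) (allB_cons (bad102 c) (allB_cons (bad137 c) (allB_cons (bad136 c) (allB_cons (bad138 c) (allB_cons (bad138 c) (allB_cons (bad138 c) (allB_cons (bad138 c) (allB_nil))))))))))))))))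

def P465 : List Ent := [⟨1, [.a0, .a8], [.a0, .a5, .a8]⟩,
  ⟨8, [.a3], [.a3]⟩,
  ⟨32, [.a5], [.a5]⟩,
  ⟨64, [.a6], [.a6]⟩,
  ⟨512, [.a9], [.a9]⟩]
def B465 : List Gv := [⟨[.a0, .a8], [.a0, .a5, .a8]⟩, ⟨[.a3], [.a3]⟩, ⟨[.a9], [.a9]⟩]
def D465 : List Dv := [⟨[.a5], [0, 0], []⟩,
  ⟨[.a6], [2, 3, 1], [1, 3]⟩]
def C465 : List Ch := [⟨P38, 0, [], []⟩,
  ⟨P139, 1, [], []⟩,
  ⟨P140, 0, [], []⟩,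
  ⟨P105, 2, [], []⟩,
  ⟨P102, 0, [.a4], [.a4, .a5]⟩,
  ⟨P140, 1, [.a1, .a3, .a4, .a5, .a6, .a7], [.a1, .a2, .a4, .a5, .a7, .a8]⟩,
  ⟨P139, 0, [.a1, .a3, .a4, .a5, .a6, .a7], [.a1, .a2, .a4, .a5, .a7, .a8]⟩]
def N465 : List Ent := [⟨1, [.a0, .a8], [.a0, .a5, .a8]⟩,
  ⟨2, [.a1, .a4, .a7], [.a1, .a2, .a3, .a4, .a6, .a7, .a8]⟩,
  ⟨4, [.a2], [.a2]⟩,
  ⟨8, [.a3], [.a3]⟩,
  ⟨32, [.a5], [.a5]⟩,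
  ⟨64, [.a6], [.a6]⟩,
  ⟨256, [.a8], [.a8]⟩,
  ⟨512, [.a9], [.a9]⟩]
theorem bad465 (c : CtxF Goal γ) : Bad Goal γ [] P465 :=
  c.toCtx.bnd (B := B465) (D := D465) (I := [2, 3, 1, 0, 4]) (r := 3) (C := C465) (N := N465) (by decide +kernel) (by decide +kernel) (by decide +kernel) (by decide +kernel)
    (allB_cons (bad38 c) (allB_cons (bad139 c) (allB_cons (bad140 c) (allB_cons (bad105 c) (allB_cons (bad102 c) (allB_cons (bad140 c) (allB_cons (bad139 c) (allB_nil))))))))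

def P466 : List Ent := [⟨1, [.a0], [.a0]⟩,
  ⟨8, [.a3, .a8], [.a3, .a8]⟩,
  ⟨32, [.a5], [.a5]⟩,
  ⟨64, [.a6, .a8], [.a6, .a8]⟩,
  ⟨512, [.a9], [.a9]⟩]
def B466 : List Gv := [⟨[.a0], [.a0]⟩, ⟨[.a3, .a8], [.a3, .a8]⟩, ⟨[.a9], [.a9]⟩]
def D466 : List Dv := [⟨[.a5], [1, 0], [0, 1]⟩,
  ⟨[.a6, .a8], [2, 3, 1], [1, 3]⟩]
theorem bad466 (c : CtxF Goal γ) : Bad Goal γ [] P466 :=
  c.toCtx.cent (B := B466) (D := D466) (I := [2, 3, 1, 0, 4]) (z := [.a3]) (by decide +kernel) (by decide +kernel)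

def P467 : List Ent := [⟨1, [.a0, .a8], [.a0, .a5, .a8]⟩,
  ⟨8, [.a3, .a8], [.a3, .a8]⟩,
  ⟨32, [.a5], [.a5]⟩,
  ⟨64, [.a6, .a8], [.a6, .a8]⟩,
  ⟨512, [.a9], [.a9]⟩]
def B467 : List Gv := [⟨[.a0, .a8], [.a0, .a5, .a8]⟩, ⟨[.a3, .a8], [.a3, .a8]⟩, ⟨[.a9], [.a9]⟩]
def D467 : List Dv := [⟨[.a5], [0, 0], []⟩,
  ⟨[.a6, .a8], [2, 3, 1], [1, 3]⟩]
theorem bad467 (c : CtxF Goal γ) : Bad Goal γ [] P467 :=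
  c.toCtx.cent (B := B467) (D := D467) (I := [2, 3, 1, 0, 4]) (z := [.a3]) (by decide +kernel) (by decide +kernel)

def P468 : List Ent := [⟨1, [.a0], [.a0]⟩,
  ⟨4, [.a2], [.a2]⟩,
  ⟨8, [.a3, .a6], [.a3, .a6]⟩,
  ⟨32, [.a5], [.a5]⟩,
  ⟨512, [.a9], [.a9]⟩]
def B468 : List Gv := [⟨[.a0], [.a0]⟩, ⟨[.a2], [.a2]⟩, ⟨[.a9], [.a9]⟩]
def D468 : List Dv := [⟨[.a3, .a6], [2, 0], [0, 2]⟩,
  ⟨[.a5], [3, 2], [2, 3]⟩]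
theorem bad468 (c : CtxF Goal γ) : Bad Goal γ [] P468 :=
  c.toCtx.cent (B := B468) (D := D468) (I := [2, 3, 1, 0, 4]) (z := [.a3]) (by decide +kernel) (by decide +kernel)

def P469 : List Ent := [⟨1, [.a0], [.a0]⟩,
  ⟨4, [.a2, .a6], [.a2, .a6]⟩,
  ⟨8, [.a3, .a6], [.a3, .a6]⟩,
  ⟨32, [.a5], [.a5]⟩,
  ⟨512, [.a9], [.a9]⟩]
def B469 : List Gv := [⟨[.a0], [.a0]⟩, ⟨[.a2, .a6], [.a2, .a6]⟩, ⟨[.a9], [.a9]⟩]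
def D469 : List Dv := [⟨[.a3, .a6], [2, 0], [0, 2]⟩,
  ⟨[.a5], [3, 2], [2, 3]⟩]
theorem bad469 (c : CtxF Goal γ) : Bad Goal γ [] P469 :=
  c.toCtx.cent (B := B469) (D := D469) (I := [2, 3, 1, 0, 4]) (z := [.a3]) (by decide +kernel) (by decide +kernel)

def P470 : List Ent := [⟨1, [.a0, .a6], [.a0, .a6]⟩,
  ⟨4, [.a2, .a6], [.a2, .a6]⟩,
  ⟨8, [.a3, .a6], [.a3, .a6]⟩,
  ⟨32, [.a5], [.a5]⟩,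
  ⟨512, [.a9], [.a9]⟩]
def B470 : List Gv := [⟨[.a0, .a6], [.a0, .a6]⟩, ⟨[.a2, .a6], [.a2, .a6]⟩, ⟨[.a9], [.a9]⟩]
def D470 : List Dv := [⟨[.a3, .a6], [2, 0], [0, 2]⟩,
  ⟨[.a5], [3, 2], [2, 3]⟩]
theorem bad470 (c : CtxF Goal γ) : Bad Goal γ [] P470 :=
  c.toCtx.cent (B := B470) (D := D470) (I := [2, 3, 1, 0, 4]) (z := [.a3]) (by decide +kernel) (by decide +kernel)

def P471 : List Ent := [⟨1, [.a0, .a8], [.a0, .a5, .a8]⟩,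
  ⟨4, [.a2], [.a2]⟩,
  ⟨8, [.a3, .a6], [.a3, .a6]⟩,
  ⟨32, [.a5], [.a5]⟩,
  ⟨512, [.a9], [.a9]⟩]
def B471 : List Gv := [⟨[.a0, .a8], [.a0, .a5, .a8]⟩, ⟨[.a2], [.a2]⟩, ⟨[.a9], [.a9]⟩]
def D471 : List Dv := [⟨[.a5], [0, 0], []⟩,
  ⟨[.a3, .a6], [3, 1], [1, 3]⟩]
theorem bad471 (c : CtxF Goal γ) : Bad Goal γ [] P471 :=
  c.toCtx.cent (B := B471) (D := D471) (I := [2, 3, 0, 1, 4]) (z := [.a3]) (by decide +kernel) (by decide +kernel)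

def P472 : List Ent := [⟨1, [.a0, .a8], [.a0, .a5, .a8]⟩,
  ⟨4, [.a2, .a6], [.a2, .a6]⟩,
  ⟨8, [.a3, .a6], [.a3, .a6]⟩,
  ⟨32, [.a5], [.a5]⟩,
  ⟨512, [.a9], [.a9]⟩]
def B472 : List Gv := [⟨[.a0, .a8], [.a0, .a5, .a8]⟩, ⟨[.a2, .a6], [.a2, .a6]⟩, ⟨[.a9], [.a9]⟩]
def D472 : List Dv := [⟨[.a5], [0, 0], []⟩,
  ⟨[.a3, .a6], [3, 1], [1, 3]⟩]
theorem bad472 (c : CtxF Goal γ) : Bad Goal γ [] P472 :=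
  c.toCtx.cent (B := B472) (D := D472) (I := [2, 3, 0, 1, 4]) (z := [.a3]) (by decide +kernel) (by decide +kernel)

def P473 : List Ent := [⟨1, [.a0, .a6, .a8], [.a0, .a5, .a6, .a8]⟩,
  ⟨4, [.a2, .a6], [.a2, .a6]⟩,
  ⟨8, [.a3, .a6], [.a3, .a6]⟩,
  ⟨32, [.a5], [.a5]⟩,
  ⟨512, [.a9], [.a9]⟩]
def B473 : List Gv := [⟨[.a0, .a6, .a8], [.a0, .a5, .a6, .a8]⟩, ⟨[.a2, .a6], [.a2, .a6]⟩, ⟨[.a9], [.a9]⟩]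
def D473 : List Dv := [⟨[.a5], [0, 0], []⟩,
  ⟨[.a3, .a6], [3, 1], [1, 3]⟩]
theorem bad473 (c : CtxF Goal γ) : Bad Goal γ [] P473 :=
  c.toCtx.cent (B := B473) (D := D473) (I := [2, 3, 0, 1, 4]) (z := [.a3]) (by decide +kernel) (by decide +kernel)

def P474 : List Ent := [⟨1, [.a0], [.a0]⟩,
  ⟨4, [.a2, .a8], [.a2, .a8]⟩,
  ⟨8, [.a3, .a6], [.a3, .a6]⟩,
  ⟨32, [.a5], [.a5]⟩,
  ⟨512, [.a9], [.a9]⟩]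
def B474 : List Gv := [⟨[.a0], [.a0]⟩, ⟨[.a2, .a8], [.a2, .a8]⟩, ⟨[.a9], [.a9]⟩]
def D474 : List Dv := [⟨[.a5], [1, 0], [0, 1]⟩,
  ⟨[.a3, .a6], [3, 1], [1, 3]⟩]
theorem bad474 (c : CtxF Goal γ) : Bad Goal γ [] P474 :=
  c.toCtx.cent (B := B474) (D := D474) (I := [2, 3, 0, 1, 4]) (z := [.a3]) (by decide +kernel) (by decide +kernel)

def P475 : List Ent := [⟨1, [.a0, .a6], [.a0, .a6]⟩,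
  ⟨4, [.a2, .a8], [.a2, .a8]⟩,
  ⟨8, [.a3, .a6], [.a3, .a6]⟩,
  ⟨32, [.a5], [.a5]⟩,
  ⟨512, [.a9], [.a9]⟩]
def B475 : List Gv := [⟨[.a0, .a6], [.a0, .a6]⟩, ⟨[.a2, .a8], [.a2, .a8]⟩, ⟨[.a9], [.a9]⟩]
def D475 : List Dv := [⟨[.a5], [1, 0], [0, 1]⟩,
  ⟨[.a3, .a6], [3, 1], [1, 3]⟩]
theorem bad475 (c : CtxF Goal γ) : Bad Goal γ [] P475 :=
  c.toCtx.cent (B := B475) (D := D475) (I := [2, 3, 0, 1, 4]) (z := [.a3]) (by decide +kernel) (by decide +kernel)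

def P476 : List Ent := [⟨1, [.a0], [.a0]⟩,
  ⟨4, [.a2, .a6, .a8], [.a2, .a6, .a8]⟩,
  ⟨8, [.a3, .a6], [.a3, .a6]⟩,
  ⟨32, [.a5], [.a5]⟩,
  ⟨512, [.a9], [.a9]⟩]
def B476 : List Gv := [⟨[.a0], [.a0]⟩, ⟨[.a2, .a6, .a8], [.a2, .a6, .a8]⟩, ⟨[.a9], [.a9]⟩]
def D476 : List Dv := [⟨[.a5], [1, 0], [0, 1]⟩,
  ⟨[.a3, .a6], [3, 1], [1, 3]⟩]
theorem bad476 (c : CtxF Goal γ) : Bad Goal γ [] P476 :=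
  c.toCtx.cent (B := B476) (D := D476) (I := [2, 3, 0, 1, 4]) (z := [.a3]) (by decide +kernel) (by decide +kernel)

def P477 : List Ent := [⟨1, [.a0, .a6], [.a0, .a6]⟩,
  ⟨4, [.a2, .a6, .a8], [.a2, .a6, .a8]⟩,
  ⟨8, [.a3, .a6], [.a3, .a6]⟩,
  ⟨32, [.a5], [.a5]⟩,
  ⟨512, [.a9], [.a9]⟩]
def B477 : List Gv := [⟨[.a0, .a6], [.a0, .a6]⟩, ⟨[.a2, .a6, .a8], [.a2, .a6, .a8]⟩, ⟨[.a9], [.a9]⟩]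
def D477 : List Dv := [⟨[.a5], [1, 0], [0, 1]⟩,
  ⟨[.a3, .a6], [3, 1], [1, 3]⟩]
theorem bad477 (c : CtxF Goal γ) : Bad Goal γ [] P477 :=
  c.toCtx.cent (B := B477) (D := D477) (I := [2, 3, 0, 1, 4]) (z := [.a3]) (by decide +kernel) (by decide +kernel)

def P478 : List Ent := [⟨1, [.a0, .a9], [.a0, .a3, .a6, .a9]⟩,
  ⟨2, [.a1, .a7], [.a1, .a2, .a7, .a8]⟩,
  ⟨4, [.a2, .a8], [.a2, .a8]⟩,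
  ⟨8, [.a3, .a6], [.a3, .a6]⟩,
  ⟨32, [.a5], [.a5]⟩]
def B478 : List Gv := [⟨[.a0, .a9], [.a0, .a3, .a6, .a9]⟩, ⟨[.a1, .a7], [.a1, .a2, .a7, .a8]⟩]
def D478 : List Dv := [⟨[.a3, .a6], [0, 0], []⟩,
  ⟨[.a2, .a3, .a5, .a6, .a8], [2, 1], [1, 2]⟩,
  ⟨[.a5], [1, 0, 3, 3], []⟩,
  ⟨[.a2, .a8], [1], [2, 0]⟩]
def C478 : List Ch := [⟨P88, 0, [], []⟩,
  ⟨P132, 1, [], []⟩,
  ⟨P127, 0, [.a0, .a10], [.a0, .a1, .a2, .a3, .a4, .a6, .a8, .a9, .a10, .a11]⟩]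
def N478 : List Ent := [⟨1, [.a0, .a9], [.a0, .a3, .a6, .a9]⟩,
  ⟨2, [.a1, .a7], [.a1, .a2, .a7, .a8]⟩,
  ⟨4, [.a2, .a8], [.a2, .a8]⟩,
  ⟨8, [.a3, .a6], [.a3, .a6]⟩,
  ⟨16, [.a4], [.a4, .a5]⟩,
  ⟨32, [.a5], [.a5]⟩,
  ⟨64, [.a6], [.a6]⟩,
  ⟨256, [.a8], [.a8]⟩]
theorem bad478 (c : CtxF Goal γ) : Bad Goal γ [] P478 :=
  c.toCtx.bnd (B := B478) (D := D478) (I := [4, 5, 0, 3, 1]) (r := 2) (C := C478) (N := N478) (by decide +kernel) (by decide +kernel) (by decide +kernel) (by decide +kernel)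
    (allB_cons (bad88 c) (allB_cons (bad132 c) (allB_cons (bad127 c) (allB_nil))))

def P479 : List Ent := [⟨1, [.a0], [.a0]⟩,
  ⟨2, [.a1, .a7, .a9], [.a1, .a2, .a6, .a7, .a9]⟩,
  ⟨4, [.a2, .a6], [.a2, .a6]⟩,
  ⟨8, [.a3, .a8], [.a3, .a8]⟩,
  ⟨32, [.a5], [.a5]⟩]
def B479 : List Gv := [⟨[.a0], [.a0]⟩, ⟨[.a1, .a7, .a9], [.a1, .a2, .a6, .a7, .a9]⟩, ⟨[.a3, .a8], [.a3, .a8]⟩]
def D479 : List Dv := [⟨[.a2, .a6], [1, 0], [0, 1]⟩,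
  ⟨[.a5], [0, 2, 2], []⟩]
theorem bad479 (c : CtxF Goal γ) : Bad Goal γ [] P479 :=
  c.toCtx.cent (B := B479) (D := D479) (I := [2, 3, 1, 4, 0]) (z := [.a2, .a3]) (by decide +kernel) (by decide +kernel)

def P480 : List Ent := [⟨1, [.a0], [.a0]⟩,
  ⟨2, [.a1, .a7, .a9], [.a1, .a2, .a6, .a7, .a9]⟩,
  ⟨4, [.a2, .a8], [.a2, .a8]⟩,
  ⟨32, [.a5], [.a5]⟩,
  ⟨64, [.a6, .a8], [.a6, .a8]⟩]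
def B480 : List Gv := [⟨[.a0], [.a0]⟩, ⟨[.a1, .a7, .a9], [.a1, .a2, .a6, .a7, .a9]⟩, ⟨[.a2, .a8], [.a2, .a8]⟩]
def D480 : List Dv := [⟨[.a6, .a8], [2, 1, 0], [0, 1]⟩,
  ⟨[.a5, .a6, .a8], [3, 2, 2], []⟩,
  ⟨[.a5], [0], [1]⟩]
theorem bad480 (c : CtxF Goal γ) : Bad Goal γ [] P480 :=
  c.toCtx.cent (B := B480) (D := D480) (I := [3, 4, 5, 0, 2]) (z := [.a2, .a3]) (by decide +kernel) (by decide +kernel)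

def P481 : List Ent := [⟨1, [.a0], [.a0]⟩,
  ⟨2, [.a1, .a3, .a7, .a8, .a9], [.a1, .a2, .a3, .a5, .a6, .a7, .a8, .a9]⟩,
  ⟨4, [.a2, .a8], [.a2, .a8]⟩,
  ⟨32, [.a5], [.a5]⟩,
  ⟨64, [.a6, .a8], [.a6, .a8]⟩]
def B481 : List Gv := [⟨[.a0], [.a0]⟩, ⟨[.a1, .a3, .a7, .a8, .a9], [.a1, .a2, .a3, .a5, .a6, .a7, .a8, .a9]⟩, ⟨[.a2, .a8], [.a2, .a8]⟩]
def D481 : List Dv := [⟨[.a5, .a6, .a8], [2, 1, 0], [0, 1]⟩,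
  ⟨[.a6, .a8], [3, 2, 2], []⟩,
  ⟨[.a5], [1], [0]⟩]
theorem bad481 (c : CtxF Goal γ) : Bad Goal γ [] P481 :=
  c.toCtx.cent (B := B481) (D := D481) (I := [3, 4, 5, 0, 1]) (z := [.a2, .a3]) (by decide +kernel) (by decide +kernel)

def P482 : List Ent := [⟨1, [.a0], [.a0]⟩,
  ⟨2, [.a1, .a7, .a9], [.a1, .a2, .a6, .a7, .a9]⟩,
  ⟨4, [.a2, .a6], [.a2, .a6]⟩,
  ⟨8, [.a3, .a6], [.a3, .a6]⟩,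
  ⟨32, [.a5], [.a5]⟩]
def B482 : List Gv := [⟨[.a0], [.a0]⟩, ⟨[.a1, .a7, .a9], [.a1, .a2, .a6, .a7, .a9]⟩, ⟨[.a3, .a6], [.a3, .a6]⟩]
def D482 : List Dv := [⟨[.a2, .a6], [1, 0], [0, 1]⟩,
  ⟨[.a5], [0, 2, 2], []⟩]
def C482 : List Ch := [⟨P91, 0, [.a4, .a11], [.a4, .a5, .a11]⟩,
  ⟨P125, 1, [], []⟩,
  ⟨P128, 0, [.a10], [.a10, .a11]⟩,
  ⟨P141, 2, [], []⟩,
  ⟨P141, 0, [.a7], [.a7, .a8]⟩,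
  ⟨P142, 1, [], []⟩,
  ⟨P142, 0, [.a7], [.a7, .a8]⟩]
def N482 : List Ent := [⟨1, [.a0], [.a0]⟩,
  ⟨2, [.a1, .a7, .a9], [.a1, .a2, .a6, .a7, .a9]⟩,
  ⟨4, [.a2, .a6], [.a2, .a6]⟩,
  ⟨8, [.a3, .a6], [.a3, .a6]⟩,
  ⟨32, [.a5], [.a5]⟩,
  ⟨64, [.a6], [.a6]⟩,
  ⟨128, [.a7], [.a7, .a8]⟩,
  ⟨256, [.a8], [.a8]⟩]
theorem bad482 (c : CtxF Goal γ) : Bad Goal γ [] P482 :=
  c.toCtx.bnd (B := B482) (D := D482) (I := [2, 3, 1, 4, 0]) (r := 3) (C := C482) (N := N482) (by decide +kernel) (by decide +kernel) (by decide +kernel) (by decide +kernel)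
    (allB_cons (bad91 c) (allB_cons (bad125 c) (allB_cons (bad128 c) (allB_cons (bad141 c) (allB_cons (bad141 c) (allB_cons (bad142 c) (allB_cons (bad142 c) (allB_nil))))))))

def P483 : List Ent := [⟨1, [.a0, .a6, .a8], [.a0, .a5, .a6, .a8]⟩,
  ⟨2, [.a1, .a7, .a9], [.a1, .a2, .a6, .a7, .a9]⟩,
  ⟨4, [.a2, .a6], [.a2, .a6]⟩,
  ⟨8, [.a3, .a6], [.a3, .a6]⟩,
  ⟨32, [.a5], [.a5]⟩]
def B483 : List Gv := [⟨[.a0, .a6, .a8], [.a0, .a5, .a6, .a8]⟩, ⟨[.a1, .a7, .a9], [.a1, .a2, .a6, .a7, .a9]⟩, ⟨[.a3, .a6], [.a3, .a6]⟩]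
def D483 : List Dv := [⟨[.a5], [0, 0], []⟩,
  ⟨[.a2, .a5, .a6], [2, 1], [1, 2]⟩,
  ⟨[.a2, .a6], [0], [1]⟩]
def C483 : List Ch := [⟨P91, 0, [.a4, .a11], [.a4, .a5, .a11]⟩,
  ⟨P130, 1, [.a4], [.a4, .a5]⟩,
  ⟨P128, 0, [.a1, .a10], [.a1, .a2, .a4, .a5, .a7, .a9, .a10, .a11]⟩,
  ⟨P143, 2, [], []⟩,
  ⟨P143, 0, [.a7], [.a7, .a8]⟩,
  ⟨P144, 1, [], []⟩,
  ⟨P144, 0, [.a7], [.a7, .a8]⟩]
def N483 : List Ent := [⟨1, [.a0, .a6, .a8], [.a0, .a5, .a6, .a8]⟩,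
  ⟨2, [.a1, .a7, .a9], [.a1, .a2, .a6, .a7, .a9]⟩,
  ⟨4, [.a2, .a6], [.a2, .a6]⟩,
  ⟨8, [.a3, .a6], [.a3, .a6]⟩,
  ⟨32, [.a5], [.a5]⟩,
  ⟨64, [.a6], [.a6]⟩,
  ⟨128, [.a7], [.a7, .a8]⟩,
  ⟨256, [.a8], [.a8]⟩]
theorem bad483 (c : CtxF Goal γ) : Bad Goal γ [] P483 :=
  c.toCtx.bnd (B := B483) (D := D483) (I := [3, 4, 0, 5, 2]) (r := 3) (C := C483) (N := N483) (by decide +kernel) (by decide +kernel) (by decide +kernel) (by decide +kernel)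
    (allB_cons (bad91 c) (allB_cons (bad130 c) (allB_cons (bad128 c) (allB_cons (bad143 c) (allB_cons (bad143 c) (allB_cons (bad144 c) (allB_cons (bad144 c) (allB_nil))))))))

def P484 : List Ent := [⟨1, [.a0, .a8, .a9], [.a0, .a3, .a5, .a6, .a8, .a9]⟩,
  ⟨2, [.a1, .a7], [.a1, .a2, .a7, .a8]⟩,
  ⟨4, [.a2, .a8], [.a2, .a8]⟩,
  ⟨8, [.a3, .a6], [.a3, .a6]⟩,
  ⟨32, [.a5], [.a5]⟩]
def B484 : List Gv := [⟨[.a0, .a8, .a9], [.a0, .a3, .a5, .a6, .a8, .a9]⟩, ⟨[.a1, .a7], [.a1, .a2, .a7, .a8]⟩, ⟨[.a3, .a6], [.a3, .a6]⟩]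
def D484 : List Dv := [⟨[.a5], [2, 0, 0], []⟩,
  ⟨[.a2, .a3, .a5, .a6, .a8], [2, 1], [1, 2]⟩,
  ⟨[.a2, .a8], [0], [4, 1]⟩]
def C484 : List Ch := [⟨P88, 0, [], []⟩,
  ⟨P133, 1, [.a1], [.a1, .a2]⟩,
  ⟨P122, 0, [.a0, .a10], [.a0, .a1, .a2, .a3, .a4, .a6, .a8, .a9, .a10, .a11]⟩,
  ⟨P145, 2, [], []⟩,
  ⟨P145, 0, [.a4], [.a4, .a5]⟩,
  ⟨P145, 1, [.a3], [.a3]⟩,
  ⟨P145, 0, [.a3, .a4], [.a3, .a4, .a5]⟩]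
def N484 : List Ent := [⟨1, [.a0, .a8, .a9], [.a0, .a3, .a5, .a6, .a8, .a9]⟩,
  ⟨2, [.a1, .a7], [.a1, .a2, .a7, .a8]⟩,
  ⟨4, [.a2, .a8], [.a2, .a8]⟩,
  ⟨8, [.a3, .a6], [.a3, .a6]⟩,
  ⟨16, [.a4], [.a4, .a5]⟩,
  ⟨32, [.a5], [.a5]⟩,
  ⟨64, [.a6], [.a6]⟩,
  ⟨256, [.a8], [.a8]⟩]
theorem bad484 (c : CtxF Goal γ) : Bad Goal γ [] P484 :=
  c.toCtx.bnd (B := B484) (D := D484) (I := [3, 4, 0, 5, 2]) (r := 3) (C := C484) (N := N484) (by decide +kernel) (by decide +kernel) (by decide +kernel) (by decide +kernel)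
    (allB_cons (bad88 c) (allB_cons (bad133 c) (allB_cons (bad122 c) (allB_cons (bad145 c) (allB_cons (bad145 c) (allB_cons (bad145 c) (allB_cons (bad145 c) (allB_nil))))))))

def P485 : List Ent := [⟨1, [.a0, .a8], [.a0, .a5, .a8]⟩,
  ⟨2, [.a1, .a7, .a9], [.a1, .a2, .a6, .a7, .a9]⟩,
  ⟨4, [.a2, .a6], [.a2, .a6]⟩,
  ⟨8, [.a3, .a8], [.a3, .a8]⟩,
  ⟨32, [.a5], [.a5]⟩]
def B485 : List Gv := [⟨[.a0, .a8], [.a0, .a5, .a8]⟩, ⟨[.a1, .a7, .a9], [.a1, .a2, .a6, .a7, .a9]⟩, ⟨[.a3, .a8], [.a3, .a8]⟩]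
def D485 : List Dv := [⟨[.a5], [0, 0], []⟩,
  ⟨[.a2, .a6], [2, 1], [1, 2]⟩]
theorem bad485 (c : CtxF Goal γ) : Bad Goal γ [] P485 :=
  c.toCtx.cent (B := B485) (D := D485) (I := [2, 3, 0, 4, 1]) (z := [.a2, .a3]) (by decide +kernel) (by decide +kernel)

def P486 : List Ent := [⟨1, [.a0, .a8], [.a0, .a5, .a8]⟩,
  ⟨2, [.a1, .a7, .a9], [.a1, .a2, .a6, .a7, .a9]⟩,
  ⟨4, [.a2, .a8], [.a2, .a8]⟩,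
  ⟨32, [.a5], [.a5]⟩,
  ⟨64, [.a6, .a8], [.a6, .a8]⟩]
def B486 : List Gv := [⟨[.a0, .a8], [.a0, .a5, .a8]⟩, ⟨[.a1, .a7, .a9], [.a1, .a2, .a6, .a7, .a9]⟩, ⟨[.a2, .a8], [.a2, .a8]⟩]
def D486 : List Dv := [⟨[.a5], [0, 0], []⟩,
  ⟨[.a6, .a8], [3, 2, 1], [1, 2]⟩]
theorem bad486 (c : CtxF Goal γ) : Bad Goal γ [] P486 :=
  c.toCtx.cent (B := B486) (D := D486) (I := [2, 3, 4, 1, 0]) (z := [.a2, .a3]) (by decide +kernel) (by decide +kernel)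

def P487 : List Ent := [⟨1, [.a0, .a8], [.a0, .a5, .a8]⟩,
  ⟨2, [.a1, .a3, .a7, .a8, .a9], [.a1, .a2, .a3, .a5, .a6, .a7, .a8, .a9]⟩,
  ⟨4, [.a2, .a8], [.a2, .a8]⟩,
  ⟨32, [.a5], [.a5]⟩,
  ⟨64, [.a6, .a8], [.a6, .a8]⟩]
def B487 : List Gv := [⟨[.a0, .a8], [.a0, .a5, .a8]⟩, ⟨[.a1, .a3, .a7, .a8, .a9], [.a1, .a2, .a3, .a5, .a6, .a7, .a8, .a9]⟩, ⟨[.a2, .a8], [.a2, .a8]⟩]
def D487 : List Dv := [⟨[.a5], [0, 0], []⟩,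
  ⟨[.a6, .a8], [0, 3, 2, 1], [1, 2]⟩]
theorem bad487 (c : CtxF Goal γ) : Bad Goal γ [] P487 :=
  c.toCtx.cent (B := B487) (D := D487) (I := [2, 3, 4, 1, 0]) (z := [.a2, .a3]) (by decide +kernel) (by decide +kernel)

def P488 : List Ent := [⟨1, [.a0, .a8], [.a0, .a5, .a8]⟩,
  ⟨2, [.a1, .a7, .a9], [.a1, .a2, .a6, .a7, .a9]⟩,
  ⟨4, [.a2, .a6], [.a2, .a6]⟩,
  ⟨8, [.a3, .a6], [.a3, .a6]⟩,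
  ⟨32, [.a5], [.a5]⟩]
def B488 : List Gv := [⟨[.a0, .a8], [.a0, .a5, .a8]⟩, ⟨[.a1, .a7, .a9], [.a1, .a2, .a6, .a7, .a9]⟩, ⟨[.a3, .a6], [.a3, .a6]⟩]
def D488 : List Dv := [⟨[.a5], [0, 0], []⟩,
  ⟨[.a2, .a6], [2, 1], [1, 2]⟩]
def C488 : List Ch := [⟨P91, 0, [.a4, .a11], [.a4, .a5, .a11]⟩,
  ⟨P130, 1, [], []⟩,
  ⟨P123, 0, [.a10], [.a10, .a11]⟩,
  ⟨P146, 2, [], []⟩,
  ⟨P146, 0, [.a7], [.a7, .a8]⟩,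
  ⟨P147, 1, [], []⟩,
  ⟨P147, 0, [.a7], [.a7, .a8]⟩]
def N488 : List Ent := [⟨1, [.a0, .a8], [.a0, .a5, .a8]⟩,
  ⟨2, [.a1, .a7, .a9], [.a1, .a2, .a6, .a7, .a9]⟩,
  ⟨4, [.a2, .a6], [.a2, .a6]⟩,
  ⟨8, [.a3, .a6], [.a3, .a6]⟩,
  ⟨32, [.a5], [.a5]⟩,
  ⟨64, [.a6], [.a6]⟩,
  ⟨128, [.a7], [.a7, .a8]⟩,
  ⟨256, [.a8], [.a8]⟩]
theorem bad488 (c : CtxF Goal γ) : Bad Goal γ [] P488 :=
  c.toCtx.bnd (B := B488) (D := D488) (I := [2, 3, 0, 4, 1]) (r := 3) (C := C488) (N := N488) (by decide +kernel) (by decide +kernel) (by decide +kernel) (by decide +kernel)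
    (allB_cons (bad91 c) (allB_cons (bad130 c) (allB_cons (bad123 c) (allB_cons (bad146 c) (allB_cons (bad146 c) (allB_cons (bad147 c) (allB_cons (bad147 c) (allB_nil))))))))

def P489 : List Ent := [⟨1, [.a0, .a6], [.a0, .a6]⟩,
  ⟨2, [.a1, .a7, .a9], [.a1, .a2, .a6, .a7, .a9]⟩,
  ⟨4, [.a2, .a6], [.a2, .a6]⟩,
  ⟨8, [.a3, .a6], [.a3, .a6]⟩,
  ⟨32, [.a5], [.a5]⟩]
def B489 : List Gv := [⟨[.a0, .a6], [.a0, .a6]⟩, ⟨[.a1, .a7, .a9], [.a1, .a2, .a6, .a7, .a9]⟩, ⟨[.a2, .a6], [.a2, .a6]⟩, ⟨[.a3, .a6], [.a3, .a6]⟩]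
def D489 : List Dv := [⟨[.a5], [2, 1, 0], [0, 1]⟩]
def C489 : List Ch := [⟨P91, 0, [.a4, .a11], [.a4, .a5, .a11]⟩,
  ⟨P125, 1, [.a4], [.a4, .a5]⟩,
  ⟨P123, 0, [.a1, .a10], [.a1, .a2, .a4, .a5, .a7, .a9, .a10, .a11]⟩,
  ⟨P148, 2, [], []⟩,
  ⟨P148, 0, [.a8], [.a8]⟩,
  ⟨P148, 1, [.a0], [.a0]⟩,
  ⟨P148, 0, [.a0, .a5, .a8], [.a0, .a8]⟩,
  ⟨P149, 3, [], []⟩,
  ⟨P149, 0, [.a7], [.a7, .a8]⟩,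
  ⟨P150, 1, [], []⟩,
  ⟨P150, 0, [.a7], [.a7, .a8]⟩,
  ⟨P148, 2, [.a7], [.a7, .a8]⟩,
  ⟨P148, 0, [.a1, .a9], [.a1, .a2, .a6, .a8, .a9]⟩,
  ⟨P148, 1, [.a0, .a2, .a3, .a7], [.a0, .a7, .a8]⟩,
  ⟨P148, 0, [.a0, .a1, .a3, .a6, .a9], [.a0, .a1, .a2, .a6, .a8, .a9]⟩]
def N489 : List Ent := [⟨1, [.a0, .a6], [.a0, .a6]⟩,
  ⟨2, [.a1, .a7, .a9], [.a1, .a2, .a6, .a7, .a9]⟩,
  ⟨4, [.a2, .a6], [.a2, .a6]⟩,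
  ⟨8, [.a3, .a6], [.a3, .a6]⟩,
  ⟨32, [.a5], [.a5]⟩,
  ⟨64, [.a6], [.a6]⟩,
  ⟨128, [.a7], [.a7, .a8]⟩,
  ⟨256, [.a8], [.a8]⟩]
theorem bad489 (c : CtxF Goal γ) : Bad Goal γ [] P489 :=
  c.toCtx.bnd (B := B489) (D := D489) (I := [1, 2, 3, 4, 0]) (r := 4) (C := C489) (N := N489) (by decide +kernel) (by decide +kernel) (by decide +kernel) (by decide +kernel)
    (allB_cons (bad91 c) (allB_cons (bad125 c) (allB_cons (bad123 c) (allB_cons (bad148 c) (allB_cons (bad148 c) (allB_cons (bad148 c) (allB_cons (bad148 c) (allB_cons (bad149 c) (allB_cons (bad149 c) (allB_cons (bad150 c) (allB_cons (bad150 c) (allB_cons (bad148 c) (allB_cons (bad148 c) (allB_cons (bad148 c) (allB_cons (bad148 c) (allB_nil))))))))))))))))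

def P490 : List Ent := [⟨1, [.a0, .a9], [.a0, .a3, .a6, .a9]⟩,
  ⟨2, [.a1, .a7, .a8], [.a1, .a2, .a7]⟩,
  ⟨4, [.a2, .a8], [.a2, .a8]⟩,
  ⟨8, [.a3, .a6], [.a3, .a6]⟩,
  ⟨32, [.a5], [.a5]⟩]
def B490 : List Gv := [⟨[.a0, .a9], [.a0, .a3, .a6, .a9]⟩, ⟨[.a1, .a7, .a8], [.a1, .a2, .a7]⟩, ⟨[.a5], [.a5]⟩]
def D490 : List Dv := [⟨[.a3, .a6], [0, 0], []⟩,
  ⟨[.a2, .a3, .a6, .a8], [2, 1], [1, 2]⟩,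
  ⟨[.a2, .a8], [0], [1]⟩]
def C490 : List Ch := [⟨P89, 0, [], []⟩,
  ⟨P132, 1, [], []⟩,
  ⟨P122, 0, [.a0, .a10], [.a0, .a1, .a2, .a3, .a4, .a6, .a8, .a9, .a10, .a11]⟩,
  ⟨P151, 2, [], []⟩,
  ⟨P151, 0, [.a2], [.a2]⟩,
  ⟨P151, 1, [.a3], [.a3]⟩,
  ⟨P151, 0, [.a4], [.a4, .a5]⟩]
def N490 : List Ent := [⟨1, [.a0, .a9], [.a0, .a3, .a6, .a9]⟩,
  ⟨2, [.a1, .a7, .a8], [.a1, .a2, .a7]⟩,
  ⟨4, [.a2, .a8], [.a2, .a8]⟩,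
  ⟨8, [.a3, .a6], [.a3, .a6]⟩,
  ⟨16, [.a4], [.a4, .a5]⟩,
  ⟨32, [.a5], [.a5]⟩,
  ⟨64, [.a6], [.a6]⟩,
  ⟨256, [.a8], [.a8]⟩]
theorem bad490 (c : CtxF Goal γ) : Bad Goal γ [] P490 :=
  c.toCtx.bnd (B := B490) (D := D490) (I := [3, 4, 0, 2, 5]) (r := 3) (C := C490) (N := N490) (by decide +kernel) (by decide +kernel) (by decide +kernel) (by decide +kernel)
    (allB_cons (bad89 c) (allB_cons (bad132 c) (allB_cons (bad122 c) (allB_cons (bad151 c) (allB_cons (bad151 c) (allB_cons (bad151 c) (allB_cons (bad151 c) (allB_nil))))))))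

def P491 : List Ent := [⟨1, [.a0, .a8, .a9], [.a0, .a3, .a5, .a6, .a8, .a9]⟩,
  ⟨2, [.a1, .a7, .a8], [.a1, .a2, .a7]⟩,
  ⟨4, [.a2, .a8], [.a2, .a8]⟩,
  ⟨8, [.a3, .a6], [.a3, .a6]⟩,
  ⟨32, [.a5], [.a5]⟩]
def B491 : List Gv := [⟨[.a0, .a8, .a9], [.a0, .a3, .a5, .a6, .a8, .a9]⟩, ⟨[.a1, .a7, .a8], [.a1, .a2, .a7]⟩]
def D491 : List Dv := [⟨[.a3, .a5, .a6], [0, 0], []⟩,
  ⟨[.a2, .a3, .a6, .a8], [2, 1], [1, 2]⟩,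
  ⟨[.a5], [1, 0, 3, 3], []⟩,
  ⟨[.a3, .a6], [2], [0]⟩,
  ⟨[.a2, .a8], [2], [0]⟩]
def C491 : List Ch := [⟨P89, 0, [], []⟩,
  ⟨P133, 1, [.a1], [.a1, .a2]⟩,
  ⟨P127, 0, [.a0, .a10], [.a0, .a1, .a2, .a3, .a4, .a6, .a8, .a9, .a10, .a11]⟩]
def N491 : List Ent := [⟨1, [.a0, .a8, .a9], [.a0, .a3, .a5, .a6, .a8, .a9]⟩,
  ⟨2, [.a1, .a7, .a8], [.a1, .a2, .a7]⟩,
  ⟨4, [.a2, .a8], [.a2, .a8]⟩,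
  ⟨8, [.a3, .a6], [.a3, .a6]⟩,
  ⟨16, [.a4], [.a4, .a5]⟩,
  ⟨32, [.a5], [.a5]⟩,
  ⟨64, [.a6], [.a6]⟩,
  ⟨256, [.a8], [.a8]⟩]
theorem bad491 (c : CtxF Goal γ) : Bad Goal γ [] P491 :=
  c.toCtx.bnd (B := B491) (D := D491) (I := [5, 6, 0, 1, 2]) (r := 2) (C := C491) (N := N491) (by decide +kernel) (by decide +kernel) (by decide +kernel) (by decide +kernel)
    (allB_cons (bad89 c) (allB_cons (bad133 c) (allB_cons (bad127 c) (allB_nil))))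

def P492 : List Ent := [⟨1, [.a0], [.a0]⟩,
  ⟨2, [.a1, .a7, .a9], [.a1, .a2, .a6, .a7, .a9]⟩,
  ⟨4, [.a2, .a6], [.a2, .a6]⟩,
  ⟨32, [.a5], [.a5]⟩,
  ⟨256, [.a8], [.a8]⟩]
def B492 : List Gv := [⟨[.a0], [.a0]⟩, ⟨[.a1, .a7, .a9], [.a1, .a2, .a6, .a7, .a9]⟩, ⟨[.a8], [.a8]⟩]
def D492 : List Dv := [⟨[.a2, .a6], [1, 0], [0, 1]⟩,
  ⟨[.a5], [0, 2, 2], []⟩]
theorem bad492 (c : CtxF Goal γ) : Bad Goal γ [] P492 :=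
  c.toCtx.cent (B := B492) (D := D492) (I := [2, 3, 1, 0, 4]) (z := [.a2, .a3]) (by decide +kernel) (by decide +kernel)

def P493 : List Ent := [⟨1, [.a0], [.a0]⟩,
  ⟨2, [.a1, .a3, .a6, .a7, .a9], [.a1, .a2, .a3, .a7, .a9]⟩,
  ⟨4, [.a2, .a6], [.a2, .a6]⟩,
  ⟨32, [.a5], [.a5]⟩,
  ⟨256, [.a8], [.a8]⟩]
def B493 : List Gv := [⟨[.a0], [.a0]⟩, ⟨[.a1, .a3, .a6, .a7, .a9], [.a1, .a2, .a3, .a7, .a9]⟩, ⟨[.a8], [.a8]⟩]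
def D493 : List Dv := [⟨[.a2, .a6], [1, 0], [0, 1]⟩,
  ⟨[.a5], [0, 2, 2], []⟩]
theorem bad493 (c : CtxF Goal γ) : Bad Goal γ [] P493 :=
  c.toCtx.cent (B := B493) (D := D493) (I := [2, 3, 1, 0, 4]) (z := [.a2, .a3]) (by decide +kernel) (by decide +kernel)

def P494 : List Ent := [⟨1, [.a0], [.a0]⟩,
  ⟨2, [.a1, .a7, .a9], [.a1, .a2, .a6, .a7, .a9]⟩,
  ⟨4, [.a2, .a6], [.a2, .a6]⟩,
  ⟨8, [.a3, .a6, .a8], [.a3, .a6, .a8]⟩,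
  ⟨32, [.a5], [.a5]⟩]
def B494 : List Gv := [⟨[.a0], [.a0]⟩, ⟨[.a1, .a7, .a9], [.a1, .a2, .a6, .a7, .a9]⟩, ⟨[.a3, .a6, .a8], [.a3, .a6, .a8]⟩]
def D494 : List Dv := [⟨[.a2, .a6], [1, 0], [0, 1]⟩,
  ⟨[.a5], [0, 2, 2], []⟩]
theorem bad494 (c : CtxF Goal γ) : Bad Goal γ [] P494 :=
  c.toCtx.cent (B := B494) (D := D494) (I := [2, 3, 1, 4, 0]) (z := [.a2, .a3]) (by decide +kernel) (by decide +kernel)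

def P495 : List Ent := [⟨1, [.a0], [.a0]⟩,
  ⟨2, [.a1, .a7, .a8, .a9], [.a1, .a2, .a6, .a7, .a8, .a9]⟩,
  ⟨4, [.a2, .a6], [.a2, .a6]⟩,
  ⟨8, [.a3, .a6, .a8], [.a3, .a6, .a8]⟩,
  ⟨32, [.a5], [.a5]⟩]
def B495 : List Gv := [⟨[.a0], [.a0]⟩, ⟨[.a1, .a7, .a8, .a9], [.a1, .a2, .a6, .a7, .a8, .a9]⟩, ⟨[.a3, .a6, .a8], [.a3, .a6, .a8]⟩]
def D495 : List Dv := [⟨[.a2, .a5, .a6], [1, 0], [0, 1]⟩,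
  ⟨[.a5], [3, 1], [1, 3]⟩,
  ⟨[.a2, .a6], [1], [0]⟩]
theorem bad495 (c : CtxF Goal γ) : Bad Goal γ [] P495 :=
  c.toCtx.cent (B := B495) (D := D495) (I := [3, 4, 0, 5, 1]) (z := [.a2, .a3]) (by decide +kernel) (by decide +kernel)

def P496 : List Ent := [⟨1, [.a0], [.a0]⟩,
  ⟨2, [.a1, .a7, .a9], [.a1, .a2, .a6, .a7, .a9]⟩,
  ⟨4, [.a2, .a6], [.a2, .a6]⟩,
  ⟨8, [.a3], [.a3]⟩,
  ⟨32, [.a5], [.a5]⟩]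
def B496 : List Gv := [⟨[.a0], [.a0]⟩, ⟨[.a1, .a7, .a9], [.a1, .a2, .a6, .a7, .a9]⟩, ⟨[.a3], [.a3]⟩]
def D496 : List Dv := [⟨[.a2, .a6], [1, 0], [0, 1]⟩,
  ⟨[.a5], [0, 2, 2], []⟩]
theorem bad496 (c : CtxF Goal γ) : Bad Goal γ [] P496 :=
  c.toCtx.cent (B := B496) (D := D496) (I := [2, 3, 1, 4, 0]) (z := [.a2, .a3]) (by decide +kernel) (by decide +kernel)

def P497 : List Ent := [⟨1, [.a0], [.a0]⟩,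
  ⟨2, [.a1, .a6, .a7, .a9], [.a1, .a2, .a5, .a7, .a9]⟩,
  ⟨4, [.a2, .a6], [.a2, .a6]⟩,
  ⟨8, [.a3], [.a3]⟩,
  ⟨32, [.a5], [.a5]⟩]
def B497 : List Gv := [⟨[.a0], [.a0]⟩, ⟨[.a1, .a6, .a7, .a9], [.a1, .a2, .a5, .a7, .a9]⟩, ⟨[.a3], [.a3]⟩]
def D497 : List Dv := [⟨[.a2, .a6], [1, 0], [0, 1]⟩,
  ⟨[.a5], [3, 2], [2, 3]⟩]
theorem bad497 (c : CtxF Goal γ) : Bad Goal γ [] P497 :=
  c.toCtx.cent (B := B497) (D := D497) (I := [2, 3, 1, 4, 0]) (z := [.a2, .a3]) (by decide +kernel) (by decide +kernel)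

def P498 : List Ent := [⟨1, [.a0], [.a0]⟩,
  ⟨2, [.a1, .a7, .a9], [.a1, .a2, .a6, .a7, .a9]⟩,
  ⟨4, [.a2], [.a2]⟩,
  ⟨32, [.a5], [.a5]⟩,
  ⟨64, [.a6], [.a6]⟩]
def B498 : List Gv := [⟨[.a0], [.a0]⟩, ⟨[.a1, .a7, .a9], [.a1, .a2, .a6, .a7, .a9]⟩, ⟨[.a2], [.a2]⟩]
def D498 : List Dv := [⟨[.a6], [2, 1, 0], [0, 1]⟩,
  ⟨[.a5, .a6], [3, 2, 2], []⟩,
  ⟨[.a5], [0], [1]⟩]
theorem bad498 (c : CtxF Goal γ) : Bad Goal γ [] P498 :=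
  c.toCtx.cent (B := B498) (D := D498) (I := [3, 4, 5, 0, 2]) (z := [.a2, .a3]) (by decide +kernel) (by decide +kernel)

def P499 : List Ent := [⟨1, [.a0, .a8], [.a0, .a5, .a8]⟩,
  ⟨2, [.a1, .a7, .a9], [.a1, .a2, .a6, .a7, .a9]⟩,
  ⟨4, [.a2, .a6], [.a2, .a6]⟩,
  ⟨8, [.a3], [.a3]⟩,
  ⟨32, [.a5], [.a5]⟩]
def B499 : List Gv := [⟨[.a0, .a8], [.a0, .a5, .a8]⟩, ⟨[.a1, .a7, .a9], [.a1, .a2, .a6, .a7, .a9]⟩, ⟨[.a3], [.a3]⟩]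
def D499 : List Dv := [⟨[.a5], [0, 0], []⟩,
  ⟨[.a2, .a6], [2, 1], [1, 2]⟩]
theorem bad499 (c : CtxF Goal γ) : Bad Goal γ [] P499 :=
  c.toCtx.cent (B := B499) (D := D499) (I := [2, 3, 0, 4, 1]) (z := [.a2, .a3]) (by decide +kernel) (by decide +kernel)

def P500 : List Ent := [⟨1, [.a0, .a8], [.a0, .a5, .a8]⟩,
  ⟨2, [.a1, .a6, .a7, .a9], [.a1, .a2, .a5, .a7, .a9]⟩,
  ⟨4, [.a2, .a6], [.a2, .a6]⟩,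
  ⟨8, [.a3], [.a3]⟩,
  ⟨32, [.a5], [.a5]⟩]
def B500 : List Gv := [⟨[.a0, .a8], [.a0, .a5, .a8]⟩, ⟨[.a1, .a6, .a7, .a9], [.a1, .a2, .a5, .a7, .a9]⟩, ⟨[.a3], [.a3]⟩]
def D500 : List Dv := [⟨[.a5], [0, 0], []⟩,
  ⟨[.a2, .a6], [2, 1], [1, 2]⟩]
theorem bad500 (c : CtxF Goal γ) : Bad Goal γ [] P500 :=
  c.toCtx.cent (B := B500) (D := D500) (I := [2, 3, 0, 4, 1]) (z := [.a2, .a3]) (by decide +kernel) (by decide +kernel)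

def P501 : List Ent := [⟨1, [.a0, .a8], [.a0, .a5, .a8]⟩,
  ⟨2, [.a1, .a7, .a9], [.a1, .a2, .a6, .a7, .a9]⟩,
  ⟨4, [.a2], [.a2]⟩,
  ⟨32, [.a5], [.a5]⟩,
  ⟨64, [.a6], [.a6]⟩]
def B501 : List Gv := [⟨[.a0, .a8], [.a0, .a5, .a8]⟩, ⟨[.a1, .a7, .a9], [.a1, .a2, .a6, .a7, .a9]⟩, ⟨[.a2], [.a2]⟩]
def D501 : List Dv := [⟨[.a5], [0, 0], []⟩,
  ⟨[.a6], [3, 2, 1], [1, 2]⟩]
theorem bad501 (c : CtxF Goal γ) : Bad Goal γ [] P501 :=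
  c.toCtx.cent (B := B501) (D := D501) (I := [2, 3, 4, 1, 0]) (z := [.a2, .a3]) (by decide +kernel) (by decide +kernel)

def P502 : List Ent := [⟨1, [.a0, .a10], [.a0, .a1, .a2, .a3, .a4, .a6, .a8, .a9, .a10, .a11]⟩,
  ⟨2, [.a1, .a3, .a6, .a7, .a9, .a11], [.a1, .a2, .a3, .a5, .a6, .a7, .a8, .a11]⟩,
  ⟨4, [.a2, .a6, .a9], [.a2, .a5, .a6, .a9]⟩,
  ⟨32, [.a5], [.a5]⟩,
  ⟨256, [.a8], [.a8]⟩]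
def B502 : List Gv := [⟨[.a0, .a10], [.a0, .a1, .a2, .a3, .a4, .a6, .a8, .a9, .a10, .a11]⟩, ⟨[.a1, .a3, .a6, .a7, .a9, .a11], [.a1, .a2, .a3, .a5, .a6, .a7, .a8, .a11]⟩]
def D502 : List Dv := [⟨[.a2, .a5, .a6, .a8, .a9], [1, 0, 0], []⟩,
  ⟨[.a5], [2, 1], [1, 2]⟩,
  ⟨[.a8], [1, 3, 3], []⟩,
  ⟨[.a2, .a6, .a9], [2], [1, 0]⟩]
def C502 : List Ch := [⟨P93, 0, [.a0, .a1, .a3, .a5, .a6, .a7, .a8, .a9, .a10], [.a0, .a10, .a11]⟩,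
  ⟨P152, 1, [], []⟩,
  ⟨P152, 0, [.a6], [.a6]⟩]
def N502 : List Ent := [⟨1, [.a0, .a10], [.a0, .a1, .a2, .a3, .a4, .a6, .a8, .a9, .a10, .a11]⟩,
  ⟨2, [.a1, .a3, .a6, .a7, .a9, .a11], [.a1, .a2, .a3, .a5, .a6, .a7, .a8, .a11]⟩,
  ⟨4, [.a2, .a6, .a9], [.a2, .a5, .a6, .a9]⟩,
  ⟨32, [.a5], [.a5]⟩,
  ⟨64, [.a6], [.a6]⟩,
  ⟨128, [.a7], [.a7, .a8]⟩,
  ⟨256, [.a8], [.a8]⟩]
theorem bad502 (c : CtxF Goal γ) : Bad Goal γ [] P502 :=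
  c.toCtx.bnd (B := B502) (D := D502) (I := [4, 5, 0, 2, 1]) (r := 2) (C := C502) (N := N502) (by decide +kernel) (by decide +kernel) (by decide +kernel) (by decide +kernel)
    (allB_cons (bad93 c) (allB_cons (bad152 c) (allB_cons (bad152 c) (allB_nil))))

def P503 : List Ent := [⟨1, [.a0, .a7], [.a0, .a2, .a3, .a5, .a7, .a8]⟩,
  ⟨4, [.a2, .a3, .a8], [.a2, .a3, .a8]⟩,
  ⟨16, [.a4, .a7, .a8, .a9], [.a4, .a5, .a6, .a7, .a8, .a9]⟩,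
  ⟨32, [.a5, .a6], [.a5, .a6]⟩,
  ⟨2048, [.a11], [.a11]⟩]
def B503 : List Gv := [⟨[.a0, .a7], [.a0, .a2, .a3, .a5, .a7, .a8]⟩, ⟨[.a11], [.a11]⟩]
def D503 : List Dv := [⟨[.a2, .a3, .a8], [0, 0], []⟩,
  ⟨[.a4, .a7, .a8, .a9], [0, 2, 1], [1, 2]⟩,
  ⟨[.a5, .a6], [1, 3], [3, 1]⟩]
theorem bad503 (c : CtxF Goal γ) : Bad Goal γ [] P503 :=
  c.toCtx.cent (B := B503) (D := D503) (I := [3, 2, 1, 0, 4]) (z := [.a5]) (by decide +kernel) (by decide +kernel)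

def P504 : List Ent := [⟨1, [.a0, .a7], [.a0, .a2, .a3, .a5, .a7, .a8]⟩,
  ⟨4, [.a2, .a3, .a8], [.a2, .a3, .a8]⟩,
  ⟨16, [.a4, .a7, .a8, .a9], [.a4, .a5, .a6, .a7, .a8, .a9]⟩,
  ⟨32, [.a5], [.a5]⟩,
  ⟨64, [.a6], [.a6]⟩]
def B504 : List Gv := [⟨[.a0, .a7], [.a0, .a2, .a3, .a5, .a7, .a8]⟩, ⟨[.a4, .a7, .a8, .a9], [.a4, .a5, .a6, .a7, .a8, .a9]⟩, ⟨[.a5], [.a5]⟩]
def D504 : List Dv := [⟨[.a2, .a3, .a8], [0, 0], []⟩,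
  ⟨[.a6], [3, 2, 2], []⟩]
def C504 : List Ch := [⟨P77, 0, [.a4, .a10], [.a4, .a5, .a10, .a11]⟩,
  ⟨P153, 1, [], []⟩,
  ⟨P153, 0, [.a11], [.a11]⟩,
  ⟨P154, 2, [], []⟩,
  ⟨P154, 0, [.a0, .a2, .a3, .a7], [.a0, .a7, .a8]⟩,
  ⟨P154, 1, [.a2], [.a2]⟩,
  ⟨P154, 0, [.a3], [.a3]⟩]
def N504 : List Ent := [⟨1, [.a0, .a7], [.a0, .a2, .a3, .a5, .a7, .a8]⟩,
  ⟨4, [.a2, .a3, .a8], [.a2, .a3, .a8]⟩,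
  ⟨8, [.a3], [.a3]⟩,
  ⟨16, [.a4, .a7, .a8, .a9], [.a4, .a5, .a6, .a7, .a8, .a9]⟩,
  ⟨32, [.a5], [.a5]⟩,
  ⟨64, [.a6], [.a6]⟩,
  ⟨256, [.a8], [.a8]⟩,
  ⟨2048, [.a11], [.a11]⟩]
theorem bad504 (c : CtxF Goal γ) : Bad Goal γ [] P504 :=
  c.toCtx.bnd (B := B504) (D := D504) (I := [2, 1, 3, 4, 0]) (r := 3) (C := C504) (N := N504) (by decide +kernel) (by decide +kernel) (by decide +kernel) (by decide +kernel)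
    (allB_cons (bad77 c) (allB_cons (bad153 c) (allB_cons (bad153 c) (allB_cons (bad154 c) (allB_cons (bad154 c) (allB_cons (bad154 c) (allB_cons (bad154 c) (allB_nil))))))))

def P505 : List Ent := [⟨1, [.a0, .a7, .a11], [.a0, .a4, .a5, .a9, .a11]⟩,
  ⟨4, [.a2, .a3, .a8], [.a2, .a3, .a8]⟩,
  ⟨16, [.a4, .a7, .a8, .a9], [.a4, .a5, .a6, .a7, .a8, .a9]⟩,
  ⟨32, [.a5], [.a5]⟩,
  ⟨64, [.a6], [.a6]⟩]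
def B505 : List Gv := [⟨[.a0, .a7, .a11], [.a0, .a4, .a5, .a9, .a11]⟩, ⟨[.a2, .a3, .a8], [.a2, .a3, .a8]⟩, ⟨[.a5], [.a5]⟩]
def D505 : List Dv := [⟨[.a4, .a7, .a8, .a9], [0, 0], []⟩,
  ⟨[.a6], [3, 2, 1], [1, 2]⟩]
def C505 : List Ch := [⟨P77, 0, [.a4, .a10], [.a4, .a5, .a10, .a11]⟩,
  ⟨P155, 1, [], []⟩,
  ⟨P155, 0, [.a0, .a2, .a3, .a7], [.a0, .a7, .a8]⟩,
  ⟨P156, 2, [], []⟩,
  ⟨P156, 0, [.a0, .a2, .a3, .a7], [.a0, .a7, .a8]⟩,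
  ⟨P156, 1, [.a0, .a2], [.a0, .a2]⟩,
  ⟨P156, 0, [.a0, .a3], [.a0, .a3]⟩]
def N505 : List Ent := [⟨1, [.a0, .a7, .a11], [.a0, .a4, .a5, .a9, .a11]⟩,
  ⟨4, [.a2, .a3, .a8], [.a2, .a3, .a8]⟩,
  ⟨8, [.a3, .a7], [.a3, .a5, .a7, .a8]⟩,
  ⟨16, [.a4, .a7, .a8, .a9], [.a4, .a5, .a6, .a7, .a8, .a9]⟩,
  ⟨32, [.a5], [.a5]⟩,
  ⟨64, [.a6], [.a6]⟩,
  ⟨256, [.a8], [.a8]⟩,
  ⟨2048, [.a11], [.a11]⟩]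
theorem bad505 (c : CtxF Goal γ) : Bad Goal γ [] P505 :=
  c.toCtx.bnd (B := B505) (D := D505) (I := [2, 3, 1, 4, 0]) (r := 3) (C := C505) (N := N505) (by decide +kernel) (by decide +kernel) (by decide +kernel) (by decide +kernel)
    (allB_cons (bad77 c) (allB_cons (bad155 c) (allB_cons (bad155 c) (allB_cons (bad156 c) (allB_cons (bad156 c) (allB_cons (bad156 c) (allB_cons (bad156 c) (allB_nil))))))))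

def P506 : List Ent := [⟨1, [.a0, .a7], [.a0, .a2, .a3, .a5, .a7, .a8]⟩,
  ⟨4, [.a2, .a3, .a8], [.a2, .a3, .a8]⟩,
  ⟨16, [.a4, .a7, .a8, .a9], [.a4, .a5, .a6, .a7, .a8, .a9]⟩,
  ⟨32, [.a5, .a11], [.a5, .a11]⟩,
  ⟨64, [.a6, .a11], [.a6, .a11]⟩]
def B506 : List Gv := [⟨[.a0, .a7], [.a0, .a2, .a3, .a5, .a7, .a8]⟩, ⟨[.a5, .a11], [.a5, .a11]⟩]
def D506 : List Dv := [⟨[.a2, .a3, .a8], [0, 0], []⟩,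
  ⟨[.a4, .a7, .a8, .a9], [0, 2, 1], [1, 2]⟩,
  ⟨[.a6, .a11], [3, 1, 3], [3, 1]⟩]
theorem bad506 (c : CtxF Goal γ) : Bad Goal γ [] P506 :=
  c.toCtx.cent (B := B506) (D := D506) (I := [3, 2, 1, 4, 0]) (z := [.a5]) (by decide +kernel) (by decide +kernel)

def P507 : List Ent := [⟨1, [.a0, .a7], [.a0, .a2, .a3, .a5, .a7, .a8]⟩,
  ⟨4, [.a2, .a3, .a8], [.a2, .a3, .a8]⟩,
  ⟨16, [.a4, .a7, .a9], [.a4, .a5, .a6, .a7, .a9]⟩,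
  ⟨32, [.a5], [.a5]⟩,
  ⟨64, [.a6], [.a6]⟩]
def B507 : List Gv := [⟨[.a0, .a7], [.a0, .a2, .a3, .a5, .a7, .a8]⟩, ⟨[.a4, .a7, .a9], [.a4, .a5, .a6, .a7, .a9]⟩]
def D507 : List Dv := [⟨[.a2, .a3, .a8], [0, 0], []⟩,
  ⟨[.a5], [2, 1], [1, 2]⟩,
  ⟨[.a6], [0, 3, 3], []⟩]
theorem bad507 (c : CtxF Goal γ) : Bad Goal γ [] P507 :=
  c.toCtx.cent (B := B507) (D := D507) (I := [3, 2, 4, 1, 0]) (z := [.a0, .a2, .a7]) (by decide +kernel) (by decide +kernel)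

def P508 : List Ent := [⟨1, [.a0, .a7], [.a0, .a2, .a3, .a5, .a7, .a8]⟩,
  ⟨4, [.a2, .a3], [.a2, .a3]⟩,
  ⟨32, [.a5], [.a5]⟩,
  ⟨64, [.a6], [.a6]⟩,
  ⟨256, [.a8], [.a8]⟩]
def B508 : List Gv := [⟨[.a0, .a7], [.a0, .a2, .a3, .a5, .a7, .a8]⟩, ⟨[.a2, .a3], [.a2, .a3]⟩, ⟨[.a6], [.a6]⟩]
def D508 : List Dv := [⟨[.a8], [1, 0, 0], []⟩,
  ⟨[.a5], [2, 1], [1, 2]⟩]
theorem bad508 (c : CtxF Goal γ) : Bad Goal γ [] P508 :=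
  c.toCtx.cent (B := B508) (D := D508) (I := [2, 3, 0, 4, 1]) (z := [.a2]) (by decide +kernel) (by decide +kernel)

def P509 : List Ent := [⟨1, [.a0, .a7, .a11], [.a0, .a4, .a5, .a9, .a11]⟩,
  ⟨16, [.a4, .a7, .a9], [.a4, .a5, .a6, .a7, .a9]⟩,
  ⟨32, [.a5], [.a5]⟩,
  ⟨64, [.a6], [.a6]⟩,
  ⟨256, [.a8], [.a8]⟩]
def B509 : List Gv := [⟨[.a0, .a7, .a11], [.a0, .a4, .a5, .a9, .a11]⟩, ⟨[.a4, .a7, .a9], [.a4, .a5, .a6, .a7, .a9]⟩]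
def D509 : List Dv := [⟨[.a5, .a6, .a8], [1, 0, 0], []⟩,
  ⟨[.a6, .a8], [0, 2, 1], [1, 2]⟩,
  ⟨[.a8], [1, 3, 3], []⟩,
  ⟨[.a6], [1], [0]⟩,
  ⟨[.a5], [3], [0, 1]⟩]
def C509 : List Ch := [⟨P32, 0, [.a10], [.a10, .a11]⟩,
  ⟨P155, 1, [], []⟩,
  ⟨P155, 0, [.a0], [.a0]⟩]
def N509 : List Ent := [⟨1, [.a0, .a7, .a11], [.a0, .a4, .a5, .a9, .a11]⟩,
  ⟨4, [.a2], [.a2]⟩,
  ⟨8, [.a3], [.a3]⟩,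
  ⟨16, [.a4, .a7, .a9], [.a4, .a5, .a6, .a7, .a9]⟩,
  ⟨32, [.a5], [.a5]⟩,
  ⟨64, [.a6], [.a6]⟩,
  ⟨128, [.a7, .a11], [.a7, .a8, .a11]⟩,
  ⟨256, [.a8], [.a8]⟩]
theorem bad509 (c : CtxF Goal γ) : Bad Goal γ [] P509 :=
  c.toCtx.bnd (B := B509) (D := D509) (I := [5, 6, 0, 1, 2]) (r := 2) (C := C509) (N := N509) (by decide +kernel) (by decide +kernel) (by decide +kernel) (by decide +kernel)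
    (allB_cons (bad32 c) (allB_cons (bad155 c) (allB_cons (bad155 c) (allB_nil))))

def P510 : List Ent := [⟨1, [.a0, .a7, .a11], [.a0, .a4, .a5, .a9, .a11]⟩,
  ⟨4, [.a2, .a3], [.a2, .a3]⟩,
  ⟨16, [.a4, .a7, .a8, .a9], [.a4, .a5, .a6, .a7, .a8, .a9]⟩,
  ⟨32, [.a5], [.a5]⟩,
  ⟨64, [.a6], [.a6]⟩]
def B510 : List Gv := [⟨[.a0, .a7, .a11], [.a0, .a4, .a5, .a9, .a11]⟩, ⟨[.a2, .a3], [.a2, .a3]⟩]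
def D510 : List Dv := [⟨[.a4, .a7, .a8, .a9], [0, 0], []⟩,
  ⟨[.a6], [2, 1], [1, 2]⟩,
  ⟨[.a5, .a6], [1, 1], []⟩,
  ⟨[.a5], [0], [1]⟩]
def C510 : List Ch := [⟨P78, 0, [.a4, .a10], [.a4, .a5, .a10, .a11]⟩,
  ⟨P155, 1, [], []⟩,
  ⟨P155, 0, [.a7], [.a7, .a8]⟩]
def N510 : List Ent := [⟨1, [.a0, .a7, .a11], [.a0, .a4, .a5, .a9, .a11]⟩,
  ⟨4, [.a2, .a3], [.a2, .a3]⟩,
  ⟨8, [.a3, .a11], [.a3, .a8, .a11]⟩,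
  ⟨16, [.a4, .a7, .a8, .a9], [.a4, .a5, .a6, .a7, .a8, .a9]⟩,
  ⟨32, [.a5], [.a5]⟩,
  ⟨64, [.a6], [.a6]⟩,
  ⟨128, [.a7], [.a7, .a8]⟩,
  ⟨256, [.a8], [.a8]⟩]
theorem bad510 (c : CtxF Goal γ) : Bad Goal γ [] P510 :=
  c.toCtx.bnd (B := B510) (D := D510) (I := [4, 5, 3, 0, 2]) (r := 2) (C := C510) (N := N510) (by decide +kernel) (by decide +kernel) (by decide +kernel) (by decide +kernel)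
    (allB_cons (bad78 c) (allB_cons (bad155 c) (allB_cons (bad155 c) (allB_nil))))

def P511 : List Ent := [⟨1, [.a0, .a7], [.a0, .a2, .a3, .a5, .a7, .a8]⟩,
  ⟨4, [.a2, .a8], [.a2, .a8]⟩,
  ⟨8, [.a3], [.a3]⟩,
  ⟨32, [.a5], [.a5]⟩,
  ⟨64, [.a6], [.a6]⟩]
def B511 : List Gv := [⟨[.a0, .a7], [.a0, .a2, .a3, .a5, .a7, .a8]⟩, ⟨[.a2, .a8], [.a2, .a8]⟩, ⟨[.a6], [.a6]⟩]
def D511 : List Dv := [⟨[.a3], [1, 0, 0], []⟩,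
  ⟨[.a5], [2, 1], [1, 2]⟩]
theorem bad511 (c : CtxF Goal γ) : Bad Goal γ [] P511 :=
  c.toCtx.cent (B := B511) (D := D511) (I := [2, 3, 1, 0, 4]) (z := [.a2]) (by decide +kernel) (by decide +kernel)

def P512 : List Ent := [⟨1, [.a0, .a4, .a8, .a9], [.a0, .a2, .a3, .a4, .a5, .a6, .a9]⟩,
  ⟨4, [.a2, .a8], [.a2, .a8]⟩,
  ⟨8, [.a3], [.a3]⟩,
  ⟨32, [.a5], [.a5]⟩,
  ⟨64, [.a6], [.a6]⟩]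
def B512 : List Gv := [⟨[.a0, .a4, .a8, .a9], [.a0, .a2, .a3, .a4, .a5, .a6, .a9]⟩, ⟨[.a2, .a8], [.a2, .a8]⟩, ⟨[.a3], [.a3]⟩, ⟨[.a5], [.a5]⟩]
def D512 : List Dv := [⟨[.a6], [2, 1, 0, 0], []⟩]
def C512 : List Ch := [⟨P131, 0, [], []⟩,
  ⟨P157, 1, [], []⟩,
  ⟨P157, 0, [.a4], [.a4, .a5]⟩,
  ⟨P158, 2, [], []⟩,
  ⟨P159, 0, [], []⟩,
  ⟨P153, 1, [.a0, .a2, .a3, .a4, .a5, .a6, .a7, .a9, .a11], [.a0, .a11]⟩,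
  ⟨P153, 0, [.a1, .a11], [.a1, .a2, .a5, .a6, .a9, .a11]⟩,
  ⟨P160, 3, [], []⟩,
  ⟨P160, 0, [.a4], [.a4, .a5]⟩,
  ⟨P160, 1, [.a0, .a1], [.a0, .a1, .a2]⟩,
  ⟨P160, 0, [.a1, .a9], [.a1, .a2, .a6, .a8, .a9]⟩,
  ⟨P160, 2, [.a1, .a7], [.a1, .a2, .a7, .a8]⟩,
  ⟨P160, 0, [.a1, .a3, .a4, .a5, .a6, .a7], [.a1, .a2, .a4, .a5, .a7, .a8]⟩,
  ⟨P160, 1, [.a0, .a2, .a3, .a7], [.a0, .a7, .a8]⟩,
  ⟨P160, 0, [.a0, .a7], [.a0, .a2, .a3, .a5, .a7, .a8]⟩]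
def N512 : List Ent := [⟨1, [.a0, .a4, .a8, .a9], [.a0, .a2, .a3, .a4, .a5, .a6, .a9]⟩,
  ⟨2, [.a1, .a9], [.a1, .a2, .a6, .a8, .a9]⟩,
  ⟨4, [.a2, .a8], [.a2, .a8]⟩,
  ⟨8, [.a3], [.a3]⟩,
  ⟨16, [.a4], [.a4, .a5]⟩,
  ⟨32, [.a5], [.a5]⟩,
  ⟨64, [.a6], [.a6]⟩,
  ⟨128, [.a7, .a9], [.a7, .a8, .a9]⟩,
  ⟨256, [.a8], [.a8]⟩]
theorem bad512 (c : CtxF Goal γ) : Bad Goal γ [] P512 :=
  c.toCtx.bnd (B := B512) (D := D512) (I := [1, 2, 3, 4, 0]) (r := 4) (C := C512) (N := N512) (by decide +kernel) (by decide +kernel) (by decide +kernel) (by decide +kernel)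
    (allB_cons (bad131 c) (allB_cons (bad157 c) (allB_cons (bad157 c) (allB_cons (bad158 c) (allB_cons (bad159 c) (allB_cons (bad153 c) (allB_cons (bad153 c) (allB_cons (bad160 c) (allB_cons (bad160 c) (allB_cons (bad160 c) (allB_cons (bad160 c) (allB_cons (bad160 c) (allB_cons (bad160 c) (allB_cons (bad160 c) (allB_cons (bad160 c) (allB_nil))))))))))))))))

def P513 : List Ent := [⟨1, [.a0, .a7], [.a0, .a2, .a3, .a5, .a7, .a8]⟩,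
  ⟨4, [.a2], [.a2]⟩,
  ⟨8, [.a3], [.a3]⟩,
  ⟨32, [.a5], [.a5]⟩,
  ⟨256, [.a8], [.a8]⟩]
def B513 : List Gv := [⟨[.a0, .a7], [.a0, .a2, .a3, .a5, .a7, .a8]⟩, ⟨[.a2], [.a2]⟩, ⟨[.a3], [.a3]⟩]
def D513 : List Dv := [⟨[.a8], [2, 1, 0, 0], []⟩,
  ⟨[.a5], [3, 1], [1, 3]⟩]
theorem bad513 (c : CtxF Goal γ) : Bad Goal γ [] P513 :=
  c.toCtx.cent (B := B513) (D := D513) (I := [2, 3, 4, 0, 1]) (z := [.a1]) (by decide +kernel) (by decide +kernel)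

def P514 : List Ent := [⟨1, [.a0, .a7], [.a0, .a2, .a3, .a5, .a7, .a8]⟩,
  ⟨4, [.a2, .a8], [.a2, .a8]⟩,
  ⟨8, [.a3], [.a3]⟩,
  ⟨32, [.a5], [.a5]⟩,
  ⟨64, [.a6, .a8], [.a6, .a8]⟩]
def B514 : List Gv := [⟨[.a0, .a7], [.a0, .a2, .a3, .a5, .a7, .a8]⟩, ⟨[.a2, .a8], [.a2, .a8]⟩, ⟨[.a6, .a8], [.a6, .a8]⟩]
def D514 : List Dv := [⟨[.a3], [1, 0, 0], []⟩,
  ⟨[.a5], [2, 1], [1, 2]⟩]
theorem bad514 (c : CtxF Goal γ) : Bad Goal γ [] P514 :=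
  c.toCtx.cent (B := B514) (D := D514) (I := [2, 3, 1, 0, 4]) (z := [.a2]) (by decide +kernel) (by decide +kernel)

def P515 : List Ent := [⟨1, [.a0, .a7], [.a0, .a2, .a3, .a5, .a7, .a8]⟩,
  ⟨4, [.a2], [.a2]⟩,
  ⟨8, [.a3, .a8], [.a3, .a8]⟩,
  ⟨32, [.a5], [.a5]⟩,
  ⟨64, [.a6, .a8], [.a6, .a8]⟩]
def B515 : List Gv := [⟨[.a0, .a7], [.a0, .a2, .a3, .a5, .a7, .a8]⟩, ⟨[.a2], [.a2]⟩, ⟨[.a6, .a8], [.a6, .a8]⟩]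
def D515 : List Dv := [⟨[.a3, .a8], [1, 0, 0], []⟩,
  ⟨[.a5], [3, 1], [1, 3]⟩]
theorem bad515 (c : CtxF Goal γ) : Bad Goal γ [] P515 :=
  c.toCtx.cent (B := B515) (D := D515) (I := [2, 3, 1, 0, 4]) (z := [.a6]) (by decide +kernel) (by decide +kernel)

def P516 : List Ent := [⟨1, [.a0, .a7], [.a0, .a2, .a3, .a5, .a7, .a8]⟩,
  ⟨4, [.a2, .a6], [.a2, .a6]⟩,
  ⟨8, [.a3, .a6], [.a3, .a6]⟩,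
  ⟨32, [.a5], [.a5]⟩,
  ⟨256, [.a8], [.a8]⟩]
def B516 : List Gv := [⟨[.a0, .a7], [.a0, .a2, .a3, .a5, .a7, .a8]⟩, ⟨[.a2, .a6], [.a2, .a6]⟩, ⟨[.a3, .a6], [.a3, .a6]⟩]
def D516 : List Dv := [⟨[.a8], [2, 1, 0, 0], []⟩,
  ⟨[.a5], [3, 1], [1, 3]⟩]
theorem bad516 (c : CtxF Goal γ) : Bad Goal γ [] P516 :=
  c.toCtx.cent (B := B516) (D := D516) (I := [2, 3, 4, 0, 1]) (z := [.a2]) (by decide +kernel) (by decide +kernel)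

def P517 : List Ent := [⟨1, [.a0, .a6, .a7], [.a0, .a2, .a3, .a5, .a6, .a7, .a8]⟩,
  ⟨4, [.a2, .a6], [.a2, .a6]⟩,
  ⟨8, [.a3, .a6], [.a3, .a6]⟩,
  ⟨32, [.a5], [.a5]⟩,
  ⟨256, [.a8], [.a8]⟩]
def B517 : List Gv := [⟨[.a0, .a6, .a7], [.a0, .a2, .a3, .a5, .a6, .a7, .a8]⟩, ⟨[.a2, .a6], [.a2, .a6]⟩, ⟨[.a3, .a6], [.a3, .a6]⟩]
def D517 : List Dv := [⟨[.a8], [2, 1, 0, 0], []⟩,
  ⟨[.a5], [3, 1], [1, 3]⟩]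
theorem bad517 (c : CtxF Goal γ) : Bad Goal γ [] P517 :=
  c.toCtx.cent (B := B517) (D := D517) (I := [2, 3, 4, 0, 1]) (z := [.a2]) (by decide +kernel) (by decide +kernel)

def P518 : List Ent := [⟨1, [.a0, .a7, .a9], [.a0, .a2, .a6, .a7, .a8, .a9]⟩,
  ⟨4, [.a2, .a8], [.a2, .a8]⟩,
  ⟨8, [.a3], [.a3]⟩,
  ⟨32, [.a5], [.a5]⟩,
  ⟨64, [.a6], [.a6]⟩]
def B518 : List Gv := [⟨[.a0, .a7, .a9], [.a0, .a2, .a6, .a7, .a8, .a9]⟩, ⟨[.a2, .a8], [.a2, .a8]⟩, ⟨[.a3], [.a3]⟩]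
def D518 : List Dv := [⟨[.a5, .a6], [1, 0, 0], []⟩,
  ⟨[.a6], [0, 3, 1], [1, 3]⟩,
  ⟨[.a5], [1], [0]⟩]
theorem bad518 (c : CtxF Goal γ) : Bad Goal γ [] P518 :=
  c.toCtx.cent (B := B518) (D := D518) (I := [3, 4, 5, 0, 1]) (z := [.a2, .a3]) (by decide +kernel) (by decide +kernel)

def P519 : List Ent := [⟨1, [.a0, .a7, .a9], [.a0, .a2, .a6, .a7, .a8, .a9]⟩,
  ⟨4, [.a2], [.a2]⟩,
  ⟨32, [.a5], [.a5]⟩,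
  ⟨64, [.a6], [.a6]⟩,
  ⟨256, [.a8], [.a8]⟩]
def B519 : List Gv := [⟨[.a0, .a7, .a9], [.a0, .a2, .a6, .a7, .a8, .a9]⟩, ⟨[.a2], [.a2]⟩, ⟨[.a6], [.a6]⟩]
def D519 : List Dv := [⟨[.a5, .a6, .a8], [1, 0, 0], []⟩,
  ⟨[.a8], [3, 0, 2, 1], [1, 2]⟩,
  ⟨[.a5], [1], [4, 0]⟩]
theorem bad519 (c : CtxF Goal γ) : Bad Goal γ [] P519 :=
  c.toCtx.cent (B := B519) (D := D519) (I := [3, 4, 0, 5, 1]) (z := [.a2, .a3]) (by decide +kernel) (by decide +kernel)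

def P520 : List Ent := [⟨1, [.a0, .a7, .a9], [.a0, .a2, .a6, .a7, .a8, .a9]⟩,
  ⟨4, [.a2, .a8], [.a2, .a8]⟩,
  ⟨8, [.a3, .a8], [.a3, .a8]⟩,
  ⟨32, [.a5], [.a5]⟩,
  ⟨64, [.a6], [.a6]⟩]
def B520 : List Gv := [⟨[.a0, .a7, .a9], [.a0, .a2, .a6, .a7, .a8, .a9]⟩, ⟨[.a2, .a8], [.a2, .a8]⟩, ⟨[.a3, .a8], [.a3, .a8]⟩, ⟨[.a5], [.a5]⟩]
def D520 : List Dv := [⟨[.a6], [3, 1, 0, 0], []⟩]
def C520 : List Ch := [⟨P119, 0, [.a11], [.a11]⟩,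
  ⟨P161, 1, [], []⟩,
  ⟨P161, 0, [.a7], [.a7, .a8]⟩,
  ⟨P162, 2, [], []⟩,
  ⟨P162, 0, [.a7], [.a7, .a8]⟩,
  ⟨P163, 1, [], []⟩,
  ⟨P163, 0, [.a0, .a1], [.a0, .a1, .a2]⟩,
  ⟨P164, 3, [], []⟩,
  ⟨P164, 0, [.a3], [.a3]⟩,
  ⟨P164, 1, [.a1, .a9], [.a1, .a2, .a6, .a8, .a9]⟩,
  ⟨P164, 0, [.a1, .a5, .a6, .a8, .a9], [.a1, .a2, .a9]⟩,
  ⟨P164, 2, [.a3, .a7], [.a3, .a5, .a7, .a8]⟩,
  ⟨P164, 0, [.a7], [.a7, .a8]⟩,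
  ⟨P164, 1, [.a0, .a1], [.a0, .a1, .a2]⟩,
  ⟨P164, 0, [.a0, .a1, .a3], [.a0, .a1, .a2, .a3]⟩]
def N520 : List Ent := [⟨1, [.a0, .a7, .a9], [.a0, .a2, .a6, .a7, .a8, .a9]⟩,
  ⟨2, [.a1, .a9], [.a1, .a2, .a6, .a8, .a9]⟩,
  ⟨4, [.a2, .a8], [.a2, .a8]⟩,
  ⟨8, [.a3, .a8], [.a3, .a8]⟩,
  ⟨16, [.a4], [.a4, .a5]⟩,
  ⟨32, [.a5], [.a5]⟩,
  ⟨64, [.a6], [.a6]⟩,
  ⟨128, [.a7], [.a7, .a8]⟩,
  ⟨256, [.a8], [.a8]⟩]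
theorem bad520 (c : CtxF Goal γ) : Bad Goal γ [] P520 :=
  c.toCtx.bnd (B := B520) (D := D520) (I := [1, 2, 3, 4, 0]) (r := 4) (C := C520) (N := N520) (by decide +kernel) (by decide +kernel) (by decide +kernel) (by decide +kernel)
    (allB_cons (bad119 c) (allB_cons (bad161 c) (allB_cons (bad161 c) (allB_cons (bad162 c) (allB_cons (bad162 c) (allB_cons (bad163 c) (allB_cons (bad163 c) (allB_cons (bad164 c) (allB_cons (bad164 c) (allB_cons (bad164 c) (allB_cons (bad164 c) (allB_cons (bad164 c) (allB_cons (bad164 c) (allB_cons (bad164 c) (allB_cons (bad164 c) (allB_nil))))))))))))))))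

def P521 : List Ent := [⟨1, [.a0, .a7, .a9], [.a0, .a2, .a6, .a7, .a8, .a9]⟩,
  ⟨4, [.a2], [.a2]⟩,
  ⟨8, [.a3], [.a3]⟩,
  ⟨32, [.a5], [.a5]⟩,
  ⟨64, [.a6, .a8], [.a6, .a8]⟩]
def B521 : List Gv := [⟨[.a0, .a7, .a9], [.a0, .a2, .a6, .a7, .a8, .a9]⟩, ⟨[.a2], [.a2]⟩, ⟨[.a3], [.a3]⟩]
def D521 : List Dv := [⟨[.a5, .a6, .a8], [1, 0, 0], []⟩,
  ⟨[.a6, .a8], [0, 2, 1], [1, 2]⟩,
  ⟨[.a5], [1], [0]⟩]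
theorem bad521 (c : CtxF Goal γ) : Bad Goal γ [] P521 :=
  c.toCtx.cent (B := B521) (D := D521) (I := [3, 4, 5, 0, 1]) (z := [.a6]) (by decide +kernel) (by decide +kernel)

def P522 : List Ent := [⟨1, [.a0, .a7, .a9], [.a0, .a2, .a6, .a7, .a8, .a9]⟩,
  ⟨4, [.a2, .a6], [.a2, .a6]⟩,
  ⟨8, [.a3], [.a3]⟩,
  ⟨32, [.a5], [.a5]⟩,
  ⟨256, [.a8], [.a8]⟩]
def B522 : List Gv := [⟨[.a0, .a7, .a9], [.a0, .a2, .a6, .a7, .a8, .a9]⟩, ⟨[.a2, .a6], [.a2, .a6]⟩, ⟨[.a3], [.a3]⟩]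
def D522 : List Dv := [⟨[.a5, .a8], [1, 0, 0], []⟩,
  ⟨[.a8], [0, 2, 1], [1, 2]⟩,
  ⟨[.a5], [1], [0]⟩]
theorem bad522 (c : CtxF Goal γ) : Bad Goal γ [] P522 :=
  c.toCtx.cent (B := B522) (D := D522) (I := [3, 4, 5, 0, 1]) (z := [.a2, .a3]) (by decide +kernel) (by decide +kernel)

def P523 : List Ent := [⟨1, [.a0, .a7, .a9], [.a0, .a2, .a6, .a7, .a8, .a9]⟩,
  ⟨4, [.a2], [.a2]⟩,
  ⟨8, [.a3, .a8], [.a3, .a8]⟩,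
  ⟨32, [.a5], [.a5]⟩,
  ⟨64, [.a6, .a8], [.a6, .a8]⟩]
def B523 : List Gv := [⟨[.a0, .a7, .a9], [.a0, .a2, .a6, .a7, .a8, .a9]⟩, ⟨[.a2], [.a2]⟩, ⟨[.a3, .a8], [.a3, .a8]⟩]
def D523 : List Dv := [⟨[.a5, .a6, .a8], [1, 0, 0], []⟩,
  ⟨[.a6, .a8], [0, 2, 1], [1, 2]⟩,
  ⟨[.a5], [1], [0]⟩]
theorem bad523 (c : CtxF Goal γ) : Bad Goal γ [] P523 :=
  c.toCtx.cent (B := B523) (D := D523) (I := [3, 4, 5, 0, 1]) (z := [.a2, .a3]) (by decide +kernel) (by decide +kernel)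

def P524 : List Ent := [⟨1, [.a0, .a7, .a9], [.a0, .a2, .a6, .a7, .a8, .a9]⟩,
  ⟨4, [.a2, .a6], [.a2, .a6]⟩,
  ⟨8, [.a3, .a6], [.a3, .a6]⟩,
  ⟨32, [.a5], [.a5]⟩,
  ⟨256, [.a8], [.a8]⟩]
def B524 : List Gv := [⟨[.a0, .a7, .a9], [.a0, .a2, .a6, .a7, .a8, .a9]⟩, ⟨[.a2, .a6], [.a2, .a6]⟩, ⟨[.a3, .a6], [.a3, .a6]⟩]
def D524 : List Dv := [⟨[.a5, .a8], [1, 0, 0], []⟩,
  ⟨[.a8], [0, 2, 1], [1, 2]⟩,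
  ⟨[.a5], [1], [0]⟩]
theorem bad524 (c : CtxF Goal γ) : Bad Goal γ [] P524 :=
  c.toCtx.cent (B := B524) (D := D524) (I := [3, 4, 5, 0, 1]) (z := [.a6]) (by decide +kernel) (by decide +kernel)

def P525 : List Ent := [⟨1, [.a0, .a7], [.a0, .a2, .a3, .a5, .a7, .a8]⟩,
  ⟨2, [.a1, .a7, .a9], [.a1, .a2, .a6, .a7, .a9]⟩,
  ⟨4, [.a2, .a6], [.a2, .a6]⟩,
  ⟨8, [.a3, .a6, .a8], [.a3, .a6, .a8]⟩,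
  ⟨32, [.a5], [.a5]⟩]
def B525 : List Gv := [⟨[.a0, .a7], [.a0, .a2, .a3, .a5, .a7, .a8]⟩, ⟨[.a1, .a7, .a9], [.a1, .a2, .a6, .a7, .a9]⟩]
def D525 : List Dv := [⟨[.a2, .a3, .a8], [0, 0], []⟩,
  ⟨[.a3, .a6, .a8], [0, 2, 1], [1, 2]⟩,
  ⟨[.a5], [0, 1, 3, 3], []⟩,
  ⟨[.a2, .a6], [2], [1]⟩]
def C525 : List Ch := [⟨P89, 0, [.a11], [.a11]⟩,
  ⟨P158, 1, [.a0, .a2, .a3, .a4, .a5, .a6, .a7, .a9, .a11], [.a0, .a11]⟩,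
  ⟨P161, 0, [.a10], [.a10, .a11]⟩]
def N525 : List Ent := [⟨1, [.a0, .a7], [.a0, .a2, .a3, .a5, .a7, .a8]⟩,
  ⟨2, [.a1, .a7, .a9], [.a1, .a2, .a6, .a7, .a9]⟩,
  ⟨4, [.a2, .a6], [.a2, .a6]⟩,
  ⟨8, [.a3, .a6, .a8], [.a3, .a6, .a8]⟩,
  ⟨16, [.a4], [.a4, .a5]⟩,
  ⟨32, [.a5], [.a5]⟩,
  ⟨64, [.a6], [.a6]⟩,
  ⟨256, [.a8], [.a8]⟩]
theorem bad525 (c : CtxF Goal γ) : Bad Goal γ [] P525 :=
  c.toCtx.bnd (B := B525) (D := D525) (I := [4, 5, 0, 2, 1]) (r := 2) (C := C525) (N := N525) (by decide +kernel) (by decide +kernel) (by decide +kernel) (by decide +kernel)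
    (allB_cons (bad89 c) (allB_cons (bad158 c) (allB_cons (bad161 c) (allB_nil))))

def P526 : List Ent := [⟨1, [.a0, .a6, .a7, .a8], [.a0, .a2, .a3, .a6, .a7]⟩,
  ⟨2, [.a1, .a7, .a9], [.a1, .a2, .a6, .a7, .a9]⟩,
  ⟨4, [.a2, .a6], [.a2, .a6]⟩,
  ⟨8, [.a3, .a6, .a8], [.a3, .a6, .a8]⟩,
  ⟨32, [.a5], [.a5]⟩]
def B526 : List Gv := [⟨[.a0, .a6, .a7, .a8], [.a0, .a2, .a3, .a6, .a7]⟩, ⟨[.a1, .a7, .a9], [.a1, .a2, .a6, .a7, .a9]⟩, ⟨[.a2, .a6], [.a2, .a6]⟩]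
def D526 : List Dv := [⟨[.a3, .a5, .a6, .a8], [2, 0, 0], []⟩,
  ⟨[.a5], [3, 2, 1], [1, 2]⟩,
  ⟨[.a3, .a6, .a8], [1], [0]⟩]
def C526 : List Ch := [⟨P89, 0, [.a11], [.a11]⟩,
  ⟨P159, 1, [.a11], [.a11]⟩,
  ⟨P161, 0, [.a1, .a10], [.a1, .a2, .a4, .a5, .a7, .a9, .a10, .a11]⟩,
  ⟨P165, 2, [], []⟩,
  ⟨P165, 0, [.a4, .a6], [.a4, .a5, .a6]⟩,
  ⟨P165, 1, [.a6], [.a6]⟩,
  ⟨P165, 0, [.a4], [.a4, .a5]⟩]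
def N526 : List Ent := [⟨1, [.a0, .a6, .a7, .a8], [.a0, .a2, .a3, .a6, .a7]⟩,
  ⟨2, [.a1, .a7, .a9], [.a1, .a2, .a6, .a7, .a9]⟩,
  ⟨4, [.a2, .a6], [.a2, .a6]⟩,
  ⟨8, [.a3, .a6, .a8], [.a3, .a6, .a8]⟩,
  ⟨16, [.a4], [.a4, .a5]⟩,
  ⟨32, [.a5], [.a5]⟩,
  ⟨64, [.a6], [.a6]⟩,
  ⟨256, [.a8], [.a8]⟩]
theorem bad526 (c : CtxF Goal γ) : Bad Goal γ [] P526 :=
  c.toCtx.bnd (B := B526) (D := D526) (I := [3, 4, 5, 0, 1]) (r := 3) (C := C526) (N := N526) (by decide +kernel) (by decide +kernel) (by decide +kernel) (by decide +kernel)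
    (allB_cons (bad89 c) (allB_cons (bad159 c) (allB_cons (bad161 c) (allB_cons (bad165 c) (allB_cons (bad165 c) (allB_cons (bad165 c) (allB_cons (bad165 c) (allB_nil))))))))

def P527 : List Ent := [⟨1, [.a0, .a7], [.a0, .a2, .a3, .a5, .a7, .a8]⟩,
  ⟨2, [.a1, .a7, .a8, .a9], [.a1, .a2, .a6, .a7, .a8, .a9]⟩,
  ⟨4, [.a2, .a6], [.a2, .a6]⟩,
  ⟨8, [.a3, .a6, .a8], [.a3, .a6, .a8]⟩,
  ⟨32, [.a5], [.a5]⟩]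
def B527 : List Gv := [⟨[.a0, .a7], [.a0, .a2, .a3, .a5, .a7, .a8]⟩, ⟨[.a1, .a7, .a8, .a9], [.a1, .a2, .a6, .a7, .a8, .a9]⟩, ⟨[.a2, .a6], [.a2, .a6]⟩]
def D527 : List Dv := [⟨[.a3, .a6, .a8], [2, 0, 0], []⟩,
  ⟨[.a5], [3, 2, 1], [1, 2]⟩]
def C527 : List Ch := [⟨P88, 0, [.a11], [.a11]⟩,
  ⟨P158, 1, [.a0, .a2, .a3, .a4, .a5, .a6, .a7, .a9, .a11], [.a0, .a11]⟩,
  ⟨P161, 0, [.a0, .a1, .a3, .a5, .a6, .a7, .a8, .a9, .a10], [.a0, .a10, .a11]⟩,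
  ⟨P166, 2, [], []⟩,
  ⟨P166, 0, [.a4], [.a4, .a5]⟩,
  ⟨P166, 1, [.a6], [.a6]⟩,
  ⟨P166, 0, [.a3], [.a3]⟩]
def N527 : List Ent := [⟨1, [.a0, .a7], [.a0, .a2, .a3, .a5, .a7, .a8]⟩,
  ⟨2, [.a1, .a7, .a8, .a9], [.a1, .a2, .a6, .a7, .a8, .a9]⟩,
  ⟨4, [.a2, .a6], [.a2, .a6]⟩,
  ⟨8, [.a3, .a6, .a8], [.a3, .a6, .a8]⟩,
  ⟨16, [.a4], [.a4, .a5]⟩,
  ⟨32, [.a5], [.a5]⟩,
  ⟨64, [.a6], [.a6]⟩,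
  ⟨256, [.a8], [.a8]⟩]
theorem bad527 (c : CtxF Goal γ) : Bad Goal γ [] P527 :=
  c.toCtx.bnd (B := B527) (D := D527) (I := [2, 3, 4, 1, 0]) (r := 3) (C := C527) (N := N527) (by decide +kernel) (by decide +kernel) (by decide +kernel) (by decide +kernel)
    (allB_cons (bad88 c) (allB_cons (bad158 c) (allB_cons (bad161 c) (allB_cons (bad166 c) (allB_cons (bad166 c) (allB_cons (bad166 c) (allB_cons (bad166 c) (allB_nil))))))))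

def P528 : List Ent := [⟨1, [.a0, .a6, .a7, .a8], [.a0, .a2, .a3, .a6, .a7]⟩,
  ⟨2, [.a1, .a7, .a8, .a9], [.a1, .a2, .a6, .a7, .a8, .a9]⟩,
  ⟨4, [.a2, .a6], [.a2, .a6]⟩,
  ⟨8, [.a3, .a6, .a8], [.a3, .a6, .a8]⟩,
  ⟨32, [.a5], [.a5]⟩]
def B528 : List Gv := [⟨[.a0, .a6, .a7, .a8], [.a0, .a2, .a3, .a6, .a7]⟩, ⟨[.a1, .a7, .a8, .a9], [.a1, .a2, .a6, .a7, .a8, .a9]⟩]
def D528 : List Dv := [⟨[.a2, .a3, .a5, .a8], [0, 0], []⟩,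
  ⟨[.a3, .a5, .a6, .a8], [0, 2, 1], [1, 2]⟩,
  ⟨[.a5], [0, 1, 3, 3], []⟩,
  ⟨[.a3, .a6, .a8], [1], [0]⟩,
  ⟨[.a2, .a6], [3], [0, 1]⟩]
def C528 : List Ch := [⟨P88, 0, [.a11], [.a11]⟩,
  ⟨P159, 1, [.a11], [.a11]⟩,
  ⟨P161, 0, [.a9, .a10], [.a9, .a10, .a11]⟩]
def N528 : List Ent := [⟨1, [.a0, .a6, .a7, .a8], [.a0, .a2, .a3, .a6, .a7]⟩,
  ⟨2, [.a1, .a7, .a8, .a9], [.a1, .a2, .a6, .a7, .a8, .a9]⟩,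
  ⟨4, [.a2, .a6], [.a2, .a6]⟩,
  ⟨8, [.a3, .a6, .a8], [.a3, .a6, .a8]⟩,
  ⟨16, [.a4], [.a4, .a5]⟩,
  ⟨32, [.a5], [.a5]⟩,
  ⟨64, [.a6], [.a6]⟩,
  ⟨256, [.a8], [.a8]⟩]
theorem bad528 (c : CtxF Goal γ) : Bad Goal γ [] P528 :=
  c.toCtx.bnd (B := B528) (D := D528) (I := [5, 6, 0, 1, 2]) (r := 2) (C := C528) (N := N528) (by decide +kernel) (by decide +kernel) (by decide +kernel) (by decide +kernel)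
    (allB_cons (bad88 c) (allB_cons (bad159 c) (allB_cons (bad161 c) (allB_nil))))

def P529 : List Ent := [⟨1, [.a0, .a7, .a10], [.a0, .a1, .a3, .a4, .a7, .a10, .a11]⟩,
  ⟨2, [.a1, .a6, .a7, .a9, .a11], [.a1, .a2, .a6, .a7, .a11]⟩,
  ⟨4, [.a2, .a6, .a9], [.a2, .a5, .a6, .a9]⟩,
  ⟨32, [.a5], [.a5]⟩,
  ⟨256, [.a8], [.a8]⟩]
def B529 : List Gv := [⟨[.a0, .a7, .a10], [.a0, .a1, .a3, .a4, .a7, .a10, .a11]⟩, ⟨[.a2, .a6, .a9], [.a2, .a5, .a6, .a9]⟩]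
def D529 : List Dv := [⟨[.a1, .a2, .a6, .a7, .a11], [0, 0], []⟩,
  ⟨[.a5], [2, 1], [1, 2]⟩,
  ⟨[.a8], [0, 3, 1, 1], []⟩,
  ⟨[.a1, .a6, .a7, .a9, .a11], [2], [4, 0]⟩]
def C529 : List Ch := [⟨P93, 0, [.a1], [.a1, .a2]⟩,
  ⟨P167, 1, [], []⟩,
  ⟨P167, 0, [.a7], [.a7, .a8]⟩]
def N529 : List Ent := [⟨1, [.a0, .a7, .a10], [.a0, .a1, .a3, .a4, .a7, .a10, .a11]⟩,
  ⟨2, [.a1, .a6, .a7, .a9, .a11], [.a1, .a2, .a6, .a7, .a11]⟩,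
  ⟨4, [.a2, .a6, .a9], [.a2, .a5, .a6, .a9]⟩,
  ⟨32, [.a5], [.a5]⟩,
  ⟨64, [.a6], [.a6]⟩,
  ⟨128, [.a7], [.a7, .a8]⟩,
  ⟨256, [.a8], [.a8]⟩]
theorem bad529 (c : CtxF Goal γ) : Bad Goal γ [] P529 :=
  c.toCtx.bnd (B := B529) (D := D529) (I := [4, 0, 5, 2, 1]) (r := 2) (C := C529) (N := N529) (by decide +kernel) (by decide +kernel) (by decide +kernel) (by decide +kernel)
    (allB_cons (bad93 c) (allB_cons (bad167 c) (allB_cons (bad167 c) (allB_nil))))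

def P530 : List Ent := [⟨1, [.a0], [.a0]⟩,
  ⟨8, [.a3, .a7, .a11], [.a3, .a5, .a7, .a11]⟩,
  ⟨16, [.a4, .a7, .a9], [.a4, .a5, .a6, .a7, .a9]⟩,
  ⟨32, [.a5], [.a5]⟩,
  ⟨64, [.a6], [.a6]⟩]
def B530 : List Gv := [⟨[.a0], [.a0]⟩, ⟨[.a3, .a7, .a11], [.a3, .a5, .a7, .a11]⟩]
def D530 : List Dv := [⟨[.a4, .a6, .a7, .a9], [1, 0], [0, 1]⟩,
  ⟨[.a5], [2, 2], []⟩,
  ⟨[.a6], [0, 1, 2], [2, 1]⟩,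
  ⟨[.a4, .a7, .a9], [2], [0]⟩]
def C530 : List Ch := [⟨P52, 0, [.a1, .a3, .a10], [.a1, .a2, .a3, .a4, .a5, .a6, .a7, .a8, .a9, .a10, .a11]⟩,
  ⟨P111, 1, [], []⟩,
  ⟨P155, 0, [.a9], [.a9]⟩]
def N530 : List Ent := [⟨1, [.a0], [.a0]⟩,
  ⟨4, [.a2, .a7, .a11], [.a2, .a5, .a6, .a7, .a11]⟩,
  ⟨8, [.a3, .a7, .a11], [.a3, .a5, .a7, .a11]⟩,
  ⟨16, [.a4, .a7, .a9], [.a4, .a5, .a6, .a7, .a9]⟩,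
  ⟨32, [.a5], [.a5]⟩,
  ⟨64, [.a6], [.a6]⟩,
  ⟨256, [.a8], [.a8]⟩]
theorem bad530 (c : CtxF Goal γ) : Bad Goal γ [] P530 :=
  c.toCtx.bnd (B := B530) (D := D530) (I := [4, 5, 0, 2, 1]) (r := 2) (C := C530) (N := N530) (by decide +kernel) (by decide +kernel) (by decide +kernel) (by decide +kernel)
    (allB_cons (bad52 c) (allB_cons (bad111 c) (allB_cons (bad155 c) (allB_nil))))

def P531 : List Ent := [⟨1, [.a0, .a8], [.a0, .a5, .a8]⟩,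
  ⟨8, [.a3, .a7, .a11], [.a3, .a5, .a7, .a11]⟩,
  ⟨16, [.a4, .a7, .a9], [.a4, .a5, .a6, .a7, .a9]⟩,
  ⟨32, [.a5], [.a5]⟩,
  ⟨64, [.a6], [.a6]⟩]
def B531 : List Gv := [⟨[.a0, .a8], [.a0, .a5, .a8]⟩, ⟨[.a3, .a7, .a11], [.a3, .a5, .a7, .a11]⟩]
def D531 : List Dv := [⟨[.a5], [0, 0], []⟩,
  ⟨[.a4, .a6, .a7, .a9], [2, 1], [1, 2]⟩,
  ⟨[.a6], [1, 0, 2], [2, 0]⟩,
  ⟨[.a4, .a7, .a9], [1], [0]⟩]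
def C531 : List Ch := [⟨P52, 0, [.a1, .a3, .a10], [.a1, .a2, .a3, .a4, .a5, .a6, .a7, .a8, .a9, .a10, .a11]⟩,
  ⟨P115, 1, [], []⟩,
  ⟨P155, 0, [.a0, .a3, .a6, .a9], [.a0, .a9]⟩]
def N531 : List Ent := [⟨1, [.a0, .a8], [.a0, .a5, .a8]⟩,
  ⟨4, [.a2, .a7, .a11], [.a2, .a5, .a6, .a7, .a11]⟩,
  ⟨8, [.a3, .a7, .a11], [.a3, .a5, .a7, .a11]⟩,
  ⟨16, [.a4, .a7, .a9], [.a4, .a5, .a6, .a7, .a9]⟩,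
  ⟨32, [.a5], [.a5]⟩,
  ⟨64, [.a6], [.a6]⟩,
  ⟨256, [.a8], [.a8]⟩]
theorem bad531 (c : CtxF Goal γ) : Bad Goal γ [] P531 :=
  c.toCtx.bnd (B := B531) (D := D531) (I := [4, 5, 0, 3, 1]) (r := 2) (C := C531) (N := N531) (by decide +kernel) (by decide +kernel) (by decide +kernel) (by decide +kernel)
    (allB_cons (bad52 c) (allB_cons (bad115 c) (allB_cons (bad155 c) (allB_nil))))

def P532 : List Ent := [⟨1, [.a0], [.a0]⟩,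
  ⟨4, [.a2, .a7, .a11], [.a2, .a5, .a6, .a7, .a11]⟩,
  ⟨16, [.a4, .a7, .a9], [.a4, .a5, .a6, .a7, .a9]⟩,
  ⟨32, [.a5], [.a5]⟩,
  ⟨64, [.a6], [.a6]⟩]
def B532 : List Gv := [⟨[.a0], [.a0]⟩, ⟨[.a2, .a7, .a11], [.a2, .a5, .a6, .a7, .a11]⟩, ⟨[.a4, .a7, .a9], [.a4, .a5, .a6, .a7, .a9]⟩]
def D532 : List Dv := [⟨[.a5], [2, 1, 0], [0, 1]⟩,
  ⟨[.a6], [0, 2, 2], []⟩]
def C532 : List Ch := [⟨P80, 0, [], []⟩,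
  ⟨P111, 1, [], []⟩,
  ⟨P155, 0, [.a4], [.a4, .a5]⟩,
  ⟨P168, 2, [], []⟩,
  ⟨P168, 0, [.a8], [.a8]⟩,
  ⟨P168, 1, [.a2, .a3], [.a2, .a3]⟩,
  ⟨P168, 0, [.a0, .a2, .a3, .a8], [.a0, .a2, .a3, .a5, .a8]⟩]
def N532 : List Ent := [⟨1, [.a0], [.a0]⟩,
  ⟨4, [.a2, .a7, .a11], [.a2, .a5, .a6, .a7, .a11]⟩,
  ⟨8, [.a3, .a7, .a11], [.a3, .a5, .a7, .a11]⟩,
  ⟨16, [.a4, .a7, .a9], [.a4, .a5, .a6, .a7, .a9]⟩,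
  ⟨32, [.a5], [.a5]⟩,
  ⟨64, [.a6], [.a6]⟩,
  ⟨256, [.a8], [.a8]⟩]
theorem bad532 (c : CtxF Goal γ) : Bad Goal γ [] P532 :=
  c.toCtx.bnd (B := B532) (D := D532) (I := [2, 3, 4, 1, 0]) (r := 3) (C := C532) (N := N532) (by decide +kernel) (by decide +kernel) (by decide +kernel) (by decide +kernel)
    (allB_cons (bad80 c) (allB_cons (bad111 c) (allB_cons (bad155 c) (allB_cons (bad168 c) (allB_cons (bad168 c) (allB_cons (bad168 c) (allB_cons (bad168 c) (allB_nil))))))))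

def P533 : List Ent := [⟨1, [.a0, .a8], [.a0, .a5, .a8]⟩,
  ⟨4, [.a2, .a7, .a11], [.a2, .a5, .a6, .a7, .a11]⟩,
  ⟨16, [.a4, .a7, .a9], [.a4, .a5, .a6, .a7, .a9]⟩,
  ⟨32, [.a5], [.a5]⟩,
  ⟨64, [.a6], [.a6]⟩]
def B533 : List Gv := [⟨[.a0, .a8], [.a0, .a5, .a8]⟩, ⟨[.a2, .a7, .a11], [.a2, .a5, .a6, .a7, .a11]⟩]
def D533 : List Dv := [⟨[.a5], [0, 0], []⟩,
  ⟨[.a4, .a6, .a7, .a9], [2, 1], [1, 2]⟩,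
  ⟨[.a6], [1, 3, 3], []⟩,
  ⟨[.a4, .a7, .a9], [1], [0]⟩]
def C533 : List Ch := [⟨P80, 0, [], []⟩,
  ⟨P115, 1, [], []⟩,
  ⟨P155, 0, [.a0, .a2, .a4], [.a0, .a4, .a5]⟩]
def N533 : List Ent := [⟨1, [.a0, .a8], [.a0, .a5, .a8]⟩,
  ⟨4, [.a2, .a7, .a11], [.a2, .a5, .a6, .a7, .a11]⟩,
  ⟨8, [.a3, .a7, .a11], [.a3, .a5, .a7, .a11]⟩,
  ⟨16, [.a4, .a7, .a9], [.a4, .a5, .a6, .a7, .a9]⟩,
  ⟨32, [.a5], [.a5]⟩,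
  ⟨64, [.a6], [.a6]⟩,
  ⟨256, [.a8], [.a8]⟩]
theorem bad533 (c : CtxF Goal γ) : Bad Goal γ [] P533 :=
  c.toCtx.bnd (B := B533) (D := D533) (I := [4, 5, 0, 3, 1]) (r := 2) (C := C533) (N := N533) (by decide +kernel) (by decide +kernel) (by decide +kernel) (by decide +kernel)
    (allB_cons (bad80 c) (allB_cons (bad115 c) (allB_cons (bad155 c) (allB_nil))))

def P534 : List Ent := [⟨1, [.a0], [.a0]⟩,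
  ⟨4, [.a2], [.a2]⟩,
  ⟨16, [.a4], [.a4, .a5]⟩,
  ⟨32, [.a5], [.a5]⟩,
  ⟨64, [.a6], [.a6]⟩]
def B534 : List Gv := [⟨[.a0], [.a0]⟩, ⟨[.a4], [.a4, .a5]⟩, ⟨[.a6], [.a6]⟩]
def D534 : List Dv := [⟨[.a2], [1, 0], [0, 1]⟩,
  ⟨[.a5], [2, 2], []⟩]
theorem bad534 (c : CtxF Goal γ) : Bad Goal γ [] P534 :=
  c.toCtx.cent (B := B534) (D := D534) (I := [2, 1, 3, 0, 4]) (z := [.a3]) (by decide +kernel) (by decide +kernel)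

def P535 : List Ent := [⟨1, [.a0], [.a0]⟩,
  ⟨4, [.a2], [.a2]⟩,
  ⟨8, [.a3], [.a3]⟩,
  ⟨16, [.a4], [.a4, .a5]⟩,
  ⟨32, [.a5], [.a5]⟩]
def B535 : List Gv := [⟨[.a0], [.a0]⟩, ⟨[.a3], [.a3]⟩, ⟨[.a4], [.a4, .a5]⟩]
def D535 : List Dv := [⟨[.a2], [2, 0], [0, 2]⟩,
  ⟨[.a5], [3, 3], []⟩]
theorem bad535 (c : CtxF Goal γ) : Bad Goal γ [] P535 :=
  c.toCtx.cent (B := B535) (D := D535) (I := [2, 1, 3, 4, 0]) (z := [.a6]) (by decide +kernel) (by decide +kernel)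

def P536 : List Ent := [⟨1, [.a0, .a6], [.a0, .a6]⟩,
  ⟨4, [.a2], [.a2]⟩,
  ⟨8, [.a3], [.a3]⟩,
  ⟨16, [.a4], [.a4, .a5]⟩,
  ⟨32, [.a5], [.a5]⟩]
def B536 : List Gv := [⟨[.a0, .a6], [.a0, .a6]⟩, ⟨[.a3], [.a3]⟩, ⟨[.a4], [.a4, .a5]⟩]
def D536 : List Dv := [⟨[.a2], [2, 0], [0, 2]⟩,
  ⟨[.a5], [3, 3], []⟩]
theorem bad536 (c : CtxF Goal γ) : Bad Goal γ [] P536 :=
  c.toCtx.cent (B := B536) (D := D536) (I := [2, 1, 3, 4, 0]) (z := [.a6]) (by decide +kernel) (by decide +kernel)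

def P537 : List Ent := [⟨1, [.a0], [.a0]⟩,
  ⟨4, [.a2], [.a2]⟩,
  ⟨8, [.a3, .a6], [.a3, .a6]⟩,
  ⟨16, [.a4], [.a4, .a5]⟩,
  ⟨32, [.a5], [.a5]⟩]
def B537 : List Gv := [⟨[.a0], [.a0]⟩, ⟨[.a3, .a6], [.a3, .a6]⟩, ⟨[.a4], [.a4, .a5]⟩]
def D537 : List Dv := [⟨[.a2], [2, 0], [0, 2]⟩,
  ⟨[.a5], [3, 3], []⟩]
theorem bad537 (c : CtxF Goal γ) : Bad Goal γ [] P537 :=
  c.toCtx.cent (B := B537) (D := D537) (I := [2, 1, 3, 4, 0]) (z := [.a3]) (by decide +kernel) (by decide +kernel)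

def P538 : List Ent := [⟨1, [.a0, .a8], [.a0, .a5, .a8]⟩,
  ⟨4, [.a2], [.a2]⟩,
  ⟨16, [.a4], [.a4, .a5]⟩,
  ⟨32, [.a5], [.a5]⟩,
  ⟨64, [.a6], [.a6]⟩]
def B538 : List Gv := [⟨[.a0, .a8], [.a0, .a5, .a8]⟩, ⟨[.a4], [.a4, .a5]⟩, ⟨[.a6], [.a6]⟩]
def D538 : List Dv := [⟨[.a5], [0, 0], []⟩,
  ⟨[.a2], [2, 1], [1, 2]⟩]
theorem bad538 (c : CtxF Goal γ) : Bad Goal γ [] P538 :=
  c.toCtx.cent (B := B538) (D := D538) (I := [2, 0, 3, 1, 4]) (z := [.a3]) (by decide +kernel) (by decide +kernel)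

def P539 : List Ent := [⟨1, [.a0, .a8], [.a0, .a5, .a8]⟩,
  ⟨4, [.a2], [.a2]⟩,
  ⟨8, [.a3], [.a3]⟩,
  ⟨16, [.a4], [.a4, .a5]⟩,
  ⟨32, [.a5], [.a5]⟩]
def B539 : List Gv := [⟨[.a0, .a8], [.a0, .a5, .a8]⟩, ⟨[.a3], [.a3]⟩, ⟨[.a4], [.a4, .a5]⟩]
def D539 : List Dv := [⟨[.a5], [0, 0], []⟩,
  ⟨[.a2], [3, 1], [1, 3]⟩]
theorem bad539 (c : CtxF Goal γ) : Bad Goal γ [] P539 :=
  c.toCtx.cent (B := B539) (D := D539) (I := [2, 0, 3, 4, 1]) (z := [.a6]) (by decide +kernel) (by decide +kernel)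

def P540 : List Ent := [⟨1, [.a0, .a6, .a8], [.a0, .a5, .a6, .a8]⟩,
  ⟨4, [.a2], [.a2]⟩,
  ⟨8, [.a3], [.a3]⟩,
  ⟨16, [.a4], [.a4, .a5]⟩,
  ⟨32, [.a5], [.a5]⟩]
def B540 : List Gv := [⟨[.a0, .a6, .a8], [.a0, .a5, .a6, .a8]⟩, ⟨[.a3], [.a3]⟩, ⟨[.a4], [.a4, .a5]⟩]
def D540 : List Dv := [⟨[.a5], [0, 0], []⟩,
  ⟨[.a2], [3, 1], [1, 3]⟩]
theorem bad540 (c : CtxF Goal γ) : Bad Goal γ [] P540 :=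
  c.toCtx.cent (B := B540) (D := D540) (I := [2, 0, 3, 4, 1]) (z := [.a6]) (by decide +kernel) (by decide +kernel)

def P541 : List Ent := [⟨1, [.a0, .a8], [.a0, .a5, .a8]⟩,
  ⟨4, [.a2], [.a2]⟩,
  ⟨8, [.a3, .a6], [.a3, .a6]⟩,
  ⟨16, [.a4], [.a4, .a5]⟩,
  ⟨32, [.a5], [.a5]⟩]
def B541 : List Gv := [⟨[.a0, .a8], [.a0, .a5, .a8]⟩, ⟨[.a3, .a6], [.a3, .a6]⟩, ⟨[.a4], [.a4, .a5]⟩]
def D541 : List Dv := [⟨[.a5], [0, 0], []⟩,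
  ⟨[.a2], [3, 1], [1, 3]⟩]
theorem bad541 (c : CtxF Goal γ) : Bad Goal γ [] P541 :=
  c.toCtx.cent (B := B541) (D := D541) (I := [2, 0, 3, 4, 1]) (z := [.a3]) (by decide +kernel) (by decide +kernel)

def P542 : List Ent := [⟨1, [.a0, .a9], [.a0, .a3, .a6, .a9]⟩,
  ⟨4, [.a2, .a8], [.a2, .a8]⟩,
  ⟨8, [.a3, .a6], [.a3, .a6]⟩,
  ⟨16, [.a4], [.a4, .a5]⟩,
  ⟨32, [.a5], [.a5]⟩]
def B542 : List Gv := [⟨[.a0, .a9], [.a0, .a3, .a6, .a9]⟩, ⟨[.a4], [.a4, .a5]⟩]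
def D542 : List Dv := [⟨[.a3, .a6], [0, 0], []⟩,
  ⟨[.a2, .a5, .a8], [2, 1], [1, 2]⟩,
  ⟨[.a5], [3, 3], []⟩,
  ⟨[.a2, .a8], [1], [0]⟩]
theorem bad542 (c : CtxF Goal γ) : Bad Goal γ [] P542 :=
  c.toCtx.cent (B := B542) (D := D542) (I := [4, 0, 3, 5, 1]) (z := [.a3]) (by decide +kernel) (by decide +kernel)

def P543 : List Ent := [⟨1, [.a0, .a6, .a9], [.a0, .a3, .a9]⟩,
  ⟨4, [.a2, .a8], [.a2, .a8]⟩,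
  ⟨8, [.a3, .a6], [.a3, .a6]⟩,
  ⟨16, [.a4], [.a4, .a5]⟩,
  ⟨32, [.a5], [.a5]⟩]
def B543 : List Gv := [⟨[.a0, .a6, .a9], [.a0, .a3, .a9]⟩, ⟨[.a4], [.a4, .a5]⟩]
def D543 : List Dv := [⟨[.a3, .a6], [0, 0], []⟩,
  ⟨[.a2, .a5, .a8], [2, 1], [1, 2]⟩,
  ⟨[.a5], [3, 3], []⟩,
  ⟨[.a2, .a8], [1], [0]⟩]
theorem bad543 (c : CtxF Goal γ) : Bad Goal γ [] P543 :=
  c.toCtx.cent (B := B543) (D := D543) (I := [4, 0, 3, 5, 1]) (z := [.a3]) (by decide +kernel) (by decide +kernel)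

def P544 : List Ent := [⟨1, [.a0, .a9], [.a0, .a3, .a6, .a9]⟩,
  ⟨4, [.a2, .a8], [.a2, .a8]⟩,
  ⟨8, [.a3, .a6], [.a3, .a6]⟩,
  ⟨16, [.a4, .a6], [.a4, .a5, .a6]⟩,
  ⟨32, [.a5], [.a5]⟩]
def B544 : List Gv := [⟨[.a0, .a9], [.a0, .a3, .a6, .a9]⟩, ⟨[.a4, .a6], [.a4, .a5, .a6]⟩]
def D544 : List Dv := [⟨[.a3, .a6], [0, 0], []⟩,
  ⟨[.a2, .a5, .a8], [2, 1], [1, 2]⟩,
  ⟨[.a5], [3, 3], []⟩,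
  ⟨[.a2, .a8], [1], [0]⟩]
theorem bad544 (c : CtxF Goal γ) : Bad Goal γ [] P544 :=
  c.toCtx.cent (B := B544) (D := D544) (I := [4, 0, 3, 5, 1]) (z := [.a3]) (by decide +kernel) (by decide +kernel)

def P545 : List Ent := [⟨1, [.a0, .a6, .a9], [.a0, .a3, .a9]⟩,
  ⟨4, [.a2, .a8], [.a2, .a8]⟩,
  ⟨8, [.a3, .a6], [.a3, .a6]⟩,
  ⟨16, [.a4, .a6], [.a4, .a5, .a6]⟩,
  ⟨32, [.a5], [.a5]⟩]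
def B545 : List Gv := [⟨[.a0, .a6, .a9], [.a0, .a3, .a9]⟩, ⟨[.a4, .a6], [.a4, .a5, .a6]⟩]
def D545 : List Dv := [⟨[.a3, .a6], [0, 0], []⟩,
  ⟨[.a2, .a5, .a8], [2, 1], [1, 2]⟩,
  ⟨[.a5], [3, 3], []⟩,
  ⟨[.a2, .a8], [1], [0]⟩]
theorem bad545 (c : CtxF Goal γ) : Bad Goal γ [] P545 :=
  c.toCtx.cent (B := B545) (D := D545) (I := [4, 0, 3, 5, 1]) (z := [.a3]) (by decide +kernel) (by decide +kernel)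

def P546 : List Ent := [⟨1, [.a0], [.a0]⟩,
  ⟨2, [.a1], [.a1, .a2]⟩,
  ⟨4, [.a2], [.a2]⟩,
  ⟨32, [.a5], [.a5]⟩,
  ⟨256, [.a8], [.a8]⟩]
def B546 : List Gv := [⟨[.a0], [.a0]⟩, ⟨[.a1], [.a1, .a2]⟩, ⟨[.a8], [.a8]⟩]
def D546 : List Dv := [⟨[.a2], [1, 1], []⟩,
  ⟨[.a5], [3, 1], [1, 3]⟩]
theorem bad546 (c : CtxF Goal γ) : Bad Goal γ [] P546 :=
  c.toCtx.cent (B := B546) (D := D546) (I := [2, 3, 1, 0, 4]) (z := [.a3]) (by decide +kernel) (by decide +kernel)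

def P547 : List Ent := [⟨1, [.a0], [.a0]⟩,
  ⟨2, [.a1], [.a1, .a2]⟩,
  ⟨4, [.a2], [.a2]⟩,
  ⟨8, [.a3], [.a3]⟩,
  ⟨32, [.a5], [.a5]⟩]
def B547 : List Gv := [⟨[.a0], [.a0]⟩, ⟨[.a1], [.a1, .a2]⟩, ⟨[.a3], [.a3]⟩, ⟨[.a5], [.a5]⟩]
def D547 : List Dv := [⟨[.a2], [1, 1], []⟩]
def C547 : List Ch := [⟨P84, 0, [], []⟩,
  ⟨P122, 1, [], []⟩,
  ⟨P159, 0, [.a10, .a11], [.a10]⟩,
  ⟨P169, 2, [], []⟩,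
  ⟨P169, 0, [.a7], [.a7, .a8]⟩,
  ⟨P169, 1, [.a4], [.a4, .a5]⟩,
  ⟨P169, 0, [.a4, .a6, .a7], [.a4, .a5, .a7, .a8]⟩,
  ⟨P170, 3, [], []⟩,
  ⟨P170, 0, [.a8], [.a8]⟩,
  ⟨P170, 1, [.a6], [.a6]⟩,
  ⟨P170, 0, [.a4, .a6, .a8], [.a4, .a5, .a6, .a8]⟩,
  ⟨P170, 2, [.a7, .a8], [.a7]⟩,
  ⟨P170, 0, [.a7], [.a7, .a8]⟩,
  ⟨P170, 1, [.a4, .a7, .a8], [.a4, .a5, .a6, .a7]⟩,
  ⟨P170, 0, [.a4, .a7], [.a4, .a5, .a6, .a7, .a8]⟩]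
def N547 : List Ent := [⟨1, [.a0], [.a0]⟩,
  ⟨2, [.a1], [.a1, .a2]⟩,
  ⟨4, [.a2], [.a2]⟩,
  ⟨8, [.a3], [.a3]⟩,
  ⟨16, [.a4], [.a4, .a5]⟩,
  ⟨32, [.a5], [.a5]⟩,
  ⟨64, [.a6], [.a6]⟩,
  ⟨128, [.a7], [.a7, .a8]⟩,
  ⟨256, [.a8], [.a8]⟩]
theorem bad547 (c : CtxF Goal γ) : Bad Goal γ [] P547 :=
  c.toCtx.bnd (B := B547) (D := D547) (I := [1, 2, 0, 3, 4]) (r := 4) (C := C547) (N := N547) (by decide +kernel) (by decide +kernel) (by decide +kernel) (by decide +kernel)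
    (allB_cons (bad84 c) (allB_cons (bad122 c) (allB_cons (bad159 c) (allB_cons (bad169 c) (allB_cons (bad169 c) (allB_cons (bad169 c) (allB_cons (bad169 c) (allB_cons (bad170 c) (allB_cons (bad170 c) (allB_cons (bad170 c) (allB_cons (bad170 c) (allB_cons (bad170 c) (allB_cons (bad170 c) (allB_cons (bad170 c) (allB_cons (bad170 c) (allB_nil))))))))))))))))

def P548 : List Ent := [⟨1, [.a0, .a8], [.a0, .a5, .a8]⟩,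
  ⟨2, [.a1], [.a1, .a2]⟩,
  ⟨4, [.a2], [.a2]⟩,
  ⟨8, [.a3], [.a3]⟩,
  ⟨32, [.a5], [.a5]⟩]
def B548 : List Gv := [⟨[.a0, .a8], [.a0, .a5, .a8]⟩, ⟨[.a1], [.a1, .a2]⟩, ⟨[.a3], [.a3]⟩]
def D548 : List Dv := [⟨[.a5], [0, 0], []⟩,
  ⟨[.a2], [2, 2], []⟩]
def C548 : List Ch := [⟨P84, 0, [], []⟩,
  ⟨P127, 1, [], []⟩,
  ⟨P159, 0, [.a0, .a1, .a2, .a3, .a4, .a6, .a8, .a9, .a10, .a11], [.a0, .a10]⟩,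
  ⟨P171, 2, [], []⟩,
  ⟨P171, 0, [.a7], [.a7, .a8]⟩,
  ⟨P171, 1, [.a4], [.a4, .a5]⟩,
  ⟨P171, 0, [.a4, .a6, .a7], [.a4, .a5, .a7, .a8]⟩]
def N548 : List Ent := [⟨1, [.a0, .a8], [.a0, .a5, .a8]⟩,
  ⟨2, [.a1], [.a1, .a2]⟩,
  ⟨4, [.a2], [.a2]⟩,
  ⟨8, [.a3], [.a3]⟩,
  ⟨16, [.a4], [.a4, .a5]⟩,
  ⟨32, [.a5], [.a5]⟩,
  ⟨64, [.a6], [.a6]⟩,
  ⟨128, [.a7], [.a7, .a8]⟩,
  ⟨256, [.a8], [.a8]⟩]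
theorem bad548 (c : CtxF Goal γ) : Bad Goal γ [] P548 :=
  c.toCtx.bnd (B := B548) (D := D548) (I := [2, 3, 0, 4, 1]) (r := 3) (C := C548) (N := N548) (by decide +kernel) (by decide +kernel) (by decide +kernel) (by decide +kernel)
    (allB_cons (bad84 c) (allB_cons (bad127 c) (allB_cons (bad159 c) (allB_cons (bad171 c) (allB_cons (bad171 c) (allB_cons (bad171 c) (allB_cons (bad171 c) (allB_nil))))))))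

def P549 : List Ent := [⟨1, [.a0], [.a0]⟩,
  ⟨2, [.a1, .a8], [.a1, .a2, .a8]⟩,
  ⟨4, [.a2], [.a2]⟩,
  ⟨8, [.a3], [.a3]⟩,
  ⟨32, [.a5], [.a5]⟩]
def B549 : List Gv := [⟨[.a0], [.a0]⟩, ⟨[.a1, .a8], [.a1, .a2, .a8]⟩, ⟨[.a3], [.a3]⟩]
def D549 : List Dv := [⟨[.a5], [1, 0], [0, 1]⟩,
  ⟨[.a2], [2, 2], []⟩]
theorem bad549 (c : CtxF Goal γ) : Bad Goal γ [] P549 :=
  c.toCtx.cent (B := B549) (D := D549) (I := [2, 3, 0, 4, 1]) (z := [.a1]) (by decide +kernel) (by decide +kernel)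

def P550 : List Ent := [⟨1, [.a0, .a8], [.a0, .a5, .a8]⟩,
  ⟨2, [.a1, .a8], [.a1, .a2, .a8]⟩,
  ⟨4, [.a2], [.a2]⟩,
  ⟨8, [.a3], [.a3]⟩,
  ⟨32, [.a5], [.a5]⟩]
def B550 : List Gv := [⟨[.a0, .a8], [.a0, .a5, .a8]⟩, ⟨[.a1, .a8], [.a1, .a2, .a8]⟩, ⟨[.a3], [.a3]⟩]
def D550 : List Dv := [⟨[.a5], [0, 0], []⟩,
  ⟨[.a2], [2, 2], []⟩]
theorem bad550 (c : CtxF Goal γ) : Bad Goal γ [] P550 :=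
  c.toCtx.cent (B := B550) (D := D550) (I := [2, 3, 0, 4, 1]) (z := [.a1]) (by decide +kernel) (by decide +kernel)

def P551 : List Ent := [⟨1, [.a0], [.a0]⟩,
  ⟨2, [.a1], [.a1, .a2]⟩,
  ⟨4, [.a2], [.a2]⟩,
  ⟨8, [.a3, .a8], [.a3, .a8]⟩,
  ⟨32, [.a5], [.a5]⟩]
def B551 : List Gv := [⟨[.a0], [.a0]⟩, ⟨[.a1], [.a1, .a2]⟩, ⟨[.a3, .a8], [.a3, .a8]⟩]
def D551 : List Dv := [⟨[.a2], [1, 1], []⟩,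
  ⟨[.a5], [3, 1], [1, 3]⟩]
theorem bad551 (c : CtxF Goal γ) : Bad Goal γ [] P551 :=
  c.toCtx.cent (B := B551) (D := D551) (I := [2, 3, 1, 4, 0]) (z := [.a3]) (by decide +kernel) (by decide +kernel)

def P552 : List Ent := [⟨1, [.a0, .a6], [.a0, .a6]⟩,
  ⟨2, [.a1], [.a1, .a2]⟩,
  ⟨4, [.a2], [.a2]⟩,
  ⟨32, [.a5], [.a5]⟩,
  ⟨256, [.a8], [.a8]⟩]
def B552 : List Gv := [⟨[.a0, .a6], [.a0, .a6]⟩, ⟨[.a1], [.a1, .a2]⟩, ⟨[.a8], [.a8]⟩]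
def D552 : List Dv := [⟨[.a5], [1, 0], [0, 1]⟩,
  ⟨[.a2], [2, 2], []⟩]
theorem bad552 (c : CtxF Goal γ) : Bad Goal γ [] P552 :=
  c.toCtx.cent (B := B552) (D := D552) (I := [2, 3, 0, 1, 4]) (z := [.a3]) (by decide +kernel) (by decide +kernel)

def P553 : List Ent := [⟨1, [.a0, .a6], [.a0, .a6]⟩,
  ⟨2, [.a1], [.a1, .a2]⟩,
  ⟨4, [.a2], [.a2]⟩,
  ⟨8, [.a3], [.a3]⟩,
  ⟨32, [.a5], [.a5]⟩]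
def B553 : List Gv := [⟨[.a0, .a6], [.a0, .a6]⟩, ⟨[.a1], [.a1, .a2]⟩, ⟨[.a3], [.a3]⟩]
def D553 : List Dv := [⟨[.a5], [1, 0], [0, 1]⟩,
  ⟨[.a2], [2, 2], []⟩]
theorem bad553 (c : CtxF Goal γ) : Bad Goal γ [] P553 :=
  c.toCtx.cent (B := B553) (D := D553) (I := [2, 3, 0, 4, 1]) (z := [.a0]) (by decide +kernel) (by decide +kernel)

def P554 : List Ent := [⟨1, [.a0, .a6, .a8], [.a0, .a5, .a6, .a8]⟩,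
  ⟨2, [.a1], [.a1, .a2]⟩,
  ⟨4, [.a2], [.a2]⟩,
  ⟨8, [.a3], [.a3]⟩,
  ⟨32, [.a5], [.a5]⟩]
def B554 : List Gv := [⟨[.a0, .a6, .a8], [.a0, .a5, .a6, .a8]⟩, ⟨[.a1], [.a1, .a2]⟩, ⟨[.a3], [.a3]⟩]
def D554 : List Dv := [⟨[.a5], [0, 0], []⟩,
  ⟨[.a2], [2, 2], []⟩]
theorem bad554 (c : CtxF Goal γ) : Bad Goal γ [] P554 :=
  c.toCtx.cent (B := B554) (D := D554) (I := [2, 3, 0, 4, 1]) (z := [.a0, .a1]) (by decide +kernel) (by decide +kernel)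

def P555 : List Ent := [⟨1, [.a0, .a6], [.a0, .a6]⟩,
  ⟨2, [.a1, .a8], [.a1, .a2, .a8]⟩,
  ⟨4, [.a2], [.a2]⟩,
  ⟨8, [.a3], [.a3]⟩,
  ⟨32, [.a5], [.a5]⟩]
def B555 : List Gv := [⟨[.a0, .a6], [.a0, .a6]⟩, ⟨[.a1, .a8], [.a1, .a2, .a8]⟩, ⟨[.a3], [.a3]⟩, ⟨[.a5], [.a5]⟩]
def D555 : List Dv := [⟨[.a2], [1, 1], []⟩]
def C555 : List Ch := [⟨P85, 0, [], []⟩,
  ⟨P122, 1, [.a9], [.a9]⟩,
  ⟨P158, 0, [.a10, .a11], [.a10]⟩,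
  ⟨P172, 2, [], []⟩,
  ⟨P172, 0, [.a7], [.a7, .a8]⟩,
  ⟨P172, 1, [.a4], [.a4, .a5]⟩,
  ⟨P172, 0, [.a4, .a6, .a7], [.a4, .a5, .a7, .a8]⟩,
  ⟨P173, 3, [], []⟩,
  ⟨P173, 0, [.a1], [.a1, .a2]⟩,
  ⟨P173, 1, [.a0], [.a0]⟩,
  ⟨P173, 0, [.a0, .a1], [.a0, .a1, .a2]⟩,
  ⟨P173, 2, [.a1, .a7], [.a1, .a2, .a7, .a8]⟩,
  ⟨P173, 0, [.a7], [.a7, .a8]⟩,
  ⟨P173, 1, [.a0, .a1, .a2, .a3, .a7], [.a0, .a1, .a2, .a7, .a8]⟩,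
  ⟨P173, 0, [.a0, .a2, .a3, .a7], [.a0, .a7, .a8]⟩]
def N555 : List Ent := [⟨1, [.a0, .a6], [.a0, .a6]⟩,
  ⟨2, [.a1, .a8], [.a1, .a2, .a8]⟩,
  ⟨4, [.a2], [.a2]⟩,
  ⟨8, [.a3], [.a3]⟩,
  ⟨16, [.a4], [.a4, .a5]⟩,
  ⟨32, [.a5], [.a5]⟩,
  ⟨64, [.a6], [.a6]⟩,
  ⟨128, [.a7], [.a7, .a8]⟩,
  ⟨256, [.a8], [.a8]⟩]
theorem bad555 (c : CtxF Goal γ) : Bad Goal γ [] P555 :=
  c.toCtx.bnd (B := B555) (D := D555) (I := [1, 2, 0, 3, 4]) (r := 4) (C := C555) (N := N555) (by decide +kernel) (by decide +kernel) (by decide +kernel) (by decide +kernel)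
    (allB_cons (bad85 c) (allB_cons (bad122 c) (allB_cons (bad158 c) (allB_cons (bad172 c) (allB_cons (bad172 c) (allB_cons (bad172 c) (allB_cons (bad172 c) (allB_cons (bad173 c) (allB_cons (bad173 c) (allB_cons (bad173 c) (allB_cons (bad173 c) (allB_cons (bad173 c) (allB_cons (bad173 c) (allB_cons (bad173 c) (allB_cons (bad173 c) (allB_nil))))))))))))))))

def P556 : List Ent := [⟨1, [.a0, .a6, .a8], [.a0, .a5, .a6, .a8]⟩,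
  ⟨2, [.a1, .a8], [.a1, .a2, .a8]⟩,
  ⟨4, [.a2], [.a2]⟩,
  ⟨8, [.a3], [.a3]⟩,
  ⟨32, [.a5], [.a5]⟩]
def B556 : List Gv := [⟨[.a0, .a6, .a8], [.a0, .a5, .a6, .a8]⟩, ⟨[.a1, .a8], [.a1, .a2, .a8]⟩, ⟨[.a3], [.a3]⟩]
def D556 : List Dv := [⟨[.a5], [0, 0], []⟩,
  ⟨[.a2], [2, 2], []⟩]
def C556 : List Ch := [⟨P85, 0, [], []⟩,
  ⟨P127, 1, [.a9], [.a9]⟩,
  ⟨P158, 0, [.a0, .a1, .a2, .a3, .a4, .a6, .a8, .a9, .a10, .a11], [.a0, .a10]⟩,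
  ⟨P174, 2, [], []⟩,
  ⟨P174, 0, [.a7], [.a7, .a8]⟩,
  ⟨P174, 1, [.a4], [.a4, .a5]⟩,
  ⟨P174, 0, [.a4, .a6, .a7], [.a4, .a5, .a7, .a8]⟩]
def N556 : List Ent := [⟨1, [.a0, .a6, .a8], [.a0, .a5, .a6, .a8]⟩,
  ⟨2, [.a1, .a8], [.a1, .a2, .a8]⟩,
  ⟨4, [.a2], [.a2]⟩,
  ⟨8, [.a3], [.a3]⟩,
  ⟨16, [.a4], [.a4, .a5]⟩,
  ⟨32, [.a5], [.a5]⟩,
  ⟨64, [.a6], [.a6]⟩,
  ⟨128, [.a7], [.a7, .a8]⟩,
  ⟨256, [.a8], [.a8]⟩]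
theorem bad556 (c : CtxF Goal γ) : Bad Goal γ [] P556 :=
  c.toCtx.bnd (B := B556) (D := D556) (I := [2, 3, 0, 4, 1]) (r := 3) (C := C556) (N := N556) (by decide +kernel) (by decide +kernel) (by decide +kernel) (by decide +kernel)
    (allB_cons (bad85 c) (allB_cons (bad127 c) (allB_cons (bad158 c) (allB_cons (bad174 c) (allB_cons (bad174 c) (allB_cons (bad174 c) (allB_cons (bad174 c) (allB_nil))))))))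

def P557 : List Ent := [⟨1, [.a0, .a6], [.a0, .a6]⟩,
  ⟨2, [.a1], [.a1, .a2]⟩,
  ⟨4, [.a2], [.a2]⟩,
  ⟨8, [.a3, .a8], [.a3, .a8]⟩,
  ⟨32, [.a5], [.a5]⟩]
def B557 : List Gv := [⟨[.a0, .a6], [.a0, .a6]⟩, ⟨[.a1], [.a1, .a2]⟩, ⟨[.a3, .a8], [.a3, .a8]⟩]
def D557 : List Dv := [⟨[.a5], [1, 0], [0, 1]⟩,
  ⟨[.a2], [2, 2], []⟩]
theorem bad557 (c : CtxF Goal γ) : Bad Goal γ [] P557 :=
  c.toCtx.cent (B := B557) (D := D557) (I := [2, 3, 0, 4, 1]) (z := [.a3]) (by decide +kernel) (by decide +kernel)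

def P558 : List Ent := [⟨1, [.a0], [.a0]⟩,
  ⟨2, [.a1], [.a1, .a2]⟩,
  ⟨4, [.a2], [.a2]⟩,
  ⟨32, [.a5], [.a5]⟩,
  ⟨64, [.a6], [.a6]⟩]
def B558 : List Gv := [⟨[.a0], [.a0]⟩, ⟨[.a1], [.a1, .a2]⟩, ⟨[.a6], [.a6]⟩]
def D558 : List Dv := [⟨[.a2], [1, 1], []⟩,
  ⟨[.a5], [3, 2], [2, 3]⟩]
theorem bad558 (c : CtxF Goal γ) : Bad Goal γ [] P558 :=
  c.toCtx.cent (B := B558) (D := D558) (I := [2, 3, 1, 0, 4]) (z := [.a3]) (by decide +kernel) (by decide +kernel)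

def P559 : List Ent := [⟨1, [.a0], [.a0]⟩,
  ⟨2, [.a1], [.a1, .a2]⟩,
  ⟨4, [.a2], [.a2]⟩,
  ⟨8, [.a3, .a6], [.a3, .a6]⟩,
  ⟨32, [.a5], [.a5]⟩]
def B559 : List Gv := [⟨[.a0], [.a0]⟩, ⟨[.a1], [.a1, .a2]⟩, ⟨[.a3, .a6], [.a3, .a6]⟩]
def D559 : List Dv := [⟨[.a2], [1, 1], []⟩,
  ⟨[.a5], [3, 2], [2, 3]⟩]
theorem bad559 (c : CtxF Goal γ) : Bad Goal γ [] P559 :=
  c.toCtx.cent (B := B559) (D := D559) (I := [2, 3, 1, 4, 0]) (z := [.a3]) (by decide +kernel) (by decide +kernel)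

def P560 : List Ent := [⟨1, [.a0, .a8], [.a0, .a5, .a8]⟩,
  ⟨2, [.a1], [.a1, .a2]⟩,
  ⟨4, [.a2], [.a2]⟩,
  ⟨32, [.a5], [.a5]⟩,
  ⟨64, [.a6], [.a6]⟩]
def B560 : List Gv := [⟨[.a0, .a8], [.a0, .a5, .a8]⟩, ⟨[.a1], [.a1, .a2]⟩, ⟨[.a6], [.a6]⟩]
def D560 : List Dv := [⟨[.a5], [0, 0], []⟩,
  ⟨[.a2], [2, 2], []⟩]
theorem bad560 (c : CtxF Goal γ) : Bad Goal γ [] P560 :=
  c.toCtx.cent (B := B560) (D := D560) (I := [2, 3, 0, 1, 4]) (z := [.a3]) (by decide +kernel) (by decide +kernel)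

def P561 : List Ent := [⟨1, [.a0, .a8], [.a0, .a5, .a8]⟩,
  ⟨2, [.a1], [.a1, .a2]⟩,
  ⟨4, [.a2], [.a2]⟩,
  ⟨8, [.a3, .a6], [.a3, .a6]⟩,
  ⟨32, [.a5], [.a5]⟩]
def B561 : List Gv := [⟨[.a0, .a8], [.a0, .a5, .a8]⟩, ⟨[.a1], [.a1, .a2]⟩, ⟨[.a3, .a6], [.a3, .a6]⟩]
def D561 : List Dv := [⟨[.a5], [0, 0], []⟩,
  ⟨[.a2], [2, 2], []⟩]
theorem bad561 (c : CtxF Goal γ) : Bad Goal γ [] P561 :=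
  c.toCtx.cent (B := B561) (D := D561) (I := [2, 3, 0, 4, 1]) (z := [.a3]) (by decide +kernel) (by decide +kernel)

def P562 : List Ent := [⟨1, [.a0], [.a0]⟩,
  ⟨2, [.a1], [.a1, .a2]⟩,
  ⟨4, [.a2], [.a2]⟩,
  ⟨32, [.a5], [.a5]⟩,
  ⟨64, [.a6, .a8], [.a6, .a8]⟩]
def B562 : List Gv := [⟨[.a0], [.a0]⟩, ⟨[.a1], [.a1, .a2]⟩, ⟨[.a6, .a8], [.a6, .a8]⟩]
def D562 : List Dv := [⟨[.a2], [1, 1], []⟩,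
  ⟨[.a5], [3, 1], [1, 3]⟩]
theorem bad562 (c : CtxF Goal γ) : Bad Goal γ [] P562 :=
  c.toCtx.cent (B := B562) (D := D562) (I := [2, 3, 1, 0, 4]) (z := [.a3]) (by decide +kernel) (by decide +kernel)

def P563 : List Ent := [⟨1, [.a0], [.a0]⟩,
  ⟨2, [.a1], [.a1, .a2]⟩,
  ⟨4, [.a2], [.a2]⟩,
  ⟨8, [.a3, .a6, .a8], [.a3, .a6, .a8]⟩,
  ⟨32, [.a5], [.a5]⟩]
def B563 : List Gv := [⟨[.a0], [.a0]⟩, ⟨[.a1], [.a1, .a2]⟩, ⟨[.a3, .a6, .a8], [.a3, .a6, .a8]⟩]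
def D563 : List Dv := [⟨[.a2], [1, 1], []⟩,
  ⟨[.a5], [3, 1], [1, 3]⟩]
theorem bad563 (c : CtxF Goal γ) : Bad Goal γ [] P563 :=
  c.toCtx.cent (B := B563) (D := D563) (I := [2, 3, 1, 4, 0]) (z := [.a3]) (by decide +kernel) (by decide +kernel)

def P564 : List Ent := [⟨1, [.a0], [.a0]⟩,
  ⟨2, [.a1, .a8], [.a1, .a2, .a8]⟩,
  ⟨4, [.a2], [.a2]⟩,
  ⟨32, [.a5], [.a5]⟩,
  ⟨64, [.a6, .a8], [.a6, .a8]⟩]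
def B564 : List Gv := [⟨[.a0], [.a0]⟩, ⟨[.a1, .a8], [.a1, .a2, .a8]⟩, ⟨[.a6, .a8], [.a6, .a8]⟩]
def D564 : List Dv := [⟨[.a5], [1, 0], [0, 1]⟩,
  ⟨[.a2], [2, 2], []⟩]
theorem bad564 (c : CtxF Goal γ) : Bad Goal γ [] P564 :=
  c.toCtx.cent (B := B564) (D := D564) (I := [2, 3, 0, 1, 4]) (z := [.a3]) (by decide +kernel) (by decide +kernel)

def P565 : List Ent := [⟨1, [.a0], [.a0]⟩,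
  ⟨2, [.a1, .a8], [.a1, .a2, .a8]⟩,
  ⟨4, [.a2], [.a2]⟩,
  ⟨8, [.a3, .a6, .a8], [.a3, .a6, .a8]⟩,
  ⟨32, [.a5], [.a5]⟩]
def B565 : List Gv := [⟨[.a0], [.a0]⟩, ⟨[.a1, .a8], [.a1, .a2, .a8]⟩, ⟨[.a3, .a6, .a8], [.a3, .a6, .a8]⟩]
def D565 : List Dv := [⟨[.a5], [1, 0], [0, 1]⟩,
  ⟨[.a2], [2, 2], []⟩]
theorem bad565 (c : CtxF Goal γ) : Bad Goal γ [] P565 :=
  c.toCtx.cent (B := B565) (D := D565) (I := [2, 3, 0, 4, 1]) (z := [.a3]) (by decide +kernel) (by decide +kernel)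

def P566 : List Ent := [⟨1, [.a0, .a9], [.a0, .a3, .a6, .a9]⟩,
  ⟨2, [.a1, .a4, .a7], [.a1, .a2, .a3, .a4, .a6, .a7, .a8]⟩,
  ⟨4, [.a2, .a8], [.a2, .a8]⟩,
  ⟨8, [.a3, .a6], [.a3, .a6]⟩,
  ⟨32, [.a5], [.a5]⟩]
def B566 : List Gv := [⟨[.a0, .a9], [.a0, .a3, .a6, .a9]⟩, ⟨[.a1, .a4, .a7], [.a1, .a2, .a3, .a4, .a6, .a7, .a8]⟩, ⟨[.a2, .a8], [.a2, .a8]⟩]
def D566 : List Dv := [⟨[.a3, .a6], [0, 0], []⟩,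
  ⟨[.a5], [0, 3, 2, 2], []⟩]
def C566 : List Ch := [⟨P84, 0, [.a0, .a10], [.a0, .a1, .a2, .a3, .a4, .a6, .a8, .a9, .a10, .a11]⟩,
  ⟨P132, 1, [], []⟩,
  ⟨P161, 0, [.a0, .a10, .a11], [.a0, .a1, .a3, .a5, .a6, .a7, .a8, .a9, .a10]⟩,
  ⟨P175, 2, [], []⟩,
  ⟨P175, 0, [.a2], [.a2]⟩,
  ⟨P175, 1, [.a4], [.a4, .a5]⟩,
  ⟨P175, 0, [.a2, .a4], [.a2, .a4, .a5]⟩]
def N566 : List Ent := [⟨1, [.a0, .a9], [.a0, .a3, .a6, .a9]⟩,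
  ⟨2, [.a1, .a4, .a7], [.a1, .a2, .a3, .a4, .a6, .a7, .a8]⟩,
  ⟨4, [.a2, .a8], [.a2, .a8]⟩,
  ⟨8, [.a3, .a6], [.a3, .a6]⟩,
  ⟨16, [.a4], [.a4, .a5]⟩,
  ⟨32, [.a5], [.a5]⟩,
  ⟨64, [.a6], [.a6]⟩,
  ⟨256, [.a8], [.a8]⟩]
theorem bad566 (c : CtxF Goal γ) : Bad Goal γ [] P566 :=
  c.toCtx.bnd (B := B566) (D := D566) (I := [2, 3, 4, 1, 0]) (r := 3) (C := C566) (N := N566) (by decide +kernel) (by decide +kernel) (by decide +kernel) (by decide +kernel)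
    (allB_cons (bad84 c) (allB_cons (bad132 c) (allB_cons (bad161 c) (allB_cons (bad175 c) (allB_cons (bad175 c) (allB_cons (bad175 c) (allB_cons (bad175 c) (allB_nil))))))))

def P567 : List Ent := [⟨1, [.a0, .a6, .a9], [.a0, .a3, .a9]⟩,
  ⟨2, [.a1, .a4, .a7], [.a1, .a2, .a3, .a4, .a6, .a7, .a8]⟩,
  ⟨4, [.a2, .a8], [.a2, .a8]⟩,
  ⟨8, [.a3, .a6], [.a3, .a6]⟩,
  ⟨32, [.a5], [.a5]⟩]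
def B567 : List Gv := [⟨[.a0, .a6, .a9], [.a0, .a3, .a9]⟩, ⟨[.a1, .a4, .a7], [.a1, .a2, .a3, .a4, .a6, .a7, .a8]⟩]
def D567 : List Dv := [⟨[.a3, .a6], [0, 0], []⟩,
  ⟨[.a5], [0, 2, 1], [1, 2]⟩,
  ⟨[.a2, .a3, .a5, .a6, .a8], [3, 3], []⟩,
  ⟨[.a2, .a8], [0], [2, 1]⟩]
def C567 : List Ch := [⟨P84, 0, [.a0, .a10], [.a0, .a1, .a2, .a3, .a4, .a6, .a8, .a9, .a10, .a11]⟩,
  ⟨P133, 1, [], []⟩,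
  ⟨P161, 0, [.a10, .a11], [.a10]⟩]
def N567 : List Ent := [⟨1, [.a0, .a6, .a9], [.a0, .a3, .a9]⟩,
  ⟨2, [.a1, .a4, .a7], [.a1, .a2, .a3, .a4, .a6, .a7, .a8]⟩,
  ⟨4, [.a2, .a8], [.a2, .a8]⟩,
  ⟨8, [.a3, .a6], [.a3, .a6]⟩,
  ⟨16, [.a4], [.a4, .a5]⟩,
  ⟨32, [.a5], [.a5]⟩,
  ⟨64, [.a6], [.a6]⟩,
  ⟨256, [.a8], [.a8]⟩]
theorem bad567 (c : CtxF Goal γ) : Bad Goal γ [] P567 :=
  c.toCtx.bnd (B := B567) (D := D567) (I := [4, 5, 0, 3, 2]) (r := 2) (C := C567) (N := N567) (by decide +kernel) (by decide +kernel) (by decide +kernel) (by decide +kernel)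
    (allB_cons (bad84 c) (allB_cons (bad133 c) (allB_cons (bad161 c) (allB_nil))))

def P568 : List Ent := [⟨1, [.a0, .a9], [.a0, .a3, .a6, .a9]⟩,
  ⟨2, [.a1, .a4, .a7, .a9], [.a1, .a2, .a3, .a4, .a7, .a8, .a9]⟩,
  ⟨4, [.a2, .a6, .a8], [.a2, .a6, .a8]⟩,
  ⟨8, [.a3, .a6], [.a3, .a6]⟩,
  ⟨32, [.a5], [.a5]⟩]
def B568 : List Gv := [⟨[.a0, .a9], [.a0, .a3, .a6, .a9]⟩, ⟨[.a1, .a4, .a7, .a9], [.a1, .a2, .a3, .a4, .a7, .a8, .a9]⟩, ⟨[.a5], [.a5]⟩]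
def D568 : List Dv := [⟨[.a3, .a6], [0, 0], []⟩,
  ⟨[.a2, .a3, .a8], [2, 2], []⟩,
  ⟨[.a2, .a6, .a8], [0], [1]⟩]
def C568 : List Ch := [⟨P86, 0, [.a0, .a2, .a3, .a4, .a5, .a6, .a7, .a9, .a10, .a11], [.a0, .a1, .a2, .a3, .a4, .a6, .a8, .a9, .a10]⟩,
  ⟨P134, 1, [], []⟩,
  ⟨P157, 0, [.a0, .a1, .a3, .a5, .a6, .a7, .a8, .a9, .a10], [.a0, .a10, .a11]⟩,
  ⟨P176, 2, [], []⟩,
  ⟨P176, 0, [.a8], [.a8]⟩,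
  ⟨P176, 1, [.a3], [.a3]⟩,
  ⟨P176, 0, [.a2], [.a2]⟩]
def N568 : List Ent := [⟨1, [.a0, .a9], [.a0, .a3, .a6, .a9]⟩,
  ⟨2, [.a1, .a4, .a7, .a9], [.a1, .a2, .a3, .a4, .a7, .a8, .a9]⟩,
  ⟨4, [.a2, .a6, .a8], [.a2, .a6, .a8]⟩,
  ⟨8, [.a3, .a6], [.a3, .a6]⟩,
  ⟨32, [.a5], [.a5]⟩,
  ⟨64, [.a6], [.a6]⟩,
  ⟨256, [.a8], [.a8]⟩]
theorem bad568 (c : CtxF Goal γ) : Bad Goal γ [] P568 :=
  c.toCtx.bnd (B := B568) (D := D568) (I := [3, 4, 0, 2, 5]) (r := 3) (C := C568) (N := N568) (by decide +kernel) (by decide +kernel) (by decide +kernel) (by decide +kernel)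
    (allB_cons (bad86 c) (allB_cons (bad134 c) (allB_cons (bad157 c) (allB_cons (bad176 c) (allB_cons (bad176 c) (allB_cons (bad176 c) (allB_cons (bad176 c) (allB_nil))))))))

def P569 : List Ent := [⟨1, [.a0, .a6, .a9], [.a0, .a3, .a9]⟩,
  ⟨2, [.a1, .a4, .a7, .a9], [.a1, .a2, .a3, .a4, .a7, .a8, .a9]⟩,
  ⟨4, [.a2, .a6, .a8], [.a2, .a6, .a8]⟩,
  ⟨8, [.a3, .a6], [.a3, .a6]⟩,
  ⟨32, [.a5], [.a5]⟩]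
def B569 : List Gv := [⟨[.a0, .a6, .a9], [.a0, .a3, .a9]⟩, ⟨[.a1, .a4, .a7, .a9], [.a1, .a2, .a3, .a4, .a7, .a8, .a9]⟩]
def D569 : List Dv := [⟨[.a3, .a6], [0, 0], []⟩,
  ⟨[.a5], [2, 1], [1, 2]⟩,
  ⟨[.a2, .a3, .a8], [3, 3], []⟩,
  ⟨[.a2, .a6, .a8], [0], [2]⟩]
theorem bad569 (c : CtxF Goal γ) : Bad Goal γ [] P569 :=
  c.toCtx.cent (B := B569) (D := D569) (I := [4, 5, 0, 3, 2]) (z := [.a0, .a1, .a2, .a4, .a7]) (by decide +kernel) (by decide +kernel)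

def P570 : List Ent := [⟨1, [.a0, .a9], [.a0, .a3, .a6, .a9]⟩,
  ⟨2, [.a1, .a4, .a7, .a8], [.a1, .a2, .a3, .a4, .a6, .a7]⟩,
  ⟨4, [.a2, .a8], [.a2, .a8]⟩,
  ⟨8, [.a3, .a6], [.a3, .a6]⟩,
  ⟨32, [.a5], [.a5]⟩]
def B570 : List Gv := [⟨[.a0, .a9], [.a0, .a3, .a6, .a9]⟩, ⟨[.a1, .a4, .a7, .a8], [.a1, .a2, .a3, .a4, .a6, .a7]⟩]
def D570 : List Dv := [⟨[.a3, .a6], [0, 0], []⟩,
  ⟨[.a5], [0, 2, 1], [1, 2]⟩,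
  ⟨[.a2, .a3, .a5, .a6, .a8], [3, 3], []⟩,
  ⟨[.a2, .a8], [0], [2, 1]⟩]
def C570 : List Ch := [⟨P85, 0, [.a0, .a10], [.a0, .a1, .a2, .a3, .a4, .a6, .a8, .a9, .a10, .a11]⟩,
  ⟨P132, 1, [], []⟩,
  ⟨P161, 0, [.a7, .a9, .a10, .a11], [.a7, .a8, .a10]⟩]
def N570 : List Ent := [⟨1, [.a0, .a9], [.a0, .a3, .a6, .a9]⟩,
  ⟨2, [.a1, .a4, .a7, .a8], [.a1, .a2, .a3, .a4, .a6, .a7]⟩,
  ⟨4, [.a2, .a8], [.a2, .a8]⟩,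
  ⟨8, [.a3, .a6], [.a3, .a6]⟩,
  ⟨16, [.a4], [.a4, .a5]⟩,
  ⟨32, [.a5], [.a5]⟩,
  ⟨64, [.a6], [.a6]⟩,
  ⟨256, [.a8], [.a8]⟩]
theorem bad570 (c : CtxF Goal γ) : Bad Goal γ [] P570 :=
  c.toCtx.bnd (B := B570) (D := D570) (I := [4, 5, 0, 3, 2]) (r := 2) (C := C570) (N := N570) (by decide +kernel) (by decide +kernel) (by decide +kernel) (by decide +kernel)
    (allB_cons (bad85 c) (allB_cons (bad132 c) (allB_cons (bad161 c) (allB_nil))))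

def P571 : List Ent := [⟨1, [.a0, .a6, .a9], [.a0, .a3, .a9]⟩,
  ⟨2, [.a1, .a4, .a7, .a8], [.a1, .a2, .a3, .a4, .a6, .a7]⟩,
  ⟨4, [.a2, .a8], [.a2, .a8]⟩,
  ⟨8, [.a3, .a6], [.a3, .a6]⟩,
  ⟨32, [.a5], [.a5]⟩]
def B571 : List Gv := [⟨[.a0, .a6, .a9], [.a0, .a3, .a9]⟩, ⟨[.a1, .a4, .a7, .a8], [.a1, .a2, .a3, .a4, .a6, .a7]⟩, ⟨[.a2, .a8], [.a2, .a8]⟩]
def D571 : List Dv := [⟨[.a3, .a6], [0, 0], []⟩,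
  ⟨[.a5], [0, 3, 2, 2], []⟩]
def C571 : List Ch := [⟨P85, 0, [.a0, .a10], [.a0, .a1, .a2, .a3, .a4, .a6, .a8, .a9, .a10, .a11]⟩,
  ⟨P133, 1, [], []⟩,
  ⟨P161, 0, [.a0, .a1, .a2, .a3, .a4, .a6, .a8, .a9, .a10, .a11], [.a0, .a10]⟩,
  ⟨P177, 2, [], []⟩,
  ⟨P177, 0, [.a2], [.a2]⟩,
  ⟨P177, 1, [.a4], [.a4, .a5]⟩,
  ⟨P177, 0, [.a2, .a4], [.a2, .a4, .a5]⟩]
def N571 : List Ent := [⟨1, [.a0, .a6, .a9], [.a0, .a3, .a9]⟩,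
  ⟨2, [.a1, .a4, .a7, .a8], [.a1, .a2, .a3, .a4, .a6, .a7]⟩,
  ⟨4, [.a2, .a8], [.a2, .a8]⟩,
  ⟨8, [.a3, .a6], [.a3, .a6]⟩,
  ⟨16, [.a4], [.a4, .a5]⟩,
  ⟨32, [.a5], [.a5]⟩,
  ⟨64, [.a6], [.a6]⟩,
  ⟨256, [.a8], [.a8]⟩]
theorem bad571 (c : CtxF Goal γ) : Bad Goal γ [] P571 :=
  c.toCtx.bnd (B := B571) (D := D571) (I := [2, 3, 4, 1, 0]) (r := 3) (C := C571) (N := N571) (by decide +kernel) (by decide +kernel) (by decide +kernel) (by decide +kernel)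
    (allB_cons (bad85 c) (allB_cons (bad133 c) (allB_cons (bad161 c) (allB_cons (bad177 c) (allB_cons (bad177 c) (allB_cons (bad177 c) (allB_cons (bad177 c) (allB_nil))))))))

def P572 : List Ent := [⟨64, [.a6], [.a6]⟩,
  ⟨128, [.a7], [.a7, .a8]⟩,
  ⟨256, [.a8], [.a8]⟩,
  ⟨512, [.a9], [.a9]⟩,
  ⟨1024, [.a10], [.a10, .a11]⟩,
  ⟨2048, [.a11], [.a11]⟩]
def B572 : List Gv := [⟨[.a6], [.a6]⟩, ⟨[.a7], [.a7, .a8]⟩, ⟨[.a10], [.a10, .a11]⟩]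
def D572 : List Dv := [⟨[.a8], [1, 1], []⟩,
  ⟨[.a9], [3, 2], [2, 3]⟩,
  ⟨[.a11], [4, 4], []⟩]
theorem bad572 (c : CtxF Goal γ) : Bad Goal γ [] P572 :=
  c.toCtx.cent (B := B572) (D := D572) (I := [3, 4, 2, 1, 5, 0]) (z := [.a5]) (by decide +kernel) (by decide +kernel)

def P573 : List Ent := [⟨32, [.a5], [.a5]⟩,
  ⟨128, [.a7], [.a7, .a8]⟩,
  ⟨256, [.a8], [.a8]⟩,
  ⟨512, [.a9], [.a9]⟩,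
  ⟨1024, [.a10], [.a10, .a11]⟩,
  ⟨2048, [.a11], [.a11]⟩]
def B573 : List Gv := [⟨[.a5], [.a5]⟩, ⟨[.a7], [.a7, .a8]⟩, ⟨[.a10], [.a10, .a11]⟩]
def D573 : List Dv := [⟨[.a8], [1, 1], []⟩,
  ⟨[.a9], [3, 2], [2, 3]⟩,
  ⟨[.a11], [4, 4], []⟩]
def C573 : List Ch := [⟨P178, 0, [], []⟩,
  ⟨P179, 1, [], []⟩,
  ⟨P180, 0, [], []⟩,
  ⟨P181, 2, [], []⟩,
  ⟨P182, 0, [], []⟩,
  ⟨P183, 1, [], []⟩,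
  ⟨P184, 0, [], []⟩]
def S573 : List St := [.phi 1 [⟨256, [.a8], [.a8]⟩,
  ⟨512, [.a9], [.a9]⟩,
  ⟨2048, [.a11], [.a11]⟩] [[[.a7]], [[.a7], [.a10], [.a7, .a10]], [[.a10]]]]
theorem bad573 (c : CtxF Goal γ) : Bad Goal γ [] P573 :=
  c.toCtx.chn (B := B573) (D := D573) (I := [3, 4, 2, 1, 5, 0]) (r := 3) (C := C573) (l := S573) (x := ⟨[.a6], [.a6]⟩) (ix := [0]) (by decide +kernel) (by decide +kernel) (by decide +kernel) (by decide +kernel)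
    (allB_cons (bad178 c) (allB_cons (bad179 c) (allB_cons (bad180 c) (allB_cons (bad181 c) (allB_cons (bad182 c) (allB_cons (bad183 c) (allB_cons (bad184 c) (allB_nil))))))))

def P574 : List Ent := [⟨32, [.a5, .a6], [.a5, .a6]⟩,
  ⟨128, [.a7], [.a7, .a8]⟩,
  ⟨256, [.a8], [.a8]⟩,
  ⟨512, [.a9], [.a9]⟩,
  ⟨1024, [.a10], [.a10, .a11]⟩,
  ⟨2048, [.a11], [.a11]⟩]
def B574 : List Gv := [⟨[.a5, .a6], [.a5, .a6]⟩, ⟨[.a7], [.a7, .a8]⟩, ⟨[.a10], [.a10, .a11]⟩]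
def D574 : List Dv := [⟨[.a8], [1, 1], []⟩,
  ⟨[.a9], [3, 2], [2, 3]⟩,
  ⟨[.a11], [4, 4], []⟩]
theorem bad574 (c : CtxF Goal γ) : Bad Goal γ [] P574 :=
  c.toCtx.cent (B := B574) (D := D574) (I := [3, 4, 2, 1, 5, 0]) (z := [.a5]) (by decide +kernel) (by decide +kernel)

def P575 : List Ent := [⟨32, [.a5], [.a5]⟩,
  ⟨64, [.a6], [.a6]⟩,
  ⟨256, [.a8], [.a8]⟩,
  ⟨512, [.a9], [.a9]⟩,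
  ⟨1024, [.a10], [.a10, .a11]⟩,
  ⟨2048, [.a11], [.a11]⟩]
def B575 : List Gv := [⟨[.a5], [.a5]⟩, ⟨[.a6], [.a6]⟩, ⟨[.a9], [.a9]⟩, ⟨[.a10], [.a10, .a11]⟩]
def D575 : List Dv := [⟨[.a8], [3, 1], [1, 3]⟩,
  ⟨[.a11], [4, 4], []⟩]
def C575 : List Ch := [⟨P185, 0, [], []⟩,
  ⟨P179, 1, [], []⟩,
  ⟨P186, 0, [], []⟩,
  ⟨P187, 2, [], []⟩,
  ⟨P188, 0, [], []⟩,
  ⟨P189, 1, [], []⟩,
  ⟨P190, 0, [], []⟩,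
  ⟨P191, 3, [], []⟩,
  ⟨P185, 0, [.a3], [.a3]⟩,
  ⟨P179, 1, [.a3], [.a3]⟩,
  ⟨P192, 0, [], []⟩,
  ⟨P187, 2, [.a7], [.a7, .a8]⟩,
  ⟨P188, 0, [.a7], [.a7, .a8]⟩,
  ⟨P189, 1, [.a7], [.a7, .a8]⟩,
  ⟨P190, 0, [.a7], [.a7, .a8]⟩]
def N575 : List Ent := [⟨8, [.a3], [.a3]⟩,
  ⟨16, [.a4], [.a4, .a5]⟩,
  ⟨32, [.a5], [.a5]⟩,
  ⟨64, [.a6], [.a6]⟩,
  ⟨128, [.a7], [.a7, .a8]⟩,
  ⟨256, [.a8], [.a8]⟩,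
  ⟨512, [.a9], [.a9]⟩,
  ⟨1024, [.a10], [.a10, .a11]⟩,
  ⟨2048, [.a11], [.a11]⟩]
theorem bad575 (c : CtxF Goal γ) : Bad Goal γ [] P575 :=
  c.toCtx.bnd (B := B575) (D := D575) (I := [2, 3, 1, 4, 5, 0]) (r := 4) (C := C575) (N := N575) (by decide +kernel) (by decide +kernel) (by decide +kernel) (by decide +kernel)
    (allB_cons (bad185 c) (allB_cons (bad179 c) (allB_cons (bad186 c) (allB_cons (bad187 c) (allB_cons (bad188 c) (allB_cons (bad189 c) (allB_cons (bad190 c) (allB_cons (bad191 c) (allB_cons (bad185 c) (allB_cons (bad179 c) (allB_cons (bad192 c) (allB_cons (bad187 c) (allB_cons (bad188 c) (allB_cons (bad189 c) (allB_cons (bad190 c) (allB_nil))))))))))))))))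

def P576 : List Ent := [⟨32, [.a5, .a7], [.a5, .a7, .a8]⟩,
  ⟨64, [.a6], [.a6]⟩,
  ⟨256, [.a8], [.a8]⟩,
  ⟨512, [.a9], [.a9]⟩,
  ⟨1024, [.a10], [.a10, .a11]⟩,
  ⟨2048, [.a11], [.a11]⟩]
def B576 : List Gv := [⟨[.a5, .a7], [.a5, .a7, .a8]⟩, ⟨[.a6], [.a6]⟩, ⟨[.a10], [.a10, .a11]⟩]
def D576 : List Dv := [⟨[.a8], [0, 0], []⟩,
  ⟨[.a9], [3, 1], [1, 3]⟩,
  ⟨[.a11], [4, 4], []⟩]
theorem bad576 (c : CtxF Goal γ) : Bad Goal γ [] P576 :=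
  c.toCtx.cent (B := B576) (D := D576) (I := [3, 4, 2, 1, 5, 0]) (z := [.a5]) (by decide +kernel) (by decide +kernel)

def P577 : List Ent := [⟨32, [.a5], [.a5]⟩,
  ⟨64, [.a6], [.a6]⟩,
  ⟨128, [.a7], [.a7, .a8]⟩,
  ⟨256, [.a8], [.a8]⟩,
  ⟨512, [.a9], [.a9]⟩,
  ⟨2048, [.a11], [.a11]⟩]
def B577 : List Gv := [⟨[.a5], [.a5]⟩, ⟨[.a6], [.a6]⟩, ⟨[.a7], [.a7, .a8]⟩, ⟨[.a9], [.a9]⟩, ⟨[.a11], [.a11]⟩]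
def D577 : List Dv := [⟨[.a8], [2, 2], []⟩]
def C577 : List Ch := [⟨P193, 0, [], []⟩,
  ⟨P181, 1, [], []⟩,
  ⟨P194, 0, [], []⟩,
  ⟨P191, 2, [], []⟩,
  ⟨P193, 0, [.a3], [.a3]⟩,
  ⟨P181, 1, [.a4], [.a4, .a5]⟩,
  ⟨P194, 0, [.a4], [.a4, .a5]⟩,
  ⟨P195, 3, [], []⟩,
  ⟨P194, 0, [.a1, .a2], [.a1]⟩,
  ⟨P181, 1, [.a1], [.a1, .a2]⟩,
  ⟨P194, 0, [.a2], [.a2]⟩,
  ⟨P195, 2, [.a10], [.a10, .a11]⟩,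
  ⟨P194, 0, [.a1, .a2, .a4, .a5, .a6, .a7, .a8, .a9, .a10], [.a1, .a6, .a8, .a9, .a10, .a11]⟩,
  ⟨P181, 1, [.a1, .a3, .a4, .a5, .a7, .a10], [.a1, .a2, .a10, .a11]⟩,
  ⟨P194, 0, [.a2, .a4], [.a2, .a4, .a5]⟩,
  ⟨P196, 4, [], []⟩,
  ⟨P194, 0, [.a1], [.a1, .a2]⟩,
  ⟨P181, 1, [.a2], [.a2]⟩,
  ⟨P193, 0, [.a1, .a2], [.a1]⟩,
  ⟨P197, 2, [], []⟩,
  ⟨P194, 0, [.a1, .a3], [.a1, .a2, .a3]⟩,
  ⟨P181, 1, [.a2, .a4], [.a2, .a4, .a5]⟩,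
  ⟨P193, 0, [.a1, .a2, .a3, .a4], [.a1, .a4, .a5]⟩,
  ⟨P195, 3, [.a1], [.a1, .a2]⟩,
  ⟨P193, 0, [.a2], [.a2]⟩,
  ⟨P181, 1, [.a1, .a2], [.a1]⟩,
  ⟨P193, 0, [.a1], [.a1, .a2]⟩,
  ⟨P195, 2, [.a1, .a10], [.a1, .a2, .a4, .a5, .a7, .a9, .a10, .a11]⟩,
  ⟨P193, 0, [.a2, .a3, .a7], [.a2, .a3, .a5, .a7, .a8]⟩,
  ⟨P181, 1, [.a1, .a2, .a4, .a5, .a6, .a7, .a8, .a9, .a10], [.a1, .a6, .a8, .a9, .a10, .a11]⟩,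
  ⟨P193, 0, [.a1, .a3, .a4, .a5, .a7, .a10], [.a1, .a2, .a10, .a11]⟩]
def N577 : List Ent := [⟨2, [.a1], [.a1, .a2]⟩,
  ⟨4, [.a2], [.a2]⟩,
  ⟨8, [.a3], [.a3]⟩,
  ⟨16, [.a4], [.a4, .a5]⟩,
  ⟨32, [.a5], [.a5]⟩,
  ⟨64, [.a6], [.a6]⟩,
  ⟨128, [.a7], [.a7, .a8]⟩,
  ⟨256, [.a8], [.a8]⟩,
  ⟨512, [.a9], [.a9]⟩,
  ⟨1024, [.a10], [.a10, .a11]⟩,
  ⟨2048, [.a11], [.a11]⟩]
theorem bad577 (c : CtxF Goal γ) : Bad Goal γ [] P577 :=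
  c.toCtx.bnd (B := B577) (D := D577) (I := [1, 2, 3, 0, 4, 5]) (r := 5) (C := C577) (N := N577) (by decide +kernel) (by decide +kernel) (by decide +kernel) (by decide +kernel)
    (allB_cons (bad193 c) (allB_cons (bad181 c) (allB_cons (bad194 c) (allB_cons (bad191 c) (allB_cons (bad193 c) (allB_cons (bad181 c) (allB_cons (bad194 c) (allB_cons (bad195 c) (allB_cons (bad194 c) (allB_cons (bad181 c) (allB_cons (bad194 c) (allB_cons (bad195 c) (allB_cons (bad194 c) (allB_cons (bad181 c) (allB_cons (bad194 c) (allB_cons (bad196 c) (allB_cons (bad194 c) (allB_cons (bad181 c) (allB_cons (bad193 c) (allB_cons (bad197 c) (allB_cons (bad194 c) (allB_cons (bad181 c) (allB_cons (bad193 c) (allB_cons (bad195 c) (allB_cons (bad193 c) (allB_cons (bad181 c) (allB_cons (bad193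 c) (allB_cons (bad195 c) (allB_cons (bad193 c) (allB_cons (bad181 c) (allB_cons (bad193 c) (allB_nil))))))))))))))))))))))))))))))))

def P578 : List Ent := [⟨32, [.a5, .a10], [.a5, .a10, .a11]⟩,
  ⟨64, [.a6, .a10], [.a6, .a8, .a10, .a11]⟩,
  ⟨128, [.a7], [.a7, .a8]⟩,
  ⟨256, [.a8], [.a8]⟩,
  ⟨512, [.a9], [.a9]⟩,
  ⟨2048, [.a11], [.a11]⟩]
def B578 : List Gv := [⟨[.a5, .a10], [.a5, .a10, .a11]⟩, ⟨[.a6, .a10], [.a6, .a8, .a10, .a11]⟩, ⟨[.a7], [.a7, .a8]⟩]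
def D578 : List Dv := [⟨[.a11], [0, 0], []⟩,
  ⟨[.a8], [2, 1], [1, 2]⟩,
  ⟨[.a9], [4, 2], [2, 4]⟩]
theorem bad578 (c : CtxF Goal γ) : Bad Goal γ [] P578 :=
  c.toCtx.cent (B := B578) (D := D578) (I := [3, 4, 5, 1, 0, 2]) (z := [.a5]) (by decide +kernel) (by decide +kernel)

def P579 : List Ent := [⟨32, [.a5], [.a5]⟩,
  ⟨64, [.a6], [.a6]⟩,
  ⟨128, [.a7, .a10], [.a7, .a8, .a9, .a10, .a11]⟩,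
  ⟨256, [.a8], [.a8]⟩,
  ⟨512, [.a9], [.a9]⟩,
  ⟨2048, [.a11], [.a11]⟩]
def B579 : List Gv := [⟨[.a5], [.a5]⟩, ⟨[.a6], [.a6]⟩, ⟨[.a7, .a10], [.a7, .a8, .a9, .a10, .a11]⟩, ⟨[.a9], [.a9]⟩]
def D579 : List Dv := [⟨[.a8], [2, 1], [1, 2]⟩,
  ⟨[.a11], [4, 0, 3, 3], []⟩]
def C579 : List Ch := [⟨P198, 0, [], []⟩,
  ⟨P183, 1, [], []⟩,
  ⟨P199, 0, [], []⟩,
  ⟨P191, 2, [], []⟩,
  ⟨P200, 0, [], []⟩,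
  ⟨P183, 1, [.a4], [.a4, .a5]⟩,
  ⟨P199, 0, [.a4], [.a4, .a5]⟩,
  ⟨P201, 3, [], []⟩,
  ⟨P202, 0, [], []⟩,
  ⟨P203, 1, [], []⟩,
  ⟨P204, 0, [], []⟩,
  ⟨P201, 2, [.a10], [.a10, .a11]⟩,
  ⟨P202, 0, [.a10], [.a10, .a11]⟩,
  ⟨P203, 1, [.a10], [.a10, .a11]⟩,
  ⟨P204, 0, [.a10], [.a10, .a11]⟩]
def N579 : List Ent := [⟨8, [.a3], [.a3]⟩,
  ⟨16, [.a4], [.a4, .a5]⟩,
  ⟨32, [.a5], [.a5]⟩,
  ⟨64, [.a6], [.a6]⟩,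
  ⟨128, [.a7, .a10], [.a7, .a8, .a9, .a10, .a11]⟩,
  ⟨256, [.a8], [.a8]⟩,
  ⟨512, [.a9], [.a9]⟩,
  ⟨1024, [.a10], [.a10, .a11]⟩,
  ⟨2048, [.a11], [.a11]⟩]
theorem bad579 (c : CtxF Goal γ) : Bad Goal γ [] P579 :=
  c.toCtx.bnd (B := B579) (D := D579) (I := [2, 3, 4, 1, 5, 0]) (r := 4) (C := C579) (N := N579) (by decide +kernel) (by decide +kernel) (by decide +kernel) (by decide +kernel)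
    (allB_cons (bad198 c) (allB_cons (bad183 c) (allB_cons (bad199 c) (allB_cons (bad191 c) (allB_cons (bad200 c) (allB_cons (bad183 c) (allB_cons (bad199 c) (allB_cons (bad201 c) (allB_cons (bad202 c) (allB_cons (bad203 c) (allB_cons (bad204 c) (allB_cons (bad201 c) (allB_cons (bad202 c) (allB_cons (bad203 c) (allB_cons (bad204 c) (allB_nil))))))))))))))))

def P580 : List Ent := [⟨16, [.a4], [.a4, .a5]⟩,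
  ⟨32, [.a5], [.a5]⟩,
  ⟨256, [.a8], [.a8]⟩,
  ⟨512, [.a9], [.a9]⟩,
  ⟨1024, [.a10], [.a10, .a11]⟩,
  ⟨2048, [.a11], [.a11]⟩]
def B580 : List Gv := [⟨[.a4], [.a4, .a5]⟩, ⟨[.a9], [.a9]⟩, ⟨[.a10], [.a10, .a11]⟩]
def D580 : List Dv := [⟨[.a5], [0, 0], []⟩,
  ⟨[.a8], [2, 1], [1, 2]⟩,
  ⟨[.a11], [4, 4], []⟩]
def C580 : List Ch := [⟨P179, 0, [], []⟩,
  ⟨P205, 1, [], []⟩,
  ⟨P206, 0, [], []⟩,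
  ⟨P207, 2, [], []⟩,
  ⟨P203, 0, [.a1], [.a1, .a2]⟩,
  ⟨P208, 1, [], []⟩,
  ⟨P209, 0, [], []⟩]
def S580 : List St := [.comm 1 1 [⟨256, [.a8], [.a8]⟩] [⟨[.a4], [.a9]⟩]]
theorem bad580 (c : CtxF Goal γ) : Bad Goal γ [] P580 :=
  c.toCtx.chn (B := B580) (D := D580) (I := [3, 2, 1, 4, 5, 0]) (r := 3) (C := C580) (l := S580) (x := ⟨[.a6], [.a6]⟩) (ix := [0]) (by decide +kernel) (by decide +kernel) (by decide +kernel) (by decide +kernel)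
    (allB_cons (bad179 c) (allB_cons (bad205 c) (allB_cons (bad206 c) (allB_cons (bad207 c) (allB_cons (bad203 c) (allB_cons (bad208 c) (allB_cons (bad209 c) (allB_nil))))))))

def P581 : List Ent := [⟨16, [.a4], [.a4, .a5]⟩,
  ⟨32, [.a5], [.a5]⟩,
  ⟨64, [.a6], [.a6]⟩,
  ⟨256, [.a8], [.a8]⟩,
  ⟨1024, [.a10], [.a10, .a11]⟩,
  ⟨2048, [.a11], [.a11]⟩]
def B581 : List Gv := [⟨[.a4], [.a4, .a5]⟩, ⟨[.a6], [.a6]⟩, ⟨[.a10], [.a10, .a11]⟩]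
def D581 : List Dv := [⟨[.a5], [0, 0], []⟩,
  ⟨[.a8], [3, 2], [2, 3]⟩,
  ⟨[.a11], [4, 4], []⟩]
def C581 : List Ch := [⟨P187, 0, [], []⟩,
  ⟨P205, 1, [], []⟩,
  ⟨P208, 0, [.a7], [.a7, .a8]⟩,
  ⟨P210, 2, [], []⟩,
  ⟨P201, 0, [.a1], [.a1, .a2]⟩,
  ⟨P205, 1, [.a3], [.a3]⟩,
  ⟨P208, 0, [.a3, .a7], [.a3, .a5, .a7, .a8]⟩]
def N581 : List Ent := [⟨8, [.a3], [.a3]⟩,
  ⟨16, [.a4], [.a4, .a5]⟩,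
  ⟨32, [.a5], [.a5]⟩,
  ⟨64, [.a6], [.a6]⟩,
  ⟨256, [.a8], [.a8]⟩,
  ⟨512, [.a9], [.a9]⟩,
  ⟨1024, [.a10], [.a10, .a11]⟩,
  ⟨2048, [.a11], [.a11]⟩]
theorem bad581 (c : CtxF Goal γ) : Bad Goal γ [] P581 :=
  c.toCtx.bnd (B := B581) (D := D581) (I := [3, 2, 4, 1, 5, 0]) (r := 3) (C := C581) (N := N581) (by decide +kernel) (by decide +kernel) (by decide +kernel) (by decide +kernel)
    (allB_cons (bad187 c) (allB_cons (bad205 c) (allB_cons (bad208 c) (allB_cons (bad210 c) (allB_cons (bad201 c) (allB_cons (bad205 c) (allB_cons (bad208 c) (allB_nil))))))))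

def P582 : List Ent := [⟨16, [.a4, .a9], [.a4, .a5, .a8, .a9]⟩,
  ⟨32, [.a5], [.a5]⟩,
  ⟨64, [.a6], [.a6]⟩,
  ⟨256, [.a8], [.a8]⟩,
  ⟨1024, [.a10], [.a10, .a11]⟩,
  ⟨2048, [.a11], [.a11]⟩]
def B582 : List Gv := [⟨[.a4, .a9], [.a4, .a5, .a8, .a9]⟩, ⟨[.a6], [.a6]⟩, ⟨[.a10], [.a10, .a11]⟩]
def D582 : List Dv := [⟨[.a5, .a8], [0, 0], []⟩,
  ⟨[.a8], [3, 2], [2, 3]⟩,
  ⟨[.a11], [4, 4], []⟩,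
  ⟨[.a5], [2], [1]⟩]
def C582 : List Ch := [⟨P187, 0, [], []⟩,
  ⟨P206, 1, [], []⟩,
  ⟨P209, 0, [.a7], [.a7, .a8]⟩,
  ⟨P211, 2, [], []⟩,
  ⟨P201, 0, [.a1, .a10], [.a1, .a2, .a4, .a5, .a7, .a9, .a10, .a11]⟩,
  ⟨P206, 1, [.a3], [.a3]⟩,
  ⟨P209, 0, [.a3, .a7], [.a3, .a5, .a7, .a8]⟩]
def N582 : List Ent := [⟨8, [.a3], [.a3]⟩,
  ⟨16, [.a4, .a9], [.a4, .a5, .a8, .a9]⟩,
  ⟨32, [.a5], [.a5]⟩,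
  ⟨64, [.a6], [.a6]⟩,
  ⟨256, [.a8], [.a8]⟩,
  ⟨512, [.a9], [.a9]⟩,
  ⟨1024, [.a10], [.a10, .a11]⟩,
  ⟨2048, [.a11], [.a11]⟩]
theorem bad582 (c : CtxF Goal γ) : Bad Goal γ [] P582 :=
  c.toCtx.bnd (B := B582) (D := D582) (I := [4, 0, 5, 2, 6, 1]) (r := 3) (C := C582) (N := N582) (by decide +kernel) (by decide +kernel) (by decide +kernel) (by decide +kernel)
    (allB_cons (bad187 c) (allB_cons (bad206 c) (allB_cons (bad209 c) (allB_cons (bad211 c) (allB_cons (bad201 c) (allB_cons (bad206 c) (allB_cons (bad209 c) (allB_nil))))))))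

def P583 : List Ent := [⟨16, [.a4], [.a4, .a5]⟩,
  ⟨32, [.a5], [.a5]⟩,
  ⟨64, [.a6, .a9], [.a6, .a9]⟩,
  ⟨256, [.a8], [.a8]⟩,
  ⟨1024, [.a10], [.a10, .a11]⟩,
  ⟨2048, [.a11], [.a11]⟩]
def B583 : List Gv := [⟨[.a4], [.a4, .a5]⟩, ⟨[.a6, .a9], [.a6, .a9]⟩, ⟨[.a10], [.a10, .a11]⟩]
def D583 : List Dv := [⟨[.a5], [0, 0], []⟩,
  ⟨[.a8], [2, 1], [1, 2]⟩,
  ⟨[.a11], [4, 4], []⟩]
def C583 : List Ch := [⟨P189, 0, [], []⟩,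
  ⟨P205, 1, [], []⟩,
  ⟨P209, 0, [.a7], [.a7, .a8]⟩,
  ⟨P212, 2, [], []⟩,
  ⟨P183, 0, [.a1], [.a1, .a2]⟩,
  ⟨P208, 1, [.a3], [.a3]⟩,
  ⟨P206, 0, [.a3, .a7], [.a3, .a5, .a7, .a8]⟩]
def S583 : List St := [.comm 1 1 [⟨256, [.a8], [.a8]⟩] [⟨[.a4], [.a6, .a9]⟩]]
theorem bad583 (c : CtxF Goal γ) : Bad Goal γ [] P583 :=
  c.toCtx.chn (B := B583) (D := D583) (I := [3, 2, 4, 1, 5, 0]) (r := 3) (C := C583) (l := S583) (x := ⟨[.a9], [.a9]⟩) (ix := [0]) (by decide +kernel) (by decide +kernel) (by decide +kernel) (by decide +kernel)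
    (allB_cons (bad189 c) (allB_cons (bad205 c) (allB_cons (bad209 c) (allB_cons (bad212 c) (allB_cons (bad183 c) (allB_cons (bad208 c) (allB_cons (bad206 c) (allB_nil))))))))

def P584 : List Ent := [⟨16, [.a4], [.a4, .a5]⟩,
  ⟨32, [.a5], [.a5]⟩,
  ⟨64, [.a6], [.a6]⟩,
  ⟨256, [.a8], [.a8]⟩,
  ⟨512, [.a9], [.a9]⟩,
  ⟨2048, [.a11], [.a11]⟩]
def B584 : List Gv := [⟨[.a4], [.a4, .a5]⟩, ⟨[.a6], [.a6]⟩, ⟨[.a9], [.a9]⟩, ⟨[.a11], [.a11]⟩]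
def D584 : List Dv := [⟨[.a5], [0, 0], []⟩,
  ⟨[.a8], [3, 1], [1, 3]⟩]
def C584 : List Ch := [⟨P191, 0, [], []⟩,
  ⟨P207, 1, [], []⟩,
  ⟨P207, 0, [.a7], [.a7, .a8]⟩,
  ⟨P210, 2, [], []⟩,
  ⟨P211, 0, [], []⟩,
  ⟨P212, 1, [], []⟩,
  ⟨P212, 0, [.a7], [.a7, .a8]⟩,
  ⟨P213, 3, [], []⟩,
  ⟨P214, 0, [], []⟩,
  ⟨P207, 1, [.a2], [.a2]⟩,
  ⟨P207, 0, [.a2, .a3, .a7], [.a2, .a3, .a5, .a7, .a8]⟩,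
  ⟨P215, 2, [], []⟩,
  ⟨P216, 0, [], []⟩,
  ⟨P212, 1, [.a2], [.a2]⟩,
  ⟨P212, 0, [.a2, .a3, .a7], [.a2, .a3, .a5, .a7, .a8]⟩]
def N584 : List Ent := [⟨4, [.a2], [.a2]⟩,
  ⟨8, [.a3], [.a3]⟩,
  ⟨16, [.a4], [.a4, .a5]⟩,
  ⟨32, [.a5], [.a5]⟩,
  ⟨64, [.a6], [.a6]⟩,
  ⟨128, [.a7], [.a7, .a8]⟩,
  ⟨256, [.a8], [.a8]⟩,
  ⟨512, [.a9], [.a9]⟩,
  ⟨1024, [.a10], [.a10, .a11]⟩,
  ⟨2048, [.a11], [.a11]⟩]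
theorem bad584 (c : CtxF Goal γ) : Bad Goal γ [] P584 :=
  c.toCtx.bnd (B := B584) (D := D584) (I := [2, 1, 3, 0, 4, 5]) (r := 4) (C := C584) (N := N584) (by decide +kernel) (by decide +kernel) (by decide +kernel) (by decide +kernel)
    (allB_cons (bad191 c) (allB_cons (bad207 c) (allB_cons (bad207 c) (allB_cons (bad210 c) (allB_cons (bad211 c) (allB_cons (bad212 c) (allB_cons (bad212 c) (allB_cons (bad213 c) (allB_cons (bad214 c) (allB_cons (bad207 c) (allB_cons (bad207 c) (allB_cons (bad215 c) (allB_cons (bad216 c) (allB_cons (bad212 c) (allB_cons (bad212 c) (allB_nil))))))))))))))))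

def P585 : List Ent := [⟨16, [.a4, .a7], [.a4, .a5, .a6, .a7, .a8]⟩,
  ⟨32, [.a5, .a6], [.a5, .a6]⟩,
  ⟨256, [.a8], [.a8]⟩,
  ⟨512, [.a9], [.a9]⟩,
  ⟨1024, [.a10], [.a10, .a11]⟩,
  ⟨2048, [.a11], [.a11]⟩]
def B585 : List Gv := [⟨[.a4, .a7], [.a4, .a5, .a6, .a7, .a8]⟩, ⟨[.a10], [.a10, .a11]⟩]
def D585 : List Dv := [⟨[.a5, .a6, .a8], [0, 0], []⟩,
  ⟨[.a8, .a9], [2, 1], [1, 2]⟩,
  ⟨[.a11], [3, 3], []⟩,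
  ⟨[.a9], [1, 2, 4], [4, 2]⟩,
  ⟨[.a8], [2], [0]⟩,
  ⟨[.a5, .a6], [4], [0]⟩]
theorem bad585 (c : CtxF Goal γ) : Bad Goal γ [] P585 :=
  c.toCtx.cent (B := B585) (D := D585) (I := [6, 0, 1, 2, 7, 3]) (z := [.a5]) (by decide +kernel) (by decide +kernel)

def P586 : List Ent := [⟨16, [.a4, .a7], [.a4, .a5, .a6, .a7, .a8]⟩,
  ⟨32, [.a5], [.a5]⟩,
  ⟨64, [.a6], [.a6]⟩,
  ⟨256, [.a8], [.a8]⟩,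
  ⟨512, [.a9], [.a9]⟩,
  ⟨2048, [.a11], [.a11]⟩]
def B586 : List Gv := [⟨[.a4, .a7], [.a4, .a5, .a6, .a7, .a8]⟩, ⟨[.a5], [.a5]⟩, ⟨[.a9], [.a9]⟩, ⟨[.a11], [.a11]⟩]
def D586 : List Dv := [⟨[.a6, .a8], [1, 0, 0], []⟩,
  ⟨[.a8], [3, 1], [1, 3]⟩,
  ⟨[.a6], [1], [0]⟩]
def C586 : List Ch := [⟨P191, 0, [], []⟩,
  ⟨P217, 1, [], []⟩,
  ⟨P217, 0, [.a4], [.a4, .a5]⟩,
  ⟨P218, 2, [], []⟩,
  ⟨P218, 0, [.a10], [.a10, .a11]⟩,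
  ⟨P217, 1, [.a2], [.a2]⟩,
  ⟨P217, 0, [.a2, .a4], [.a2, .a4, .a5]⟩,
  ⟨P219, 3, [], []⟩,
  ⟨P220, 0, [], []⟩,
  ⟨P221, 1, [], []⟩,
  ⟨P221, 0, [.a4], [.a4, .a5]⟩,
  ⟨P222, 2, [], []⟩,
  ⟨P222, 0, [.a10], [.a10, .a11]⟩,
  ⟨P221, 1, [.a2], [.a2]⟩,
  ⟨P221, 0, [.a2, .a4], [.a2, .a4, .a5]⟩]
def N586 : List Ent := [⟨4, [.a2], [.a2]⟩,
  ⟨8, [.a3], [.a3]⟩,
  ⟨16, [.a4, .a7], [.a4, .a5, .a6, .a7, .a8]⟩,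
  ⟨32, [.a5], [.a5]⟩,
  ⟨64, [.a6], [.a6]⟩,
  ⟨128, [.a7], [.a7, .a8]⟩,
  ⟨256, [.a8], [.a8]⟩,
  ⟨512, [.a9], [.a9]⟩,
  ⟨1024, [.a10], [.a10, .a11]⟩,
  ⟨2048, [.a11], [.a11]⟩]
theorem bad586 (c : CtxF Goal γ) : Bad Goal γ [] P586 :=
  c.toCtx.bnd (B := B586) (D := D586) (I := [3, 4, 0, 1, 5, 6]) (r := 4) (C := C586) (N := N586) (by decide +kernel) (by decide +kernel) (by decide +kernel) (by decide +kernel)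
    (allB_cons (bad191 c) (allB_cons (bad217 c) (allB_cons (bad217 c) (allB_cons (bad218 c) (allB_cons (bad218 c) (allB_cons (bad217 c) (allB_cons (bad217 c) (allB_cons (bad219 c) (allB_cons (bad220 c) (allB_cons (bad221 c) (allB_cons (bad221 c) (allB_cons (bad222 c) (allB_cons (bad222 c) (allB_cons (bad221 c) (allB_cons (bad221 c) (allB_nil))))))))))))))))

def P587 : List Ent := [⟨16, [.a4, .a7], [.a4, .a5, .a6, .a7, .a8]⟩,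
  ⟨32, [.a5, .a10], [.a5, .a10, .a11]⟩,
  ⟨64, [.a6, .a10], [.a6, .a8, .a10, .a11]⟩,
  ⟨256, [.a8], [.a8]⟩,
  ⟨512, [.a9], [.a9]⟩,
  ⟨2048, [.a11], [.a11]⟩]
def B587 : List Gv := [⟨[.a4, .a7], [.a4, .a5, .a6, .a7, .a8]⟩, ⟨[.a5, .a10], [.a5, .a10, .a11]⟩]
def D587 : List Dv := [⟨[.a6, .a10], [1, 0, 0], []⟩,
  ⟨[.a8, .a9], [2, 1], [1, 2]⟩,
  ⟨[.a11], [3, 3], []⟩,
  ⟨[.a9], [1, 2, 4], [4, 2]⟩,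
  ⟨[.a8], [2], [0]⟩]
theorem bad587 (c : CtxF Goal γ) : Bad Goal γ [] P587 :=
  c.toCtx.cent (B := B587) (D := D587) (I := [5, 6, 4, 0, 1, 2]) (z := [.a5]) (by decide +kernel) (by decide +kernel)

def P588 : List Ent := [⟨16, [.a4], [.a4, .a5]⟩,
  ⟨32, [.a5], [.a5]⟩,
  ⟨64, [.a6], [.a6]⟩,
  ⟨128, [.a7], [.a7, .a8]⟩,
  ⟨256, [.a8], [.a8]⟩,
  ⟨2048, [.a11], [.a11]⟩]
def B588 : List Gv := [⟨[.a4], [.a4, .a5]⟩, ⟨[.a7], [.a7, .a8]⟩, ⟨[.a11], [.a11]⟩]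
def D588 : List Dv := [⟨[.a5], [0, 0], []⟩,
  ⟨[.a6], [2, 1], [1, 2]⟩,
  ⟨[.a8], [3, 3], []⟩]
def C588 : List Ch := [⟨P195, 0, [], []⟩,
  ⟨P210, 1, [], []⟩,
  ⟨P218, 0, [], []⟩,
  ⟨P223, 2, [], []⟩,
  ⟨P224, 0, [], []⟩,
  ⟨P225, 1, [], []⟩,
  ⟨P226, 0, [], []⟩]
def N588 : List Ent := [⟨4, [.a2], [.a2]⟩,
  ⟨8, [.a3], [.a3]⟩,
  ⟨16, [.a4], [.a4, .a5]⟩,
  ⟨32, [.a5], [.a5]⟩,
  ⟨64, [.a6], [.a6]⟩,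
  ⟨128, [.a7], [.a7, .a8]⟩,
  ⟨256, [.a8], [.a8]⟩,
  ⟨512, [.a9], [.a9]⟩,
  ⟨2048, [.a11], [.a11]⟩]
theorem bad588 (c : CtxF Goal γ) : Bad Goal γ [] P588 :=
  c.toCtx.bnd (B := B588) (D := D588) (I := [3, 2, 1, 4, 0, 5]) (r := 3) (C := C588) (N := N588) (by decide +kernel) (by decide +kernel) (by decide +kernel) (by decide +kernel)
    (allB_cons (bad195 c) (allB_cons (bad210 c) (allB_cons (bad218 c) (allB_cons (bad223 c) (allB_cons (bad224 c) (allB_cons (bad225 c) (allB_cons (bad226 c) (allB_nil))))))))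

def P589 : List Ent := [⟨16, [.a4, .a9], [.a4, .a5, .a8, .a9]⟩,
  ⟨32, [.a5], [.a5]⟩,
  ⟨64, [.a6], [.a6]⟩,
  ⟨128, [.a7], [.a7, .a8]⟩,
  ⟨256, [.a8], [.a8]⟩,
  ⟨2048, [.a11], [.a11]⟩]
def B589 : List Gv := [⟨[.a4, .a9], [.a4, .a5, .a8, .a9]⟩, ⟨[.a7], [.a7, .a8]⟩, ⟨[.a11], [.a11]⟩]
def D589 : List Dv := [⟨[.a5, .a8], [0, 0], []⟩,
  ⟨[.a6], [2, 1], [1, 2]⟩,
  ⟨[.a8], [3, 3], []⟩,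
  ⟨[.a5], [2], [0]⟩]
def C589 : List Ch := [⟨P195, 0, [], []⟩,
  ⟨P211, 1, [], []⟩,
  ⟨P218, 0, [.a10], [.a10, .a11]⟩,
  ⟨P227, 2, [], []⟩,
  ⟨P228, 0, [], []⟩,
  ⟨P229, 1, [], []⟩,
  ⟨P230, 0, [], []⟩]
def N589 : List Ent := [⟨4, [.a2], [.a2]⟩,
  ⟨8, [.a3], [.a3]⟩,
  ⟨16, [.a4, .a9], [.a4, .a5, .a8, .a9]⟩,
  ⟨32, [.a5], [.a5]⟩,
  ⟨64, [.a6], [.a6]⟩,
  ⟨128, [.a7], [.a7, .a8]⟩,
  ⟨256, [.a8], [.a8]⟩,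
  ⟨512, [.a9], [.a9]⟩,
  ⟨2048, [.a11], [.a11]⟩]
theorem bad589 (c : CtxF Goal γ) : Bad Goal γ [] P589 :=
  c.toCtx.bnd (B := B589) (D := D589) (I := [4, 0, 2, 5, 1, 6]) (r := 3) (C := C589) (N := N589) (by decide +kernel) (by decide +kernel) (by decide +kernel) (by decide +kernel)
    (allB_cons (bad195 c) (allB_cons (bad211 c) (allB_cons (bad218 c) (allB_cons (bad227 c) (allB_cons (bad228 c) (allB_cons (bad229 c) (allB_cons (bad230 c) (allB_nil))))))))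

def P590 : List Ent := [⟨16, [.a4], [.a4, .a5]⟩,
  ⟨32, [.a5], [.a5]⟩,
  ⟨64, [.a6], [.a6]⟩,
  ⟨128, [.a7], [.a7, .a8]⟩,
  ⟨256, [.a8], [.a8]⟩,
  ⟨512, [.a9], [.a9]⟩]
def B590 : List Gv := [⟨[.a4], [.a4, .a5]⟩, ⟨[.a7], [.a7, .a8]⟩, ⟨[.a9], [.a9]⟩]
def D590 : List Dv := [⟨[.a5], [0, 0], []⟩,
  ⟨[.a6], [2, 1], [1, 2]⟩,
  ⟨[.a8], [3, 3], []⟩]
theorem bad590 (c : CtxF Goal γ) : Bad Goal γ [] P590 :=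
  c.toCtx.cent (B := B590) (D := D590) (I := [3, 2, 1, 4, 0, 5]) (z := [.a11]) (by decide +kernel) (by decide +kernel)

def P591 : List Ent := [⟨16, [.a4, .a11], [.a4, .a5, .a11]⟩,
  ⟨32, [.a5], [.a5]⟩,
  ⟨64, [.a6], [.a6]⟩,
  ⟨128, [.a7], [.a7, .a8]⟩,
  ⟨256, [.a8], [.a8]⟩,
  ⟨512, [.a9], [.a9]⟩]
def B591 : List Gv := [⟨[.a4, .a11], [.a4, .a5, .a11]⟩, ⟨[.a7], [.a7, .a8]⟩, ⟨[.a9], [.a9]⟩]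
def D591 : List Dv := [⟨[.a5], [0, 0], []⟩,
  ⟨[.a6], [2, 1], [1, 2]⟩,
  ⟨[.a8], [3, 3], []⟩]
theorem bad591 (c : CtxF Goal γ) : Bad Goal γ [] P591 :=
  c.toCtx.cent (B := B591) (D := D591) (I := [3, 2, 1, 4, 0, 5]) (z := [.a11]) (by decide +kernel) (by decide +kernel)

def P592 : List Ent := [⟨16, [.a4], [.a4, .a5]⟩,
  ⟨32, [.a5], [.a5]⟩,
  ⟨64, [.a6], [.a6]⟩,
  ⟨128, [.a7, .a11], [.a7, .a8, .a11]⟩,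
  ⟨256, [.a8], [.a8]⟩,
  ⟨512, [.a9], [.a9]⟩]
def B592 : List Gv := [⟨[.a4], [.a4, .a5]⟩, ⟨[.a7, .a11], [.a7, .a8, .a11]⟩, ⟨[.a9], [.a9]⟩]
def D592 : List Dv := [⟨[.a5], [0, 0], []⟩,
  ⟨[.a6], [2, 1], [1, 2]⟩,
  ⟨[.a8], [3, 3], []⟩]
theorem bad592 (c : CtxF Goal γ) : Bad Goal γ [] P592 :=
  c.toCtx.cent (B := B592) (D := D592) (I := [3, 2, 1, 4, 0, 5]) (z := [.a11]) (by decide +kernel) (by decide +kernel)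

def P593 : List Ent := [⟨16, [.a4, .a11], [.a4, .a5, .a11]⟩,
  ⟨32, [.a5], [.a5]⟩,
  ⟨64, [.a6], [.a6]⟩,
  ⟨128, [.a7, .a11], [.a7, .a8, .a11]⟩,
  ⟨256, [.a8], [.a8]⟩,
  ⟨512, [.a9], [.a9]⟩]
def B593 : List Gv := [⟨[.a4, .a11], [.a4, .a5, .a11]⟩, ⟨[.a7, .a11], [.a7, .a8, .a11]⟩, ⟨[.a9], [.a9]⟩]
def D593 : List Dv := [⟨[.a5], [0, 0], []⟩,
  ⟨[.a6], [2, 1], [1, 2]⟩,
  ⟨[.a8], [3, 3], []⟩]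
theorem bad593 (c : CtxF Goal γ) : Bad Goal γ [] P593 :=
  c.toCtx.cent (B := B593) (D := D593) (I := [3, 2, 1, 4, 0, 5]) (z := [.a11]) (by decide +kernel) (by decide +kernel)

def P594 : List Ent := [⟨16, [.a4], [.a4, .a5]⟩,
  ⟨32, [.a5], [.a5]⟩,
  ⟨64, [.a6], [.a6]⟩,
  ⟨128, [.a7], [.a7, .a8]⟩,
  ⟨256, [.a8], [.a8]⟩,
  ⟨512, [.a9, .a11], [.a9, .a11]⟩]
def B594 : List Gv := [⟨[.a4], [.a4, .a5]⟩, ⟨[.a7], [.a7, .a8]⟩, ⟨[.a9, .a11], [.a9, .a11]⟩]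
def D594 : List Dv := [⟨[.a5], [0, 0], []⟩,
  ⟨[.a6], [2, 1], [1, 2]⟩,
  ⟨[.a8], [3, 3], []⟩]
theorem bad594 (c : CtxF Goal γ) : Bad Goal γ [] P594 :=
  c.toCtx.cent (B := B594) (D := D594) (I := [3, 2, 1, 4, 0, 5]) (z := [.a11]) (by decide +kernel) (by decide +kernel)

def P595 : List Ent := [⟨16, [.a4, .a11], [.a4, .a5, .a11]⟩,
  ⟨32, [.a5], [.a5]⟩,
  ⟨64, [.a6], [.a6]⟩,
  ⟨128, [.a7], [.a7, .a8]⟩,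
  ⟨256, [.a8], [.a8]⟩,
  ⟨512, [.a9, .a11], [.a9, .a11]⟩]
def B595 : List Gv := [⟨[.a4, .a11], [.a4, .a5, .a11]⟩, ⟨[.a7], [.a7, .a8]⟩, ⟨[.a9, .a11], [.a9, .a11]⟩]
def D595 : List Dv := [⟨[.a5], [0, 0], []⟩,
  ⟨[.a6], [2, 1], [1, 2]⟩,
  ⟨[.a8], [3, 3], []⟩]
theorem bad595 (c : CtxF Goal γ) : Bad Goal γ [] P595 :=
  c.toCtx.cent (B := B595) (D := D595) (I := [3, 2, 1, 4, 0, 5]) (z := [.a11]) (by decide +kernel) (by decide +kernel)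

def P596 : List Ent := [⟨16, [.a4], [.a4, .a5]⟩,
  ⟨32, [.a5], [.a5]⟩,
  ⟨64, [.a6], [.a6]⟩,
  ⟨128, [.a7, .a10], [.a7, .a8, .a9, .a10, .a11]⟩,
  ⟨256, [.a8], [.a8]⟩,
  ⟨512, [.a9, .a11], [.a9, .a11]⟩]
def B596 : List Gv := [⟨[.a4], [.a4, .a5]⟩, ⟨[.a7, .a10], [.a7, .a8, .a9, .a10, .a11]⟩]
def D596 : List Dv := [⟨[.a5], [0, 0], []⟩,
  ⟨[.a6], [2, 1], [1, 2]⟩,
  ⟨[.a8, .a9, .a11], [3, 3], []⟩,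
  ⟨[.a9, .a11], [0, 1, 4], [4, 1]⟩,
  ⟨[.a8], [1], [0]⟩]
theorem bad596 (c : CtxF Goal γ) : Bad Goal γ [] P596 :=
  c.toCtx.cent (B := B596) (D := D596) (I := [5, 4, 3, 6, 0, 1]) (z := [.a3, .a4]) (by decide +kernel) (by decide +kernel)

def P597 : List Ent := [⟨16, [.a4, .a11], [.a4, .a5, .a11]⟩,
  ⟨32, [.a5], [.a5]⟩,
  ⟨64, [.a6], [.a6]⟩,
  ⟨128, [.a7, .a10], [.a7, .a8, .a9, .a10, .a11]⟩,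
  ⟨256, [.a8], [.a8]⟩,
  ⟨512, [.a9, .a11], [.a9, .a11]⟩]
def B597 : List Gv := [⟨[.a4, .a11], [.a4, .a5, .a11]⟩, ⟨[.a7, .a10], [.a7, .a8, .a9, .a10, .a11]⟩]
def D597 : List Dv := [⟨[.a5], [0, 0], []⟩,
  ⟨[.a6], [2, 1], [1, 2]⟩,
  ⟨[.a8, .a9, .a11], [3, 3], []⟩,
  ⟨[.a9, .a11], [0, 1, 4], [4, 1]⟩,
  ⟨[.a8], [1], [0]⟩]
theorem bad597 (c : CtxF Goal γ) : Bad Goal γ [] P597 :=
  c.toCtx.cent (B := B597) (D := D597) (I := [5, 4, 3, 6, 0, 1]) (z := [.a3, .a4, .a9]) (by decide +kernel) (by decide +kernel)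

def P598 : List Ent := [⟨16, [.a4, .a10], [.a4, .a5, .a10, .a11]⟩,
  ⟨32, [.a5, .a11], [.a5, .a11]⟩,
  ⟨64, [.a6, .a11], [.a6, .a11]⟩,
  ⟨128, [.a7, .a10], [.a7, .a8, .a9, .a10, .a11]⟩,
  ⟨256, [.a8], [.a8]⟩,
  ⟨512, [.a9, .a11], [.a9, .a11]⟩]
def B598 : List Gv := [⟨[.a4, .a10], [.a4, .a5, .a10, .a11]⟩, ⟨[.a7, .a10], [.a7, .a8, .a9, .a10, .a11]⟩]
def D598 : List Dv := [⟨[.a5, .a11], [0, 0], []⟩,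
  ⟨[.a6, .a8, .a9], [2, 1], [1, 2]⟩,
  ⟨[.a8, .a9, .a11], [3, 3], []⟩,
  ⟨[.a9, .a11], [0, 1, 4], [4, 1]⟩,
  ⟨[.a8], [1], [0]⟩,
  ⟨[.a6, .a11], [3], [0, 1]⟩]
theorem bad598 (c : CtxF Goal γ) : Bad Goal γ [] P598 :=
  c.toCtx.cent (B := B598) (D := D598) (I := [6, 5, 0, 7, 1, 2]) (z := [.a5]) (by decide +kernel) (by decide +kernel)

def P599 : List Ent := [⟨16, [.a4, .a10, .a11], [.a4, .a5, .a10]⟩,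
  ⟨32, [.a5, .a11], [.a5, .a11]⟩,
  ⟨64, [.a6, .a11], [.a6, .a11]⟩,
  ⟨128, [.a7, .a10], [.a7, .a8, .a9, .a10, .a11]⟩,
  ⟨256, [.a8], [.a8]⟩,
  ⟨512, [.a9, .a11], [.a9, .a11]⟩]
def B599 : List Gv := [⟨[.a4, .a10, .a11], [.a4, .a5, .a10]⟩, ⟨[.a7, .a10], [.a7, .a8, .a9, .a10, .a11]⟩]
def D599 : List Dv := [⟨[.a5, .a11], [0, 0], []⟩,
  ⟨[.a6, .a8, .a9], [2, 1], [1, 2]⟩,
  ⟨[.a8, .a9, .a11], [3, 3], []⟩,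
  ⟨[.a9, .a11], [0, 1, 4], [4, 1]⟩,
  ⟨[.a8], [1], [0]⟩,
  ⟨[.a6, .a11], [3], [0, 1]⟩]
theorem bad599 (c : CtxF Goal γ) : Bad Goal γ [] P599 :=
  c.toCtx.cent (B := B599) (D := D599) (I := [6, 5, 0, 7, 1, 2]) (z := [.a5]) (by decide +kernel) (by decide +kernel)

end Cfsg.Agent.H782.TF.Full
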