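import Cfsg.Agent.H782.TF.Full3

/-!
# S5262, q = 2: certificate of the subgroup tree, part 4 (generated; helper782)
-/

set_option autoImplicit false
set_option maxRecDepth 100000

namespace Cfsg.Agent.H782.TF.Full

open Cfsg.Agent.H782.TF

universe u

variable {U : Type u} [Group U] {Goal : Subgroup U → Prop} {γ : ℕ → U}

def P600 : List Ent := [⟨8, [.a3], [.a3]⟩,
  ⟨32, [.a5, .a6], [.a5, .a6]⟩,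
  ⟨256, [.a8], [.a8]⟩,
  ⟨512, [.a9], [.a9]⟩,
  ⟨1024, [.a10], [.a10, .a11]⟩,
  ⟨2048, [.a11], [.a11]⟩]
def B600 : List Gv := [⟨[.a3], [.a3]⟩, ⟨[.a9], [.a9]⟩, ⟨[.a10], [.a10, .a11]⟩]
def D600 : List Dv := [⟨[.a5, .a6], [2, 0], [0, 2]⟩,
  ⟨[.a11], [3, 3], []⟩,
  ⟨[.a8], [1, 4], [4, 1]⟩]
theorem bad600 (c : CtxF Goal γ) : Bad Goal γ [] P600 :=
  c.toCtx.cent (B := B600) (D := D600) (I := [3, 2, 0, 4, 5, 1]) (z := [.a5]) (by decide +kernel) (by decide +kernel)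

def P601 : List Ent := [⟨8, [.a3], [.a3]⟩,
  ⟨32, [.a5], [.a5]⟩,
  ⟨64, [.a6], [.a6]⟩,
  ⟨256, [.a8], [.a8]⟩,
  ⟨1024, [.a10], [.a10, .a11]⟩,
  ⟨2048, [.a11], [.a11]⟩]
def B601 : List Gv := [⟨[.a3], [.a3]⟩, ⟨[.a5], [.a5]⟩, ⟨[.a10], [.a10, .a11]⟩]
def D601 : List Dv := [⟨[.a6], [1, 2, 0], [0, 2]⟩,
  ⟨[.a11], [3, 3], []⟩,
  ⟨[.a8], [1, 4], [4, 1]⟩]
theorem bad601 (c : CtxF Goal γ) : Bad Goal γ [] P601 :=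
  c.toCtx.cent (B := B601) (D := D601) (I := [3, 4, 2, 0, 5, 1]) (z := [.a4]) (by decide +kernel) (by decide +kernel)

def P602 : List Ent := [⟨8, [.a3, .a9], [.a3, .a9]⟩,
  ⟨32, [.a5], [.a5]⟩,
  ⟨64, [.a6], [.a6]⟩,
  ⟨256, [.a8], [.a8]⟩,
  ⟨1024, [.a10], [.a10, .a11]⟩,
  ⟨2048, [.a11], [.a11]⟩]
def B602 : List Gv := [⟨[.a3, .a9], [.a3, .a9]⟩, ⟨[.a5], [.a5]⟩, ⟨[.a10], [.a10, .a11]⟩]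
def D602 : List Dv := [⟨[.a6], [1, 2, 0], [0, 2]⟩,
  ⟨[.a11], [3, 3], []⟩,
  ⟨[.a8], [1, 4], [4, 1]⟩]
theorem bad602 (c : CtxF Goal γ) : Bad Goal γ [] P602 :=
  c.toCtx.cent (B := B602) (D := D602) (I := [3, 4, 2, 0, 5, 1]) (z := [.a9]) (by decide +kernel) (by decide +kernel)

def P603 : List Ent := [⟨8, [.a3], [.a3]⟩,
  ⟨32, [.a5, .a9], [.a5, .a9]⟩,
  ⟨64, [.a6, .a9], [.a6, .a9]⟩,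
  ⟨256, [.a8], [.a8]⟩,
  ⟨1024, [.a10], [.a10, .a11]⟩,
  ⟨2048, [.a11], [.a11]⟩]
def B603 : List Gv := [⟨[.a3], [.a3]⟩, ⟨[.a5, .a9], [.a5, .a9]⟩, ⟨[.a10], [.a10, .a11]⟩]
def D603 : List Dv := [⟨[.a6, .a9], [1, 2, 0], [0, 2]⟩,
  ⟨[.a11], [3, 3], []⟩,
  ⟨[.a8], [1, 4], [4, 1]⟩]
theorem bad603 (c : CtxF Goal γ) : Bad Goal γ [] P603 :=
  c.toCtx.cent (B := B603) (D := D603) (I := [3, 4, 2, 0, 5, 1]) (z := [.a5]) (by decide +kernel) (by decide +kernel)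

def P604 : List Ent := [⟨8, [.a3], [.a3]⟩,
  ⟨32, [.a5], [.a5]⟩,
  ⟨64, [.a6], [.a6]⟩,
  ⟨256, [.a8], [.a8]⟩,
  ⟨512, [.a9], [.a9]⟩,
  ⟨2048, [.a11], [.a11]⟩]
def B604 : List Gv := [⟨[.a3], [.a3]⟩, ⟨[.a5], [.a5]⟩, ⟨[.a6], [.a6]⟩, ⟨[.a9], [.a9]⟩, ⟨[.a11], [.a11]⟩]
def D604 : List Dv := [⟨[.a8], [4, 0], [0, 4]⟩]
def C604 : List Ch := [⟨P191, 0, [], []⟩,
  ⟨P231, 1, [], []⟩,
  ⟨P231, 0, [.a10], [.a10, .a11]⟩,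
  ⟨P232, 2, [], []⟩,
  ⟨P232, 0, [.a10], [.a10, .a11]⟩,
  ⟨P233, 1, [], []⟩,
  ⟨P233, 0, [.a7], [.a7, .a8]⟩,
  ⟨P234, 3, [], []⟩,
  ⟨P235, 0, [], []⟩,
  ⟨P233, 1, [.a1, .a2], [.a1]⟩,
  ⟨P233, 0, [.a1, .a2, .a4, .a5, .a6, .a7, .a8, .a9, .a10], [.a1, .a6, .a8, .a9, .a10, .a11]⟩,
  ⟨P232, 2, [.a1], [.a1, .a2]⟩,
  ⟨P232, 0, [.a1, .a10], [.a1, .a2, .a4, .a5, .a7, .a9, .a10, .a11]⟩,
  ⟨P233, 1, [.a2], [.a2]⟩,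
  ⟨P233, 0, [.a2, .a3, .a7], [.a2, .a3, .a5, .a7, .a8]⟩,
  ⟨P236, 4, [], []⟩,
  ⟨P237, 0, [], []⟩,
  ⟨P233, 1, [.a1], [.a1, .a2]⟩,
  ⟨P233, 0, [.a1, .a3, .a4, .a5, .a7, .a10], [.a1, .a2, .a10, .a11]⟩,
  ⟨P232, 2, [.a2], [.a2]⟩,
  ⟨P232, 0, [.a2, .a10], [.a2, .a3, .a5, .a8, .a10, .a11]⟩,
  ⟨P231, 1, [.a1, .a2], [.a1]⟩,
  ⟨P231, 0, [.a1, .a2, .a6, .a9, .a10], [.a1, .a3, .a4, .a7, .a10, .a11]⟩,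
  ⟨P234, 3, [.a1], [.a1, .a2]⟩,
  ⟨P235, 0, [.a1], [.a1, .a2]⟩,
  ⟨P231, 1, [.a2], [.a2]⟩,
  ⟨P231, 0, [.a2, .a3, .a7], [.a2, .a3, .a5, .a7, .a8]⟩,
  ⟨P232, 2, [.a1, .a2], [.a1]⟩,
  ⟨P232, 0, [.a1, .a2, .a4, .a5, .a6, .a7, .a8, .a9, .a10], [.a1, .a6, .a8, .a9, .a10, .a11]⟩,
  ⟨P231, 1, [.a1], [.a1, .a2]⟩,
  ⟨P231, 0, [.a1, .a10], [.a1, .a2, .a4, .a5, .a7, .a9, .a10, .a11]⟩]
def N604 : List Ent := [⟨2, [.a1], [.a1, .a2]⟩,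
  ⟨4, [.a2], [.a2]⟩,
  ⟨8, [.a3], [.a3]⟩,
  ⟨16, [.a4], [.a4, .a5]⟩,
  ⟨32, [.a5], [.a5]⟩,
  ⟨64, [.a6], [.a6]⟩,
  ⟨128, [.a7], [.a7, .a8]⟩,
  ⟨256, [.a8], [.a8]⟩,
  ⟨512, [.a9], [.a9]⟩,
  ⟨1024, [.a10], [.a10, .a11]⟩,
  ⟨2048, [.a11], [.a11]⟩]
theorem bad604 (c : CtxF Goal γ) : Bad Goal γ [] P604 :=
  c.toCtx.bnd (B := B604) (D := D604) (I := [1, 2, 3, 0, 4, 5]) (r := 5) (C := C604) (N := N604) (by decide +kernel) (by decide +kernel) (by decide +kernel) (by decide +kernel)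
    (allB_cons (bad191 c) (allB_cons (bad231 c) (allB_cons (bad231 c) (allB_cons (bad232 c) (allB_cons (bad232 c) (allB_cons (bad233 c) (allB_cons (bad233 c) (allB_cons (bad234 c) (allB_cons (bad235 c) (allB_cons (bad233 c) (allB_cons (bad233 c) (allB_cons (bad232 c) (allB_cons (bad232 c) (allB_cons (bad233 c) (allB_cons (bad233 c) (allB_cons (bad236 c) (allB_cons (bad237 c) (allB_cons (bad233 c) (allB_cons (bad233 c) (allB_cons (bad232 c) (allB_cons (bad232 c) (allB_cons (bad231 c) (allB_cons (bad231 c) (allB_cons (bad234 c) (allB_cons (bad235 c) (allB_cons (bad231 c) (allB_cons (bad231 c) (allB_cons (bad232 c) (allB_cons (bad232 c) (allB_cons (bad231 c) (allB_cons (bad231 c) (allB_nil))))))))))))))))))))))))))))))))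

def P605 : List Ent := [⟨8, [.a3, .a7], [.a3, .a5, .a7, .a8]⟩,
  ⟨32, [.a5], [.a5]⟩,
  ⟨64, [.a6, .a9], [.a6, .a9]⟩,
  ⟨256, [.a8], [.a8]⟩,
  ⟨1024, [.a10], [.a10, .a11]⟩,
  ⟨2048, [.a11], [.a11]⟩]
def B605 : List Gv := [⟨[.a3, .a7], [.a3, .a5, .a7, .a8]⟩, ⟨[.a10], [.a10, .a11]⟩]
def D605 : List Dv := [⟨[.a5, .a8], [0, 0], []⟩,
  ⟨[.a6, .a8, .a9], [0, 2, 1], [1, 2]⟩,
  ⟨[.a11], [3, 3], []⟩,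
  ⟨[.a8], [1, 4], [4, 1]⟩,
  ⟨[.a6, .a9], [2], [0]⟩,
  ⟨[.a5], [4], [1]⟩]
theorem bad605 (c : CtxF Goal γ) : Bad Goal γ [] P605 :=
  c.toCtx.cent (B := B605) (D := D605) (I := [6, 0, 1, 2, 7, 3]) (z := [.a9]) (by decide +kernel) (by decide +kernel)

def P606 : List Ent := [⟨8, [.a3, .a7], [.a3, .a5, .a7, .a8]⟩,
  ⟨32, [.a5], [.a5]⟩,
  ⟨64, [.a6], [.a6]⟩,
  ⟨256, [.a8], [.a8]⟩,
  ⟨512, [.a9], [.a9]⟩,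
  ⟨2048, [.a11], [.a11]⟩]
def B606 : List Gv := [⟨[.a3, .a7], [.a3, .a5, .a7, .a8]⟩, ⟨[.a6], [.a6]⟩, ⟨[.a9], [.a9]⟩, ⟨[.a11], [.a11]⟩]
def D606 : List Dv := [⟨[.a5, .a8], [0, 0], []⟩,
  ⟨[.a8], [4, 1], [1, 4]⟩,
  ⟨[.a5], [1], [0]⟩]
def C606 : List Ch := [⟨P191, 0, [], []⟩,
  ⟨P238, 1, [], []⟩,
  ⟨P238, 0, [.a10], [.a10, .a11]⟩,
  ⟨P239, 2, [], []⟩,
  ⟨P239, 0, [.a10], [.a10, .a11]⟩,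
  ⟨P238, 1, [.a1], [.a1, .a2]⟩,
  ⟨P238, 0, [.a1, .a10], [.a1, .a2, .a4, .a5, .a7, .a9, .a10, .a11]⟩,
  ⟨P240, 3, [], []⟩,
  ⟨P241, 0, [], []⟩,
  ⟨P238, 1, [.a2], [.a2]⟩,
  ⟨P238, 0, [.a2, .a4], [.a2, .a4, .a5]⟩,
  ⟨P239, 2, [.a1], [.a1, .a2]⟩,
  ⟨P239, 0, [.a1, .a10], [.a1, .a2, .a4, .a5, .a7, .a9, .a10, .a11]⟩,
  ⟨P238, 1, [.a1, .a2], [.a1]⟩,
  ⟨P238, 0, [.a1, .a2, .a6, .a9, .a10], [.a1, .a3, .a4, .a7, .a10, .a11]⟩]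
def N606 : List Ent := [⟨2, [.a1], [.a1, .a2]⟩,
  ⟨4, [.a2], [.a2]⟩,
  ⟨8, [.a3, .a7], [.a3, .a5, .a7, .a8]⟩,
  ⟨16, [.a4], [.a4, .a5]⟩,
  ⟨32, [.a5], [.a5]⟩,
  ⟨64, [.a6], [.a6]⟩,
  ⟨128, [.a7], [.a7, .a8]⟩,
  ⟨256, [.a8], [.a8]⟩,
  ⟨512, [.a9], [.a9]⟩,
  ⟨1024, [.a10], [.a10, .a11]⟩,
  ⟨2048, [.a11], [.a11]⟩]
theorem bad606 (c : CtxF Goal γ) : Bad Goal γ [] P606 :=
  c.toCtx.bnd (B := B606) (D := D606) (I := [3, 0, 4, 1, 5, 6]) (r := 4) (C := C606) (N := N606) (by decide +kernel) (by decide +kernel) (by decide +kernel) (by decide +kernel)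
    (allB_cons (bad191 c) (allB_cons (bad238 c) (allB_cons (bad238 c) (allB_cons (bad239 c) (allB_cons (bad239 c) (allB_cons (bad238 c) (allB_cons (bad238 c) (allB_cons (bad240 c) (allB_cons (bad241 c) (allB_cons (bad238 c) (allB_cons (bad238 c) (allB_cons (bad239 c) (allB_cons (bad239 c) (allB_cons (bad238 c) (allB_cons (bad238 c) (allB_nil))))))))))))))))

def P607 : List Ent := [⟨8, [.a3], [.a3]⟩,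
  ⟨32, [.a5], [.a5]⟩,
  ⟨128, [.a7], [.a7, .a8]⟩,
  ⟨256, [.a8], [.a8]⟩,
  ⟨512, [.a9], [.a9]⟩,
  ⟨2048, [.a11], [.a11]⟩]
def B607 : List Gv := [⟨[.a3], [.a3]⟩, ⟨[.a7], [.a7, .a8]⟩, ⟨[.a9], [.a9]⟩, ⟨[.a11], [.a11]⟩]
def D607 : List Dv := [⟨[.a5], [1, 0], [0, 1]⟩,
  ⟨[.a8], [2, 2], []⟩]
theorem bad607 (c : CtxF Goal γ) : Bad Goal γ [] P607 :=
  c.toCtx.cent (B := B607) (D := D607) (I := [2, 1, 3, 0, 4, 5]) (z := [.a6]) (by decide +kernel) (by decide +kernel)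

def P608 : List Ent := [⟨8, [.a3], [.a3]⟩,
  ⟨32, [.a5], [.a5]⟩,
  ⟨64, [.a6], [.a6]⟩,
  ⟨128, [.a7], [.a7, .a8]⟩,
  ⟨256, [.a8], [.a8]⟩,
  ⟨2048, [.a11], [.a11]⟩]
def B608 : List Gv := [⟨[.a3], [.a3]⟩, ⟨[.a6], [.a6]⟩, ⟨[.a7], [.a7, .a8]⟩, ⟨[.a11], [.a11]⟩]
def D608 : List Dv := [⟨[.a5], [2, 0], [0, 2]⟩,
  ⟨[.a8], [3, 3], []⟩]
theorem bad608 (c : CtxF Goal γ) : Bad Goal γ [] P608 :=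
  c.toCtx.cent (B := B608) (D := D608) (I := [2, 1, 3, 4, 0, 5]) (z := [.a9]) (by decide +kernel) (by decide +kernel)

def P609 : List Ent := [⟨8, [.a3, .a9], [.a3, .a9]⟩,
  ⟨32, [.a5], [.a5]⟩,
  ⟨64, [.a6], [.a6]⟩,
  ⟨128, [.a7], [.a7, .a8]⟩,
  ⟨256, [.a8], [.a8]⟩,
  ⟨2048, [.a11], [.a11]⟩]
def B609 : List Gv := [⟨[.a3, .a9], [.a3, .a9]⟩, ⟨[.a6], [.a6]⟩, ⟨[.a7], [.a7, .a8]⟩, ⟨[.a11], [.a11]⟩]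
def D609 : List Dv := [⟨[.a5], [2, 0], [0, 2]⟩,
  ⟨[.a8], [3, 3], []⟩]
theorem bad609 (c : CtxF Goal γ) : Bad Goal γ [] P609 :=
  c.toCtx.cent (B := B609) (D := D609) (I := [2, 1, 3, 4, 0, 5]) (z := [.a9]) (by decide +kernel) (by decide +kernel)

def P610 : List Ent := [⟨8, [.a3], [.a3]⟩,
  ⟨32, [.a5], [.a5]⟩,
  ⟨64, [.a6], [.a6]⟩,
  ⟨128, [.a7], [.a7, .a8]⟩,
  ⟨256, [.a8], [.a8]⟩,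
  ⟨512, [.a9], [.a9]⟩]
def B610 : List Gv := [⟨[.a3], [.a3]⟩, ⟨[.a6], [.a6]⟩, ⟨[.a7], [.a7, .a8]⟩, ⟨[.a9], [.a9]⟩]
def D610 : List Dv := [⟨[.a5], [2, 0], [0, 2]⟩,
  ⟨[.a8], [3, 3], []⟩]
def C610 : List Ch := [⟨P196, 0, [], []⟩,
  ⟨P242, 1, [], []⟩,
  ⟨P242, 0, [.a10], [.a10, .a11]⟩,
  ⟨P236, 2, [], []⟩,
  ⟨P240, 0, [], []⟩,
  ⟨P242, 1, [.a4], [.a4, .a5]⟩,
  ⟨P242, 0, [.a4, .a10], [.a4, .a5, .a10, .a11]⟩,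
  ⟨P243, 3, [], []⟩,
  ⟨P244, 0, [], []⟩,
  ⟨P242, 1, [.a1], [.a1, .a2]⟩,
  ⟨P242, 0, [.a1, .a10], [.a1, .a2, .a4, .a5, .a7, .a9, .a10, .a11]⟩,
  ⟨P243, 2, [.a10], [.a10, .a11]⟩,
  ⟨P244, 0, [.a10], [.a10, .a11]⟩,
  ⟨P242, 1, [.a1, .a3, .a4], [.a1, .a2, .a4, .a5]⟩,
  ⟨P242, 0, [.a1, .a3, .a4, .a5, .a7, .a10], [.a1, .a2, .a10, .a11]⟩]
def N610 : List Ent := [⟨2, [.a1], [.a1, .a2]⟩,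
  ⟨4, [.a2], [.a2]⟩,
  ⟨8, [.a3], [.a3]⟩,
  ⟨16, [.a4], [.a4, .a5]⟩,
  ⟨32, [.a5], [.a5]⟩,
  ⟨64, [.a6], [.a6]⟩,
  ⟨128, [.a7], [.a7, .a8]⟩,
  ⟨256, [.a8], [.a8]⟩,
  ⟨512, [.a9], [.a9]⟩,
  ⟨1024, [.a10], [.a10, .a11]⟩,
  ⟨2048, [.a11], [.a11]⟩]
theorem bad610 (c : CtxF Goal γ) : Bad Goal γ [] P610 :=
  c.toCtx.bnd (B := B610) (D := D610) (I := [2, 1, 3, 4, 0, 5]) (r := 4) (C := C610) (N := N610) (by decide +kernel) (by decide +kernel) (by decide +kernel) (by decide +kernel)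
    (allB_cons (bad196 c) (allB_cons (bad242 c) (allB_cons (bad242 c) (allB_cons (bad236 c) (allB_cons (bad240 c) (allB_cons (bad242 c) (allB_cons (bad242 c) (allB_cons (bad243 c) (allB_cons (bad244 c) (allB_cons (bad242 c) (allB_cons (bad242 c) (allB_cons (bad243 c) (allB_cons (bad244 c) (allB_cons (bad242 c) (allB_cons (bad242 c) (allB_nil))))))))))))))))

def P611 : List Ent := [⟨8, [.a3, .a11], [.a3, .a8, .a11]⟩,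
  ⟨32, [.a5], [.a5]⟩,
  ⟨64, [.a6], [.a6]⟩,
  ⟨128, [.a7], [.a7, .a8]⟩,
  ⟨256, [.a8], [.a8]⟩,
  ⟨512, [.a9], [.a9]⟩]
def B611 : List Gv := [⟨[.a3, .a11], [.a3, .a8, .a11]⟩, ⟨[.a6], [.a6]⟩, ⟨[.a7], [.a7, .a8]⟩, ⟨[.a9], [.a9]⟩]
def D611 : List Dv := [⟨[.a8], [0, 0], []⟩,
  ⟨[.a5], [3, 1], [1, 3]⟩]
def C611 : List Ch := [⟨P196, 0, [], []⟩,
  ⟨P245, 1, [], []⟩,
  ⟨P245, 0, [.a10], [.a10, .a11]⟩,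
  ⟨P237, 2, [], []⟩,
  ⟨P241, 0, [], []⟩,
  ⟨P245, 1, [.a4], [.a4, .a5]⟩,
  ⟨P245, 0, [.a4, .a10], [.a4, .a5, .a10, .a11]⟩,
  ⟨P246, 3, [], []⟩,
  ⟨P246, 0, [.a1], [.a1, .a2]⟩,
  ⟨P245, 1, [.a1], [.a1, .a2]⟩,
  ⟨P245, 0, [.a1, .a10], [.a1, .a2, .a4, .a5, .a7, .a9, .a10, .a11]⟩,
  ⟨P246, 2, [.a10], [.a10, .a11]⟩,
  ⟨P246, 0, [.a1, .a10], [.a1, .a2, .a4, .a5, .a7, .a9, .a10, .a11]⟩,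
  ⟨P245, 1, [.a1, .a3, .a4], [.a1, .a2, .a4, .a5]⟩,
  ⟨P245, 0, [.a1, .a3, .a4, .a5, .a7, .a10], [.a1, .a2, .a10, .a11]⟩]
def N611 : List Ent := [⟨2, [.a1], [.a1, .a2]⟩,
  ⟨4, [.a2], [.a2]⟩,
  ⟨8, [.a3, .a11], [.a3, .a8, .a11]⟩,
  ⟨16, [.a4], [.a4, .a5]⟩,
  ⟨32, [.a5], [.a5]⟩,
  ⟨64, [.a6], [.a6]⟩,
  ⟨128, [.a7], [.a7, .a8]⟩,
  ⟨256, [.a8], [.a8]⟩,
  ⟨512, [.a9], [.a9]⟩,
  ⟨1024, [.a10], [.a10, .a11]⟩,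
  ⟨2048, [.a11], [.a11]⟩]
theorem bad611 (c : CtxF Goal γ) : Bad Goal γ [] P611 :=
  c.toCtx.bnd (B := B611) (D := D611) (I := [2, 0, 3, 4, 1, 5]) (r := 4) (C := C611) (N := N611) (by decide +kernel) (by decide +kernel) (by decide +kernel) (by decide +kernel)
    (allB_cons (bad196 c) (allB_cons (bad245 c) (allB_cons (bad245 c) (allB_cons (bad237 c) (allB_cons (bad241 c) (allB_cons (bad245 c) (allB_cons (bad245 c) (allB_cons (bad246 c) (allB_cons (bad246 c) (allB_cons (bad245 c) (allB_cons (bad245 c) (allB_cons (bad246 c) (allB_cons (bad246 c) (allB_cons (bad245 c) (allB_cons (bad245 c) (allB_nil))))))))))))))))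

def P612 : List Ent := [⟨8, [.a3], [.a3]⟩,
  ⟨32, [.a5], [.a5]⟩,
  ⟨64, [.a6], [.a6]⟩,
  ⟨128, [.a7, .a11], [.a7, .a8, .a11]⟩,
  ⟨256, [.a8], [.a8]⟩,
  ⟨512, [.a9], [.a9]⟩]
def B612 : List Gv := [⟨[.a3], [.a3]⟩, ⟨[.a6], [.a6]⟩, ⟨[.a7, .a11], [.a7, .a8, .a11]⟩, ⟨[.a9], [.a9]⟩]
def D612 : List Dv := [⟨[.a5, .a8], [2, 0], [0, 2]⟩,
  ⟨[.a8], [3, 3], []⟩,
  ⟨[.a5], [1], [0]⟩]
def C612 : List Ch := [⟨P197, 0, [], []⟩,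
  ⟨P247, 1, [], []⟩,
  ⟨P247, 0, [.a10], [.a10, .a11]⟩,
  ⟨P236, 2, [], []⟩,
  ⟨P241, 0, [], []⟩,
  ⟨P247, 1, [.a4], [.a4, .a5]⟩,
  ⟨P247, 0, [.a4, .a10], [.a4, .a5, .a10, .a11]⟩,
  ⟨P248, 3, [], []⟩,
  ⟨P214, 0, [.a0], [.a0]⟩,
  ⟨P247, 1, [.a1], [.a1, .a2]⟩,
  ⟨P247, 0, [.a1, .a10], [.a1, .a2, .a4, .a5, .a7, .a9, .a10, .a11]⟩,
  ⟨P248, 2, [.a10], [.a10, .a11]⟩,
  ⟨P214, 0, [.a0, .a1, .a3, .a5, .a6, .a7, .a8, .a9, .a10], [.a0, .a10, .a11]⟩,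
  ⟨P247, 1, [.a1, .a3, .a4], [.a1, .a2, .a4, .a5]⟩,
  ⟨P247, 0, [.a1, .a3, .a4, .a5, .a7, .a10], [.a1, .a2, .a10, .a11]⟩]
def N612 : List Ent := [⟨2, [.a1], [.a1, .a2]⟩,
  ⟨4, [.a2], [.a2]⟩,
  ⟨8, [.a3], [.a3]⟩,
  ⟨16, [.a4], [.a4, .a5]⟩,
  ⟨32, [.a5], [.a5]⟩,
  ⟨64, [.a6], [.a6]⟩,
  ⟨128, [.a7, .a11], [.a7, .a8, .a11]⟩,
  ⟨256, [.a8], [.a8]⟩,
  ⟨512, [.a9], [.a9]⟩,
  ⟨1024, [.a10], [.a10, .a11]⟩,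
  ⟨2048, [.a11], [.a11]⟩]
theorem bad612 (c : CtxF Goal γ) : Bad Goal γ [] P612 :=
  c.toCtx.bnd (B := B612) (D := D612) (I := [3, 0, 4, 5, 1, 6]) (r := 4) (C := C612) (N := N612) (by decide +kernel) (by decide +kernel) (by decide +kernel) (by decide +kernel)
    (allB_cons (bad197 c) (allB_cons (bad247 c) (allB_cons (bad247 c) (allB_cons (bad236 c) (allB_cons (bad241 c) (allB_cons (bad247 c) (allB_cons (bad247 c) (allB_cons (bad248 c) (allB_cons (bad214 c) (allB_cons (bad247 c) (allB_cons (bad247 c) (allB_cons (bad248 c) (allB_cons (bad214 c) (allB_cons (bad247 c) (allB_cons (bad247 c) (allB_nil))))))))))))))))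

def P613 : List Ent := [⟨8, [.a3, .a11], [.a3, .a8, .a11]⟩,
  ⟨32, [.a5], [.a5]⟩,
  ⟨64, [.a6], [.a6]⟩,
  ⟨128, [.a7, .a11], [.a7, .a8, .a11]⟩,
  ⟨256, [.a8], [.a8]⟩,
  ⟨512, [.a9], [.a9]⟩]
def B613 : List Gv := [⟨[.a3, .a11], [.a3, .a8, .a11]⟩, ⟨[.a6], [.a6]⟩, ⟨[.a7, .a11], [.a7, .a8, .a11]⟩, ⟨[.a9], [.a9]⟩]
def D613 : List Dv := [⟨[.a8], [0, 0], []⟩,
  ⟨[.a5, .a8], [3, 1], [1, 3]⟩,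
  ⟨[.a5], [0], [1]⟩]
def C613 : List Ch := [⟨P197, 0, [], []⟩,
  ⟨P249, 1, [], []⟩,
  ⟨P249, 0, [.a10], [.a10, .a11]⟩,
  ⟨P237, 2, [], []⟩,
  ⟨P240, 0, [], []⟩,
  ⟨P249, 1, [.a4], [.a4, .a5]⟩,
  ⟨P249, 0, [.a4, .a10], [.a4, .a5, .a10, .a11]⟩,
  ⟨P250, 3, [], []⟩,
  ⟨P250, 0, [.a1, .a10], [.a1, .a2, .a4, .a5, .a7, .a9, .a10, .a11]⟩,
  ⟨P249, 1, [.a1], [.a1, .a2]⟩,
  ⟨P249, 0, [.a1, .a10], [.a1, .a2, .a4, .a5, .a7, .a9, .a10, .a11]⟩,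
  ⟨P250, 2, [.a10], [.a10, .a11]⟩,
  ⟨P250, 0, [.a1], [.a1, .a2]⟩,
  ⟨P249, 1, [.a1, .a3, .a4], [.a1, .a2, .a4, .a5]⟩,
  ⟨P249, 0, [.a1, .a3, .a4, .a5, .a7, .a10], [.a1, .a2, .a10, .a11]⟩]
def N613 : List Ent := [⟨2, [.a1], [.a1, .a2]⟩,
  ⟨4, [.a2], [.a2]⟩,
  ⟨8, [.a3, .a11], [.a3, .a8, .a11]⟩,
  ⟨16, [.a4], [.a4, .a5]⟩,
  ⟨32, [.a5], [.a5]⟩,
  ⟨64, [.a6], [.a6]⟩,
  ⟨128, [.a7, .a11], [.a7, .a8, .a11]⟩,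
  ⟨256, [.a8], [.a8]⟩,
  ⟨512, [.a9], [.a9]⟩,
  ⟨1024, [.a10], [.a10, .a11]⟩,
  ⟨2048, [.a11], [.a11]⟩]
theorem bad613 (c : CtxF Goal γ) : Bad Goal γ [] P613 :=
  c.toCtx.bnd (B := B613) (D := D613) (I := [3, 0, 4, 5, 2, 6]) (r := 4) (C := C613) (N := N613) (by decide +kernel) (by decide +kernel) (by decide +kernel) (by decide +kernel)
    (allB_cons (bad197 c) (allB_cons (bad249 c) (allB_cons (bad249 c) (allB_cons (bad237 c) (allB_cons (bad240 c) (allB_cons (bad249 c) (allB_cons (bad249 c) (allB_cons (bad250 c) (allB_cons (bad250 c) (allB_cons (bad249 c) (allB_cons (bad249 c) (allB_cons (bad250 c) (allB_cons (bad250 c) (allB_cons (bad249 c) (allB_cons (bad249 c) (allB_nil))))))))))))))))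

def P614 : List Ent := [⟨8, [.a3], [.a3]⟩,
  ⟨64, [.a6], [.a6]⟩,
  ⟨128, [.a7, .a10], [.a7, .a8, .a9, .a10, .a11]⟩,
  ⟨256, [.a8], [.a8]⟩,
  ⟨512, [.a9], [.a9]⟩,
  ⟨2048, [.a11], [.a11]⟩]
def B614 : List Gv := [⟨[.a3], [.a3]⟩, ⟨[.a7, .a10], [.a7, .a8, .a9, .a10, .a11]⟩, ⟨[.a9], [.a9]⟩]
def D614 : List Dv := [⟨[.a6], [1, 0], [0, 1]⟩,
  ⟨[.a8, .a9, .a11], [2, 2], []⟩,
  ⟨[.a11], [4, 0, 1, 3], [3, 1]⟩,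
  ⟨[.a8], [1], [5, 0]⟩]
theorem bad614 (c : CtxF Goal γ) : Bad Goal γ [] P614 :=
  c.toCtx.cent (B := B614) (D := D614) (I := [4, 3, 5, 0, 6, 1]) (z := [.a5]) (by decide +kernel) (by decide +kernel)

def P615 : List Ent := [⟨8, [.a3], [.a3]⟩,
  ⟨32, [.a5, .a7, .a10], [.a5, .a7, .a8, .a9, .a10, .a11]⟩,
  ⟨64, [.a6], [.a6]⟩,
  ⟨256, [.a8], [.a8]⟩,
  ⟨512, [.a9], [.a9]⟩,
  ⟨2048, [.a11], [.a11]⟩]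
def B615 : List Gv := [⟨[.a3], [.a3]⟩, ⟨[.a5, .a7, .a10], [.a5, .a7, .a8, .a9, .a10, .a11]⟩, ⟨[.a9], [.a9]⟩]
def D615 : List Dv := [⟨[.a6], [1, 0], [0, 1]⟩,
  ⟨[.a8, .a9, .a11], [2, 2], []⟩,
  ⟨[.a11], [4, 0, 1, 3], [3, 1]⟩,
  ⟨[.a8], [1], [5, 0]⟩]
theorem bad615 (c : CtxF Goal γ) : Bad Goal γ [] P615 :=
  c.toCtx.cent (B := B615) (D := D615) (I := [4, 5, 3, 0, 6, 1]) (z := [.a5]) (by decide +kernel) (by decide +kernel)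

def P616 : List Ent := [⟨8, [.a3], [.a3]⟩,
  ⟨32, [.a5], [.a5]⟩,
  ⟨64, [.a6], [.a6]⟩,
  ⟨128, [.a7, .a10], [.a7, .a8, .a9, .a10, .a11]⟩,
  ⟨256, [.a8], [.a8]⟩,
  ⟨512, [.a9, .a11], [.a9, .a11]⟩]
def B616 : List Gv := [⟨[.a3], [.a3]⟩, ⟨[.a5], [.a5]⟩, ⟨[.a7, .a10], [.a7, .a8, .a9, .a10, .a11]⟩]
def D616 : List Dv := [⟨[.a6], [2, 0], [0, 2]⟩,
  ⟨[.a8, .a9, .a11], [3, 3], []⟩,
  ⟨[.a9, .a11], [0, 1, 4], [4, 1]⟩,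
  ⟨[.a8], [1], [0]⟩]
theorem bad616 (c : CtxF Goal γ) : Bad Goal γ [] P616 :=
  c.toCtx.cent (B := B616) (D := D616) (I := [4, 5, 3, 6, 0, 1]) (z := [.a3, .a4]) (by decide +kernel) (by decide +kernel)

def P617 : List Ent := [⟨8, [.a3, .a11], [.a3, .a8, .a11]⟩,
  ⟨32, [.a5], [.a5]⟩,
  ⟨64, [.a6], [.a6]⟩,
  ⟨128, [.a7, .a10], [.a7, .a8, .a9, .a10, .a11]⟩,
  ⟨256, [.a8], [.a8]⟩,
  ⟨512, [.a9, .a11], [.a9, .a11]⟩]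
def B617 : List Gv := [⟨[.a3, .a11], [.a3, .a8, .a11]⟩, ⟨[.a5], [.a5]⟩, ⟨[.a7, .a10], [.a7, .a8, .a9, .a10, .a11]⟩]
def D617 : List Dv := [⟨[.a8], [0, 0], []⟩,
  ⟨[.a6], [3, 1], [1, 3]⟩,
  ⟨[.a9, .a11], [1, 4, 4], []⟩]
theorem bad617 (c : CtxF Goal γ) : Bad Goal γ [] P617 :=
  c.toCtx.cent (B := B617) (D := D617) (I := [3, 4, 1, 5, 2, 0]) (z := [.a9]) (by decide +kernel) (by decide +kernel)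

def P618 : List Ent := [⟨8, [.a3], [.a3]⟩,
  ⟨16, [.a4], [.a4, .a5]⟩,
  ⟨32, [.a5], [.a5]⟩,
  ⟨64, [.a6], [.a6]⟩,
  ⟨256, [.a8], [.a8]⟩,
  ⟨2048, [.a11], [.a11]⟩]
def B618 : List Gv := [⟨[.a3], [.a3]⟩, ⟨[.a4], [.a4, .a5]⟩, ⟨[.a6], [.a6]⟩, ⟨[.a11], [.a11]⟩]
def D618 : List Dv := [⟨[.a5], [1, 1], []⟩,
  ⟨[.a8], [4, 1], [1, 4]⟩]
def C618 : List Ch := [⟨P210, 0, [], []⟩,
  ⟨P234, 1, [], []⟩,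
  ⟨P215, 0, [.a1], [.a1, .a2]⟩,
  ⟨P251, 2, [], []⟩,
  ⟨P251, 0, [.a10], [.a10, .a11]⟩,
  ⟨P251, 1, [.a7], [.a7, .a8]⟩,
  ⟨P251, 0, [.a7, .a10], [.a7, .a8, .a9, .a10, .a11]⟩,
  ⟨P252, 3, [], []⟩,
  ⟨P253, 0, [], []⟩,
  ⟨P248, 1, [.a0, .a1], [.a0, .a1, .a2]⟩,
  ⟨P254, 0, [], []⟩,
  ⟨P251, 2, [.a2], [.a2]⟩,
  ⟨P251, 0, [.a2, .a10], [.a2, .a3, .a5, .a8, .a10, .a11]⟩,
  ⟨P251, 1, [.a2, .a3, .a7], [.a2, .a3, .a5, .a7, .a8]⟩,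
  ⟨P251, 0, [.a2, .a3, .a4, .a5, .a7, .a10], [.a2, .a4, .a5, .a7, .a9, .a10, .a11]⟩]
def N618 : List Ent := [⟨4, [.a2], [.a2]⟩,
  ⟨8, [.a3], [.a3]⟩,
  ⟨16, [.a4], [.a4, .a5]⟩,
  ⟨32, [.a5], [.a5]⟩,
  ⟨64, [.a6], [.a6]⟩,
  ⟨128, [.a7], [.a7, .a8]⟩,
  ⟨256, [.a8], [.a8]⟩,
  ⟨512, [.a9], [.a9]⟩,
  ⟨1024, [.a10], [.a10, .a11]⟩,
  ⟨2048, [.a11], [.a11]⟩]
theorem bad618 (c : CtxF Goal γ) : Bad Goal γ [] P618 :=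
  c.toCtx.bnd (B := B618) (D := D618) (I := [2, 3, 1, 4, 0, 5]) (r := 4) (C := C618) (N := N618) (by decide +kernel) (by decide +kernel) (by decide +kernel) (by decide +kernel)
    (allB_cons (bad210 c) (allB_cons (bad234 c) (allB_cons (bad215 c) (allB_cons (bad251 c) (allB_cons (bad251 c) (allB_cons (bad251 c) (allB_cons (bad251 c) (allB_cons (bad252 c) (allB_cons (bad253 c) (allB_cons (bad248 c) (allB_cons (bad254 c) (allB_cons (bad251 c) (allB_cons (bad251 c) (allB_cons (bad251 c) (allB_cons (bad251 c) (allB_nil))))))))))))))))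

def P619 : List Ent := [⟨8, [.a3, .a9], [.a3, .a9]⟩,
  ⟨16, [.a4], [.a4, .a5]⟩,
  ⟨32, [.a5], [.a5]⟩,
  ⟨64, [.a6], [.a6]⟩,
  ⟨256, [.a8], [.a8]⟩,
  ⟨2048, [.a11], [.a11]⟩]
def B619 : List Gv := [⟨[.a3, .a9], [.a3, .a9]⟩, ⟨[.a4], [.a4, .a5]⟩, ⟨[.a6], [.a6]⟩, ⟨[.a11], [.a11]⟩]
def D619 : List Dv := [⟨[.a8], [1, 0], [0, 1]⟩,
  ⟨[.a5], [2, 2], []⟩]
def C619 : List Ch := [⟨P210, 0, [], []⟩,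
  ⟨P235, 1, [], []⟩,
  ⟨P216, 0, [.a1], [.a1, .a2]⟩,
  ⟨P255, 2, [], []⟩,
  ⟨P255, 0, [.a10], [.a10, .a11]⟩,
  ⟨P255, 1, [.a7], [.a7, .a8]⟩,
  ⟨P255, 0, [.a7, .a10], [.a7, .a8, .a9, .a10, .a11]⟩,
  ⟨P256, 3, [], []⟩,
  ⟨P254, 0, [.a1], [.a1, .a2]⟩,
  ⟨P241, 1, [.a0], [.a0]⟩,
  ⟨P257, 0, [], []⟩,
  ⟨P255, 2, [.a2], [.a2]⟩,
  ⟨P255, 0, [.a2, .a10], [.a2, .a3, .a5, .a8, .a10, .a11]⟩,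
  ⟨P255, 1, [.a2, .a3, .a7], [.a2, .a3, .a5, .a7, .a8]⟩,
  ⟨P255, 0, [.a2, .a3, .a4, .a5, .a7, .a10], [.a2, .a4, .a5, .a7, .a9, .a10, .a11]⟩]
def N619 : List Ent := [⟨4, [.a2], [.a2]⟩,
  ⟨8, [.a3, .a9], [.a3, .a9]⟩,
  ⟨16, [.a4], [.a4, .a5]⟩,
  ⟨32, [.a5], [.a5]⟩,
  ⟨64, [.a6], [.a6]⟩,
  ⟨128, [.a7], [.a7, .a8]⟩,
  ⟨256, [.a8], [.a8]⟩,
  ⟨512, [.a9], [.a9]⟩,
  ⟨1024, [.a10], [.a10, .a11]⟩,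
  ⟨2048, [.a11], [.a11]⟩]
theorem bad619 (c : CtxF Goal γ) : Bad Goal γ [] P619 :=
  c.toCtx.bnd (B := B619) (D := D619) (I := [2, 3, 0, 4, 1, 5]) (r := 4) (C := C619) (N := N619) (by decide +kernel) (by decide +kernel) (by decide +kernel) (by decide +kernel)
    (allB_cons (bad210 c) (allB_cons (bad235 c) (allB_cons (bad216 c) (allB_cons (bad255 c) (allB_cons (bad255 c) (allB_cons (bad255 c) (allB_cons (bad255 c) (allB_cons (bad256 c) (allB_cons (bad254 c) (allB_cons (bad241 c) (allB_cons (bad257 c) (allB_cons (bad255 c) (allB_cons (bad255 c) (allB_cons (bad255 c) (allB_cons (bad255 c) (allB_nil))))))))))))))))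

def P620 : List Ent := [⟨8, [.a3], [.a3]⟩,
  ⟨16, [.a4, .a9], [.a4, .a5, .a8, .a9]⟩,
  ⟨32, [.a5], [.a5]⟩,
  ⟨64, [.a6], [.a6]⟩,
  ⟨256, [.a8], [.a8]⟩,
  ⟨2048, [.a11], [.a11]⟩]
def B620 : List Gv := [⟨[.a3], [.a3]⟩, ⟨[.a4, .a9], [.a4, .a5, .a8, .a9]⟩, ⟨[.a6], [.a6]⟩, ⟨[.a11], [.a11]⟩]
def D620 : List Dv := [⟨[.a5, .a8], [1, 1], []⟩,
  ⟨[.a8], [4, 1], [1, 4]⟩,
  ⟨[.a5], [1], [0]⟩]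
def C620 : List Ch := [⟨P211, 0, [], []⟩,
  ⟨P234, 1, [], []⟩,
  ⟨P216, 0, [.a1], [.a1, .a2]⟩,
  ⟨P258, 2, [], []⟩,
  ⟨P258, 0, [.a10], [.a10, .a11]⟩,
  ⟨P258, 1, [.a7], [.a7, .a8]⟩,
  ⟨P258, 0, [.a7, .a10], [.a7, .a8, .a9, .a10, .a11]⟩,
  ⟨P259, 3, [], []⟩,
  ⟨P257, 0, [.a1], [.a1, .a2]⟩,
  ⟨P248, 1, [.a0], [.a0]⟩,
  ⟨P260, 0, [], []⟩,
  ⟨P258, 2, [.a2], [.a2]⟩,
  ⟨P258, 0, [.a2, .a10], [.a2, .a3, .a5, .a8, .a10, .a11]⟩,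
  ⟨P258, 1, [.a2, .a3, .a7], [.a2, .a3, .a5, .a7, .a8]⟩,
  ⟨P258, 0, [.a2, .a3, .a4, .a5, .a7, .a10], [.a2, .a4, .a5, .a7, .a9, .a10, .a11]⟩]
def N620 : List Ent := [⟨4, [.a2], [.a2]⟩,
  ⟨8, [.a3], [.a3]⟩,
  ⟨16, [.a4, .a9], [.a4, .a5, .a8, .a9]⟩,
  ⟨32, [.a5], [.a5]⟩,
  ⟨64, [.a6], [.a6]⟩,
  ⟨128, [.a7], [.a7, .a8]⟩,
  ⟨256, [.a8], [.a8]⟩,
  ⟨512, [.a9], [.a9]⟩,
  ⟨1024, [.a10], [.a10, .a11]⟩,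
  ⟨2048, [.a11], [.a11]⟩]
theorem bad620 (c : CtxF Goal γ) : Bad Goal γ [] P620 :=
  c.toCtx.bnd (B := B620) (D := D620) (I := [3, 4, 0, 5, 1, 6]) (r := 4) (C := C620) (N := N620) (by decide +kernel) (by decide +kernel) (by decide +kernel) (by decide +kernel)
    (allB_cons (bad211 c) (allB_cons (bad234 c) (allB_cons (bad216 c) (allB_cons (bad258 c) (allB_cons (bad258 c) (allB_cons (bad258 c) (allB_cons (bad258 c) (allB_cons (bad259 c) (allB_cons (bad257 c) (allB_cons (bad248 c) (allB_cons (bad260 c) (allB_cons (bad258 c) (allB_cons (bad258 c) (allB_cons (bad258 c) (allB_cons (bad258 c) (allB_nil))))))))))))))))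

def P621 : List Ent := [⟨8, [.a3, .a9], [.a3, .a9]⟩,
  ⟨16, [.a4, .a9], [.a4, .a5, .a8, .a9]⟩,
  ⟨32, [.a5], [.a5]⟩,
  ⟨64, [.a6], [.a6]⟩,
  ⟨256, [.a8], [.a8]⟩,
  ⟨2048, [.a11], [.a11]⟩]
def B621 : List Gv := [⟨[.a3, .a9], [.a3, .a9]⟩, ⟨[.a4, .a9], [.a4, .a5, .a8, .a9]⟩, ⟨[.a6], [.a6]⟩, ⟨[.a11], [.a11]⟩]
def D621 : List Dv := [⟨[.a8], [1, 0], [0, 1]⟩,
  ⟨[.a5, .a8], [2, 2], []⟩,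
  ⟨[.a5], [0], [1]⟩]
def C621 : List Ch := [⟨P211, 0, [], []⟩,
  ⟨P235, 1, [], []⟩,
  ⟨P215, 0, [.a1], [.a1, .a2]⟩,
  ⟨P261, 2, [], []⟩,
  ⟨P261, 0, [.a10], [.a10, .a11]⟩,
  ⟨P261, 1, [.a7], [.a7, .a8]⟩,
  ⟨P261, 0, [.a7, .a10], [.a7, .a8, .a9, .a10, .a11]⟩,
  ⟨P256, 3, [.a1], [.a1, .a2]⟩,
  ⟨P260, 0, [.a1], [.a1, .a2]⟩,
  ⟨P197, 1, [.a0], [.a0]⟩,
  ⟨P253, 0, [.a1], [.a1, .a2]⟩,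
  ⟨P261, 2, [.a2], [.a2]⟩,
  ⟨P261, 0, [.a2, .a10], [.a2, .a3, .a5, .a8, .a10, .a11]⟩,
  ⟨P261, 1, [.a2, .a3, .a7], [.a2, .a3, .a5, .a7, .a8]⟩,
  ⟨P261, 0, [.a2, .a3, .a4, .a5, .a7, .a10], [.a2, .a4, .a5, .a7, .a9, .a10, .a11]⟩]
def N621 : List Ent := [⟨4, [.a2], [.a2]⟩,
  ⟨8, [.a3, .a9], [.a3, .a9]⟩,
  ⟨16, [.a4, .a9], [.a4, .a5, .a8, .a9]⟩,
  ⟨32, [.a5], [.a5]⟩,
  ⟨64, [.a6], [.a6]⟩,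
  ⟨128, [.a7], [.a7, .a8]⟩,
  ⟨256, [.a8], [.a8]⟩,
  ⟨512, [.a9], [.a9]⟩,
  ⟨1024, [.a10], [.a10, .a11]⟩,
  ⟨2048, [.a11], [.a11]⟩]
theorem bad621 (c : CtxF Goal γ) : Bad Goal γ [] P621 :=
  c.toCtx.bnd (B := B621) (D := D621) (I := [3, 4, 0, 5, 2, 6]) (r := 4) (C := C621) (N := N621) (by decide +kernel) (by decide +kernel) (by decide +kernel) (by decide +kernel)
    (allB_cons (bad211 c) (allB_cons (bad235 c) (allB_cons (bad215 c) (allB_cons (bad261 c) (allB_cons (bad261 c) (allB_cons (bad261 c) (allB_cons (bad261 c) (allB_cons (bad256 c) (allB_cons (bad260 c) (allB_cons (bad197 c) (allB_cons (bad253 c) (allB_cons (bad261 c) (allB_cons (bad261 c) (allB_cons (bad261 c) (allB_cons (bad261 c) (allB_nil))))))))))))))))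

def P622 : List Ent := [⟨8, [.a3], [.a3]⟩,
  ⟨16, [.a4], [.a4, .a5]⟩,
  ⟨32, [.a5], [.a5]⟩,
  ⟨256, [.a8], [.a8]⟩,
  ⟨512, [.a9], [.a9]⟩,
  ⟨2048, [.a11], [.a11]⟩]
def B622 : List Gv := [⟨[.a3], [.a3]⟩, ⟨[.a4], [.a4, .a5]⟩, ⟨[.a9], [.a9]⟩, ⟨[.a11], [.a11]⟩]
def D622 : List Dv := [⟨[.a5], [1, 1], []⟩,
  ⟨[.a8], [3, 2], [2, 3]⟩]
theorem bad622 (c : CtxF Goal γ) : Bad Goal γ [] P622 :=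
  c.toCtx.cent (B := B622) (D := D622) (I := [2, 3, 1, 0, 4, 5]) (z := [.a6]) (by decide +kernel) (by decide +kernel)

def P623 : List Ent := [⟨8, [.a3], [.a3]⟩,
  ⟨16, [.a4], [.a4, .a5]⟩,
  ⟨32, [.a5], [.a5]⟩,
  ⟨64, [.a6], [.a6]⟩,
  ⟨256, [.a8], [.a8]⟩,
  ⟨512, [.a9], [.a9]⟩]
def B623 : List Gv := [⟨[.a3], [.a3]⟩, ⟨[.a4], [.a4, .a5]⟩, ⟨[.a6], [.a6]⟩, ⟨[.a9], [.a9]⟩]
def D623 : List Dv := [⟨[.a5], [1, 1], []⟩,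
  ⟨[.a8], [4, 2], [2, 4]⟩]
def C623 : List Ch := [⟨P213, 0, [], []⟩,
  ⟨P236, 1, [], []⟩,
  ⟨P213, 0, [.a1], [.a1, .a2]⟩,
  ⟨P262, 2, [], []⟩,
  ⟨P262, 0, [.a10], [.a10, .a11]⟩,
  ⟨P262, 1, [.a7], [.a7, .a8]⟩,
  ⟨P262, 0, [.a7, .a10], [.a7, .a8, .a9, .a10, .a11]⟩,
  ⟨P252, 3, [], []⟩,
  ⟨P256, 0, [], []⟩,
  ⟨P259, 1, [], []⟩,
  ⟨P256, 0, [.a1], [.a1, .a2]⟩,
  ⟨P262, 2, [.a1], [.a1, .a2]⟩,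
  ⟨P262, 0, [.a1, .a3, .a4, .a5, .a7, .a10], [.a1, .a2, .a10, .a11]⟩,
  ⟨P262, 1, [.a1, .a7], [.a1, .a2, .a7, .a8]⟩,
  ⟨P262, 0, [.a1, .a10], [.a1, .a2, .a4, .a5, .a7, .a9, .a10, .a11]⟩]
def N623 : List Ent := [⟨2, [.a1], [.a1, .a2]⟩,
  ⟨4, [.a2], [.a2]⟩,
  ⟨8, [.a3], [.a3]⟩,
  ⟨16, [.a4], [.a4, .a5]⟩,
  ⟨32, [.a5], [.a5]⟩,
  ⟨64, [.a6], [.a6]⟩,
  ⟨128, [.a7], [.a7, .a8]⟩,
  ⟨256, [.a8], [.a8]⟩,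
  ⟨512, [.a9], [.a9]⟩,
  ⟨1024, [.a10], [.a10, .a11]⟩,
  ⟨2048, [.a11], [.a11]⟩]
theorem bad623 (c : CtxF Goal γ) : Bad Goal γ [] P623 :=
  c.toCtx.bnd (B := B623) (D := D623) (I := [2, 3, 1, 4, 0, 5]) (r := 4) (C := C623) (N := N623) (by decide +kernel) (by decide +kernel) (by decide +kernel) (by decide +kernel)
    (allB_cons (bad213 c) (allB_cons (bad236 c) (allB_cons (bad213 c) (allB_cons (bad262 c) (allB_cons (bad262 c) (allB_cons (bad262 c) (allB_cons (bad262 c) (allB_cons (bad252 c) (allB_cons (bad256 c) (allB_cons (bad259 c) (allB_cons (bad256 c) (allB_cons (bad262 c) (allB_cons (bad262 c) (allB_cons (bad262 c) (allB_cons (bad262 c) (allB_nil))))))))))))))))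

def P624 : List Ent := [⟨8, [.a3, .a11], [.a3, .a8, .a11]⟩,
  ⟨16, [.a4], [.a4, .a5]⟩,
  ⟨32, [.a5], [.a5]⟩,
  ⟨64, [.a6], [.a6]⟩,
  ⟨256, [.a8], [.a8]⟩,
  ⟨512, [.a9], [.a9]⟩]
def B624 : List Gv := [⟨[.a3, .a11], [.a3, .a8, .a11]⟩, ⟨[.a4], [.a4, .a5]⟩, ⟨[.a6], [.a6]⟩, ⟨[.a9], [.a9]⟩]
def D624 : List Dv := [⟨[.a8], [0, 0], []⟩,
  ⟨[.a5], [2, 2], []⟩]
def C624 : List Ch := [⟨P213, 0, [], []⟩,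
  ⟨P237, 1, [], []⟩,
  ⟨P214, 0, [.a1], [.a1, .a2]⟩,
  ⟨P263, 2, [], []⟩,
  ⟨P263, 0, [.a10], [.a10, .a11]⟩,
  ⟨P263, 1, [.a7], [.a7, .a8]⟩,
  ⟨P263, 0, [.a7, .a10], [.a7, .a8, .a9, .a10, .a11]⟩,
  ⟨P253, 3, [], []⟩,
  ⟨P254, 0, [.a1], [.a1, .a2]⟩,
  ⟨P257, 1, [.a1], [.a1, .a2]⟩,
  ⟨P260, 0, [.a1], [.a1, .a2]⟩,
  ⟨P264, 2, [], []⟩,
  ⟨P264, 0, [.a10], [.a10, .a11]⟩,
  ⟨P264, 1, [.a7], [.a7, .a8]⟩,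
  ⟨P264, 0, [.a7, .a10], [.a7, .a8, .a9, .a10, .a11]⟩]
def N624 : List Ent := [⟨4, [.a2], [.a2]⟩,
  ⟨8, [.a3, .a11], [.a3, .a8, .a11]⟩,
  ⟨16, [.a4], [.a4, .a5]⟩,
  ⟨32, [.a5], [.a5]⟩,
  ⟨64, [.a6], [.a6]⟩,
  ⟨128, [.a7], [.a7, .a8]⟩,
  ⟨256, [.a8], [.a8]⟩,
  ⟨512, [.a9], [.a9]⟩,
  ⟨1024, [.a10], [.a10, .a11]⟩,
  ⟨2048, [.a11], [.a11]⟩]
theorem bad624 (c : CtxF Goal γ) : Bad Goal γ [] P624 :=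
  c.toCtx.bnd (B := B624) (D := D624) (I := [2, 3, 0, 4, 1, 5]) (r := 4) (C := C624) (N := N624) (by decide +kernel) (by decide +kernel) (by decide +kernel) (by decide +kernel)
    (allB_cons (bad213 c) (allB_cons (bad237 c) (allB_cons (bad214 c) (allB_cons (bad263 c) (allB_cons (bad263 c) (allB_cons (bad263 c) (allB_cons (bad263 c) (allB_cons (bad253 c) (allB_cons (bad254 c) (allB_cons (bad257 c) (allB_cons (bad260 c) (allB_cons (bad264 c) (allB_cons (bad264 c) (allB_cons (bad264 c) (allB_cons (bad264 c) (allB_nil))))))))))))))))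

def P625 : List Ent := [⟨8, [.a3, .a7], [.a3, .a5, .a7, .a8]⟩,
  ⟨16, [.a4], [.a4, .a5]⟩,
  ⟨32, [.a5], [.a5]⟩,
  ⟨64, [.a6], [.a6]⟩,
  ⟨256, [.a8], [.a8]⟩,
  ⟨2048, [.a11], [.a11]⟩]
def B625 : List Gv := [⟨[.a3, .a7], [.a3, .a5, .a7, .a8]⟩, ⟨[.a4], [.a4, .a5]⟩, ⟨[.a11], [.a11]⟩]
def D625 : List Dv := [⟨[.a5, .a8], [0, 0], []⟩,
  ⟨[.a6], [2, 1], [1, 2]⟩,
  ⟨[.a8], [1, 3, 3], []⟩,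
  ⟨[.a5], [2], [0]⟩]
def C625 : List Ch := [⟨P210, 0, [], []⟩,
  ⟨P239, 1, [], []⟩,
  ⟨P222, 0, [.a1], [.a1, .a2]⟩,
  ⟨P265, 2, [], []⟩,
  ⟨P266, 0, [], []⟩,
  ⟨P267, 1, [], []⟩,
  ⟨P268, 0, [], []⟩]
def N625 : List Ent := [⟨4, [.a2], [.a2]⟩,
  ⟨8, [.a3, .a7], [.a3, .a5, .a7, .a8]⟩,
  ⟨16, [.a4], [.a4, .a5]⟩,
  ⟨32, [.a5], [.a5]⟩,
  ⟨64, [.a6], [.a6]⟩,
  ⟨128, [.a7], [.a7, .a8]⟩,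
  ⟨256, [.a8], [.a8]⟩,
  ⟨512, [.a9], [.a9]⟩,
  ⟨2048, [.a11], [.a11]⟩]
theorem bad625 (c : CtxF Goal γ) : Bad Goal γ [] P625 :=
  c.toCtx.bnd (B := B625) (D := D625) (I := [4, 5, 0, 2, 1, 6]) (r := 3) (C := C625) (N := N625) (by decide +kernel) (by decide +kernel) (by decide +kernel) (by decide +kernel)
    (allB_cons (bad210 c) (allB_cons (bad239 c) (allB_cons (bad222 c) (allB_cons (bad265 c) (allB_cons (bad266 c) (allB_cons (bad267 c) (allB_cons (bad268 c) (allB_nil))))))))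

def P626 : List Ent := [⟨8, [.a3, .a7], [.a3, .a5, .a7, .a8]⟩,
  ⟨16, [.a4, .a9], [.a4, .a5, .a8, .a9]⟩,
  ⟨32, [.a5], [.a5]⟩,
  ⟨64, [.a6], [.a6]⟩,
  ⟨256, [.a8], [.a8]⟩,
  ⟨2048, [.a11], [.a11]⟩]
def B626 : List Gv := [⟨[.a3, .a7], [.a3, .a5, .a7, .a8]⟩, ⟨[.a4, .a9], [.a4, .a5, .a8, .a9]⟩, ⟨[.a11], [.a11]⟩]
def D626 : List Dv := [⟨[.a5, .a8], [0, 0], []⟩,
  ⟨[.a6], [2, 1], [1, 2]⟩,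
  ⟨[.a8], [4, 2], [2, 4]⟩,
  ⟨[.a5], [2], [0]⟩]
def C626 : List Ch := [⟨P211, 0, [], []⟩,
  ⟨P239, 1, [], []⟩,
  ⟨P222, 0, [.a1, .a10], [.a1, .a2, .a4, .a5, .a7, .a9, .a10, .a11]⟩,
  ⟨P269, 2, [], []⟩,
  ⟨P270, 0, [], []⟩,
  ⟨P271, 1, [], []⟩,
  ⟨P226, 0, [.a0, .a1, .a3, .a5, .a6, .a7, .a8, .a9, .a10], [.a0, .a10, .a11]⟩]
def N626 : List Ent := [⟨4, [.a2], [.a2]⟩,
  ⟨8, [.a3, .a7], [.a3, .a5, .a7, .a8]⟩,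
  ⟨16, [.a4, .a9], [.a4, .a5, .a8, .a9]⟩,
  ⟨32, [.a5], [.a5]⟩,
  ⟨64, [.a6], [.a6]⟩,
  ⟨128, [.a7], [.a7, .a8]⟩,
  ⟨256, [.a8], [.a8]⟩,
  ⟨512, [.a9], [.a9]⟩,
  ⟨2048, [.a11], [.a11]⟩]
theorem bad626 (c : CtxF Goal γ) : Bad Goal γ [] P626 :=
  c.toCtx.bnd (B := B626) (D := D626) (I := [4, 5, 0, 2, 1, 6]) (r := 3) (C := C626) (N := N626) (by decide +kernel) (by decide +kernel) (by decide +kernel) (by decide +kernel)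
    (allB_cons (bad211 c) (allB_cons (bad239 c) (allB_cons (bad222 c) (allB_cons (bad269 c) (allB_cons (bad270 c) (allB_cons (bad271 c) (allB_cons (bad226 c) (allB_nil))))))))

def P627 : List Ent := [⟨8, [.a3, .a7], [.a3, .a5, .a7, .a8]⟩,
  ⟨16, [.a4], [.a4, .a5]⟩,
  ⟨32, [.a5], [.a5]⟩,
  ⟨64, [.a6], [.a6]⟩,
  ⟨256, [.a8], [.a8]⟩,
  ⟨512, [.a9], [.a9]⟩]
def B627 : List Gv := [⟨[.a3, .a7], [.a3, .a5, .a7, .a8]⟩, ⟨[.a4], [.a4, .a5]⟩, ⟨[.a9], [.a9]⟩]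
def D627 : List Dv := [⟨[.a5, .a8], [0, 0], []⟩,
  ⟨[.a6], [2, 1], [1, 2]⟩,
  ⟨[.a8], [1, 3, 3], []⟩,
  ⟨[.a5], [2], [0]⟩]
def C627 : List Ch := [⟨P213, 0, [], []⟩,
  ⟨P240, 1, [], []⟩,
  ⟨P219, 0, [.a1], [.a1, .a2]⟩,
  ⟨P265, 2, [], []⟩,
  ⟨P265, 0, [.a10], [.a10, .a11]⟩,
  ⟨P269, 1, [], []⟩,
  ⟨P269, 0, [.a10], [.a10, .a11]⟩]
def N627 : List Ent := [⟨4, [.a2], [.a2]⟩,
  ⟨8, [.a3, .a7], [.a3, .a5, .a7, .a8]⟩,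
  ⟨16, [.a4], [.a4, .a5]⟩,
  ⟨32, [.a5], [.a5]⟩,
  ⟨64, [.a6], [.a6]⟩,
  ⟨128, [.a7], [.a7, .a8]⟩,
  ⟨256, [.a8], [.a8]⟩,
  ⟨512, [.a9], [.a9]⟩,
  ⟨1024, [.a10], [.a10, .a11]⟩,
  ⟨2048, [.a11], [.a11]⟩]
theorem bad627 (c : CtxF Goal γ) : Bad Goal γ [] P627 :=
  c.toCtx.bnd (B := B627) (D := D627) (I := [4, 5, 0, 2, 1, 6]) (r := 3) (C := C627) (N := N627) (by decide +kernel) (by decide +kernel) (by decide +kernel) (by decide +kernel)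
    (allB_cons (bad213 c) (allB_cons (bad240 c) (allB_cons (bad219 c) (allB_cons (bad265 c) (allB_cons (bad265 c) (allB_cons (bad269 c) (allB_cons (bad269 c) (allB_nil))))))))

def P628 : List Ent := [⟨8, [.a3, .a7, .a11], [.a3, .a5, .a7, .a11]⟩,
  ⟨16, [.a4], [.a4, .a5]⟩,
  ⟨32, [.a5], [.a5]⟩,
  ⟨64, [.a6], [.a6]⟩,
  ⟨256, [.a8], [.a8]⟩,
  ⟨512, [.a9], [.a9]⟩]
def B628 : List Gv := [⟨[.a3, .a7, .a11], [.a3, .a5, .a7, .a11]⟩, ⟨[.a4], [.a4, .a5]⟩, ⟨[.a9], [.a9]⟩]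
def D628 : List Dv := [⟨[.a5], [0, 0], []⟩,
  ⟨[.a6], [2, 1], [1, 2]⟩,
  ⟨[.a8], [4, 3], [3, 4]⟩]
def C628 : List Ch := [⟨P213, 0, [], []⟩,
  ⟨P241, 1, [], []⟩,
  ⟨P220, 0, [.a1], [.a1, .a2]⟩,
  ⟨P266, 2, [], []⟩,
  ⟨P266, 0, [.a10], [.a10, .a11]⟩,
  ⟨P270, 1, [], []⟩,
  ⟨P270, 0, [.a10], [.a10, .a11]⟩]
def N628 : List Ent := [⟨4, [.a2], [.a2]⟩,
  ⟨8, [.a3, .a7, .a11], [.a3, .a5, .a7, .a11]⟩,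
  ⟨16, [.a4], [.a4, .a5]⟩,
  ⟨32, [.a5], [.a5]⟩,
  ⟨64, [.a6], [.a6]⟩,
  ⟨128, [.a7], [.a7, .a8]⟩,
  ⟨256, [.a8], [.a8]⟩,
  ⟨512, [.a9], [.a9]⟩,
  ⟨1024, [.a10], [.a10, .a11]⟩,
  ⟨2048, [.a11], [.a11]⟩]
theorem bad628 (c : CtxF Goal γ) : Bad Goal γ [] P628 :=
  c.toCtx.bnd (B := B628) (D := D628) (I := [3, 4, 2, 1, 0, 5]) (r := 3) (C := C628) (N := N628) (by decide +kernel) (by decide +kernel) (by decide +kernel) (by decide +kernel)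
    (allB_cons (bad213 c) (allB_cons (bad241 c) (allB_cons (bad220 c) (allB_cons (bad266 c) (allB_cons (bad266 c) (allB_cons (bad270 c) (allB_cons (bad270 c) (allB_nil))))))))

def P629 : List Ent := [⟨8, [.a3, .a7], [.a3, .a5, .a7, .a8]⟩,
  ⟨16, [.a4, .a11], [.a4, .a5, .a11]⟩,
  ⟨32, [.a5], [.a5]⟩,
  ⟨64, [.a6], [.a6]⟩,
  ⟨256, [.a8], [.a8]⟩,
  ⟨512, [.a9], [.a9]⟩]
def B629 : List Gv := [⟨[.a3, .a7], [.a3, .a5, .a7, .a8]⟩, ⟨[.a4, .a11], [.a4, .a5, .a11]⟩, ⟨[.a9], [.a9]⟩]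
def D629 : List Dv := [⟨[.a5, .a8], [0, 0], []⟩,
  ⟨[.a6, .a8], [2, 1], [1, 2]⟩,
  ⟨[.a8], [1, 3, 3], []⟩,
  ⟨[.a6], [1], [0]⟩,
  ⟨[.a5], [3], [1]⟩]
def C629 : List Ch := [⟨P214, 0, [], []⟩,
  ⟨P240, 1, [], []⟩,
  ⟨P220, 0, [.a1], [.a1, .a2]⟩,
  ⟨P267, 2, [], []⟩,
  ⟨P267, 0, [.a10], [.a10, .a11]⟩,
  ⟨P271, 1, [], []⟩,
  ⟨P271, 0, [.a10], [.a10, .a11]⟩]
def N629 : List Ent := [⟨4, [.a2], [.a2]⟩,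
  ⟨8, [.a3, .a7], [.a3, .a5, .a7, .a8]⟩,
  ⟨16, [.a4, .a11], [.a4, .a5, .a11]⟩,
  ⟨32, [.a5], [.a5]⟩,
  ⟨64, [.a6], [.a6]⟩,
  ⟨128, [.a7], [.a7, .a8]⟩,
  ⟨256, [.a8], [.a8]⟩,
  ⟨512, [.a9], [.a9]⟩,
  ⟨1024, [.a10], [.a10, .a11]⟩,
  ⟨2048, [.a11], [.a11]⟩]
theorem bad629 (c : CtxF Goal γ) : Bad Goal γ [] P629 :=
  c.toCtx.bnd (B := B629) (D := D629) (I := [5, 6, 0, 1, 2, 7]) (r := 3) (C := C629) (N := N629) (by decide +kernel) (by decide +kernel) (by decide +kernel) (by decide +kernel)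
    (allB_cons (bad214 c) (allB_cons (bad240 c) (allB_cons (bad220 c) (allB_cons (bad267 c) (allB_cons (bad267 c) (allB_cons (bad271 c) (allB_cons (bad271 c) (allB_nil))))))))

def P630 : List Ent := [⟨8, [.a3, .a7, .a11], [.a3, .a5, .a7, .a11]⟩,
  ⟨16, [.a4, .a11], [.a4, .a5, .a11]⟩,
  ⟨32, [.a5], [.a5]⟩,
  ⟨64, [.a6], [.a6]⟩,
  ⟨256, [.a8], [.a8]⟩,
  ⟨512, [.a9], [.a9]⟩]
def B630 : List Gv := [⟨[.a3, .a7, .a11], [.a3, .a5, .a7, .a11]⟩, ⟨[.a4, .a11], [.a4, .a5, .a11]⟩, ⟨[.a9], [.a9]⟩]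
def D630 : List Dv := [⟨[.a5], [0, 0], []⟩,
  ⟨[.a6, .a8], [2, 1], [1, 2]⟩,
  ⟨[.a8], [4, 3], [3, 4]⟩,
  ⟨[.a6], [1], [0]⟩]
def C630 : List Ch := [⟨P214, 0, [], []⟩,
  ⟨P241, 1, [], []⟩,
  ⟨P219, 0, [.a1], [.a1, .a2]⟩,
  ⟨P268, 2, [], []⟩,
  ⟨P268, 0, [.a10], [.a10, .a11]⟩,
  ⟨P226, 1, [.a0, .a1, .a3, .a5, .a6, .a7, .a8, .a9, .a10], [.a0, .a10, .a11]⟩,
  ⟨P226, 0, [.a0], [.a0]⟩]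
def N630 : List Ent := [⟨4, [.a2], [.a2]⟩,
  ⟨8, [.a3, .a7, .a11], [.a3, .a5, .a7, .a11]⟩,
  ⟨16, [.a4, .a11], [.a4, .a5, .a11]⟩,
  ⟨32, [.a5], [.a5]⟩,
  ⟨64, [.a6], [.a6]⟩,
  ⟨128, [.a7], [.a7, .a8]⟩,
  ⟨256, [.a8], [.a8]⟩,
  ⟨512, [.a9], [.a9]⟩,
  ⟨1024, [.a10], [.a10, .a11]⟩,
  ⟨2048, [.a11], [.a11]⟩]
theorem bad630 (c : CtxF Goal γ) : Bad Goal γ [] P630 :=
  c.toCtx.bnd (B := B630) (D := D630) (I := [4, 5, 3, 0, 1, 6]) (r := 3) (C := C630) (N := N630) (by decide +kernel) (by decide +kernel) (by decide +kernel) (by decide +kernel)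
    (allB_cons (bad214 c) (allB_cons (bad241 c) (allB_cons (bad219 c) (allB_cons (bad268 c) (allB_cons (bad268 c) (allB_cons (bad226 c) (allB_cons (bad226 c) (allB_nil))))))))

def P631 : List Ent := [⟨8, [.a3, .a7], [.a3, .a5, .a7, .a8]⟩,
  ⟨16, [.a4], [.a4, .a5]⟩,
  ⟨32, [.a5], [.a5]⟩,
  ⟨64, [.a6], [.a6]⟩,
  ⟨256, [.a8], [.a8]⟩,
  ⟨512, [.a9, .a11], [.a9, .a11]⟩]
def B631 : List Gv := [⟨[.a3, .a7], [.a3, .a5, .a7, .a8]⟩, ⟨[.a4], [.a4, .a5]⟩, ⟨[.a9, .a11], [.a9, .a11]⟩]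
def D631 : List Dv := [⟨[.a5, .a8], [0, 0], []⟩,
  ⟨[.a6], [2, 1], [1, 2]⟩,
  ⟨[.a8], [1, 3, 3], []⟩,
  ⟨[.a5], [2], [0]⟩]
def C631 : List Ch := [⟨P215, 0, [], []⟩,
  ⟨P239, 1, [.a1], [.a1, .a2]⟩,
  ⟨P218, 0, [.a1], [.a1, .a2]⟩,
  ⟨P265, 2, [], []⟩,
  ⟨P266, 0, [.a10], [.a10, .a11]⟩,
  ⟨P271, 1, [], []⟩,
  ⟨P226, 0, [.a0], [.a0]⟩]
def N631 : List Ent := [⟨4, [.a2], [.a2]⟩,
  ⟨8, [.a3, .a7], [.a3, .a5, .a7, .a8]⟩,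
  ⟨16, [.a4], [.a4, .a5]⟩,
  ⟨32, [.a5], [.a5]⟩,
  ⟨64, [.a6], [.a6]⟩,
  ⟨128, [.a7], [.a7, .a8]⟩,
  ⟨256, [.a8], [.a8]⟩,
  ⟨512, [.a9, .a11], [.a9, .a11]⟩,
  ⟨2048, [.a11], [.a11]⟩]
theorem bad631 (c : CtxF Goal γ) : Bad Goal γ [] P631 :=
  c.toCtx.bnd (B := B631) (D := D631) (I := [4, 5, 0, 2, 1, 6]) (r := 3) (C := C631) (N := N631) (by decide +kernel) (by decide +kernel) (by decide +kernel) (by decide +kernel)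
    (allB_cons (bad215 c) (allB_cons (bad239 c) (allB_cons (bad218 c) (allB_cons (bad265 c) (allB_cons (bad266 c) (allB_cons (bad271 c) (allB_cons (bad226 c) (allB_nil))))))))

def P632 : List Ent := [⟨8, [.a3, .a7], [.a3, .a5, .a7, .a8]⟩,
  ⟨16, [.a4, .a11], [.a4, .a5, .a11]⟩,
  ⟨32, [.a5], [.a5]⟩,
  ⟨64, [.a6], [.a6]⟩,
  ⟨256, [.a8], [.a8]⟩,
  ⟨512, [.a9, .a11], [.a9, .a11]⟩]
def B632 : List Gv := [⟨[.a3, .a7], [.a3, .a5, .a7, .a8]⟩, ⟨[.a4, .a11], [.a4, .a5, .a11]⟩, ⟨[.a9, .a11], [.a9, .a11]⟩]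
def D632 : List Dv := [⟨[.a5, .a8], [0, 0], []⟩,
  ⟨[.a6, .a8], [2, 1], [1, 2]⟩,
  ⟨[.a8], [1, 3, 3], []⟩,
  ⟨[.a6], [1], [0]⟩,
  ⟨[.a5], [3], [1]⟩]
def C632 : List Ch := [⟨P216, 0, [], []⟩,
  ⟨P239, 1, [.a1], [.a1, .a2]⟩,
  ⟨P218, 0, [.a1, .a10], [.a1, .a2, .a4, .a5, .a7, .a9, .a10, .a11]⟩,
  ⟨P267, 2, [], []⟩,
  ⟨P268, 0, [.a10], [.a10, .a11]⟩,
  ⟨P269, 1, [], []⟩,
  ⟨P270, 0, [.a10], [.a10, .a11]⟩]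
def N632 : List Ent := [⟨4, [.a2], [.a2]⟩,
  ⟨8, [.a3, .a7], [.a3, .a5, .a7, .a8]⟩,
  ⟨16, [.a4, .a11], [.a4, .a5, .a11]⟩,
  ⟨32, [.a5], [.a5]⟩,
  ⟨64, [.a6], [.a6]⟩,
  ⟨128, [.a7], [.a7, .a8]⟩,
  ⟨256, [.a8], [.a8]⟩,
  ⟨512, [.a9, .a11], [.a9, .a11]⟩,
  ⟨2048, [.a11], [.a11]⟩]
theorem bad632 (c : CtxF Goal γ) : Bad Goal γ [] P632 :=
  c.toCtx.bnd (B := B632) (D := D632) (I := [5, 6, 0, 1, 2, 7]) (r := 3) (C := C632) (N := N632) (by decide +kernel) (by decide +kernel) (by decide +kernel) (by decide +kernel)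
    (allB_cons (bad216 c) (allB_cons (bad239 c) (allB_cons (bad218 c) (allB_cons (bad267 c) (allB_cons (bad268 c) (allB_cons (bad269 c) (allB_cons (bad270 c) (allB_nil))))))))

def P633 : List Ent := [⟨8, [.a3], [.a3]⟩,
  ⟨16, [.a4, .a7], [.a4, .a5, .a6, .a7, .a8]⟩,
  ⟨32, [.a5], [.a5]⟩,
  ⟨64, [.a6], [.a6]⟩,
  ⟨256, [.a8], [.a8]⟩,
  ⟨2048, [.a11], [.a11]⟩]
def B633 : List Gv := [⟨[.a3], [.a3]⟩, ⟨[.a4, .a7], [.a4, .a5, .a6, .a7, .a8]⟩, ⟨[.a11], [.a11]⟩]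
def D633 : List Dv := [⟨[.a5], [1, 0], [0, 1]⟩,
  ⟨[.a6, .a8], [0, 2, 2], []⟩,
  ⟨[.a8], [4, 2], [2, 4]⟩,
  ⟨[.a6], [1], [0]⟩]
def C633 : List Ch := [⟨P218, 0, [], []⟩,
  ⟨P234, 1, [], []⟩,
  ⟨P222, 0, [.a1], [.a1, .a2]⟩,
  ⟨P272, 2, [], []⟩,
  ⟨P273, 0, [], []⟩,
  ⟨P274, 1, [], []⟩,
  ⟨P275, 0, [], []⟩]
def N633 : List Ent := [⟨4, [.a2], [.a2]⟩,
  ⟨8, [.a3], [.a3]⟩,
  ⟨16, [.a4, .a7], [.a4, .a5, .a6, .a7, .a8]⟩,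
  ⟨32, [.a5], [.a5]⟩,
  ⟨64, [.a6], [.a6]⟩,
  ⟨128, [.a7], [.a7, .a8]⟩,
  ⟨256, [.a8], [.a8]⟩,
  ⟨512, [.a9], [.a9]⟩,
  ⟨2048, [.a11], [.a11]⟩]
theorem bad633 (c : CtxF Goal γ) : Bad Goal γ [] P633 :=
  c.toCtx.bnd (B := B633) (D := D633) (I := [4, 5, 3, 0, 1, 6]) (r := 3) (C := C633) (N := N633) (by decide +kernel) (by decide +kernel) (by decide +kernel) (by decide +kernel)
    (allB_cons (bad218 c) (allB_cons (bad234 c) (allB_cons (bad222 c) (allB_cons (bad272 c) (allB_cons (bad273 c) (allB_cons (bad274 c) (allB_cons (bad275 c) (allB_nil))))))))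

def P634 : List Ent := [⟨8, [.a3, .a9], [.a3, .a9]⟩,
  ⟨16, [.a4, .a7], [.a4, .a5, .a6, .a7, .a8]⟩,
  ⟨32, [.a5], [.a5]⟩,
  ⟨64, [.a6], [.a6]⟩,
  ⟨256, [.a8], [.a8]⟩,
  ⟨2048, [.a11], [.a11]⟩]
def B634 : List Gv := [⟨[.a3, .a9], [.a3, .a9]⟩, ⟨[.a4, .a7], [.a4, .a5, .a6, .a7, .a8]⟩, ⟨[.a11], [.a11]⟩]
def D634 : List Dv := [⟨[.a5, .a8], [1, 0], [0, 1]⟩,
  ⟨[.a6], [0, 2, 2], []⟩,
  ⟨[.a8], [4, 2], [2, 4]⟩,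
  ⟨[.a5], [2], [0]⟩]
def C634 : List Ch := [⟨P218, 0, [], []⟩,
  ⟨P235, 1, [], []⟩,
  ⟨P222, 0, [.a1, .a10], [.a1, .a2, .a4, .a5, .a7, .a9, .a10, .a11]⟩,
  ⟨P219, 2, [.a0, .a1, .a3, .a5, .a6, .a7, .a8, .a9, .a10], [.a0, .a10, .a11]⟩,
  ⟨P275, 0, [.a1], [.a1, .a2]⟩,
  ⟨P276, 1, [], []⟩,
  ⟨P273, 0, [.a1, .a10], [.a1, .a2, .a4, .a5, .a7, .a9, .a10, .a11]⟩]
def N634 : List Ent := [⟨4, [.a2], [.a2]⟩,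
  ⟨8, [.a3, .a9], [.a3, .a9]⟩,
  ⟨16, [.a4, .a7], [.a4, .a5, .a6, .a7, .a8]⟩,
  ⟨32, [.a5], [.a5]⟩,
  ⟨64, [.a6], [.a6]⟩,
  ⟨128, [.a7], [.a7, .a8]⟩,
  ⟨256, [.a8], [.a8]⟩,
  ⟨512, [.a9], [.a9]⟩,
  ⟨2048, [.a11], [.a11]⟩]
theorem bad634 (c : CtxF Goal γ) : Bad Goal γ [] P634 :=
  c.toCtx.bnd (B := B634) (D := D634) (I := [4, 5, 0, 2, 1, 6]) (r := 3) (C := C634) (N := N634) (by decide +kernel) (by decide +kernel) (by decide +kernel) (by decide +kernel)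
    (allB_cons (bad218 c) (allB_cons (bad235 c) (allB_cons (bad222 c) (allB_cons (bad219 c) (allB_cons (bad275 c) (allB_cons (bad276 c) (allB_cons (bad273 c) (allB_nil))))))))

def P635 : List Ent := [⟨8, [.a3], [.a3]⟩,
  ⟨16, [.a4, .a7], [.a4, .a5, .a6, .a7, .a8]⟩,
  ⟨32, [.a5], [.a5]⟩,
  ⟨64, [.a6], [.a6]⟩,
  ⟨256, [.a8], [.a8]⟩,
  ⟨512, [.a9], [.a9]⟩]
def B635 : List Gv := [⟨[.a3], [.a3]⟩, ⟨[.a4, .a7], [.a4, .a5, .a6, .a7, .a8]⟩, ⟨[.a9], [.a9]⟩]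
def D635 : List Dv := [⟨[.a5], [1, 0], [0, 1]⟩,
  ⟨[.a6, .a8], [0, 2, 2], []⟩,
  ⟨[.a8], [4, 3], [3, 4]⟩,
  ⟨[.a6], [1], [0]⟩]
def C635 : List Ch := [⟨P219, 0, [], []⟩,
  ⟨P236, 1, [], []⟩,
  ⟨P219, 0, [.a1], [.a1, .a2]⟩,
  ⟨P272, 2, [], []⟩,
  ⟨P219, 0, [.a0, .a1, .a3, .a5, .a6, .a7, .a8, .a9, .a10], [.a0, .a10, .a11]⟩,
  ⟨P272, 1, [.a10], [.a10, .a11]⟩,
  ⟨P219, 0, [.a0], [.a0]⟩]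
def N635 : List Ent := [⟨1, [.a0], [.a0]⟩,
  ⟨2, [.a1], [.a1, .a2]⟩,
  ⟨4, [.a2], [.a2]⟩,
  ⟨8, [.a3], [.a3]⟩,
  ⟨16, [.a4, .a7], [.a4, .a5, .a6, .a7, .a8]⟩,
  ⟨32, [.a5], [.a5]⟩,
  ⟨64, [.a6], [.a6]⟩,
  ⟨128, [.a7], [.a7, .a8]⟩,
  ⟨256, [.a8], [.a8]⟩,
  ⟨512, [.a9], [.a9]⟩,
  ⟨1024, [.a10], [.a10, .a11]⟩,
  ⟨2048, [.a11], [.a11]⟩]
theorem bad635 (c : CtxF Goal γ) : Bad Goal γ [] P635 :=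
  c.toCtx.bnd (B := B635) (D := D635) (I := [4, 5, 3, 0, 1, 6]) (r := 3) (C := C635) (N := N635) (by decide +kernel) (by decide +kernel) (by decide +kernel) (by decide +kernel)
    (allB_cons (bad219 c) (allB_cons (bad236 c) (allB_cons (bad219 c) (allB_cons (bad272 c) (allB_cons (bad219 c) (allB_cons (bad272 c) (allB_cons (bad219 c) (allB_nil))))))))

def P636 : List Ent := [⟨8, [.a3, .a11], [.a3, .a8, .a11]⟩,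
  ⟨16, [.a4, .a7], [.a4, .a5, .a6, .a7, .a8]⟩,
  ⟨32, [.a5], [.a5]⟩,
  ⟨64, [.a6], [.a6]⟩,
  ⟨256, [.a8], [.a8]⟩,
  ⟨512, [.a9], [.a9]⟩]
def B636 : List Gv := [⟨[.a3, .a11], [.a3, .a8, .a11]⟩, ⟨[.a4, .a7], [.a4, .a5, .a6, .a7, .a8]⟩, ⟨[.a9], [.a9]⟩]
def D636 : List Dv := [⟨[.a8], [0, 0], []⟩,
  ⟨[.a5], [2, 1], [1, 2]⟩,
  ⟨[.a6, .a8], [0, 3, 3], []⟩,
  ⟨[.a6], [0], [2]⟩]
def C636 : List Ch := [⟨P219, 0, [], []⟩,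
  ⟨P237, 1, [], []⟩,
  ⟨P220, 0, [.a1], [.a1, .a2]⟩,
  ⟨P273, 2, [], []⟩,
  ⟨P275, 0, [.a1], [.a1, .a2]⟩,
  ⟨P273, 1, [.a10], [.a10, .a11]⟩,
  ⟨P275, 0, [.a1, .a10], [.a1, .a2, .a4, .a5, .a7, .a9, .a10, .a11]⟩]
def N636 : List Ent := [⟨4, [.a2], [.a2]⟩,
  ⟨8, [.a3, .a11], [.a3, .a8, .a11]⟩,
  ⟨16, [.a4, .a7], [.a4, .a5, .a6, .a7, .a8]⟩,
  ⟨32, [.a5], [.a5]⟩,
  ⟨64, [.a6], [.a6]⟩,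
  ⟨128, [.a7], [.a7, .a8]⟩,
  ⟨256, [.a8], [.a8]⟩,
  ⟨512, [.a9], [.a9]⟩,
  ⟨1024, [.a10], [.a10, .a11]⟩,
  ⟨2048, [.a11], [.a11]⟩]
theorem bad636 (c : CtxF Goal γ) : Bad Goal γ [] P636 :=
  c.toCtx.bnd (B := B636) (D := D636) (I := [4, 5, 2, 0, 3, 6]) (r := 3) (C := C636) (N := N636) (by decide +kernel) (by decide +kernel) (by decide +kernel) (by decide +kernel)
    (allB_cons (bad219 c) (allB_cons (bad237 c) (allB_cons (bad220 c) (allB_cons (bad273 c) (allB_cons (bad275 c) (allB_cons (bad273 c) (allB_cons (bad275 c) (allB_nil))))))))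

def P637 : List Ent := [⟨8, [.a3], [.a3]⟩,
  ⟨16, [.a4, .a7, .a11], [.a4, .a5, .a6, .a7, .a8, .a11]⟩,
  ⟨32, [.a5], [.a5]⟩,
  ⟨64, [.a6], [.a6]⟩,
  ⟨256, [.a8], [.a8]⟩,
  ⟨512, [.a9], [.a9]⟩]
def B637 : List Gv := [⟨[.a3], [.a3]⟩, ⟨[.a4, .a7, .a11], [.a4, .a5, .a6, .a7, .a8, .a11]⟩, ⟨[.a9], [.a9]⟩]
def D637 : List Dv := [⟨[.a5, .a8], [1, 0], [0, 1]⟩,
  ⟨[.a6], [0, 2, 2], []⟩,
  ⟨[.a8], [4, 3], [3, 4]⟩,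
  ⟨[.a5], [2], [0]⟩]
def C637 : List Ch := [⟨P220, 0, [], []⟩,
  ⟨P236, 1, [], []⟩,
  ⟨P220, 0, [.a1], [.a1, .a2]⟩,
  ⟨P274, 2, [], []⟩,
  ⟨P276, 0, [], []⟩,
  ⟨P274, 1, [.a10], [.a10, .a11]⟩,
  ⟨P276, 0, [.a10], [.a10, .a11]⟩]
def N637 : List Ent := [⟨2, [.a1], [.a1, .a2]⟩,
  ⟨4, [.a2], [.a2]⟩,
  ⟨8, [.a3], [.a3]⟩,
  ⟨16, [.a4, .a7, .a11], [.a4, .a5, .a6, .a7, .a8, .a11]⟩,
  ⟨32, [.a5], [.a5]⟩,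
  ⟨64, [.a6], [.a6]⟩,
  ⟨128, [.a7], [.a7, .a8]⟩,
  ⟨256, [.a8], [.a8]⟩,
  ⟨512, [.a9], [.a9]⟩,
  ⟨1024, [.a10], [.a10, .a11]⟩,
  ⟨2048, [.a11], [.a11]⟩]
theorem bad637 (c : CtxF Goal γ) : Bad Goal γ [] P637 :=
  c.toCtx.bnd (B := B637) (D := D637) (I := [4, 5, 0, 2, 1, 6]) (r := 3) (C := C637) (N := N637) (by decide +kernel) (by decide +kernel) (by decide +kernel) (by decide +kernel)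
    (allB_cons (bad220 c) (allB_cons (bad236 c) (allB_cons (bad220 c) (allB_cons (bad274 c) (allB_cons (bad276 c) (allB_cons (bad274 c) (allB_cons (bad276 c) (allB_nil))))))))

def P638 : List Ent := [⟨8, [.a3], [.a3]⟩,
  ⟨16, [.a4], [.a4, .a5]⟩,
  ⟨32, [.a5], [.a5]⟩,
  ⟨64, [.a6], [.a6]⟩,
  ⟨128, [.a7], [.a7, .a8]⟩,
  ⟨256, [.a8], [.a8]⟩]
def B638 : List Gv := [⟨[.a3], [.a3]⟩, ⟨[.a4], [.a4, .a5]⟩, ⟨[.a7], [.a7, .a8]⟩]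
def D638 : List Dv := [⟨[.a5], [1, 1], []⟩,
  ⟨[.a6], [3, 2], [2, 3]⟩,
  ⟨[.a8], [4, 4], []⟩]
theorem bad638 (c : CtxF Goal γ) : Bad Goal γ [] P638 :=
  c.toCtx.cent (B := B638) (D := D638) (I := [3, 4, 2, 1, 5, 0]) (z := [.a2]) (by decide +kernel) (by decide +kernel)

def P639 : List Ent := [⟨8, [.a3, .a11], [.a3, .a8, .a11]⟩,
  ⟨16, [.a4], [.a4, .a5]⟩,
  ⟨32, [.a5], [.a5]⟩,
  ⟨64, [.a6], [.a6]⟩,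
  ⟨128, [.a7], [.a7, .a8]⟩,
  ⟨256, [.a8], [.a8]⟩]
def B639 : List Gv := [⟨[.a3, .a11], [.a3, .a8, .a11]⟩, ⟨[.a4], [.a4, .a5]⟩, ⟨[.a7], [.a7, .a8]⟩]
def D639 : List Dv := [⟨[.a8], [0, 0], []⟩,
  ⟨[.a5], [2, 2], []⟩,
  ⟨[.a6], [4, 3], [3, 4]⟩]
def C639 : List Ch := [⟨P223, 0, [], []⟩,
  ⟨P246, 1, [], []⟩,
  ⟨P228, 0, [.a1], [.a1, .a2]⟩,
  ⟨P253, 2, [], []⟩,
  ⟨P266, 0, [], []⟩,
  ⟨P273, 1, [], []⟩,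
  ⟨P226, 0, [.a0, .a1], [.a0, .a1, .a2]⟩]
def N639 : List Ent := [⟨4, [.a2], [.a2]⟩,
  ⟨8, [.a3, .a11], [.a3, .a8, .a11]⟩,
  ⟨16, [.a4], [.a4, .a5]⟩,
  ⟨32, [.a5], [.a5]⟩,
  ⟨64, [.a6], [.a6]⟩,
  ⟨128, [.a7], [.a7, .a8]⟩,
  ⟨256, [.a8], [.a8]⟩,
  ⟨512, [.a9], [.a9]⟩,
  ⟨2048, [.a11], [.a11]⟩]
theorem bad639 (c : CtxF Goal γ) : Bad Goal γ [] P639 :=
  c.toCtx.bnd (B := B639) (D := D639) (I := [3, 4, 1, 0, 5, 2]) (r := 3) (C := C639) (N := N639) (by decide +kernel) (by decide +kernel) (by decide +kernel) (by decide +kernel)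
    (allB_cons (bad223 c) (allB_cons (bad246 c) (allB_cons (bad228 c) (allB_cons (bad253 c) (allB_cons (bad266 c) (allB_cons (bad273 c) (allB_cons (bad226 c) (allB_nil))))))))

def P640 : List Ent := [⟨8, [.a3], [.a3]⟩,
  ⟨16, [.a4, .a11], [.a4, .a5, .a11]⟩,
  ⟨32, [.a5], [.a5]⟩,
  ⟨64, [.a6], [.a6]⟩,
  ⟨128, [.a7], [.a7, .a8]⟩,
  ⟨256, [.a8], [.a8]⟩]
def B640 : List Gv := [⟨[.a3], [.a3]⟩, ⟨[.a4, .a11], [.a4, .a5, .a11]⟩, ⟨[.a7], [.a7, .a8]⟩]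
def D640 : List Dv := [⟨[.a8], [1, 0], [0, 1]⟩,
  ⟨[.a5], [2, 2], []⟩,
  ⟨[.a6], [4, 3], [3, 4]⟩]
def C640 : List Ch := [⟨P224, 0, [], []⟩,
  ⟨P243, 1, [], []⟩,
  ⟨P228, 0, [.a1], [.a1, .a2]⟩,
  ⟨P248, 2, [.a0, .a1], [.a0, .a1, .a2]⟩,
  ⟨P267, 0, [], []⟩,
  ⟨P274, 1, [], []⟩,
  ⟨P271, 0, [.a1], [.a1, .a2]⟩]
def N640 : List Ent := [⟨4, [.a2], [.a2]⟩,
  ⟨8, [.a3], [.a3]⟩,
  ⟨16, [.a4, .a11], [.a4, .a5, .a11]⟩,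
  ⟨32, [.a5], [.a5]⟩,
  ⟨64, [.a6], [.a6]⟩,
  ⟨128, [.a7], [.a7, .a8]⟩,
  ⟨256, [.a8], [.a8]⟩,
  ⟨512, [.a9], [.a9]⟩,
  ⟨2048, [.a11], [.a11]⟩]
theorem bad640 (c : CtxF Goal γ) : Bad Goal γ [] P640 :=
  c.toCtx.bnd (B := B640) (D := D640) (I := [3, 4, 1, 0, 5, 2]) (r := 3) (C := C640) (N := N640) (by decide +kernel) (by decide +kernel) (by decide +kernel) (by decide +kernel)
    (allB_cons (bad224 c) (allB_cons (bad243 c) (allB_cons (bad228 c) (allB_cons (bad248 c) (allB_cons (bad267 c) (allB_cons (bad274 c) (allB_cons (bad271 c) (allB_nil))))))))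

def P641 : List Ent := [⟨8, [.a3, .a11], [.a3, .a8, .a11]⟩,
  ⟨16, [.a4, .a11], [.a4, .a5, .a11]⟩,
  ⟨32, [.a5], [.a5]⟩,
  ⟨64, [.a6], [.a6]⟩,
  ⟨128, [.a7], [.a7, .a8]⟩,
  ⟨256, [.a8], [.a8]⟩]
def B641 : List Gv := [⟨[.a3, .a11], [.a3, .a8, .a11]⟩, ⟨[.a4, .a11], [.a4, .a5, .a11]⟩, ⟨[.a7], [.a7, .a8]⟩]
def D641 : List Dv := [⟨[.a8], [0, 0], []⟩,
  ⟨[.a5], [2, 2], []⟩,
  ⟨[.a6], [4, 3], [3, 4]⟩]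
def C641 : List Ch := [⟨P224, 0, [], []⟩,
  ⟨P246, 1, [], []⟩,
  ⟨P223, 0, [.a1], [.a1, .a2]⟩,
  ⟨P254, 2, [], []⟩,
  ⟨P268, 0, [], []⟩,
  ⟨P275, 1, [], []⟩,
  ⟨P266, 0, [.a1, .a10], [.a1, .a2, .a4, .a5, .a7, .a9, .a10, .a11]⟩]
def N641 : List Ent := [⟨4, [.a2], [.a2]⟩,
  ⟨8, [.a3, .a11], [.a3, .a8, .a11]⟩,
  ⟨16, [.a4, .a11], [.a4, .a5, .a11]⟩,
  ⟨32, [.a5], [.a5]⟩,
  ⟨64, [.a6], [.a6]⟩,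
  ⟨128, [.a7], [.a7, .a8]⟩,
  ⟨256, [.a8], [.a8]⟩,
  ⟨512, [.a9], [.a9]⟩,
  ⟨2048, [.a11], [.a11]⟩]
theorem bad641 (c : CtxF Goal γ) : Bad Goal γ [] P641 :=
  c.toCtx.bnd (B := B641) (D := D641) (I := [3, 4, 1, 0, 5, 2]) (r := 3) (C := C641) (N := N641) (by decide +kernel) (by decide +kernel) (by decide +kernel) (by decide +kernel)
    (allB_cons (bad224 c) (allB_cons (bad246 c) (allB_cons (bad223 c) (allB_cons (bad254 c) (allB_cons (bad268 c) (allB_cons (bad275 c) (allB_cons (bad266 c) (allB_nil))))))))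

def P642 : List Ent := [⟨8, [.a3], [.a3]⟩,
  ⟨16, [.a4], [.a4, .a5]⟩,
  ⟨32, [.a5], [.a5]⟩,
  ⟨64, [.a6], [.a6]⟩,
  ⟨128, [.a7, .a11], [.a7, .a8, .a11]⟩,
  ⟨256, [.a8], [.a8]⟩]
def B642 : List Gv := [⟨[.a3], [.a3]⟩, ⟨[.a4], [.a4, .a5]⟩, ⟨[.a7, .a11], [.a7, .a8, .a11]⟩]
def D642 : List Dv := [⟨[.a5], [1, 1], []⟩,
  ⟨[.a8], [0, 3, 1], [1, 3]⟩,
  ⟨[.a6], [4, 3], [3, 4]⟩]
theorem bad642 (c : CtxF Goal γ) : Bad Goal γ [] P642 :=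
  c.toCtx.cent (B := B642) (D := D642) (I := [3, 4, 2, 0, 5, 1]) (z := [.a2, .a3, .a4]) (by decide +kernel) (by decide +kernel)

def P643 : List Ent := [⟨8, [.a3, .a11], [.a3, .a8, .a11]⟩,
  ⟨16, [.a4], [.a4, .a5]⟩,
  ⟨32, [.a5], [.a5]⟩,
  ⟨64, [.a6], [.a6]⟩,
  ⟨128, [.a7, .a11], [.a7, .a8, .a11]⟩,
  ⟨256, [.a8], [.a8]⟩]
def B643 : List Gv := [⟨[.a3, .a11], [.a3, .a8, .a11]⟩, ⟨[.a4], [.a4, .a5]⟩, ⟨[.a7, .a11], [.a7, .a8, .a11]⟩]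
def D643 : List Dv := [⟨[.a8], [0, 0], []⟩,
  ⟨[.a5], [2, 2], []⟩,
  ⟨[.a6], [4, 3], [3, 4]⟩]
def C643 : List Ch := [⟨P225, 0, [], []⟩,
  ⟨P250, 1, [], []⟩,
  ⟨P230, 0, [.a0, .a10], [.a0, .a1, .a2, .a3, .a4, .a6, .a8, .a9, .a10, .a11]⟩,
  ⟨P253, 2, [], []⟩,
  ⟨P265, 0, [], []⟩,
  ⟨P275, 1, [], []⟩,
  ⟨P271, 0, [.a1], [.a1, .a2]⟩]
def N643 : List Ent := [⟨4, [.a2], [.a2]⟩,
  ⟨8, [.a3, .a11], [.a3, .a8, .a11]⟩,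
  ⟨16, [.a4], [.a4, .a5]⟩,
  ⟨32, [.a5], [.a5]⟩,
  ⟨64, [.a6], [.a6]⟩,
  ⟨128, [.a7, .a11], [.a7, .a8, .a11]⟩,
  ⟨256, [.a8], [.a8]⟩,
  ⟨512, [.a9], [.a9]⟩,
  ⟨2048, [.a11], [.a11]⟩]
theorem bad643 (c : CtxF Goal γ) : Bad Goal γ [] P643 :=
  c.toCtx.bnd (B := B643) (D := D643) (I := [3, 4, 1, 0, 5, 2]) (r := 3) (C := C643) (N := N643) (by decide +kernel) (by decide +kernel) (by decide +kernel) (by decide +kernel)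
    (allB_cons (bad225 c) (allB_cons (bad250 c) (allB_cons (bad230 c) (allB_cons (bad253 c) (allB_cons (bad265 c) (allB_cons (bad275 c) (allB_cons (bad271 c) (allB_nil))))))))

def P644 : List Ent := [⟨8, [.a3], [.a3]⟩,
  ⟨16, [.a4, .a11], [.a4, .a5, .a11]⟩,
  ⟨32, [.a5], [.a5]⟩,
  ⟨64, [.a6], [.a6]⟩,
  ⟨128, [.a7, .a11], [.a7, .a8, .a11]⟩,
  ⟨256, [.a8], [.a8]⟩]
def B644 : List Gv := [⟨[.a3], [.a3]⟩, ⟨[.a4, .a11], [.a4, .a5, .a11]⟩, ⟨[.a7, .a11], [.a7, .a8, .a11]⟩]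
def D644 : List Dv := [⟨[.a8], [1, 0], [0, 1]⟩,
  ⟨[.a5], [2, 2], []⟩,
  ⟨[.a6], [4, 3], [3, 4]⟩]
def C644 : List Ch := [⟨P226, 0, [], []⟩,
  ⟨P248, 1, [], []⟩,
  ⟨P230, 0, [.a0, .a10], [.a0, .a1, .a2, .a3, .a4, .a6, .a8, .a9, .a10, .a11]⟩,
  ⟨P248, 2, [.a0, .a1], [.a0, .a1, .a2]⟩,
  ⟨P268, 0, [], []⟩,
  ⟨P272, 1, [], []⟩,
  ⟨P226, 0, [.a0, .a1], [.a0, .a1, .a2]⟩]
def N644 : List Ent := [⟨1, [.a0, .a1], [.a0, .a1, .a2]⟩,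
  ⟨4, [.a2], [.a2]⟩,
  ⟨8, [.a3], [.a3]⟩,
  ⟨16, [.a4, .a11], [.a4, .a5, .a11]⟩,
  ⟨32, [.a5], [.a5]⟩,
  ⟨64, [.a6], [.a6]⟩,
  ⟨128, [.a7, .a11], [.a7, .a8, .a11]⟩,
  ⟨256, [.a8], [.a8]⟩,
  ⟨512, [.a9], [.a9]⟩,
  ⟨2048, [.a11], [.a11]⟩]
theorem bad644 (c : CtxF Goal γ) : Bad Goal γ [] P644 :=
  c.toCtx.bnd (B := B644) (D := D644) (I := [3, 4, 1, 0, 5, 2]) (r := 3) (C := C644) (N := N644) (by decide +kernel) (by decide +kernel) (by decide +kernel) (by decide +kernel)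
    (allB_cons (bad226 c) (allB_cons (bad248 c) (allB_cons (bad230 c) (allB_cons (bad248 c) (allB_cons (bad268 c) (allB_cons (bad272 c) (allB_cons (bad226 c) (allB_nil))))))))

def P645 : List Ent := [⟨8, [.a3, .a11], [.a3, .a8, .a11]⟩,
  ⟨16, [.a4, .a11], [.a4, .a5, .a11]⟩,
  ⟨32, [.a5], [.a5]⟩,
  ⟨64, [.a6], [.a6]⟩,
  ⟨128, [.a7, .a11], [.a7, .a8, .a11]⟩,
  ⟨256, [.a8], [.a8]⟩]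
def B645 : List Gv := [⟨[.a3, .a11], [.a3, .a8, .a11]⟩, ⟨[.a4, .a11], [.a4, .a5, .a11]⟩, ⟨[.a7, .a11], [.a7, .a8, .a11]⟩]
def D645 : List Dv := [⟨[.a8], [0, 0], []⟩,
  ⟨[.a5], [2, 2], []⟩,
  ⟨[.a6], [4, 3], [3, 4]⟩]
def C645 : List Ch := [⟨P226, 0, [], []⟩,
  ⟨P250, 1, [], []⟩,
  ⟨P225, 0, [.a1, .a10], [.a1, .a2, .a4, .a5, .a7, .a9, .a10, .a11]⟩,
  ⟨P254, 2, [], []⟩,
  ⟨P267, 0, [], []⟩,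
  ⟨P273, 1, [], []⟩,
  ⟨P265, 0, [.a1], [.a1, .a2]⟩]
def N645 : List Ent := [⟨4, [.a2], [.a2]⟩,
  ⟨8, [.a3, .a11], [.a3, .a8, .a11]⟩,
  ⟨16, [.a4, .a11], [.a4, .a5, .a11]⟩,
  ⟨32, [.a5], [.a5]⟩,
  ⟨64, [.a6], [.a6]⟩,
  ⟨128, [.a7, .a11], [.a7, .a8, .a11]⟩,
  ⟨256, [.a8], [.a8]⟩,
  ⟨512, [.a9], [.a9]⟩,
  ⟨2048, [.a11], [.a11]⟩]
theorem bad645 (c : CtxF Goal γ) : Bad Goal γ [] P645 :=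
  c.toCtx.bnd (B := B645) (D := D645) (I := [3, 4, 1, 0, 5, 2]) (r := 3) (C := C645) (N := N645) (by decide +kernel) (by decide +kernel) (by decide +kernel) (by decide +kernel)
    (allB_cons (bad226 c) (allB_cons (bad250 c) (allB_cons (bad225 c) (allB_cons (bad254 c) (allB_cons (bad267 c) (allB_cons (bad273 c) (allB_cons (bad265 c) (allB_nil))))))))

def P646 : List Ent := [⟨8, [.a3, .a9], [.a3, .a9]⟩,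
  ⟨16, [.a4], [.a4, .a5]⟩,
  ⟨32, [.a5], [.a5]⟩,
  ⟨64, [.a6], [.a6]⟩,
  ⟨128, [.a7], [.a7, .a8]⟩,
  ⟨256, [.a8], [.a8]⟩]
def B646 : List Gv := [⟨[.a3, .a9], [.a3, .a9]⟩, ⟨[.a4], [.a4, .a5]⟩, ⟨[.a7], [.a7, .a8]⟩]
def D646 : List Dv := [⟨[.a8], [1, 0], [0, 1]⟩,
  ⟨[.a5], [2, 2], []⟩,
  ⟨[.a6], [4, 3], [3, 4]⟩]
def C646 : List Ch := [⟨P223, 0, [], []⟩,
  ⟨P244, 1, [], []⟩,
  ⟨P227, 0, [.a1], [.a1, .a2]⟩,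
  ⟨P256, 2, [], []⟩,
  ⟨P265, 0, [.a10], [.a10, .a11]⟩,
  ⟨P219, 1, [.a0, .a1, .a3, .a5, .a6, .a7, .a8, .a9, .a10], [.a0, .a10, .a11]⟩,
  ⟨P269, 0, [.a1, .a10], [.a1, .a2, .a4, .a5, .a7, .a9, .a10, .a11]⟩]
def N646 : List Ent := [⟨4, [.a2], [.a2]⟩,
  ⟨8, [.a3, .a9], [.a3, .a9]⟩,
  ⟨16, [.a4], [.a4, .a5]⟩,
  ⟨32, [.a5], [.a5]⟩,
  ⟨64, [.a6], [.a6]⟩,
  ⟨128, [.a7], [.a7, .a8]⟩,
  ⟨256, [.a8], [.a8]⟩,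
  ⟨512, [.a9], [.a9]⟩,
  ⟨2048, [.a11], [.a11]⟩]
theorem bad646 (c : CtxF Goal γ) : Bad Goal γ [] P646 :=
  c.toCtx.bnd (B := B646) (D := D646) (I := [3, 4, 1, 0, 5, 2]) (r := 3) (C := C646) (N := N646) (by decide +kernel) (by decide +kernel) (by decide +kernel) (by decide +kernel)
    (allB_cons (bad223 c) (allB_cons (bad244 c) (allB_cons (bad227 c) (allB_cons (bad256 c) (allB_cons (bad265 c) (allB_cons (bad219 c) (allB_cons (bad269 c) (allB_nil))))))))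

def P647 : List Ent := [⟨8, [.a3, .a9], [.a3, .a9]⟩,
  ⟨16, [.a4, .a11], [.a4, .a5, .a11]⟩,
  ⟨32, [.a5], [.a5]⟩,
  ⟨64, [.a6], [.a6]⟩,
  ⟨128, [.a7], [.a7, .a8]⟩,
  ⟨256, [.a8], [.a8]⟩]
def B647 : List Gv := [⟨[.a3, .a9], [.a3, .a9]⟩, ⟨[.a4, .a11], [.a4, .a5, .a11]⟩, ⟨[.a7], [.a7, .a8]⟩]
def D647 : List Dv := [⟨[.a5], [1, 1], []⟩,
  ⟨[.a6], [3, 2], [2, 3]⟩,
  ⟨[.a8], [4, 4], []⟩]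
def C647 : List Ch := [⟨P224, 0, [], []⟩,
  ⟨P244, 1, [], []⟩,
  ⟨P224, 0, [.a1], [.a1, .a2]⟩,
  ⟨P241, 2, [.a0], [.a0]⟩,
  ⟨P267, 0, [.a10], [.a10, .a11]⟩,
  ⟨P276, 1, [], []⟩,
  ⟨P267, 0, [.a1, .a10], [.a1, .a2, .a4, .a5, .a7, .a9, .a10, .a11]⟩]
def N647 : List Ent := [⟨2, [.a1], [.a1, .a2]⟩,
  ⟨4, [.a2], [.a2]⟩,
  ⟨8, [.a3, .a9], [.a3, .a9]⟩,
  ⟨16, [.a4, .a11], [.a4, .a5, .a11]⟩,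
  ⟨32, [.a5], [.a5]⟩,
  ⟨64, [.a6], [.a6]⟩,
  ⟨128, [.a7], [.a7, .a8]⟩,
  ⟨256, [.a8], [.a8]⟩,
  ⟨512, [.a9], [.a9]⟩,
  ⟨2048, [.a11], [.a11]⟩]
theorem bad647 (c : CtxF Goal γ) : Bad Goal γ [] P647 :=
  c.toCtx.bnd (B := B647) (D := D647) (I := [3, 4, 2, 1, 5, 0]) (r := 3) (C := C647) (N := N647) (by decide +kernel) (by decide +kernel) (by decide +kernel) (by decide +kernel)
    (allB_cons (bad224 c) (allB_cons (bad244 c) (allB_cons (bad224 c) (allB_cons (bad241 c) (allB_cons (bad267 c) (allB_cons (bad276 c) (allB_cons (bad267 c) (allB_nil))))))))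

def P648 : List Ent := [⟨8, [.a3, .a9, .a11], [.a3, .a8, .a9, .a11]⟩,
  ⟨16, [.a4, .a11], [.a4, .a5, .a11]⟩,
  ⟨32, [.a5], [.a5]⟩,
  ⟨64, [.a6], [.a6]⟩,
  ⟨128, [.a7], [.a7, .a8]⟩,
  ⟨256, [.a8], [.a8]⟩]
def B648 : List Gv := [⟨[.a3, .a9, .a11], [.a3, .a8, .a9, .a11]⟩, ⟨[.a4, .a11], [.a4, .a5, .a11]⟩, ⟨[.a7], [.a7, .a8]⟩]
def D648 : List Dv := [⟨[.a8], [0, 0], []⟩,
  ⟨[.a5], [2, 2], []⟩,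
  ⟨[.a6], [4, 3], [3, 4]⟩]
def C648 : List Ch := [⟨P224, 0, [], []⟩,
  ⟨P246, 1, [.a1], [.a1, .a2]⟩,
  ⟨P227, 0, [.a1], [.a1, .a2]⟩,
  ⟨P257, 2, [], []⟩,
  ⟨P268, 0, [.a10], [.a10, .a11]⟩,
  ⟨P273, 1, [.a1, .a10], [.a1, .a2, .a4, .a5, .a7, .a9, .a10, .a11]⟩,
  ⟨P270, 0, [.a1], [.a1, .a2]⟩]
def N648 : List Ent := [⟨4, [.a2], [.a2]⟩,
  ⟨8, [.a3, .a9, .a11], [.a3, .a8, .a9, .a11]⟩,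
  ⟨16, [.a4, .a11], [.a4, .a5, .a11]⟩,
  ⟨32, [.a5], [.a5]⟩,
  ⟨64, [.a6], [.a6]⟩,
  ⟨128, [.a7], [.a7, .a8]⟩,
  ⟨256, [.a8], [.a8]⟩,
  ⟨512, [.a9], [.a9]⟩,
  ⟨2048, [.a11], [.a11]⟩]
theorem bad648 (c : CtxF Goal γ) : Bad Goal γ [] P648 :=
  c.toCtx.bnd (B := B648) (D := D648) (I := [3, 4, 1, 0, 5, 2]) (r := 3) (C := C648) (N := N648) (by decide +kernel) (by decide +kernel) (by decide +kernel) (by decide +kernel)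
    (allB_cons (bad224 c) (allB_cons (bad246 c) (allB_cons (bad227 c) (allB_cons (bad257 c) (allB_cons (bad268 c) (allB_cons (bad273 c) (allB_cons (bad270 c) (allB_nil))))))))

def P649 : List Ent := [⟨8, [.a3, .a9], [.a3, .a9]⟩,
  ⟨16, [.a4], [.a4, .a5]⟩,
  ⟨32, [.a5], [.a5]⟩,
  ⟨64, [.a6], [.a6]⟩,
  ⟨128, [.a7, .a11], [.a7, .a8, .a11]⟩,
  ⟨256, [.a8], [.a8]⟩]
def B649 : List Gv := [⟨[.a3, .a9], [.a3, .a9]⟩, ⟨[.a4], [.a4, .a5]⟩, ⟨[.a7, .a11], [.a7, .a8, .a11]⟩]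
def D649 : List Dv := [⟨[.a8], [1, 0], [0, 1]⟩,
  ⟨[.a5], [2, 2], []⟩,
  ⟨[.a6], [4, 3], [3, 4]⟩]
def C649 : List Ch := [⟨P225, 0, [], []⟩,
  ⟨P214, 1, [.a0], [.a0]⟩,
  ⟨P229, 0, [.a1, .a10], [.a1, .a2, .a4, .a5, .a7, .a9, .a10, .a11]⟩,
  ⟨P256, 2, [], []⟩,
  ⟨P266, 0, [.a10], [.a10, .a11]⟩,
  ⟨P276, 1, [], []⟩,
  ⟨P270, 0, [.a1], [.a1, .a2]⟩]
def N649 : List Ent := [⟨4, [.a2], [.a2]⟩,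
  ⟨8, [.a3, .a9], [.a3, .a9]⟩,
  ⟨16, [.a4], [.a4, .a5]⟩,
  ⟨32, [.a5], [.a5]⟩,
  ⟨64, [.a6], [.a6]⟩,
  ⟨128, [.a7, .a11], [.a7, .a8, .a11]⟩,
  ⟨256, [.a8], [.a8]⟩,
  ⟨512, [.a9], [.a9]⟩,
  ⟨2048, [.a11], [.a11]⟩]
theorem bad649 (c : CtxF Goal γ) : Bad Goal γ [] P649 :=
  c.toCtx.bnd (B := B649) (D := D649) (I := [3, 4, 1, 0, 5, 2]) (r := 3) (C := C649) (N := N649) (by decide +kernel) (by decide +kernel) (by decide +kernel) (by decide +kernel)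
    (allB_cons (bad225 c) (allB_cons (bad214 c) (allB_cons (bad229 c) (allB_cons (bad256 c) (allB_cons (bad266 c) (allB_cons (bad276 c) (allB_cons (bad270 c) (allB_nil))))))))

def P650 : List Ent := [⟨8, [.a3, .a9, .a11], [.a3, .a8, .a9, .a11]⟩,
  ⟨16, [.a4, .a11], [.a4, .a5, .a11]⟩,
  ⟨32, [.a5], [.a5]⟩,
  ⟨64, [.a6], [.a6]⟩,
  ⟨128, [.a7, .a11], [.a7, .a8, .a11]⟩,
  ⟨256, [.a8], [.a8]⟩]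
def B650 : List Gv := [⟨[.a3, .a9, .a11], [.a3, .a8, .a9, .a11]⟩, ⟨[.a4, .a11], [.a4, .a5, .a11]⟩, ⟨[.a7, .a11], [.a7, .a8, .a11]⟩]
def D650 : List Dv := [⟨[.a8], [0, 0], []⟩,
  ⟨[.a5], [2, 2], []⟩,
  ⟨[.a6], [4, 3], [3, 4]⟩]
def C650 : List Ch := [⟨P226, 0, [], []⟩,
  ⟨P250, 1, [.a1, .a10], [.a1, .a2, .a4, .a5, .a7, .a9, .a10, .a11]⟩,
  ⟨P229, 0, [.a1, .a10], [.a1, .a2, .a4, .a5, .a7, .a9, .a10, .a11]⟩,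
  ⟨P257, 2, [], []⟩,
  ⟨P267, 0, [.a10], [.a10, .a11]⟩,
  ⟨P275, 1, [.a1], [.a1, .a2]⟩,
  ⟨P269, 0, [.a1, .a10], [.a1, .a2, .a4, .a5, .a7, .a9, .a10, .a11]⟩]
def N650 : List Ent := [⟨4, [.a2], [.a2]⟩,
  ⟨8, [.a3, .a9, .a11], [.a3, .a8, .a9, .a11]⟩,
  ⟨16, [.a4, .a11], [.a4, .a5, .a11]⟩,
  ⟨32, [.a5], [.a5]⟩,
  ⟨64, [.a6], [.a6]⟩,
  ⟨128, [.a7, .a11], [.a7, .a8, .a11]⟩,
  ⟨256, [.a8], [.a8]⟩,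
  ⟨512, [.a9], [.a9]⟩,
  ⟨2048, [.a11], [.a11]⟩]
theorem bad650 (c : CtxF Goal γ) : Bad Goal γ [] P650 :=
  c.toCtx.bnd (B := B650) (D := D650) (I := [3, 4, 1, 0, 5, 2]) (r := 3) (C := C650) (N := N650) (by decide +kernel) (by decide +kernel) (by decide +kernel) (by decide +kernel)
    (allB_cons (bad226 c) (allB_cons (bad250 c) (allB_cons (bad229 c) (allB_cons (bad257 c) (allB_cons (bad267 c) (allB_cons (bad275 c) (allB_cons (bad269 c) (allB_nil))))))))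

def P651 : List Ent := [⟨8, [.a3], [.a3]⟩,
  ⟨16, [.a4, .a9], [.a4, .a5, .a8, .a9]⟩,
  ⟨32, [.a5], [.a5]⟩,
  ⟨64, [.a6], [.a6]⟩,
  ⟨128, [.a7], [.a7, .a8]⟩,
  ⟨256, [.a8], [.a8]⟩]
def B651 : List Gv := [⟨[.a3], [.a3]⟩, ⟨[.a4, .a9], [.a4, .a5, .a8, .a9]⟩, ⟨[.a7], [.a7, .a8]⟩]
def D651 : List Dv := [⟨[.a5, .a8], [1, 1], []⟩,
  ⟨[.a8], [0, 3, 1], [1, 3]⟩,
  ⟨[.a6], [4, 3], [3, 4]⟩,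
  ⟨[.a5], [2], [1]⟩]
def C651 : List Ch := [⟨P227, 0, [], []⟩,
  ⟨P243, 1, [], []⟩,
  ⟨P227, 0, [.a1], [.a1, .a2]⟩,
  ⟨P259, 2, [], []⟩,
  ⟨P269, 0, [], []⟩,
  ⟨P272, 1, [.a10], [.a10, .a11]⟩,
  ⟨P269, 0, [.a1], [.a1, .a2]⟩]
def N651 : List Ent := [⟨2, [.a1], [.a1, .a2]⟩,
  ⟨4, [.a2], [.a2]⟩,
  ⟨8, [.a3], [.a3]⟩,
  ⟨16, [.a4, .a9], [.a4, .a5, .a8, .a9]⟩,
  ⟨32, [.a5], [.a5]⟩,
  ⟨64, [.a6], [.a6]⟩,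
  ⟨128, [.a7], [.a7, .a8]⟩,
  ⟨256, [.a8], [.a8]⟩,
  ⟨512, [.a9], [.a9]⟩,
  ⟨2048, [.a11], [.a11]⟩]
theorem bad651 (c : CtxF Goal γ) : Bad Goal γ [] P651 :=
  c.toCtx.bnd (B := B651) (D := D651) (I := [4, 5, 0, 1, 6, 2]) (r := 3) (C := C651) (N := N651) (by decide +kernel) (by decide +kernel) (by decide +kernel) (by decide +kernel)
    (allB_cons (bad227 c) (allB_cons (bad243 c) (allB_cons (bad227 c) (allB_cons (bad259 c) (allB_cons (bad269 c) (allB_cons (bad272 c) (allB_cons (bad269 c) (allB_nil))))))))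

def P652 : List Ent := [⟨8, [.a3, .a11], [.a3, .a8, .a11]⟩,
  ⟨16, [.a4, .a9, .a11], [.a4, .a5, .a8, .a9, .a11]⟩,
  ⟨32, [.a5], [.a5]⟩,
  ⟨64, [.a6], [.a6]⟩,
  ⟨128, [.a7], [.a7, .a8]⟩,
  ⟨256, [.a8], [.a8]⟩]
def B652 : List Gv := [⟨[.a3, .a11], [.a3, .a8, .a11]⟩, ⟨[.a4, .a9, .a11], [.a4, .a5, .a8, .a9, .a11]⟩, ⟨[.a7], [.a7, .a8]⟩]
def D652 : List Dv := [⟨[.a8], [0, 0], []⟩,
  ⟨[.a5, .a8], [2, 2], []⟩,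
  ⟨[.a6], [4, 3], [3, 4]⟩,
  ⟨[.a5], [1], [2]⟩]
def C652 : List Ch := [⟨P228, 0, [], []⟩,
  ⟨P246, 1, [], []⟩,
  ⟨P227, 0, [.a1], [.a1, .a2]⟩,
  ⟨P260, 2, [], []⟩,
  ⟨P226, 0, [.a0, .a1, .a3, .a5, .a6, .a7, .a8, .a9, .a10], [.a0, .a10, .a11]⟩,
  ⟨P275, 1, [.a10], [.a10, .a11]⟩,
  ⟨P270, 0, [.a1, .a10], [.a1, .a2, .a4, .a5, .a7, .a9, .a10, .a11]⟩]
def N652 : List Ent := [⟨4, [.a2], [.a2]⟩,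
  ⟨8, [.a3, .a11], [.a3, .a8, .a11]⟩,
  ⟨16, [.a4, .a9, .a11], [.a4, .a5, .a8, .a9, .a11]⟩,
  ⟨32, [.a5], [.a5]⟩,
  ⟨64, [.a6], [.a6]⟩,
  ⟨128, [.a7], [.a7, .a8]⟩,
  ⟨256, [.a8], [.a8]⟩,
  ⟨512, [.a9], [.a9]⟩,
  ⟨2048, [.a11], [.a11]⟩]
theorem bad652 (c : CtxF Goal γ) : Bad Goal γ [] P652 :=
  c.toCtx.bnd (B := B652) (D := D652) (I := [4, 5, 0, 1, 6, 3]) (r := 3) (C := C652) (N := N652) (by decide +kernel) (by decide +kernel) (by decide +kernel) (by decide +kernel)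
    (allB_cons (bad228 c) (allB_cons (bad246 c) (allB_cons (bad227 c) (allB_cons (bad260 c) (allB_cons (bad226 c) (allB_cons (bad275 c) (allB_cons (bad270 c) (allB_nil))))))))

def P653 : List Ent := [⟨8, [.a3], [.a3]⟩,
  ⟨16, [.a4, .a9], [.a4, .a5, .a8, .a9]⟩,
  ⟨32, [.a5], [.a5]⟩,
  ⟨64, [.a6], [.a6]⟩,
  ⟨128, [.a7, .a11], [.a7, .a8, .a11]⟩,
  ⟨256, [.a8], [.a8]⟩]
def B653 : List Gv := [⟨[.a3], [.a3]⟩, ⟨[.a4, .a9], [.a4, .a5, .a8, .a9]⟩, ⟨[.a7, .a11], [.a7, .a8, .a11]⟩]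
def D653 : List Dv := [⟨[.a5, .a8], [1, 1], []⟩,
  ⟨[.a6], [3, 2], [2, 3]⟩,
  ⟨[.a8], [4, 4], []⟩,
  ⟨[.a5], [2], [0]⟩]
def C653 : List Ch := [⟨P229, 0, [], []⟩,
  ⟨P248, 1, [], []⟩,
  ⟨P229, 0, [.a1, .a10], [.a1, .a2, .a4, .a5, .a7, .a9, .a10, .a11]⟩,
  ⟨P259, 2, [], []⟩,
  ⟨P270, 0, [], []⟩,
  ⟨P274, 1, [.a10], [.a10, .a11]⟩,
  ⟨P270, 0, [.a1, .a10], [.a1, .a2, .a4, .a5, .a7, .a9, .a10, .a11]⟩]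
def N653 : List Ent := [⟨2, [.a1, .a10], [.a1, .a2, .a4, .a5, .a7, .a9, .a10, .a11]⟩,
  ⟨4, [.a2], [.a2]⟩,
  ⟨8, [.a3], [.a3]⟩,
  ⟨16, [.a4, .a9], [.a4, .a5, .a8, .a9]⟩,
  ⟨32, [.a5], [.a5]⟩,
  ⟨64, [.a6], [.a6]⟩,
  ⟨128, [.a7, .a11], [.a7, .a8, .a11]⟩,
  ⟨256, [.a8], [.a8]⟩,
  ⟨512, [.a9], [.a9]⟩,
  ⟨2048, [.a11], [.a11]⟩]
theorem bad653 (c : CtxF Goal γ) : Bad Goal γ [] P653 :=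
  c.toCtx.bnd (B := B653) (D := D653) (I := [4, 5, 0, 2, 6, 1]) (r := 3) (C := C653) (N := N653) (by decide +kernel) (by decide +kernel) (by decide +kernel) (by decide +kernel)
    (allB_cons (bad229 c) (allB_cons (bad248 c) (allB_cons (bad229 c) (allB_cons (bad259 c) (allB_cons (bad270 c) (allB_cons (bad274 c) (allB_cons (bad270 c) (allB_nil))))))))

def P654 : List Ent := [⟨8, [.a3, .a11], [.a3, .a8, .a11]⟩,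
  ⟨16, [.a4, .a9, .a11], [.a4, .a5, .a8, .a9, .a11]⟩,
  ⟨32, [.a5], [.a5]⟩,
  ⟨64, [.a6], [.a6]⟩,
  ⟨128, [.a7, .a11], [.a7, .a8, .a11]⟩,
  ⟨256, [.a8], [.a8]⟩]
def B654 : List Gv := [⟨[.a3, .a11], [.a3, .a8, .a11]⟩, ⟨[.a4, .a9, .a11], [.a4, .a5, .a8, .a9, .a11]⟩, ⟨[.a7, .a11], [.a7, .a8, .a11]⟩]
def D654 : List Dv := [⟨[.a8], [0, 0], []⟩,
  ⟨[.a5, .a8], [2, 2], []⟩,
  ⟨[.a6], [4, 3], [3, 4]⟩,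
  ⟨[.a5], [1], [2]⟩]
def C654 : List Ch := [⟨P230, 0, [], []⟩,
  ⟨P250, 1, [], []⟩,
  ⟨P229, 0, [.a1, .a10], [.a1, .a2, .a4, .a5, .a7, .a9, .a10, .a11]⟩,
  ⟨P260, 2, [], []⟩,
  ⟨P271, 0, [], []⟩,
  ⟨P273, 1, [.a10], [.a10, .a11]⟩,
  ⟨P269, 0, [.a1], [.a1, .a2]⟩]
def N654 : List Ent := [⟨4, [.a2], [.a2]⟩,
  ⟨8, [.a3, .a11], [.a3, .a8, .a11]⟩,
  ⟨16, [.a4, .a9, .a11], [.a4, .a5, .a8, .a9, .a11]⟩,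
  ⟨32, [.a5], [.a5]⟩,
  ⟨64, [.a6], [.a6]⟩,
  ⟨128, [.a7, .a11], [.a7, .a8, .a11]⟩,
  ⟨256, [.a8], [.a8]⟩,
  ⟨512, [.a9], [.a9]⟩,
  ⟨2048, [.a11], [.a11]⟩]
theorem bad654 (c : CtxF Goal γ) : Bad Goal γ [] P654 :=
  c.toCtx.bnd (B := B654) (D := D654) (I := [4, 5, 0, 1, 6, 3]) (r := 3) (C := C654) (N := N654) (by decide +kernel) (by decide +kernel) (by decide +kernel) (by decide +kernel)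
    (allB_cons (bad230 c) (allB_cons (bad250 c) (allB_cons (bad229 c) (allB_cons (bad260 c) (allB_cons (bad271 c) (allB_cons (bad273 c) (allB_cons (bad269 c) (allB_nil))))))))

def P655 : List Ent := [⟨8, [.a3, .a9], [.a3, .a9]⟩,
  ⟨16, [.a4, .a9, .a11], [.a4, .a5, .a8, .a9, .a11]⟩,
  ⟨32, [.a5], [.a5]⟩,
  ⟨64, [.a6], [.a6]⟩,
  ⟨128, [.a7], [.a7, .a8]⟩,
  ⟨256, [.a8], [.a8]⟩]
def B655 : List Gv := [⟨[.a3, .a9], [.a3, .a9]⟩, ⟨[.a4, .a9, .a11], [.a4, .a5, .a8, .a9, .a11]⟩, ⟨[.a7], [.a7, .a8]⟩]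
def D655 : List Dv := [⟨[.a5, .a8], [1, 1], []⟩,
  ⟨[.a8], [0, 3, 1], [1, 3]⟩,
  ⟨[.a6], [4, 3], [3, 4]⟩,
  ⟨[.a5], [2], [1]⟩]
theorem bad655 (c : CtxF Goal γ) : Bad Goal γ [] P655 :=
  c.toCtx.cent (B := B655) (D := D655) (I := [4, 5, 0, 1, 6, 2]) (z := [.a2, .a7, .a9]) (by decide +kernel) (by decide +kernel)

def P656 : List Ent := [⟨4, [.a2, .a9], [.a2, .a5, .a9]⟩,
  ⟨8, [.a3], [.a3]⟩,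
  ⟨32, [.a5], [.a5]⟩,
  ⟨64, [.a6], [.a6]⟩,
  ⟨256, [.a8], [.a8]⟩,
  ⟨2048, [.a11], [.a11]⟩]
def B656 : List Gv := [⟨[.a2, .a9], [.a2, .a5, .a9]⟩, ⟨[.a3], [.a3]⟩, ⟨[.a11], [.a11]⟩]
def D656 : List Dv := [⟨[.a5], [0, 0], []⟩,
  ⟨[.a6, .a8], [0, 3, 1], [1, 3]⟩,
  ⟨[.a8], [4, 3], [3, 4]⟩,
  ⟨[.a6], [1], [0]⟩]
def C656 : List Ch := [⟨P234, 0, [], []⟩,
  ⟨P277, 1, [], []⟩,
  ⟨P277, 0, [.a10], [.a10, .a11]⟩,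
  ⟨P278, 2, [], []⟩,
  ⟨P274, 0, [.a0], [.a0]⟩,
  ⟨P279, 1, [], []⟩,
  ⟨P279, 0, [.a10], [.a10, .a11]⟩]
def N656 : List Ent := [⟨4, [.a2, .a9], [.a2, .a5, .a9]⟩,
  ⟨8, [.a3], [.a3]⟩,
  ⟨16, [.a4], [.a4, .a5]⟩,
  ⟨32, [.a5], [.a5]⟩,
  ⟨64, [.a6], [.a6]⟩,
  ⟨128, [.a7], [.a7, .a8]⟩,
  ⟨256, [.a8], [.a8]⟩,
  ⟨512, [.a9], [.a9]⟩,
  ⟨1024, [.a10], [.a10, .a11]⟩,
  ⟨2048, [.a11], [.a11]⟩]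
theorem bad656 (c : CtxF Goal γ) : Bad Goal γ [] P656 :=
  c.toCtx.bnd (B := B656) (D := D656) (I := [4, 5, 3, 0, 1, 6]) (r := 3) (C := C656) (N := N656) (by decide +kernel) (by decide +kernel) (by decide +kernel) (by decide +kernel)
    (allB_cons (bad234 c) (allB_cons (bad277 c) (allB_cons (bad277 c) (allB_cons (bad278 c) (allB_cons (bad274 c) (allB_cons (bad279 c) (allB_cons (bad279 c) (allB_nil))))))))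

def P657 : List Ent := [⟨4, [.a2, .a9, .a10], [.a2, .a3, .a8, .a9, .a10, .a11]⟩,
  ⟨8, [.a3], [.a3]⟩,
  ⟨32, [.a5], [.a5]⟩,
  ⟨64, [.a6], [.a6]⟩,
  ⟨256, [.a8], [.a8]⟩,
  ⟨2048, [.a11], [.a11]⟩]
def B657 : List Gv := [⟨[.a2, .a9, .a10], [.a2, .a3, .a8, .a9, .a10, .a11]⟩, ⟨[.a3], [.a3]⟩, ⟨[.a5], [.a5]⟩]
def D657 : List Dv := [⟨[.a6, .a8, .a11], [2, 1, 0, 0], []⟩,
  ⟨[.a8, .a11], [0, 3, 2, 1], [1, 2]⟩,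
  ⟨[.a11], [0, 1, 3], [3, 1]⟩,
  ⟨[.a8], [1], [0]⟩,
  ⟨[.a6], [3], [0, 1]⟩]
theorem bad657 (c : CtxF Goal γ) : Bad Goal γ [] P657 :=
  c.toCtx.cent (B := B657) (D := D657) (I := [5, 6, 7, 0, 1, 2]) (z := [.a4, .a6]) (by decide +kernel) (by decide +kernel)

def P658 : List Ent := [⟨4, [.a2], [.a2]⟩,
  ⟨32, [.a5], [.a5]⟩,
  ⟨64, [.a6], [.a6]⟩,
  ⟨256, [.a8], [.a8]⟩,
  ⟨512, [.a9], [.a9]⟩,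
  ⟨2048, [.a11], [.a11]⟩]
def B658 : List Gv := [⟨[.a2], [.a2]⟩, ⟨[.a6], [.a6]⟩, ⟨[.a9], [.a9]⟩, ⟨[.a11], [.a11]⟩]
def D658 : List Dv := [⟨[.a5], [2, 0], [0, 2]⟩,
  ⟨[.a8], [2, 0, 4, 1], [1, 4]⟩]
theorem bad658 (c : CtxF Goal γ) : Bad Goal γ [] P658 :=
  c.toCtx.cent (B := B658) (D := D658) (I := [2, 1, 3, 0, 4, 5]) (z := [.a7]) (by decide +kernel) (by decide +kernel)

def P659 : List Ent := [⟨4, [.a2], [.a2]⟩,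
  ⟨8, [.a3], [.a3]⟩,
  ⟨32, [.a5], [.a5]⟩,
  ⟨64, [.a6], [.a6]⟩,
  ⟨256, [.a8], [.a8]⟩,
  ⟨2048, [.a11], [.a11]⟩]
def B659 : List Gv := [⟨[.a2], [.a2]⟩, ⟨[.a3], [.a3]⟩, ⟨[.a5], [.a5]⟩, ⟨[.a11], [.a11]⟩]
def D659 : List Dv := [⟨[.a6, .a8], [2, 3, 0], [0, 3]⟩,
  ⟨[.a8], [4, 2], [2, 4]⟩,
  ⟨[.a6], [1], [0]⟩]
theorem bad659 (c : CtxF Goal γ) : Bad Goal γ [] P659 :=
  c.toCtx.cent (B := B659) (D := D659) (I := [3, 4, 5, 0, 1, 6]) (z := [.a4]) (by decide +kernel) (by decide +kernel)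

def P660 : List Ent := [⟨4, [.a2], [.a2]⟩,
  ⟨8, [.a3, .a9], [.a3, .a9]⟩,
  ⟨32, [.a5], [.a5]⟩,
  ⟨64, [.a6], [.a6]⟩,
  ⟨256, [.a8], [.a8]⟩,
  ⟨2048, [.a11], [.a11]⟩]
def B660 : List Gv := [⟨[.a2], [.a2]⟩, ⟨[.a3, .a9], [.a3, .a9]⟩, ⟨[.a11], [.a11]⟩]
def D660 : List Dv := [⟨[.a5], [1, 0], [0, 1]⟩,
  ⟨[.a6, .a8], [0, 3, 1], [1, 3]⟩,
  ⟨[.a8], [4, 3], [3, 4]⟩,
  ⟨[.a6], [1], [0]⟩]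
def C660 : List Ch := [⟨P235, 0, [], []⟩,
  ⟨P280, 1, [], []⟩,
  ⟨P277, 0, [.a10], [.a10, .a11]⟩,
  ⟨P281, 2, [], []⟩,
  ⟨P220, 0, [.a0, .a1, .a3, .a5, .a6, .a7, .a8, .a9, .a10], [.a0, .a10, .a11]⟩,
  ⟨P282, 1, [], []⟩,
  ⟨P279, 0, [.a1, .a10], [.a1, .a2, .a4, .a5, .a7, .a9, .a10, .a11]⟩]
def N660 : List Ent := [⟨4, [.a2], [.a2]⟩,
  ⟨8, [.a3, .a9], [.a3, .a9]⟩,
  ⟨16, [.a4], [.a4, .a5]⟩,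
  ⟨32, [.a5], [.a5]⟩,
  ⟨64, [.a6], [.a6]⟩,
  ⟨128, [.a7], [.a7, .a8]⟩,
  ⟨256, [.a8], [.a8]⟩,
  ⟨512, [.a9], [.a9]⟩,
  ⟨2048, [.a11], [.a11]⟩]
theorem bad660 (c : CtxF Goal γ) : Bad Goal γ [] P660 :=
  c.toCtx.bnd (B := B660) (D := D660) (I := [4, 5, 3, 0, 1, 6]) (r := 3) (C := C660) (N := N660) (by decide +kernel) (by decide +kernel) (by decide +kernel) (by decide +kernel)
    (allB_cons (bad235 c) (allB_cons (bad280 c) (allB_cons (bad277 c) (allB_cons (bad281 c) (allB_cons (bad220 c) (allB_cons (bad282 c) (allB_cons (bad279 c) (allB_nil))))))))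

def P661 : List Ent := [⟨4, [.a2], [.a2]⟩,
  ⟨8, [.a3], [.a3]⟩,
  ⟨32, [.a5], [.a5]⟩,
  ⟨64, [.a6], [.a6]⟩,
  ⟨256, [.a8], [.a8]⟩,
  ⟨512, [.a9], [.a9]⟩]
def B661 : List Gv := [⟨[.a2], [.a2]⟩, ⟨[.a3], [.a3]⟩, ⟨[.a6], [.a6]⟩, ⟨[.a8], [.a8]⟩, ⟨[.a9], [.a9]⟩]
def D661 : List Dv := [⟨[.a5], [4, 0], [0, 4]⟩]
def C661 : List Ch := [⟨P236, 0, [], []⟩,
  ⟨P281, 1, [.a0], [.a0]⟩,
  ⟨P281, 0, [.a0, .a1, .a3, .a5, .a6, .a7, .a8, .a9, .a10], [.a0, .a10, .a11]⟩,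
  ⟨P283, 2, [], []⟩,
  ⟨P283, 0, [.a11], [.a11]⟩,
  ⟨P283, 1, [.a10], [.a10, .a11]⟩,
  ⟨P283, 0, [.a10, .a11], [.a10]⟩,
  ⟨P284, 3, [], []⟩,
  ⟨P285, 0, [], []⟩,
  ⟨P285, 1, [.a11], [.a11]⟩,
  ⟨P284, 0, [.a11], [.a11]⟩,
  ⟨P285, 2, [.a10, .a11], [.a10]⟩,
  ⟨P284, 0, [.a10, .a11], [.a10]⟩,
  ⟨P285, 1, [.a10], [.a10, .a11]⟩,
  ⟨P284, 0, [.a10], [.a10, .a11]⟩,
  ⟨P286, 4, [], []⟩,
  ⟨P278, 0, [], []⟩,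
  ⟨P281, 1, [], []⟩,
  ⟨P281, 0, [.a10], [.a10, .a11]⟩,
  ⟨P283, 2, [.a0], [.a0]⟩,
  ⟨P283, 0, [.a0, .a2, .a3, .a4, .a5, .a6, .a7, .a9, .a11], [.a0, .a11]⟩,
  ⟨P283, 1, [.a0, .a1, .a3, .a5, .a6, .a7, .a8, .a9, .a10], [.a0, .a10, .a11]⟩,
  ⟨P283, 0, [.a0, .a1, .a2, .a3, .a4, .a6, .a8, .a9, .a10, .a11], [.a0, .a10]⟩,
  ⟨P284, 3, [.a1], [.a1, .a2]⟩,
  ⟨P285, 0, [.a1], [.a1, .a2]⟩,
  ⟨P285, 1, [.a0, .a11], [.a0, .a2, .a3, .a4, .a5, .a6, .a7, .a9, .a11]⟩,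
  ⟨P284, 0, [.a0, .a11], [.a0, .a2, .a3, .a4, .a5, .a6, .a7, .a9, .a11]⟩,
  ⟨P285, 2, [.a0, .a1, .a3, .a5, .a6, .a7, .a8, .a9, .a10, .a11], [.a0, .a2, .a3, .a4, .a5, .a6, .a7, .a9, .a10]⟩,
  ⟨P284, 0, [.a0, .a1, .a3, .a5, .a6, .a7, .a8, .a9, .a10, .a11], [.a0, .a2, .a3, .a4, .a5, .a6, .a7, .a9, .a10]⟩,
  ⟨P285, 1, [.a4, .a10], [.a4, .a5, .a10, .a11]⟩,
  ⟨P284, 0, [.a4, .a10], [.a4, .a5, .a10, .a11]⟩]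
def N661 : List Ent := [⟨1, [.a0], [.a0]⟩,
  ⟨2, [.a1], [.a1, .a2]⟩,
  ⟨4, [.a2], [.a2]⟩,
  ⟨8, [.a3], [.a3]⟩,
  ⟨16, [.a4], [.a4, .a5]⟩,
  ⟨32, [.a5], [.a5]⟩,
  ⟨64, [.a6], [.a6]⟩,
  ⟨128, [.a7], [.a7, .a8]⟩,
  ⟨256, [.a8], [.a8]⟩,
  ⟨512, [.a9], [.a9]⟩,
  ⟨1024, [.a10], [.a10, .a11]⟩,
  ⟨2048, [.a11], [.a11]⟩]
theorem bad661 (c : CtxF Goal γ) : Bad Goal γ [] P661 :=
  c.toCtx.bnd (B := B661) (D := D661) (I := [1, 2, 0, 3, 4, 5]) (r := 5) (C := C661) (N := N661) (by decide +kernel) (by decide +kernel) (by decide +kernel) (by decide +kernel)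
    (allB_cons (bad236 c) (allB_cons (bad281 c) (allB_cons (bad281 c) (allB_cons (bad283 c) (allB_cons (bad283 c) (allB_cons (bad283 c) (allB_cons (bad283 c) (allB_cons (bad284 c) (allB_cons (bad285 c) (allB_cons (bad285 c) (allB_cons (bad284 c) (allB_cons (bad285 c) (allB_cons (bad284 c) (allB_cons (bad285 c) (allB_cons (bad284 c) (allB_cons (bad286 c) (allB_cons (bad278 c) (allB_cons (bad281 c) (allB_cons (bad281 c) (allB_cons (bad283 c) (allB_cons (bad283 c) (allB_cons (bad283 c) (allB_cons (bad283 c) (allB_cons (bad284 c) (allB_cons (bad285 c) (allB_cons (bad285 c) (allB_cons (bad284 c) (allB_cons (bad285 c) (allB_cons (bad284 c) (allB_cons (bad285 c) (allB_cons (bad284 c) (allB_nil))))))))))))))))))))))))))))))))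

def P662 : List Ent := [⟨4, [.a2], [.a2]⟩,
  ⟨8, [.a3, .a11], [.a3, .a8, .a11]⟩,
  ⟨32, [.a5], [.a5]⟩,
  ⟨64, [.a6], [.a6]⟩,
  ⟨256, [.a8], [.a8]⟩,
  ⟨512, [.a9], [.a9]⟩]
def B662 : List Gv := [⟨[.a2], [.a2]⟩, ⟨[.a3, .a11], [.a3, .a8, .a11]⟩, ⟨[.a9], [.a9]⟩]
def D662 : List Dv := [⟨[.a5, .a6, .a8], [1, 0], [0, 1]⟩,
  ⟨[.a8], [2, 2], []⟩,
  ⟨[.a6, .a8], [1, 4, 2], [2, 4]⟩,
  ⟨[.a6], [0], [1]⟩,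
  ⟨[.a5], [3], [0, 2]⟩]
def C662 : List Ch := [⟨P237, 0, [], []⟩,
  ⟨P281, 1, [.a0], [.a0]⟩,
  ⟨P276, 0, [.a0, .a1, .a3, .a5, .a6, .a7, .a8, .a9, .a10], [.a0, .a10, .a11]⟩,
  ⟨P282, 2, [.a1], [.a1, .a2]⟩,
  ⟨P279, 0, [], []⟩,
  ⟨P282, 1, [], []⟩,
  ⟨P279, 0, [.a1], [.a1, .a2]⟩]
def N662 : List Ent := [⟨2, [.a1], [.a1, .a2]⟩,
  ⟨4, [.a2], [.a2]⟩,
  ⟨8, [.a3, .a11], [.a3, .a8, .a11]⟩,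
  ⟨16, [.a4], [.a4, .a5]⟩,
  ⟨32, [.a5], [.a5]⟩,
  ⟨64, [.a6], [.a6]⟩,
  ⟨128, [.a7], [.a7, .a8]⟩,
  ⟨256, [.a8], [.a8]⟩,
  ⟨512, [.a9], [.a9]⟩,
  ⟨2048, [.a11], [.a11]⟩]
theorem bad662 (c : CtxF Goal γ) : Bad Goal γ [] P662 :=
  c.toCtx.bnd (B := B662) (D := D662) (I := [5, 6, 0, 1, 3, 7]) (r := 3) (C := C662) (N := N662) (by decide +kernel) (by decide +kernel) (by decide +kernel) (by decide +kernel)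
    (allB_cons (bad237 c) (allB_cons (bad281 c) (allB_cons (bad276 c) (allB_cons (bad282 c) (allB_cons (bad279 c) (allB_cons (bad282 c) (allB_cons (bad279 c) (allB_nil))))))))

def P663 : List Ent := [⟨4, [.a2, .a10], [.a2, .a3, .a5, .a8, .a10, .a11]⟩,
  ⟨8, [.a3, .a11], [.a3, .a8, .a11]⟩,
  ⟨32, [.a5], [.a5]⟩,
  ⟨64, [.a6], [.a6]⟩,
  ⟨256, [.a8], [.a8]⟩,
  ⟨512, [.a9], [.a9]⟩]
def B663 : List Gv := [⟨[.a2, .a10], [.a2, .a3, .a5, .a8, .a10, .a11]⟩, ⟨[.a3, .a11], [.a3, .a8, .a11]⟩, ⟨[.a9], [.a9]⟩]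
def D663 : List Dv := [⟨[.a6], [1, 0, 0], []⟩,
  ⟨[.a8], [2, 1], [1, 2]⟩,
  ⟨[.a5], [4, 2], [2, 4]⟩]
def C663 : List Ch := [⟨P237, 0, [], []⟩,
  ⟨P287, 1, [], []⟩,
  ⟨P287, 0, [.a3], [.a3]⟩,
  ⟨P288, 2, [], []⟩,
  ⟨P288, 0, [.a7], [.a7, .a8]⟩,
  ⟨P289, 1, [], []⟩,
  ⟨P289, 0, [.a7], [.a7, .a8]⟩]
def N663 : List Ent := [⟨4, [.a2, .a10], [.a2, .a3, .a5, .a8, .a10, .a11]⟩,
  ⟨8, [.a3, .a11], [.a3, .a8, .a11]⟩,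
  ⟨16, [.a4], [.a4, .a5]⟩,
  ⟨32, [.a5], [.a5]⟩,
  ⟨64, [.a6], [.a6]⟩,
  ⟨128, [.a7], [.a7, .a8]⟩,
  ⟨256, [.a8], [.a8]⟩,
  ⟨512, [.a9], [.a9]⟩,
  ⟨2048, [.a11], [.a11]⟩]
theorem bad663 (c : CtxF Goal γ) : Bad Goal γ [] P663 :=
  c.toCtx.bnd (B := B663) (D := D663) (I := [3, 4, 0, 2, 1, 5]) (r := 3) (C := C663) (N := N663) (by decide +kernel) (by decide +kernel) (by decide +kernel) (by decide +kernel)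
    (allB_cons (bad237 c) (allB_cons (bad287 c) (allB_cons (bad287 c) (allB_cons (bad288 c) (allB_cons (bad288 c) (allB_cons (bad289 c) (allB_cons (bad289 c) (allB_nil))))))))

def P664 : List Ent := [⟨4, [.a2, .a10], [.a2, .a3, .a5, .a8, .a10, .a11]⟩,
  ⟨8, [.a3, .a11], [.a3, .a8, .a11]⟩,
  ⟨32, [.a5], [.a5]⟩,
  ⟨64, [.a6], [.a6]⟩,
  ⟨256, [.a8], [.a8]⟩,
  ⟨512, [.a9, .a11], [.a9, .a11]⟩]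
def B664 : List Gv := [⟨[.a2, .a10], [.a2, .a3, .a5, .a8, .a10, .a11]⟩, ⟨[.a5], [.a5]⟩, ⟨[.a9, .a11], [.a9, .a11]⟩]
def D664 : List Dv := [⟨[.a3, .a6, .a8, .a11], [0, 0], []⟩,
  ⟨[.a6, .a8], [3, 1], [1, 3]⟩,
  ⟨[.a8], [1, 4], [4, 1]⟩,
  ⟨[.a6], [1], [0]⟩,
  ⟨[.a3, .a11], [3], [0, 1]⟩]
theorem bad664 (c : CtxF Goal γ) : Bad Goal γ [] P664 :=
  c.toCtx.cent (B := B664) (D := D664) (I := [5, 0, 6, 1, 2, 7]) (z := [.a3, .a4, .a6, .a11]) (by decide +kernel) (by decide +kernel)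

def P665 : List Ent := [⟨4, [.a2, .a7], [.a2, .a7, .a8]⟩,
  ⟨8, [.a3, .a9], [.a3, .a9]⟩,
  ⟨32, [.a5, .a6], [.a5, .a6]⟩,
  ⟨256, [.a8], [.a8]⟩,
  ⟨1024, [.a10], [.a10, .a11]⟩,
  ⟨2048, [.a11], [.a11]⟩]
def B665 : List Gv := [⟨[.a2, .a7], [.a2, .a7, .a8]⟩, ⟨[.a10], [.a10, .a11]⟩]
def D665 : List Dv := [⟨[.a8], [0, 0], []⟩,
  ⟨[.a3, .a5, .a6, .a8, .a9], [2, 1], [1, 2]⟩,
  ⟨[.a11], [3, 3], []⟩,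
  ⟨[.a5, .a6, .a8], [1, 4], [4, 1]⟩,
  ⟨[.a5, .a6], [0], [3]⟩,
  ⟨[.a3, .a9], [3], [0, 4]⟩]
theorem bad665 (c : CtxF Goal γ) : Bad Goal γ [] P665 :=
  c.toCtx.cent (B := B665) (D := D665) (I := [6, 0, 1, 5, 7, 3]) (z := [.a5]) (by decide +kernel) (by decide +kernel)

def P666 : List Ent := [⟨4, [.a2, .a7], [.a2, .a7, .a8]⟩,
  ⟨8, [.a3, .a9], [.a3, .a9]⟩,
  ⟨32, [.a5], [.a5]⟩,
  ⟨64, [.a6], [.a6]⟩,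
  ⟨256, [.a8], [.a8]⟩,
  ⟨2048, [.a11], [.a11]⟩]
def B666 : List Gv := [⟨[.a2, .a7], [.a2, .a7, .a8]⟩, ⟨[.a3, .a9], [.a3, .a9]⟩, ⟨[.a5], [.a5]⟩, ⟨[.a11], [.a11]⟩]
def D666 : List Dv := [⟨[.a8], [0, 0], []⟩,
  ⟨[.a6, .a8], [3, 4, 1], [1, 4]⟩,
  ⟨[.a6], [0], [1]⟩]
def C666 : List Ch := [⟨P235, 0, [], []⟩,
  ⟨P290, 1, [], []⟩,
  ⟨P290, 0, [.a10], [.a10, .a11]⟩,
  ⟨P291, 2, [], []⟩,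
  ⟨P291, 0, [.a4], [.a4, .a5]⟩,
  ⟨P291, 1, [.a7], [.a7, .a8]⟩,
  ⟨P291, 0, [.a4, .a6, .a7], [.a4, .a5, .a7, .a8]⟩,
  ⟨P240, 3, [.a0], [.a0]⟩,
  ⟨P292, 0, [], []⟩,
  ⟨P293, 1, [], []⟩,
  ⟨P293, 0, [.a10], [.a10, .a11]⟩,
  ⟨P294, 2, [], []⟩,
  ⟨P294, 0, [.a4], [.a4, .a5]⟩,
  ⟨P294, 1, [.a7], [.a7, .a8]⟩,
  ⟨P294, 0, [.a4, .a6, .a7], [.a4, .a5, .a7, .a8]⟩]
def N666 : List Ent := [⟨4, [.a2, .a7], [.a2, .a7, .a8]⟩,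
  ⟨8, [.a3, .a9], [.a3, .a9]⟩,
  ⟨16, [.a4], [.a4, .a5]⟩,
  ⟨32, [.a5], [.a5]⟩,
  ⟨64, [.a6], [.a6]⟩,
  ⟨128, [.a7], [.a7, .a8]⟩,
  ⟨256, [.a8], [.a8]⟩,
  ⟨512, [.a9], [.a9]⟩,
  ⟨1024, [.a10], [.a10, .a11]⟩,
  ⟨2048, [.a11], [.a11]⟩]
theorem bad666 (c : CtxF Goal γ) : Bad Goal γ [] P666 :=
  c.toCtx.bnd (B := B666) (D := D666) (I := [3, 4, 5, 0, 2, 6]) (r := 4) (C := C666) (N := N666) (by decide +kernel) (by decide +kernel) (by decide +kernel) (by decide +kernel)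
    (allB_cons (bad235 c) (allB_cons (bad290 c) (allB_cons (bad290 c) (allB_cons (bad291 c) (allB_cons (bad291 c) (allB_cons (bad291 c) (allB_cons (bad291 c) (allB_cons (bad240 c) (allB_cons (bad292 c) (allB_cons (bad293 c) (allB_cons (bad293 c) (allB_cons (bad294 c) (allB_cons (bad294 c) (allB_cons (bad294 c) (allB_cons (bad294 c) (allB_nil))))))))))))))))

def P667 : List Ent := [⟨4, [.a2, .a7, .a10], [.a2, .a3, .a5, .a7, .a9, .a10, .a11]⟩,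
  ⟨8, [.a3, .a9], [.a3, .a9]⟩,
  ⟨32, [.a5], [.a5]⟩,
  ⟨64, [.a6], [.a6]⟩,
  ⟨256, [.a8], [.a8]⟩,
  ⟨2048, [.a11], [.a11]⟩]
def B667 : List Gv := [⟨[.a2, .a7, .a10], [.a2, .a3, .a5, .a7, .a9, .a10, .a11]⟩, ⟨[.a3, .a9], [.a3, .a9]⟩, ⟨[.a5], [.a5]⟩]
def D667 : List Dv := [⟨[.a6, .a11], [2, 1, 0, 0], []⟩,
  ⟨[.a11], [0, 3, 2, 1], [1, 2]⟩,
  ⟨[.a8], [1, 3], [3, 1]⟩,
  ⟨[.a6], [2], [1]⟩]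
theorem bad667 (c : CtxF Goal γ) : Bad Goal γ [] P667 :=
  c.toCtx.cent (B := B667) (D := D667) (I := [4, 5, 6, 0, 1, 2]) (z := [.a4, .a6, .a9, .a11]) (by decide +kernel) (by decide +kernel)

def P668 : List Ent := [⟨4, [.a2, .a7], [.a2, .a7, .a8]⟩,
  ⟨8, [.a3, .a9], [.a3, .a9]⟩,
  ⟨32, [.a5, .a10], [.a5, .a10, .a11]⟩,
  ⟨64, [.a6, .a10], [.a6, .a8, .a10, .a11]⟩,
  ⟨256, [.a8], [.a8]⟩,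
  ⟨2048, [.a11], [.a11]⟩]
def B668 : List Gv := [⟨[.a2, .a7], [.a2, .a7, .a8]⟩, ⟨[.a5, .a10], [.a5, .a10, .a11]⟩]
def D668 : List Dv := [⟨[.a8], [0, 0], []⟩,
  ⟨[.a3, .a5, .a6, .a8, .a9], [2, 1], [1, 2]⟩,
  ⟨[.a11], [3, 3], []⟩,
  ⟨[.a6, .a10], [4, 1, 4], [4, 1]⟩,
  ⟨[.a3, .a9], [2], [5, 0, 1]⟩]
theorem bad668 (c : CtxF Goal γ) : Bad Goal γ [] P668 :=
  c.toCtx.cent (B := B668) (D := D668) (I := [5, 0, 6, 1, 4, 2]) (z := [.a5]) (by decide +kernel) (by decide +kernel)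

def P669 : List Ent := [⟨4, [.a2, .a7], [.a2, .a7, .a8]⟩,
  ⟨32, [.a5], [.a5]⟩,
  ⟨64, [.a6], [.a6]⟩,
  ⟨256, [.a8], [.a8]⟩,
  ⟨512, [.a9], [.a9]⟩,
  ⟨2048, [.a11], [.a11]⟩]
def B669 : List Gv := [⟨[.a2, .a7], [.a2, .a7, .a8]⟩, ⟨[.a9], [.a9]⟩, ⟨[.a11], [.a11]⟩]
def D669 : List Dv := [⟨[.a8], [0, 0], []⟩,
  ⟨[.a5], [2, 1], [1, 2]⟩,
  ⟨[.a6, .a8], [0, 4, 2], [2, 4]⟩,
  ⟨[.a6], [0], [2]⟩]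
theorem bad669 (c : CtxF Goal γ) : Bad Goal γ [] P669 :=
  c.toCtx.cent (B := B669) (D := D669) (I := [4, 2, 0, 3, 5, 6]) (z := [.a7]) (by decide +kernel) (by decide +kernel)

def P670 : List Ent := [⟨4, [.a2, .a7], [.a2, .a7, .a8]⟩,
  ⟨8, [.a3], [.a3]⟩,
  ⟨32, [.a5], [.a5]⟩,
  ⟨64, [.a6], [.a6]⟩,
  ⟨256, [.a8], [.a8]⟩,
  ⟨2048, [.a11], [.a11]⟩]
def B670 : List Gv := [⟨[.a2, .a7], [.a2, .a7, .a8]⟩, ⟨[.a3], [.a3]⟩, ⟨[.a11], [.a11]⟩]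
def D670 : List Dv := [⟨[.a8], [0, 0], []⟩,
  ⟨[.a5], [2, 1], [1, 2]⟩,
  ⟨[.a6, .a8], [0, 4, 2], [2, 4]⟩,
  ⟨[.a6], [0], [2]⟩]
def C670 : List Ch := [⟨P234, 0, [], []⟩,
  ⟨P290, 1, [], []⟩,
  ⟨P295, 0, [], []⟩,
  ⟨P243, 2, [.a0], [.a0]⟩,
  ⟨P296, 0, [], []⟩,
  ⟨P293, 1, [.a1], [.a1, .a2]⟩,
  ⟨P297, 0, [], []⟩]
def N670 : List Ent := [⟨4, [.a2, .a7], [.a2, .a7, .a8]⟩,
  ⟨8, [.a3], [.a3]⟩,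
  ⟨16, [.a4], [.a4, .a5]⟩,
  ⟨32, [.a5], [.a5]⟩,
  ⟨64, [.a6], [.a6]⟩,
  ⟨128, [.a7], [.a7, .a8]⟩,
  ⟨256, [.a8], [.a8]⟩,
  ⟨512, [.a9], [.a9]⟩,
  ⟨2048, [.a11], [.a11]⟩]
theorem bad670 (c : CtxF Goal γ) : Bad Goal γ [] P670 :=
  c.toCtx.bnd (B := B670) (D := D670) (I := [4, 5, 2, 0, 3, 6]) (r := 3) (C := C670) (N := N670) (by decide +kernel) (by decide +kernel) (by decide +kernel) (by decide +kernel)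
    (allB_cons (bad234 c) (allB_cons (bad290 c) (allB_cons (bad295 c) (allB_cons (bad243 c) (allB_cons (bad296 c) (allB_cons (bad293 c) (allB_cons (bad297 c) (allB_nil))))))))

def P671 : List Ent := [⟨4, [.a2, .a7, .a9], [.a2, .a5, .a7, .a8, .a9]⟩,
  ⟨8, [.a3, .a9], [.a3, .a9]⟩,
  ⟨32, [.a5], [.a5]⟩,
  ⟨64, [.a6], [.a6]⟩,
  ⟨256, [.a8], [.a8]⟩,
  ⟨2048, [.a11], [.a11]⟩]
def B671 : List Gv := [⟨[.a2, .a7, .a9], [.a2, .a5, .a7, .a8, .a9]⟩, ⟨[.a3, .a9], [.a3, .a9]⟩, ⟨[.a11], [.a11]⟩]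
def D671 : List Dv := [⟨[.a5, .a8], [0, 0], []⟩,
  ⟨[.a6], [0, 3, 1], [1, 3]⟩,
  ⟨[.a8], [4, 3], [3, 4]⟩,
  ⟨[.a5], [2], [0]⟩]
theorem bad671 (c : CtxF Goal γ) : Bad Goal γ [] P671 :=
  c.toCtx.cent (B := B671) (D := D671) (I := [4, 5, 0, 2, 1, 6]) (z := [.a4, .a9, .a11]) (by decide +kernel) (by decide +kernel)

def P672 : List Ent := [⟨4, [.a2, .a7, .a11], [.a2, .a5, .a6, .a7, .a11]⟩,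
  ⟨8, [.a3], [.a3]⟩,
  ⟨32, [.a5], [.a5]⟩,
  ⟨64, [.a6], [.a6]⟩,
  ⟨256, [.a8], [.a8]⟩,
  ⟨512, [.a9], [.a9]⟩]
def B672 : List Gv := [⟨[.a2, .a7, .a11], [.a2, .a5, .a6, .a7, .a11]⟩, ⟨[.a3], [.a3]⟩, ⟨[.a9], [.a9]⟩]
def D672 : List Dv := [⟨[.a5, .a6], [0, 0], []⟩,
  ⟨[.a6, .a8], [0, 2, 1], [1, 2]⟩,
  ⟨[.a8], [0, 1, 4, 2], [2, 4]⟩,
  ⟨[.a6], [1], [0]⟩,
  ⟨[.a5], [3], [0]⟩]
def C672 : List Ch := [⟨P236, 0, [], []⟩,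
  ⟨P298, 1, [], []⟩,
  ⟨P298, 0, [.a10], [.a10, .a11]⟩,
  ⟨P296, 2, [], []⟩,
  ⟨P296, 0, [.a10], [.a10, .a11]⟩,
  ⟨P292, 1, [], []⟩,
  ⟨P292, 0, [.a1], [.a1, .a2]⟩]
def N672 : List Ent := [⟨2, [.a1], [.a1, .a2]⟩,
  ⟨4, [.a2, .a7, .a11], [.a2, .a5, .a6, .a7, .a11]⟩,
  ⟨8, [.a3], [.a3]⟩,
  ⟨16, [.a4], [.a4, .a5]⟩,
  ⟨32, [.a5], [.a5]⟩,
  ⟨64, [.a6], [.a6]⟩,
  ⟨128, [.a7], [.a7, .a8]⟩,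
  ⟨256, [.a8], [.a8]⟩,
  ⟨512, [.a9], [.a9]⟩,
  ⟨1024, [.a10], [.a10, .a11]⟩,
  ⟨2048, [.a11], [.a11]⟩]
theorem bad672 (c : CtxF Goal γ) : Bad Goal γ [] P672 :=
  c.toCtx.bnd (B := B672) (D := D672) (I := [5, 6, 0, 1, 2, 7]) (r := 3) (C := C672) (N := N672) (by decide +kernel) (by decide +kernel) (by decide +kernel) (by decide +kernel)
    (allB_cons (bad236 c) (allB_cons (bad298 c) (allB_cons (bad298 c) (allB_cons (bad296 c) (allB_cons (bad296 c) (allB_cons (bad292 c) (allB_cons (bad292 c) (allB_nil))))))))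

def P673 : List Ent := [⟨4, [.a2, .a7], [.a2, .a7, .a8]⟩,
  ⟨8, [.a3, .a11], [.a3, .a8, .a11]⟩,
  ⟨32, [.a5], [.a5]⟩,
  ⟨64, [.a6], [.a6]⟩,
  ⟨256, [.a8], [.a8]⟩,
  ⟨512, [.a9], [.a9]⟩]
def B673 : List Gv := [⟨[.a2, .a7], [.a2, .a7, .a8]⟩, ⟨[.a3, .a11], [.a3, .a8, .a11]⟩, ⟨[.a9], [.a9]⟩]
def D673 : List Dv := [⟨[.a8], [0, 0], []⟩,
  ⟨[.a6, .a8], [2, 1], [1, 2]⟩,
  ⟨[.a5], [4, 2], [2, 4]⟩,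
  ⟨[.a6], [1], [2]⟩]
def C673 : List Ch := [⟨P237, 0, [], []⟩,
  ⟨P244, 1, [.a0, .a1, .a3, .a5, .a6, .a7, .a8, .a9, .a10], [.a0, .a10, .a11]⟩,
  ⟨P298, 0, [.a10], [.a10, .a11]⟩,
  ⟨P293, 2, [.a1], [.a1, .a2]⟩,
  ⟨P297, 0, [.a10], [.a10, .a11]⟩,
  ⟨P293, 1, [], []⟩,
  ⟨P297, 0, [.a1, .a10], [.a1, .a2, .a4, .a5, .a7, .a9, .a10, .a11]⟩]
def N673 : List Ent := [⟨2, [.a1], [.a1, .a2]⟩,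
  ⟨4, [.a2, .a7], [.a2, .a7, .a8]⟩,
  ⟨8, [.a3, .a11], [.a3, .a8, .a11]⟩,
  ⟨16, [.a4], [.a4, .a5]⟩,
  ⟨32, [.a5], [.a5]⟩,
  ⟨64, [.a6], [.a6]⟩,
  ⟨128, [.a7], [.a7, .a8]⟩,
  ⟨256, [.a8], [.a8]⟩,
  ⟨512, [.a9], [.a9]⟩,
  ⟨2048, [.a11], [.a11]⟩]
theorem bad673 (c : CtxF Goal γ) : Bad Goal γ [] P673 :=
  c.toCtx.bnd (B := B673) (D := D673) (I := [4, 5, 1, 0, 3, 6]) (r := 3) (C := C673) (N := N673) (by decide +kernel) (by decide +kernel) (by decide +kernel) (by decide +kernel)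
    (allB_cons (bad237 c) (allB_cons (bad244 c) (allB_cons (bad298 c) (allB_cons (bad293 c) (allB_cons (bad297 c) (allB_cons (bad293 c) (allB_cons (bad297 c) (allB_nil))))))))

def P674 : List Ent := [⟨4, [.a2, .a7, .a10], [.a2, .a3, .a5, .a7, .a9, .a10, .a11]⟩,
  ⟨8, [.a3, .a11], [.a3, .a8, .a11]⟩,
  ⟨32, [.a5], [.a5]⟩,
  ⟨64, [.a6], [.a6]⟩,
  ⟨256, [.a8], [.a8]⟩,
  ⟨512, [.a9], [.a9]⟩]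
def B674 : List Gv := [⟨[.a2, .a7, .a10], [.a2, .a3, .a5, .a7, .a9, .a10, .a11]⟩, ⟨[.a3, .a11], [.a3, .a8, .a11]⟩, ⟨[.a6], [.a6]⟩]
def D674 : List Dv := [⟨[.a5, .a6, .a8, .a9], [1, 0, 0], []⟩,
  ⟨[.a9], [3, 0, 2, 1], [1, 2]⟩,
  ⟨[.a8], [3, 3], []⟩,
  ⟨[.a5], [2], [5, 0, 1]⟩]
def C674 : List Ch := [⟨P237, 0, [], []⟩,
  ⟨P299, 1, [], []⟩,
  ⟨P299, 0, [.a7], [.a7, .a8]⟩,
  ⟨P300, 2, [], []⟩,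
  ⟨P300, 0, [.a4], [.a4, .a5]⟩,
  ⟨P301, 1, [], []⟩,
  ⟨P301, 0, [.a4], [.a4, .a5]⟩]
def N674 : List Ent := [⟨4, [.a2, .a7, .a10], [.a2, .a3, .a5, .a7, .a9, .a10, .a11]⟩,
  ⟨8, [.a3, .a11], [.a3, .a8, .a11]⟩,
  ⟨16, [.a4], [.a4, .a5]⟩,
  ⟨32, [.a5], [.a5]⟩,
  ⟨64, [.a6], [.a6]⟩,
  ⟨128, [.a7], [.a7, .a8]⟩,
  ⟨256, [.a8], [.a8]⟩,
  ⟨512, [.a9], [.a9]⟩,
  ⟨2048, [.a11], [.a11]⟩]
theorem bad674 (c : CtxF Goal γ) : Bad Goal γ [] P674 :=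
  c.toCtx.bnd (B := B674) (D := D674) (I := [4, 5, 0, 6, 1, 2]) (r := 3) (C := C674) (N := N674) (by decide +kernel) (by decide +kernel) (by decide +kernel) (by decide +kernel)
    (allB_cons (bad237 c) (allB_cons (bad299 c) (allB_cons (bad299 c) (allB_cons (bad300 c) (allB_cons (bad300 c) (allB_cons (bad301 c) (allB_cons (bad301 c) (allB_nil))))))))

def P675 : List Ent := [⟨4, [.a2, .a7, .a10], [.a2, .a3, .a5, .a7, .a9, .a10, .a11]⟩,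
  ⟨8, [.a3], [.a3]⟩,
  ⟨32, [.a5], [.a5]⟩,
  ⟨64, [.a6], [.a6]⟩,
  ⟨256, [.a8], [.a8]⟩,
  ⟨512, [.a9, .a11], [.a9, .a11]⟩]
def B675 : List Gv := [⟨[.a2, .a7, .a10], [.a2, .a3, .a5, .a7, .a9, .a10, .a11]⟩, ⟨[.a3], [.a3]⟩, ⟨[.a5], [.a5]⟩]
def D675 : List Dv := [⟨[.a6, .a9, .a11], [2, 1, 0, 0], []⟩,
  ⟨[.a9, .a11], [0, 2, 1], [1, 2]⟩,
  ⟨[.a8], [1, 3], [3, 1]⟩,
  ⟨[.a6], [2], [1]⟩]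
theorem bad675 (c : CtxF Goal γ) : Bad Goal γ [] P675 :=
  c.toCtx.cent (B := B675) (D := D675) (I := [4, 5, 6, 0, 1, 2]) (z := [.a3, .a4]) (by decide +kernel) (by decide +kernel)

def P676 : List Ent := [⟨4, [.a2], [.a2]⟩,
  ⟨32, [.a5], [.a5]⟩,
  ⟨64, [.a6], [.a6]⟩,
  ⟨128, [.a7], [.a7, .a8]⟩,
  ⟨256, [.a8], [.a8]⟩,
  ⟨2048, [.a11], [.a11]⟩]
def B676 : List Gv := [⟨[.a2], [.a2]⟩, ⟨[.a5], [.a5]⟩, ⟨[.a7], [.a7, .a8]⟩, ⟨[.a11], [.a11]⟩]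
def D676 : List Dv := [⟨[.a8], [2, 2], []⟩,
  ⟨[.a6, .a8], [2, 4, 1], [1, 4]⟩,
  ⟨[.a6], [0], [1]⟩]
def C676 : List Ch := [⟨P195, 0, [], []⟩,
  ⟨P302, 1, [], []⟩,
  ⟨P302, 0, [.a9], [.a9]⟩,
  ⟨P280, 2, [], []⟩,
  ⟨P290, 0, [], []⟩,
  ⟨P302, 1, [.a4], [.a4, .a5]⟩,
  ⟨P302, 0, [.a4, .a8, .a9], [.a4, .a5, .a9]⟩,
  ⟨P303, 3, [], []⟩,
  ⟨P304, 0, [], []⟩,
  ⟨P305, 1, [], []⟩,
  ⟨P305, 0, [.a9], [.a9]⟩,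
  ⟨P306, 2, [], []⟩,
  ⟨P271, 0, [.a0], [.a0]⟩,
  ⟨P305, 1, [.a4], [.a4, .a5]⟩,
  ⟨P305, 0, [.a4, .a8, .a9], [.a4, .a5, .a9]⟩]
def N676 : List Ent := [⟨4, [.a2], [.a2]⟩,
  ⟨8, [.a3], [.a3]⟩,
  ⟨16, [.a4], [.a4, .a5]⟩,
  ⟨32, [.a5], [.a5]⟩,
  ⟨64, [.a6], [.a6]⟩,
  ⟨128, [.a7], [.a7, .a8]⟩,
  ⟨256, [.a8], [.a8]⟩,
  ⟨512, [.a9], [.a9]⟩,
  ⟨2048, [.a11], [.a11]⟩]
theorem bad676 (c : CtxF Goal γ) : Bad Goal γ [] P676 :=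
  c.toCtx.bnd (B := B676) (D := D676) (I := [3, 4, 0, 5, 2, 6]) (r := 4) (C := C676) (N := N676) (by decide +kernel) (by decide +kernel) (by decide +kernel) (by decide +kernel)
    (allB_cons (bad195 c) (allB_cons (bad302 c) (allB_cons (bad302 c) (allB_cons (bad280 c) (allB_cons (bad290 c) (allB_cons (bad302 c) (allB_cons (bad302 c) (allB_cons (bad303 c) (allB_cons (bad304 c) (allB_cons (bad305 c) (allB_cons (bad305 c) (allB_cons (bad306 c) (allB_cons (bad271 c) (allB_cons (bad305 c) (allB_cons (bad305 c) (allB_nil))))))))))))))))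

def P677 : List Ent := [⟨4, [.a2, .a9], [.a2, .a5, .a9]⟩,
  ⟨32, [.a5], [.a5]⟩,
  ⟨64, [.a6], [.a6]⟩,
  ⟨128, [.a7], [.a7, .a8]⟩,
  ⟨256, [.a8], [.a8]⟩,
  ⟨2048, [.a11], [.a11]⟩]
def B677 : List Gv := [⟨[.a2, .a9], [.a2, .a5, .a9]⟩, ⟨[.a7], [.a7, .a8]⟩, ⟨[.a11], [.a11]⟩]
def D677 : List Dv := [⟨[.a5], [0, 0], []⟩,
  ⟨[.a8], [2, 2], []⟩,
  ⟨[.a6, .a8], [1, 4, 2], [2, 4]⟩,
  ⟨[.a6], [0], [1]⟩]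
def C677 : List Ch := [⟨P195, 0, [], []⟩,
  ⟨P277, 1, [], []⟩,
  ⟨P295, 0, [.a10], [.a10, .a11]⟩,
  ⟨P307, 2, [], []⟩,
  ⟨P304, 0, [.a1], [.a1, .a2]⟩,
  ⟨P308, 1, [], []⟩,
  ⟨P228, 0, [.a0, .a10], [.a0, .a1, .a2, .a3, .a4, .a6, .a8, .a9, .a10, .a11]⟩]
def N677 : List Ent := [⟨4, [.a2, .a9], [.a2, .a5, .a9]⟩,
  ⟨8, [.a3], [.a3]⟩,
  ⟨16, [.a4], [.a4, .a5]⟩,
  ⟨32, [.a5], [.a5]⟩,
  ⟨64, [.a6], [.a6]⟩,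
  ⟨128, [.a7], [.a7, .a8]⟩,
  ⟨256, [.a8], [.a8]⟩,
  ⟨512, [.a9], [.a9]⟩,
  ⟨2048, [.a11], [.a11]⟩]
theorem bad677 (c : CtxF Goal γ) : Bad Goal γ [] P677 :=
  c.toCtx.bnd (B := B677) (D := D677) (I := [4, 3, 0, 5, 2, 6]) (r := 3) (C := C677) (N := N677) (by decide +kernel) (by decide +kernel) (by decide +kernel) (by decide +kernel)
    (allB_cons (bad195 c) (allB_cons (bad277 c) (allB_cons (bad295 c) (allB_cons (bad307 c) (allB_cons (bad304 c) (allB_cons (bad308 c) (allB_cons (bad228 c) (allB_nil))))))))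

def P678 : List Ent := [⟨4, [.a2], [.a2]⟩,
  ⟨32, [.a5], [.a5]⟩,
  ⟨64, [.a6], [.a6]⟩,
  ⟨128, [.a7, .a9], [.a7, .a8, .a9]⟩,
  ⟨256, [.a8], [.a8]⟩,
  ⟨2048, [.a11], [.a11]⟩]
def B678 : List Gv := [⟨[.a2], [.a2]⟩, ⟨[.a7, .a9], [.a7, .a8, .a9]⟩, ⟨[.a11], [.a11]⟩]
def D678 : List Dv := [⟨[.a5], [1, 0], [0, 1]⟩,
  ⟨[.a8], [2, 2], []⟩,
  ⟨[.a6, .a8], [1, 4, 2], [2, 4]⟩,
  ⟨[.a6], [0], [1]⟩]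
theorem bad678 (c : CtxF Goal γ) : Bad Goal γ [] P678 :=
  c.toCtx.cent (B := B678) (D := D678) (I := [4, 3, 0, 5, 2, 6]) (z := [.a7]) (by decide +kernel) (by decide +kernel)

def P679 : List Ent := [⟨4, [.a2, .a9], [.a2, .a5, .a9]⟩,
  ⟨32, [.a5], [.a5]⟩,
  ⟨64, [.a6], [.a6]⟩,
  ⟨128, [.a7, .a9], [.a7, .a8, .a9]⟩,
  ⟨256, [.a8], [.a8]⟩,
  ⟨2048, [.a11], [.a11]⟩]
def B679 : List Gv := [⟨[.a2, .a9], [.a2, .a5, .a9]⟩, ⟨[.a7, .a9], [.a7, .a8, .a9]⟩, ⟨[.a11], [.a11]⟩]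
def D679 : List Dv := [⟨[.a5], [0, 0], []⟩,
  ⟨[.a8], [2, 2], []⟩,
  ⟨[.a6, .a8], [1, 4, 2], [2, 4]⟩,
  ⟨[.a6], [0], [1]⟩]
theorem bad679 (c : CtxF Goal γ) : Bad Goal γ [] P679 :=
  c.toCtx.cent (B := B679) (D := D679) (I := [4, 3, 0, 5, 2, 6]) (z := [.a7]) (by decide +kernel) (by decide +kernel)

def P680 : List Ent := [⟨4, [.a2], [.a2]⟩,
  ⟨32, [.a5], [.a5]⟩,
  ⟨64, [.a6], [.a6]⟩,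
  ⟨128, [.a7], [.a7, .a8]⟩,
  ⟨256, [.a8], [.a8]⟩,
  ⟨512, [.a9], [.a9]⟩]
def B680 : List Gv := [⟨[.a2], [.a2]⟩, ⟨[.a6], [.a6]⟩, ⟨[.a7], [.a7, .a8]⟩, ⟨[.a9], [.a9]⟩]
def D680 : List Dv := [⟨[.a8], [2, 2], []⟩,
  ⟨[.a5], [4, 1], [1, 4]⟩]
def C680 : List Ch := [⟨P196, 0, [], []⟩,
  ⟨P309, 1, [], []⟩,
  ⟨P309, 0, [.a11], [.a11]⟩,
  ⟨P281, 2, [.a0], [.a0]⟩,
  ⟨P244, 0, [.a0, .a1, .a3, .a5, .a6, .a7, .a8, .a9, .a10], [.a0, .a10, .a11]⟩,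
  ⟨P309, 1, [.a4], [.a4, .a5]⟩,
  ⟨P309, 0, [.a4, .a11], [.a4, .a5, .a11]⟩,
  ⟨P303, 3, [], []⟩,
  ⟨P307, 0, [], []⟩,
  ⟨P309, 1, [.a1], [.a1, .a2]⟩,
  ⟨P309, 0, [.a1, .a11], [.a1, .a2, .a5, .a6, .a9, .a11]⟩,
  ⟨P310, 2, [], []⟩,
  ⟨P311, 0, [], []⟩,
  ⟨P309, 1, [.a1, .a3, .a4], [.a1, .a2, .a4, .a5]⟩,
  ⟨P309, 0, [.a1, .a3, .a4, .a5, .a7, .a11], [.a1, .a2, .a4, .a5, .a7, .a9, .a11]⟩]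
def N680 : List Ent := [⟨2, [.a1], [.a1, .a2]⟩,
  ⟨4, [.a2], [.a2]⟩,
  ⟨8, [.a3], [.a3]⟩,
  ⟨16, [.a4], [.a4, .a5]⟩,
  ⟨32, [.a5], [.a5]⟩,
  ⟨64, [.a6], [.a6]⟩,
  ⟨128, [.a7], [.a7, .a8]⟩,
  ⟨256, [.a8], [.a8]⟩,
  ⟨512, [.a9], [.a9]⟩,
  ⟨2048, [.a11], [.a11]⟩]
theorem bad680 (c : CtxF Goal γ) : Bad Goal γ [] P680 :=
  c.toCtx.bnd (B := B680) (D := D680) (I := [2, 0, 3, 4, 1, 5]) (r := 4) (C := C680) (N := N680) (by decide +kernel) (by decide +kernel) (by decide +kernel) (by decide +kernel)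
    (allB_cons (bad196 c) (allB_cons (bad309 c) (allB_cons (bad309 c) (allB_cons (bad281 c) (allB_cons (bad244 c) (allB_cons (bad309 c) (allB_cons (bad309 c) (allB_cons (bad303 c) (allB_cons (bad307 c) (allB_cons (bad309 c) (allB_cons (bad309 c) (allB_cons (bad310 c) (allB_cons (bad311 c) (allB_cons (bad309 c) (allB_cons (bad309 c) (allB_nil))))))))))))))))

def P681 : List Ent := [⟨4, [.a2, .a11], [.a2, .a5, .a6, .a8, .a11]⟩,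
  ⟨32, [.a5], [.a5]⟩,
  ⟨64, [.a6], [.a6]⟩,
  ⟨128, [.a7], [.a7, .a8]⟩,
  ⟨256, [.a8], [.a8]⟩,
  ⟨512, [.a9], [.a9]⟩]
def B681 : List Gv := [⟨[.a2, .a11], [.a2, .a5, .a6, .a8, .a11]⟩, ⟨[.a7], [.a7, .a8]⟩, ⟨[.a9], [.a9]⟩]
def D681 : List Dv := [⟨[.a5, .a6, .a8], [0, 0], []⟩,
  ⟨[.a8], [2, 2], []⟩,
  ⟨[.a6, .a8], [1, 4, 2], [2, 4]⟩,
  ⟨[.a6], [0], [1]⟩,
  ⟨[.a5], [3], [0, 2]⟩]
def C681 : List Ch := [⟨P196, 0, [], []⟩,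
  ⟨P276, 1, [.a0], [.a0]⟩,
  ⟨P298, 0, [], []⟩,
  ⟨P304, 2, [], []⟩,
  ⟨P304, 0, [.a1], [.a1, .a2]⟩,
  ⟨P312, 1, [], []⟩,
  ⟨P312, 0, [.a1], [.a1, .a2]⟩]
def N681 : List Ent := [⟨2, [.a1], [.a1, .a2]⟩,
  ⟨4, [.a2, .a11], [.a2, .a5, .a6, .a8, .a11]⟩,
  ⟨8, [.a3], [.a3]⟩,
  ⟨16, [.a4], [.a4, .a5]⟩,
  ⟨32, [.a5], [.a5]⟩,
  ⟨64, [.a6], [.a6]⟩,
  ⟨128, [.a7], [.a7, .a8]⟩,
  ⟨256, [.a8], [.a8]⟩,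
  ⟨512, [.a9], [.a9]⟩,
  ⟨2048, [.a11], [.a11]⟩]
theorem bad681 (c : CtxF Goal γ) : Bad Goal γ [] P681 :=
  c.toCtx.bnd (B := B681) (D := D681) (I := [5, 0, 1, 6, 3, 7]) (r := 3) (C := C681) (N := N681) (by decide +kernel) (by decide +kernel) (by decide +kernel) (by decide +kernel)
    (allB_cons (bad196 c) (allB_cons (bad276 c) (allB_cons (bad298 c) (allB_cons (bad304 c) (allB_cons (bad304 c) (allB_cons (bad312 c) (allB_cons (bad312 c) (allB_nil))))))))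

def P682 : List Ent := [⟨4, [.a2], [.a2]⟩,
  ⟨32, [.a5], [.a5]⟩,
  ⟨64, [.a6], [.a6]⟩,
  ⟨128, [.a7, .a11], [.a7, .a8, .a11]⟩,
  ⟨256, [.a8], [.a8]⟩,
  ⟨512, [.a9], [.a9]⟩]
def B682 : List Gv := [⟨[.a2], [.a2]⟩, ⟨[.a7, .a11], [.a7, .a8, .a11]⟩, ⟨[.a9], [.a9]⟩]
def D682 : List Dv := [⟨[.a5, .a6, .a8], [1, 0], [0, 1]⟩,
  ⟨[.a8], [2, 2], []⟩,
  ⟨[.a6, .a8], [1, 4, 2], [2, 4]⟩,
  ⟨[.a6], [0], [1]⟩,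
  ⟨[.a5], [3], [0, 2]⟩]
theorem bad682 (c : CtxF Goal γ) : Bad Goal γ [] P682 :=
  c.toCtx.cent (B := B682) (D := D682) (I := [5, 0, 1, 6, 3, 7]) (z := [.a7]) (by decide +kernel) (by decide +kernel)

def P683 : List Ent := [⟨4, [.a2], [.a2]⟩,
  ⟨8, [.a3, .a7], [.a3, .a5, .a7, .a8]⟩,
  ⟨32, [.a5], [.a5]⟩,
  ⟨64, [.a6], [.a6]⟩,
  ⟨256, [.a8], [.a8]⟩,
  ⟨2048, [.a11], [.a11]⟩]
def B683 : List Gv := [⟨[.a2], [.a2]⟩, ⟨[.a3, .a7], [.a3, .a5, .a7, .a8]⟩, ⟨[.a11], [.a11]⟩]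
def D683 : List Dv := [⟨[.a5, .a8], [1, 1], []⟩,
  ⟨[.a6], [0, 3, 1], [1, 3]⟩,
  ⟨[.a8], [4, 3], [3, 4]⟩,
  ⟨[.a5], [2], [0]⟩]
def C683 : List Ch := [⟨P239, 0, [], []⟩,
  ⟨P280, 1, [], []⟩,
  ⟨P295, 0, [], []⟩,
  ⟨P303, 2, [.a0], [.a0]⟩,
  ⟨P313, 0, [], []⟩,
  ⟨P314, 1, [], []⟩,
  ⟨P224, 0, [.a0, .a1], [.a0, .a1, .a2]⟩]
def N683 : List Ent := [⟨4, [.a2], [.a2]⟩,
  ⟨8, [.a3, .a7], [.a3, .a5, .a7, .a8]⟩,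
  ⟨16, [.a4], [.a4, .a5]⟩,
  ⟨32, [.a5], [.a5]⟩,
  ⟨64, [.a6], [.a6]⟩,
  ⟨128, [.a7], [.a7, .a8]⟩,
  ⟨256, [.a8], [.a8]⟩,
  ⟨512, [.a9], [.a9]⟩,
  ⟨2048, [.a11], [.a11]⟩]
theorem bad683 (c : CtxF Goal γ) : Bad Goal γ [] P683 :=
  c.toCtx.bnd (B := B683) (D := D683) (I := [4, 5, 0, 2, 1, 6]) (r := 3) (C := C683) (N := N683) (by decide +kernel) (by decide +kernel) (by decide +kernel) (by decide +kernel)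
    (allB_cons (bad239 c) (allB_cons (bad280 c) (allB_cons (bad295 c) (allB_cons (bad303 c) (allB_cons (bad313 c) (allB_cons (bad314 c) (allB_cons (bad224 c) (allB_nil))))))))

def P684 : List Ent := [⟨4, [.a2, .a9], [.a2, .a5, .a9]⟩,
  ⟨8, [.a3, .a7], [.a3, .a5, .a7, .a8]⟩,
  ⟨32, [.a5], [.a5]⟩,
  ⟨64, [.a6], [.a6]⟩,
  ⟨256, [.a8], [.a8]⟩,
  ⟨2048, [.a11], [.a11]⟩]
def B684 : List Gv := [⟨[.a2, .a9], [.a2, .a5, .a9]⟩, ⟨[.a3, .a7], [.a3, .a5, .a7, .a8]⟩, ⟨[.a11], [.a11]⟩]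
def D684 : List Dv := [⟨[.a5], [0, 0], []⟩,
  ⟨[.a8], [0, 2, 2], []⟩,
  ⟨[.a6, .a8], [1, 4, 2], [2, 4]⟩,
  ⟨[.a6], [0], [1]⟩]
def C684 : List Ch := [⟨P239, 0, [], []⟩,
  ⟨P277, 1, [], []⟩,
  ⟨P290, 0, [.a10], [.a10, .a11]⟩,
  ⟨P315, 2, [], []⟩,
  ⟨P313, 0, [.a1], [.a1, .a2]⟩,
  ⟨P316, 1, [], []⟩,
  ⟨P267, 0, [.a0, .a1, .a3, .a5, .a6, .a7, .a8, .a9, .a10], [.a0, .a10, .a11]⟩]
def N684 : List Ent := [⟨4, [.a2, .a9], [.a2, .a5, .a9]⟩,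
  ⟨8, [.a3, .a7], [.a3, .a5, .a7, .a8]⟩,
  ⟨16, [.a4], [.a4, .a5]⟩,
  ⟨32, [.a5], [.a5]⟩,
  ⟨64, [.a6], [.a6]⟩,
  ⟨128, [.a7], [.a7, .a8]⟩,
  ⟨256, [.a8], [.a8]⟩,
  ⟨512, [.a9], [.a9]⟩,
  ⟨2048, [.a11], [.a11]⟩]
theorem bad684 (c : CtxF Goal γ) : Bad Goal γ [] P684 :=
  c.toCtx.bnd (B := B684) (D := D684) (I := [4, 5, 3, 0, 2, 6]) (r := 3) (C := C684) (N := N684) (by decide +kernel) (by decide +kernel) (by decide +kernel) (by decide +kernel)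
    (allB_cons (bad239 c) (allB_cons (bad277 c) (allB_cons (bad290 c) (allB_cons (bad315 c) (allB_cons (bad313 c) (allB_cons (bad316 c) (allB_cons (bad267 c) (allB_nil))))))))

def P685 : List Ent := [⟨4, [.a2], [.a2]⟩,
  ⟨8, [.a3, .a7, .a9], [.a3, .a5, .a7, .a8, .a9]⟩,
  ⟨32, [.a5], [.a5]⟩,
  ⟨64, [.a6], [.a6]⟩,
  ⟨256, [.a8], [.a8]⟩,
  ⟨2048, [.a11], [.a11]⟩]
def B685 : List Gv := [⟨[.a2], [.a2]⟩, ⟨[.a3, .a7, .a9], [.a3, .a5, .a7, .a8, .a9]⟩, ⟨[.a11], [.a11]⟩]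
def D685 : List Dv := [⟨[.a5], [1, 0], [0, 1]⟩,
  ⟨[.a8], [0, 2, 2], []⟩,
  ⟨[.a6, .a8], [1, 4, 2], [2, 4]⟩,
  ⟨[.a6], [0], [1]⟩]
def C685 : List Ch := [⟨P239, 0, [.a10], [.a10, .a11]⟩,
  ⟨P280, 1, [], []⟩,
  ⟨P290, 0, [.a10], [.a10, .a11]⟩,
  ⟨P317, 2, [], []⟩,
  ⟨P318, 0, [], []⟩,
  ⟨P314, 1, [.a1], [.a1, .a2]⟩,
  ⟨P267, 0, [.a0, .a10], [.a0, .a1, .a2, .a3, .a4, .a6, .a8, .a9, .a10, .a11]⟩]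
def N685 : List Ent := [⟨4, [.a2], [.a2]⟩,
  ⟨8, [.a3, .a7, .a9], [.a3, .a5, .a7, .a8, .a9]⟩,
  ⟨16, [.a4], [.a4, .a5]⟩,
  ⟨32, [.a5], [.a5]⟩,
  ⟨64, [.a6], [.a6]⟩,
  ⟨128, [.a7], [.a7, .a8]⟩,
  ⟨256, [.a8], [.a8]⟩,
  ⟨512, [.a9], [.a9]⟩,
  ⟨2048, [.a11], [.a11]⟩]
theorem bad685 (c : CtxF Goal γ) : Bad Goal γ [] P685 :=
  c.toCtx.bnd (B := B685) (D := D685) (I := [4, 5, 3, 0, 2, 6]) (r := 3) (C := C685) (N := N685) (by decide +kernel) (by decide +kernel) (by decide +kernel) (by decide +kernel)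
    (allB_cons (bad239 c) (allB_cons (bad280 c) (allB_cons (bad290 c) (allB_cons (bad317 c) (allB_cons (bad318 c) (allB_cons (bad314 c) (allB_cons (bad267 c) (allB_nil))))))))

def P686 : List Ent := [⟨4, [.a2, .a9], [.a2, .a5, .a9]⟩,
  ⟨8, [.a3, .a7, .a9], [.a3, .a5, .a7, .a8, .a9]⟩,
  ⟨32, [.a5], [.a5]⟩,
  ⟨64, [.a6], [.a6]⟩,
  ⟨256, [.a8], [.a8]⟩,
  ⟨2048, [.a11], [.a11]⟩]
def B686 : List Gv := [⟨[.a2, .a9], [.a2, .a5, .a9]⟩, ⟨[.a3, .a7, .a9], [.a3, .a5, .a7, .a8, .a9]⟩, ⟨[.a11], [.a11]⟩]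
def D686 : List Dv := [⟨[.a5], [0, 0], []⟩,
  ⟨[.a8], [0, 2, 2], []⟩,
  ⟨[.a6, .a8], [1, 4, 2], [2, 4]⟩,
  ⟨[.a6], [0], [1]⟩]
def C686 : List Ch := [⟨P239, 0, [.a10], [.a10, .a11]⟩,
  ⟨P277, 1, [], []⟩,
  ⟨P295, 0, [], []⟩,
  ⟨P311, 2, [.a0, .a1, .a3, .a5, .a6, .a7, .a8, .a9, .a10], [.a0, .a10, .a11]⟩,
  ⟨P318, 0, [.a1], [.a1, .a2]⟩,
  ⟨P316, 1, [.a1], [.a1, .a2]⟩,
  ⟨P224, 0, [.a0], [.a0]⟩]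
def N686 : List Ent := [⟨4, [.a2, .a9], [.a2, .a5, .a9]⟩,
  ⟨8, [.a3, .a7, .a9], [.a3, .a5, .a7, .a8, .a9]⟩,
  ⟨16, [.a4], [.a4, .a5]⟩,
  ⟨32, [.a5], [.a5]⟩,
  ⟨64, [.a6], [.a6]⟩,
  ⟨128, [.a7], [.a7, .a8]⟩,
  ⟨256, [.a8], [.a8]⟩,
  ⟨512, [.a9], [.a9]⟩,
  ⟨2048, [.a11], [.a11]⟩]
theorem bad686 (c : CtxF Goal γ) : Bad Goal γ [] P686 :=
  c.toCtx.bnd (B := B686) (D := D686) (I := [4, 5, 3, 0, 2, 6]) (r := 3) (C := C686) (N := N686) (by decide +kernel) (by decide +kernel) (by decide +kernel) (by decide +kernel)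
    (allB_cons (bad239 c) (allB_cons (bad277 c) (allB_cons (bad295 c) (allB_cons (bad311 c) (allB_cons (bad318 c) (allB_cons (bad316 c) (allB_cons (bad224 c) (allB_nil))))))))

def P687 : List Ent := [⟨4, [.a2], [.a2]⟩,
  ⟨8, [.a3, .a7], [.a3, .a5, .a7, .a8]⟩,
  ⟨32, [.a5], [.a5]⟩,
  ⟨64, [.a6], [.a6]⟩,
  ⟨256, [.a8], [.a8]⟩,
  ⟨512, [.a9], [.a9]⟩]
def B687 : List Gv := [⟨[.a2], [.a2]⟩, ⟨[.a3, .a7], [.a3, .a5, .a7, .a8]⟩, ⟨[.a6], [.a6]⟩, ⟨[.a9], [.a9]⟩]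
def D687 : List Dv := [⟨[.a5, .a8], [1, 1], []⟩,
  ⟨[.a8], [0, 4, 1], [1, 4]⟩,
  ⟨[.a5], [1], [0]⟩]
def C687 : List Ch := [⟨P240, 0, [], []⟩,
  ⟨P281, 1, [.a0], [.a0]⟩,
  ⟨P244, 0, [.a0], [.a0]⟩,
  ⟨P319, 2, [], []⟩,
  ⟨P319, 0, [.a11], [.a11]⟩,
  ⟨P319, 1, [.a4], [.a4, .a5]⟩,
  ⟨P319, 0, [.a4, .a11], [.a4, .a5, .a11]⟩,
  ⟨P303, 3, [.a0], [.a0]⟩,
  ⟨P315, 0, [], []⟩,
  ⟨P317, 1, [], []⟩,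
  ⟨P311, 0, [.a0, .a1, .a3, .a5, .a6, .a7, .a8, .a9, .a10], [.a0, .a10, .a11]⟩,
  ⟨P319, 2, [.a1], [.a1, .a2]⟩,
  ⟨P319, 0, [.a1, .a11], [.a1, .a2, .a5, .a6, .a9, .a11]⟩,
  ⟨P319, 1, [.a1, .a3, .a4], [.a1, .a2, .a4, .a5]⟩,
  ⟨P319, 0, [.a1, .a3, .a4, .a5, .a7, .a11], [.a1, .a2, .a4, .a5, .a7, .a9, .a11]⟩]
def N687 : List Ent := [⟨2, [.a1], [.a1, .a2]⟩,
  ⟨4, [.a2], [.a2]⟩,
  ⟨8, [.a3, .a7], [.a3, .a5, .a7, .a8]⟩,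
  ⟨16, [.a4], [.a4, .a5]⟩,
  ⟨32, [.a5], [.a5]⟩,
  ⟨64, [.a6], [.a6]⟩,
  ⟨128, [.a7], [.a7, .a8]⟩,
  ⟨256, [.a8], [.a8]⟩,
  ⟨512, [.a9], [.a9]⟩,
  ⟨2048, [.a11], [.a11]⟩]
theorem bad687 (c : CtxF Goal γ) : Bad Goal γ [] P687 :=
  c.toCtx.bnd (B := B687) (D := D687) (I := [3, 4, 0, 5, 1, 6]) (r := 4) (C := C687) (N := N687) (by decide +kernel) (by decide +kernel) (by decide +kernel) (by decide +kernel)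
    (allB_cons (bad240 c) (allB_cons (bad281 c) (allB_cons (bad244 c) (allB_cons (bad319 c) (allB_cons (bad319 c) (allB_cons (bad319 c) (allB_cons (bad319 c) (allB_cons (bad303 c) (allB_cons (bad315 c) (allB_cons (bad317 c) (allB_cons (bad311 c) (allB_cons (bad319 c) (allB_cons (bad319 c) (allB_cons (bad319 c) (allB_cons (bad319 c) (allB_nil))))))))))))))))

def P688 : List Ent := [⟨4, [.a2, .a11], [.a2, .a5, .a6, .a8, .a11]⟩,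
  ⟨8, [.a3, .a7], [.a3, .a5, .a7, .a8]⟩,
  ⟨32, [.a5], [.a5]⟩,
  ⟨64, [.a6], [.a6]⟩,
  ⟨256, [.a8], [.a8]⟩,
  ⟨512, [.a9], [.a9]⟩]
def B688 : List Gv := [⟨[.a2, .a11], [.a2, .a5, .a6, .a8, .a11]⟩, ⟨[.a3, .a7], [.a3, .a5, .a7, .a8]⟩, ⟨[.a9], [.a9]⟩]
def D688 : List Dv := [⟨[.a5, .a6, .a8], [0, 0], []⟩,
  ⟨[.a8], [2, 1], [1, 2]⟩,
  ⟨[.a6], [1, 3, 3], []⟩,
  ⟨[.a5], [2], [0, 1]⟩]
def C688 : List Ch := [⟨P240, 0, [], []⟩,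
  ⟨P276, 1, [.a0], [.a0]⟩,
  ⟨P298, 0, [.a10], [.a10, .a11]⟩,
  ⟨P313, 2, [], []⟩,
  ⟨P313, 0, [.a1], [.a1, .a2]⟩,
  ⟨P318, 1, [], []⟩,
  ⟨P318, 0, [.a1], [.a1, .a2]⟩]
def N688 : List Ent := [⟨2, [.a1], [.a1, .a2]⟩,
  ⟨4, [.a2, .a11], [.a2, .a5, .a6, .a8, .a11]⟩,
  ⟨8, [.a3, .a7], [.a3, .a5, .a7, .a8]⟩,
  ⟨16, [.a4], [.a4, .a5]⟩,
  ⟨32, [.a5], [.a5]⟩,
  ⟨64, [.a6], [.a6]⟩,
  ⟨128, [.a7], [.a7, .a8]⟩,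
  ⟨256, [.a8], [.a8]⟩,
  ⟨512, [.a9], [.a9]⟩,
  ⟨2048, [.a11], [.a11]⟩]
theorem bad688 (c : CtxF Goal γ) : Bad Goal γ [] P688 :=
  c.toCtx.bnd (B := B688) (D := D688) (I := [4, 5, 0, 1, 2, 6]) (r := 3) (C := C688) (N := N688) (by decide +kernel) (by decide +kernel) (by decide +kernel) (by decide +kernel)
    (allB_cons (bad240 c) (allB_cons (bad276 c) (allB_cons (bad298 c) (allB_cons (bad313 c) (allB_cons (bad313 c) (allB_cons (bad318 c) (allB_cons (bad318 c) (allB_nil))))))))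

def P689 : List Ent := [⟨4, [.a2], [.a2]⟩,
  ⟨8, [.a3, .a7, .a11], [.a3, .a5, .a7, .a11]⟩,
  ⟨32, [.a5], [.a5]⟩,
  ⟨64, [.a6], [.a6]⟩,
  ⟨256, [.a8], [.a8]⟩,
  ⟨512, [.a9], [.a9]⟩]
def B689 : List Gv := [⟨[.a2], [.a2]⟩, ⟨[.a3, .a7, .a11], [.a3, .a5, .a7, .a11]⟩, ⟨[.a6], [.a6]⟩, ⟨[.a9], [.a9]⟩]
def D689 : List Dv := [⟨[.a5, .a6, .a8], [1, 0], [0, 1]⟩,
  ⟨[.a8], [3, 0, 2, 2], []⟩,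
  ⟨[.a5], [1], [4, 0]⟩]
def C689 : List Ch := [⟨P241, 0, [], []⟩,
  ⟨P281, 1, [.a0], [.a0]⟩,
  ⟨P298, 0, [.a10], [.a10, .a11]⟩,
  ⟨P320, 2, [], []⟩,
  ⟨P321, 0, [], []⟩,
  ⟨P320, 1, [.a1], [.a1, .a2]⟩,
  ⟨P321, 0, [.a1], [.a1, .a2]⟩,
  ⟨P314, 3, [], []⟩,
  ⟨P316, 0, [], []⟩,
  ⟨P314, 1, [.a1], [.a1, .a2]⟩,
  ⟨P316, 0, [.a1], [.a1, .a2]⟩,
  ⟨P320, 2, [.a1, .a3, .a4], [.a1, .a2, .a4, .a5]⟩,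
  ⟨P321, 0, [.a1, .a3, .a4], [.a1, .a2, .a4, .a5]⟩,
  ⟨P320, 1, [.a4], [.a4, .a5]⟩,
  ⟨P321, 0, [.a4], [.a4, .a5]⟩]
def N689 : List Ent := [⟨2, [.a1], [.a1, .a2]⟩,
  ⟨4, [.a2], [.a2]⟩,
  ⟨8, [.a3, .a7, .a11], [.a3, .a5, .a7, .a11]⟩,
  ⟨16, [.a4], [.a4, .a5]⟩,
  ⟨32, [.a5], [.a5]⟩,
  ⟨64, [.a6], [.a6]⟩,
  ⟨128, [.a7], [.a7, .a8]⟩,
  ⟨256, [.a8], [.a8]⟩,
  ⟨512, [.a9], [.a9]⟩,
  ⟨2048, [.a11], [.a11]⟩]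
theorem bad689 (c : CtxF Goal γ) : Bad Goal γ [] P689 :=
  c.toCtx.bnd (B := B689) (D := D689) (I := [3, 4, 0, 5, 1, 6]) (r := 4) (C := C689) (N := N689) (by decide +kernel) (by decide +kernel) (by decide +kernel) (by decide +kernel)
    (allB_cons (bad241 c) (allB_cons (bad281 c) (allB_cons (bad298 c) (allB_cons (bad320 c) (allB_cons (bad321 c) (allB_cons (bad320 c) (allB_cons (bad321 c) (allB_cons (bad314 c) (allB_cons (bad316 c) (allB_cons (bad314 c) (allB_cons (bad316 c) (allB_cons (bad320 c) (allB_cons (bad321 c) (allB_cons (bad320 c) (allB_cons (bad321 c) (allB_nil))))))))))))))))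

def P690 : List Ent := [⟨4, [.a2], [.a2]⟩,
  ⟨8, [.a3], [.a3]⟩,
  ⟨32, [.a5], [.a5]⟩,
  ⟨64, [.a6], [.a6]⟩,
  ⟨128, [.a7], [.a7, .a8]⟩,
  ⟨256, [.a8], [.a8]⟩]
def B690 : List Gv := [⟨[.a2], [.a2]⟩, ⟨[.a3], [.a3]⟩, ⟨[.a6], [.a6]⟩, ⟨[.a7], [.a7, .a8]⟩]
def D690 : List Dv := [⟨[.a5], [3, 1], [1, 3]⟩,
  ⟨[.a8], [4, 4], []⟩]
def C690 : List Ch := [⟨P243, 0, [], []⟩,
  ⟨P303, 1, [], []⟩,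
  ⟨P310, 0, [.a10], [.a10, .a11]⟩,
  ⟨P322, 2, [], []⟩,
  ⟨P322, 0, [.a11], [.a11]⟩,
  ⟨P323, 1, [], []⟩,
  ⟨P323, 0, [.a11], [.a11]⟩,
  ⟨P286, 3, [], []⟩,
  ⟨P243, 0, [.a0], [.a0]⟩,
  ⟨P303, 1, [.a0], [.a0]⟩,
  ⟨P317, 0, [.a10], [.a10, .a11]⟩,
  ⟨P322, 2, [.a4], [.a4, .a5]⟩,
  ⟨P322, 0, [.a0, .a1, .a3, .a5, .a6, .a7, .a8, .a9, .a11], [.a0, .a1, .a2, .a3, .a4, .a6, .a8, .a9, .a11]⟩,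
  ⟨P323, 1, [.a0], [.a0]⟩,
  ⟨P323, 0, [.a0, .a2, .a3, .a4, .a5, .a6, .a7, .a9, .a11], [.a0, .a11]⟩]
def N690 : List Ent := [⟨1, [.a0], [.a0]⟩,
  ⟨2, [.a1], [.a1, .a2]⟩,
  ⟨4, [.a2], [.a2]⟩,
  ⟨8, [.a3], [.a3]⟩,
  ⟨16, [.a4], [.a4, .a5]⟩,
  ⟨32, [.a5], [.a5]⟩,
  ⟨64, [.a6], [.a6]⟩,
  ⟨128, [.a7], [.a7, .a8]⟩,
  ⟨256, [.a8], [.a8]⟩,
  ⟨512, [.a9], [.a9]⟩,
  ⟨2048, [.a11], [.a11]⟩]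
theorem bad690 (c : CtxF Goal γ) : Bad Goal γ [] P690 :=
  c.toCtx.bnd (B := B690) (D := D690) (I := [2, 3, 1, 4, 5, 0]) (r := 4) (C := C690) (N := N690) (by decide +kernel) (by decide +kernel) (by decide +kernel) (by decide +kernel)
    (allB_cons (bad243 c) (allB_cons (bad303 c) (allB_cons (bad310 c) (allB_cons (bad322 c) (allB_cons (bad322 c) (allB_cons (bad323 c) (allB_cons (bad323 c) (allB_cons (bad286 c) (allB_cons (bad243 c) (allB_cons (bad303 c) (allB_cons (bad317 c) (allB_cons (bad322 c) (allB_cons (bad322 c) (allB_cons (bad323 c) (allB_cons (bad323 c) (allB_nil))))))))))))))))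

def P691 : List Ent := [⟨4, [.a2, .a11], [.a2, .a5, .a6, .a8, .a11]⟩,
  ⟨8, [.a3], [.a3]⟩,
  ⟨32, [.a5], [.a5]⟩,
  ⟨64, [.a6], [.a6]⟩,
  ⟨128, [.a7], [.a7, .a8]⟩,
  ⟨256, [.a8], [.a8]⟩]
def B691 : List Gv := [⟨[.a2, .a11], [.a2, .a5, .a6, .a8, .a11]⟩, ⟨[.a3], [.a3]⟩, ⟨[.a7], [.a7, .a8]⟩]
def D691 : List Dv := [⟨[.a5, .a6, .a8], [0, 0], []⟩,
  ⟨[.a8], [2, 1], [1, 2]⟩,
  ⟨[.a6, .a8], [1, 4, 3], [3, 4]⟩,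
  ⟨[.a6], [0], [1]⟩,
  ⟨[.a5], [3], [0, 2]⟩]
def C691 : List Ch := [⟨P243, 0, [], []⟩,
  ⟨P304, 1, [], []⟩,
  ⟨P312, 0, [.a10], [.a10, .a11]⟩,
  ⟨P274, 2, [.a0, .a1], [.a0, .a1, .a2]⟩,
  ⟨P296, 0, [], []⟩,
  ⟨P313, 1, [], []⟩,
  ⟨P318, 0, [.a10], [.a10, .a11]⟩]
def N691 : List Ent := [⟨4, [.a2, .a11], [.a2, .a5, .a6, .a8, .a11]⟩,
  ⟨8, [.a3], [.a3]⟩,
  ⟨16, [.a4], [.a4, .a5]⟩,
  ⟨32, [.a5], [.a5]⟩,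
  ⟨64, [.a6], [.a6]⟩,
  ⟨128, [.a7], [.a7, .a8]⟩,
  ⟨256, [.a8], [.a8]⟩,
  ⟨512, [.a9], [.a9]⟩,
  ⟨2048, [.a11], [.a11]⟩]
theorem bad691 (c : CtxF Goal γ) : Bad Goal γ [] P691 :=
  c.toCtx.bnd (B := B691) (D := D691) (I := [5, 6, 0, 1, 7, 3]) (r := 3) (C := C691) (N := N691) (by decide +kernel) (by decide +kernel) (by decide +kernel) (by decide +kernel)
    (allB_cons (bad243 c) (allB_cons (bad304 c) (allB_cons (bad312 c) (allB_cons (bad274 c) (allB_cons (bad296 c) (allB_cons (bad313 c) (allB_cons (bad318 c) (allB_nil))))))))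

def P692 : List Ent := [⟨4, [.a2], [.a2]⟩,
  ⟨8, [.a3, .a11], [.a3, .a8, .a11]⟩,
  ⟨32, [.a5], [.a5]⟩,
  ⟨64, [.a6], [.a6]⟩,
  ⟨128, [.a7], [.a7, .a8]⟩,
  ⟨256, [.a8], [.a8]⟩]
def B692 : List Gv := [⟨[.a2], [.a2]⟩, ⟨[.a3, .a11], [.a3, .a8, .a11]⟩, ⟨[.a7], [.a7, .a8]⟩]
def D692 : List Dv := [⟨[.a5, .a6, .a8], [1, 0], [0, 1]⟩,
  ⟨[.a8], [2, 2], []⟩,
  ⟨[.a6, .a8], [1, 4, 3], [3, 4]⟩,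
  ⟨[.a6], [0], [1]⟩,
  ⟨[.a5], [3], [0, 2]⟩]
def C692 : List Ch := [⟨P246, 0, [], []⟩,
  ⟨P303, 1, [], []⟩,
  ⟨P312, 0, [.a10], [.a10, .a11]⟩,
  ⟨P282, 2, [.a1], [.a1, .a2]⟩,
  ⟨P293, 0, [.a1], [.a1, .a2]⟩,
  ⟨P314, 1, [], []⟩,
  ⟨P267, 0, [.a0, .a1], [.a0, .a1, .a2]⟩]
def N692 : List Ent := [⟨4, [.a2], [.a2]⟩,
  ⟨8, [.a3, .a11], [.a3, .a8, .a11]⟩,
  ⟨16, [.a4], [.a4, .a5]⟩,
  ⟨32, [.a5], [.a5]⟩,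
  ⟨64, [.a6], [.a6]⟩,
  ⟨128, [.a7], [.a7, .a8]⟩,
  ⟨256, [.a8], [.a8]⟩,
  ⟨512, [.a9], [.a9]⟩,
  ⟨2048, [.a11], [.a11]⟩]
theorem bad692 (c : CtxF Goal γ) : Bad Goal γ [] P692 :=
  c.toCtx.bnd (B := B692) (D := D692) (I := [5, 6, 0, 1, 7, 3]) (r := 3) (C := C692) (N := N692) (by decide +kernel) (by decide +kernel) (by decide +kernel) (by decide +kernel)
    (allB_cons (bad246 c) (allB_cons (bad303 c) (allB_cons (bad312 c) (allB_cons (bad282 c) (allB_cons (bad293 c) (allB_cons (bad314 c) (allB_cons (bad267 c) (allB_nil))))))))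

def P693 : List Ent := [⟨4, [.a2, .a11], [.a2, .a5, .a6, .a8, .a11]⟩,
  ⟨8, [.a3, .a11], [.a3, .a8, .a11]⟩,
  ⟨32, [.a5], [.a5]⟩,
  ⟨64, [.a6], [.a6]⟩,
  ⟨128, [.a7], [.a7, .a8]⟩,
  ⟨256, [.a8], [.a8]⟩]
def B693 : List Gv := [⟨[.a2, .a11], [.a2, .a5, .a6, .a8, .a11]⟩, ⟨[.a3, .a11], [.a3, .a8, .a11]⟩, ⟨[.a7], [.a7, .a8]⟩]
def D693 : List Dv := [⟨[.a5, .a6, .a8], [0, 0], []⟩,
  ⟨[.a8], [0, 2, 1], [1, 2]⟩,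
  ⟨[.a6, .a8], [1, 4, 3], [3, 4]⟩,
  ⟨[.a6], [0], [1]⟩,
  ⟨[.a5], [3], [0, 2]⟩]
def C693 : List Ch := [⟨P246, 0, [], []⟩,
  ⟨P304, 1, [], []⟩,
  ⟨P310, 0, [.a10], [.a10, .a11]⟩,
  ⟨P282, 2, [.a1, .a10], [.a1, .a2, .a4, .a5, .a7, .a9, .a10, .a11]⟩,
  ⟨P297, 0, [], []⟩,
  ⟨P224, 1, [.a0, .a1], [.a0, .a1, .a2]⟩,
  ⟨P314, 0, [.a1, .a10], [.a1, .a2, .a4, .a5, .a7, .a9, .a10, .a11]⟩]
def N693 : List Ent := [⟨4, [.a2, .a11], [.a2, .a5, .a6, .a8, .a11]⟩,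
  ⟨8, [.a3, .a11], [.a3, .a8, .a11]⟩,
  ⟨16, [.a4], [.a4, .a5]⟩,
  ⟨32, [.a5], [.a5]⟩,
  ⟨64, [.a6], [.a6]⟩,
  ⟨128, [.a7], [.a7, .a8]⟩,
  ⟨256, [.a8], [.a8]⟩,
  ⟨512, [.a9], [.a9]⟩,
  ⟨2048, [.a11], [.a11]⟩]
theorem bad693 (c : CtxF Goal γ) : Bad Goal γ [] P693 :=
  c.toCtx.bnd (B := B693) (D := D693) (I := [5, 6, 0, 1, 7, 3]) (r := 3) (C := C693) (N := N693) (by decide +kernel) (by decide +kernel) (by decide +kernel) (by decide +kernel)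
    (allB_cons (bad246 c) (allB_cons (bad304 c) (allB_cons (bad310 c) (allB_cons (bad282 c) (allB_cons (bad297 c) (allB_cons (bad224 c) (allB_cons (bad314 c) (allB_nil))))))))

def P694 : List Ent := [⟨4, [.a2], [.a2]⟩,
  ⟨8, [.a3], [.a3]⟩,
  ⟨32, [.a5], [.a5]⟩,
  ⟨64, [.a6], [.a6]⟩,
  ⟨128, [.a7, .a11], [.a7, .a8, .a11]⟩,
  ⟨256, [.a8], [.a8]⟩]
def B694 : List Gv := [⟨[.a2], [.a2]⟩, ⟨[.a3], [.a3]⟩, ⟨[.a7, .a11], [.a7, .a8, .a11]⟩]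
def D694 : List Dv := [⟨[.a5, .a6, .a8], [2, 0], [0, 2]⟩,
  ⟨[.a6], [0, 3, 2], [2, 3]⟩,
  ⟨[.a8], [4, 4], []⟩,
  ⟨[.a5], [2], [1, 0]⟩]
theorem bad694 (c : CtxF Goal γ) : Bad Goal γ [] P694 :=
  c.toCtx.cent (B := B694) (D := D694) (I := [4, 5, 0, 2, 6, 1]) (z := [.a2, .a3, .a4]) (by decide +kernel) (by decide +kernel)

def P695 : List Ent := [⟨4, [.a2], [.a2]⟩,
  ⟨8, [.a3, .a11], [.a3, .a8, .a11]⟩,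
  ⟨32, [.a5], [.a5]⟩,
  ⟨64, [.a6], [.a6]⟩,
  ⟨128, [.a7, .a11], [.a7, .a8, .a11]⟩,
  ⟨256, [.a8], [.a8]⟩]
def B695 : List Gv := [⟨[.a2], [.a2]⟩, ⟨[.a3, .a11], [.a3, .a8, .a11]⟩, ⟨[.a7, .a11], [.a7, .a8, .a11]⟩]
def D695 : List Dv := [⟨[.a5, .a6, .a8], [1, 0], [0, 1]⟩,
  ⟨[.a8], [2, 2], []⟩,
  ⟨[.a6], [1, 4, 3], [3, 4]⟩,
  ⟨[.a5], [2], [0, 1]⟩]
def C695 : List Ch := [⟨P250, 0, [], []⟩,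
  ⟨P306, 1, [], []⟩,
  ⟨P228, 0, [.a0], [.a0]⟩,
  ⟨P282, 2, [.a1], [.a1, .a2]⟩,
  ⟨P297, 0, [], []⟩,
  ⟨P303, 1, [.a0], [.a0]⟩,
  ⟨P318, 0, [.a10], [.a10, .a11]⟩]
def N695 : List Ent := [⟨4, [.a2], [.a2]⟩,
  ⟨8, [.a3, .a11], [.a3, .a8, .a11]⟩,
  ⟨16, [.a4], [.a4, .a5]⟩,
  ⟨32, [.a5], [.a5]⟩,
  ⟨64, [.a6], [.a6]⟩,
  ⟨128, [.a7, .a11], [.a7, .a8, .a11]⟩,
  ⟨256, [.a8], [.a8]⟩,
  ⟨512, [.a9], [.a9]⟩,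
  ⟨2048, [.a11], [.a11]⟩]
theorem bad695 (c : CtxF Goal γ) : Bad Goal γ [] P695 :=
  c.toCtx.bnd (B := B695) (D := D695) (I := [4, 5, 0, 1, 6, 2]) (r := 3) (C := C695) (N := N695) (by decide +kernel) (by decide +kernel) (by decide +kernel) (by decide +kernel)
    (allB_cons (bad250 c) (allB_cons (bad306 c) (allB_cons (bad228 c) (allB_cons (bad282 c) (allB_cons (bad297 c) (allB_cons (bad303 c) (allB_cons (bad318 c) (allB_nil))))))))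

def P696 : List Ent := [⟨4, [.a2, .a11], [.a2, .a5, .a6, .a8, .a11]⟩,
  ⟨8, [.a3, .a11], [.a3, .a8, .a11]⟩,
  ⟨32, [.a5], [.a5]⟩,
  ⟨64, [.a6], [.a6]⟩,
  ⟨128, [.a7, .a11], [.a7, .a8, .a11]⟩,
  ⟨256, [.a8], [.a8]⟩]
def B696 : List Gv := [⟨[.a2, .a11], [.a2, .a5, .a6, .a8, .a11]⟩, ⟨[.a3, .a11], [.a3, .a8, .a11]⟩, ⟨[.a7, .a11], [.a7, .a8, .a11]⟩]
def D696 : List Dv := [⟨[.a5, .a6, .a8], [0, 0], []⟩,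
  ⟨[.a8], [0, 2, 1], [1, 2]⟩,
  ⟨[.a6], [1, 4, 3], [3, 4]⟩,
  ⟨[.a5], [2], [0, 1]⟩]
def C696 : List Ch := [⟨P250, 0, [], []⟩,
  ⟨P271, 1, [.a0], [.a0]⟩,
  ⟨P306, 0, [.a1, .a10], [.a1, .a2, .a4, .a5, .a7, .a9, .a10, .a11]⟩,
  ⟨P282, 2, [.a1, .a10], [.a1, .a2, .a4, .a5, .a7, .a9, .a10, .a11]⟩,
  ⟨P293, 0, [.a1], [.a1, .a2]⟩,
  ⟨P313, 1, [], []⟩,
  ⟨P317, 0, [.a10], [.a10, .a11]⟩]
def N696 : List Ent := [⟨4, [.a2, .a11], [.a2, .a5, .a6, .a8, .a11]⟩,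
  ⟨8, [.a3, .a11], [.a3, .a8, .a11]⟩,
  ⟨16, [.a4], [.a4, .a5]⟩,
  ⟨32, [.a5], [.a5]⟩,
  ⟨64, [.a6], [.a6]⟩,
  ⟨128, [.a7, .a11], [.a7, .a8, .a11]⟩,
  ⟨256, [.a8], [.a8]⟩,
  ⟨512, [.a9], [.a9]⟩,
  ⟨2048, [.a11], [.a11]⟩]
theorem bad696 (c : CtxF Goal γ) : Bad Goal γ [] P696 :=
  c.toCtx.bnd (B := B696) (D := D696) (I := [4, 5, 0, 1, 6, 2]) (r := 3) (C := C696) (N := N696) (by decide +kernel) (by decide +kernel) (by decide +kernel) (by decide +kernel)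
    (allB_cons (bad250 c) (allB_cons (bad271 c) (allB_cons (bad306 c) (allB_cons (bad282 c) (allB_cons (bad293 c) (allB_cons (bad313 c) (allB_cons (bad317 c) (allB_nil))))))))

def P697 : List Ent := [⟨4, [.a2, .a9], [.a2, .a5, .a9]⟩,
  ⟨8, [.a3], [.a3]⟩,
  ⟨32, [.a5], [.a5]⟩,
  ⟨64, [.a6], [.a6]⟩,
  ⟨128, [.a7], [.a7, .a8]⟩,
  ⟨256, [.a8], [.a8]⟩]
def B697 : List Gv := [⟨[.a2, .a9], [.a2, .a5, .a9]⟩, ⟨[.a3], [.a3]⟩, ⟨[.a6], [.a6]⟩, ⟨[.a7], [.a7, .a8]⟩]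
def D697 : List Dv := [⟨[.a5], [0, 0], []⟩,
  ⟨[.a8], [4, 4], []⟩]
def C697 : List Ch := [⟨P243, 0, [], []⟩,
  ⟨P307, 1, [], []⟩,
  ⟨P311, 0, [.a10], [.a10, .a11]⟩,
  ⟨P324, 2, [], []⟩,
  ⟨P324, 0, [.a1], [.a1, .a2]⟩,
  ⟨P324, 1, [.a0, .a2, .a4, .a5, .a6, .a9, .a10], [.a0, .a1, .a2, .a10, .a11]⟩,
  ⟨P324, 0, [.a0, .a1, .a2, .a4, .a5, .a6, .a7, .a8, .a9, .a10], [.a0, .a4, .a5, .a10, .a11]⟩,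
  ⟨P278, 3, [], []⟩,
  ⟨P243, 0, [.a0, .a1, .a3, .a5, .a6, .a7, .a8, .a9, .a10], [.a0, .a10, .a11]⟩,
  ⟨P315, 1, [], []⟩,
  ⟨P311, 0, [.a0], [.a0]⟩,
  ⟨P324, 2, [.a4], [.a4, .a5]⟩,
  ⟨P324, 0, [.a1, .a3, .a4], [.a1, .a2, .a4, .a5]⟩,
  ⟨P324, 1, [.a0, .a10], [.a0, .a1, .a2, .a3, .a4, .a6, .a8, .a9, .a10, .a11]⟩,
  ⟨P324, 0, [.a0, .a1, .a3, .a5, .a6, .a7, .a8, .a9, .a10], [.a0, .a10, .a11]⟩]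
def N697 : List Ent := [⟨1, [.a0, .a10], [.a0, .a1, .a2, .a3, .a4, .a6, .a8, .a9, .a10, .a11]⟩,
  ⟨2, [.a1], [.a1, .a2]⟩,
  ⟨4, [.a2, .a9], [.a2, .a5, .a9]⟩,
  ⟨8, [.a3], [.a3]⟩,
  ⟨16, [.a4], [.a4, .a5]⟩,
  ⟨32, [.a5], [.a5]⟩,
  ⟨64, [.a6], [.a6]⟩,
  ⟨128, [.a7], [.a7, .a8]⟩,
  ⟨256, [.a8], [.a8]⟩,
  ⟨512, [.a9], [.a9]⟩,
  ⟨2048, [.a11], [.a11]⟩]
theorem bad697 (c : CtxF Goal γ) : Bad Goal γ [] P697 :=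
  c.toCtx.bnd (B := B697) (D := D697) (I := [2, 3, 1, 4, 5, 0]) (r := 4) (C := C697) (N := N697) (by decide +kernel) (by decide +kernel) (by decide +kernel) (by decide +kernel)
    (allB_cons (bad243 c) (allB_cons (bad307 c) (allB_cons (bad311 c) (allB_cons (bad324 c) (allB_cons (bad324 c) (allB_cons (bad324 c) (allB_cons (bad324 c) (allB_cons (bad278 c) (allB_cons (bad243 c) (allB_cons (bad315 c) (allB_cons (bad311 c) (allB_cons (bad324 c) (allB_cons (bad324 c) (allB_cons (bad324 c) (allB_cons (bad324 c) (allB_nil))))))))))))))))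

def P698 : List Ent := [⟨4, [.a2, .a9], [.a2, .a5, .a9]⟩,
  ⟨8, [.a3, .a11], [.a3, .a8, .a11]⟩,
  ⟨32, [.a5], [.a5]⟩,
  ⟨64, [.a6], [.a6]⟩,
  ⟨128, [.a7], [.a7, .a8]⟩,
  ⟨256, [.a8], [.a8]⟩]
def B698 : List Gv := [⟨[.a2, .a9], [.a2, .a5, .a9]⟩, ⟨[.a3, .a11], [.a3, .a8, .a11]⟩, ⟨[.a7], [.a7, .a8]⟩]
def D698 : List Dv := [⟨[.a5], [0, 0], []⟩,
  ⟨[.a6, .a8], [0, 2, 1], [1, 2]⟩,
  ⟨[.a8], [3, 3], []⟩,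
  ⟨[.a6], [1], [0]⟩]
def C698 : List Ch := [⟨P246, 0, [], []⟩,
  ⟨P307, 1, [], []⟩,
  ⟨P312, 0, [.a1, .a10], [.a1, .a2, .a4, .a5, .a7, .a9, .a10, .a11]⟩,
  ⟨P279, 2, [], []⟩,
  ⟨P297, 0, [.a10], [.a10, .a11]⟩,
  ⟨P316, 1, [], []⟩,
  ⟨P224, 0, [.a0, .a1, .a3, .a5, .a6, .a7, .a8, .a9, .a10], [.a0, .a10, .a11]⟩]
def N698 : List Ent := [⟨4, [.a2, .a9], [.a2, .a5, .a9]⟩,
  ⟨8, [.a3, .a11], [.a3, .a8, .a11]⟩,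
  ⟨16, [.a4], [.a4, .a5]⟩,
  ⟨32, [.a5], [.a5]⟩,
  ⟨64, [.a6], [.a6]⟩,
  ⟨128, [.a7], [.a7, .a8]⟩,
  ⟨256, [.a8], [.a8]⟩,
  ⟨512, [.a9], [.a9]⟩,
  ⟨2048, [.a11], [.a11]⟩]
theorem bad698 (c : CtxF Goal γ) : Bad Goal γ [] P698 :=
  c.toCtx.bnd (B := B698) (D := D698) (I := [4, 5, 3, 0, 6, 1]) (r := 3) (C := C698) (N := N698) (by decide +kernel) (by decide +kernel) (by decide +kernel) (by decide +kernel)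
    (allB_cons (bad246 c) (allB_cons (bad307 c) (allB_cons (bad312 c) (allB_cons (bad279 c) (allB_cons (bad297 c) (allB_cons (bad316 c) (allB_cons (bad224 c) (allB_nil))))))))

def P699 : List Ent := [⟨4, [.a2, .a9, .a11], [.a2, .a6, .a8, .a9, .a11]⟩,
  ⟨8, [.a3, .a11], [.a3, .a8, .a11]⟩,
  ⟨32, [.a5], [.a5]⟩,
  ⟨64, [.a6], [.a6]⟩,
  ⟨128, [.a7], [.a7, .a8]⟩,
  ⟨256, [.a8], [.a8]⟩]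
def B699 : List Gv := [⟨[.a2, .a9, .a11], [.a2, .a6, .a8, .a9, .a11]⟩, ⟨[.a3, .a11], [.a3, .a8, .a11]⟩, ⟨[.a7], [.a7, .a8]⟩]
def D699 : List Dv := [⟨[.a6, .a8], [0, 0], []⟩,
  ⟨[.a5, .a6], [2, 1], [1, 2]⟩,
  ⟨[.a8], [3, 3], []⟩,
  ⟨[.a6], [2], [0]⟩,
  ⟨[.a5], [2], [0]⟩]
def C699 : List Ch := [⟨P246, 0, [], []⟩,
  ⟨P304, 1, [.a1], [.a1, .a2]⟩,
  ⟨P311, 0, [.a10], [.a10, .a11]⟩,
  ⟨P279, 2, [.a10], [.a10, .a11]⟩,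
  ⟨P293, 0, [.a1, .a10], [.a1, .a2, .a4, .a5, .a7, .a9, .a10, .a11]⟩,
  ⟨P267, 1, [.a0, .a1, .a3, .a5, .a6, .a7, .a8, .a9, .a10], [.a0, .a10, .a11]⟩,
  ⟨P316, 0, [.a1, .a10], [.a1, .a2, .a4, .a5, .a7, .a9, .a10, .a11]⟩]
def N699 : List Ent := [⟨4, [.a2, .a9, .a11], [.a2, .a6, .a8, .a9, .a11]⟩,
  ⟨8, [.a3, .a11], [.a3, .a8, .a11]⟩,
  ⟨16, [.a4], [.a4, .a5]⟩,
  ⟨32, [.a5], [.a5]⟩,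
  ⟨64, [.a6], [.a6]⟩,
  ⟨128, [.a7], [.a7, .a8]⟩,
  ⟨256, [.a8], [.a8]⟩,
  ⟨512, [.a9], [.a9]⟩,
  ⟨2048, [.a11], [.a11]⟩]
theorem bad699 (c : CtxF Goal γ) : Bad Goal γ [] P699 :=
  c.toCtx.bnd (B := B699) (D := D699) (I := [5, 6, 0, 1, 7, 2]) (r := 3) (C := C699) (N := N699) (by decide +kernel) (by decide +kernel) (by decide +kernel) (by decide +kernel)
    (allB_cons (bad246 c) (allB_cons (bad304 c) (allB_cons (bad311 c) (allB_cons (bad279 c) (allB_cons (bad293 c) (allB_cons (bad267 c) (allB_cons (bad316 c) (allB_nil))))))))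

def P700 : List Ent := [⟨4, [.a2, .a9], [.a2, .a5, .a9]⟩,
  ⟨8, [.a3], [.a3]⟩,
  ⟨32, [.a5], [.a5]⟩,
  ⟨64, [.a6], [.a6]⟩,
  ⟨128, [.a7, .a11], [.a7, .a8, .a11]⟩,
  ⟨256, [.a8], [.a8]⟩]
def B700 : List Gv := [⟨[.a2, .a9], [.a2, .a5, .a9]⟩, ⟨[.a3], [.a3]⟩, ⟨[.a7, .a11], [.a7, .a8, .a11]⟩]
def D700 : List Dv := [⟨[.a5], [0, 0], []⟩,
  ⟨[.a6, .a8], [0, 3, 1], [1, 3]⟩,
  ⟨[.a8], [1, 4, 3], [3, 4]⟩,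
  ⟨[.a6], [1], [0]⟩]
def C700 : List Ch := [⟨P248, 0, [], []⟩,
  ⟨P308, 1, [], []⟩,
  ⟨P308, 0, [.a1, .a10], [.a1, .a2, .a4, .a5, .a7, .a9, .a10, .a11]⟩,
  ⟨P278, 2, [], []⟩,
  ⟨P296, 0, [.a10], [.a10, .a11]⟩,
  ⟨P316, 1, [], []⟩,
  ⟨P316, 0, [.a1, .a10], [.a1, .a2, .a4, .a5, .a7, .a9, .a10, .a11]⟩]
def N700 : List Ent := [⟨2, [.a1, .a10], [.a1, .a2, .a4, .a5, .a7, .a9, .a10, .a11]⟩,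
  ⟨4, [.a2, .a9], [.a2, .a5, .a9]⟩,
  ⟨8, [.a3], [.a3]⟩,
  ⟨16, [.a4], [.a4, .a5]⟩,
  ⟨32, [.a5], [.a5]⟩,
  ⟨64, [.a6], [.a6]⟩,
  ⟨128, [.a7, .a11], [.a7, .a8, .a11]⟩,
  ⟨256, [.a8], [.a8]⟩,
  ⟨512, [.a9], [.a9]⟩,
  ⟨2048, [.a11], [.a11]⟩]
theorem bad700 (c : CtxF Goal γ) : Bad Goal γ [] P700 :=
  c.toCtx.bnd (B := B700) (D := D700) (I := [4, 5, 3, 0, 6, 1]) (r := 3) (C := C700) (N := N700) (by decide +kernel) (by decide +kernel) (by decide +kernel) (by decide +kernel)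
    (allB_cons (bad248 c) (allB_cons (bad308 c) (allB_cons (bad308 c) (allB_cons (bad278 c) (allB_cons (bad296 c) (allB_cons (bad316 c) (allB_cons (bad316 c) (allB_nil))))))))

def P701 : List Ent := [⟨4, [.a2, .a9], [.a2, .a5, .a9]⟩,
  ⟨8, [.a3, .a11], [.a3, .a8, .a11]⟩,
  ⟨32, [.a5], [.a5]⟩,
  ⟨64, [.a6], [.a6]⟩,
  ⟨128, [.a7, .a11], [.a7, .a8, .a11]⟩,
  ⟨256, [.a8], [.a8]⟩]
def B701 : List Gv := [⟨[.a2, .a9], [.a2, .a5, .a9]⟩, ⟨[.a3, .a11], [.a3, .a8, .a11]⟩, ⟨[.a7, .a11], [.a7, .a8, .a11]⟩]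
def D701 : List Dv := [⟨[.a5], [0, 0], []⟩,
  ⟨[.a6, .a8], [0, 2, 1], [1, 2]⟩,
  ⟨[.a8], [3, 3], []⟩,
  ⟨[.a6], [1], [0]⟩]
def C701 : List Ch := [⟨P250, 0, [], []⟩,
  ⟨P308, 1, [], []⟩,
  ⟨P271, 0, [.a0, .a10], [.a0, .a1, .a2, .a3, .a4, .a6, .a8, .a9, .a10, .a11]⟩,
  ⟨P279, 2, [], []⟩,
  ⟨P293, 0, [.a1, .a10], [.a1, .a2, .a4, .a5, .a7, .a9, .a10, .a11]⟩,
  ⟨P315, 1, [], []⟩,
  ⟨P318, 0, [.a1, .a10], [.a1, .a2, .a4, .a5, .a7, .a9, .a10, .a11]⟩]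
def N701 : List Ent := [⟨4, [.a2, .a9], [.a2, .a5, .a9]⟩,
  ⟨8, [.a3, .a11], [.a3, .a8, .a11]⟩,
  ⟨16, [.a4], [.a4, .a5]⟩,
  ⟨32, [.a5], [.a5]⟩,
  ⟨64, [.a6], [.a6]⟩,
  ⟨128, [.a7, .a11], [.a7, .a8, .a11]⟩,
  ⟨256, [.a8], [.a8]⟩,
  ⟨512, [.a9], [.a9]⟩,
  ⟨2048, [.a11], [.a11]⟩]
theorem bad701 (c : CtxF Goal γ) : Bad Goal γ [] P701 :=
  c.toCtx.bnd (B := B701) (D := D701) (I := [4, 5, 3, 0, 6, 1]) (r := 3) (C := C701) (N := N701) (by decide +kernel) (by decide +kernel) (by decide +kernel) (by decide +kernel)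
    (allB_cons (bad250 c) (allB_cons (bad308 c) (allB_cons (bad271 c) (allB_cons (bad279 c) (allB_cons (bad293 c) (allB_cons (bad315 c) (allB_cons (bad318 c) (allB_nil))))))))

def P702 : List Ent := [⟨4, [.a2, .a9, .a11], [.a2, .a6, .a8, .a9, .a11]⟩,
  ⟨8, [.a3, .a11], [.a3, .a8, .a11]⟩,
  ⟨32, [.a5], [.a5]⟩,
  ⟨64, [.a6], [.a6]⟩,
  ⟨128, [.a7, .a11], [.a7, .a8, .a11]⟩,
  ⟨256, [.a8], [.a8]⟩]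
def B702 : List Gv := [⟨[.a2, .a9, .a11], [.a2, .a6, .a8, .a9, .a11]⟩, ⟨[.a3, .a11], [.a3, .a8, .a11]⟩, ⟨[.a7, .a11], [.a7, .a8, .a11]⟩]
def D702 : List Dv := [⟨[.a6, .a8], [0, 0], []⟩,
  ⟨[.a5, .a6], [2, 1], [1, 2]⟩,
  ⟨[.a8], [3, 3], []⟩,
  ⟨[.a6], [2], [0]⟩,
  ⟨[.a5], [2], [0]⟩]
def C702 : List Ch := [⟨P250, 0, [], []⟩,
  ⟨P228, 1, [.a0, .a10], [.a0, .a1, .a2, .a3, .a4, .a6, .a8, .a9, .a10, .a11]⟩,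
  ⟨P308, 0, [.a1, .a10], [.a1, .a2, .a4, .a5, .a7, .a9, .a10, .a11]⟩,
  ⟨P279, 2, [.a10], [.a10, .a11]⟩,
  ⟨P297, 0, [.a10], [.a10, .a11]⟩,
  ⟨P313, 1, [.a1], [.a1, .a2]⟩,
  ⟨P311, 0, [.a0], [.a0]⟩]
def N702 : List Ent := [⟨4, [.a2, .a9, .a11], [.a2, .a6, .a8, .a9, .a11]⟩,
  ⟨8, [.a3, .a11], [.a3, .a8, .a11]⟩,
  ⟨16, [.a4], [.a4, .a5]⟩,
  ⟨32, [.a5], [.a5]⟩,
  ⟨64, [.a6], [.a6]⟩,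
  ⟨128, [.a7, .a11], [.a7, .a8, .a11]⟩,
  ⟨256, [.a8], [.a8]⟩,
  ⟨512, [.a9], [.a9]⟩,
  ⟨2048, [.a11], [.a11]⟩]
theorem bad702 (c : CtxF Goal γ) : Bad Goal γ [] P702 :=
  c.toCtx.bnd (B := B702) (D := D702) (I := [5, 6, 0, 1, 7, 2]) (r := 3) (C := C702) (N := N702) (by decide +kernel) (by decide +kernel) (by decide +kernel) (by decide +kernel)
    (allB_cons (bad250 c) (allB_cons (bad228 c) (allB_cons (bad308 c) (allB_cons (bad279 c) (allB_cons (bad297 c) (allB_cons (bad313 c) (allB_cons (bad311 c) (allB_nil))))))))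

def P703 : List Ent := [⟨4, [.a2, .a11], [.a2, .a5, .a6, .a8, .a11]⟩,
  ⟨8, [.a3, .a9], [.a3, .a9]⟩,
  ⟨32, [.a5], [.a5]⟩,
  ⟨64, [.a6], [.a6]⟩,
  ⟨128, [.a7], [.a7, .a8]⟩,
  ⟨256, [.a8], [.a8]⟩]
def B703 : List Gv := [⟨[.a2, .a11], [.a2, .a5, .a6, .a8, .a11]⟩, ⟨[.a3, .a9], [.a3, .a9]⟩, ⟨[.a7], [.a7, .a8]⟩]
def D703 : List Dv := [⟨[.a5, .a6, .a8], [0, 0], []⟩,
  ⟨[.a6], [0, 2, 1], [1, 2]⟩,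
  ⟨[.a8], [0, 1, 4, 3], [3, 4]⟩,
  ⟨[.a5], [2], [1, 0]⟩]
def C703 : List Ch := [⟨P244, 0, [], []⟩,
  ⟨P304, 1, [], []⟩,
  ⟨P312, 0, [.a1, .a10], [.a1, .a2, .a4, .a5, .a7, .a9, .a10, .a11]⟩,
  ⟨P220, 2, [.a0, .a1, .a3, .a5, .a6, .a7, .a8, .a9, .a10], [.a0, .a10, .a11]⟩,
  ⟨P292, 0, [], []⟩,
  ⟨P318, 1, [], []⟩,
  ⟨P313, 0, [.a1, .a10], [.a1, .a2, .a4, .a5, .a7, .a9, .a10, .a11]⟩]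
def N703 : List Ent := [⟨4, [.a2, .a11], [.a2, .a5, .a6, .a8, .a11]⟩,
  ⟨8, [.a3, .a9], [.a3, .a9]⟩,
  ⟨16, [.a4], [.a4, .a5]⟩,
  ⟨32, [.a5], [.a5]⟩,
  ⟨64, [.a6], [.a6]⟩,
  ⟨128, [.a7], [.a7, .a8]⟩,
  ⟨256, [.a8], [.a8]⟩,
  ⟨512, [.a9], [.a9]⟩,
  ⟨2048, [.a11], [.a11]⟩]
theorem bad703 (c : CtxF Goal γ) : Bad Goal γ [] P703 :=
  c.toCtx.bnd (B := B703) (D := D703) (I := [4, 5, 0, 2, 6, 1]) (r := 3) (C := C703) (N := N703) (by decide +kernel) (by decide +kernel) (by decide +kernel) (by decide +kernel)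
    (allB_cons (bad244 c) (allB_cons (bad304 c) (allB_cons (bad312 c) (allB_cons (bad220 c) (allB_cons (bad292 c) (allB_cons (bad318 c) (allB_cons (bad313 c) (allB_nil))))))))

def P704 : List Ent := [⟨4, [.a2], [.a2]⟩,
  ⟨8, [.a3, .a9], [.a3, .a9]⟩,
  ⟨32, [.a5], [.a5]⟩,
  ⟨64, [.a6], [.a6]⟩,
  ⟨128, [.a7, .a11], [.a7, .a8, .a11]⟩,
  ⟨256, [.a8], [.a8]⟩]
def B704 : List Gv := [⟨[.a2], [.a2]⟩, ⟨[.a3, .a9], [.a3, .a9]⟩, ⟨[.a7, .a11], [.a7, .a8, .a11]⟩]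
def D704 : List Dv := [⟨[.a5], [1, 0], [0, 1]⟩,
  ⟨[.a6, .a8], [0, 3, 1], [1, 3]⟩,
  ⟨[.a8], [1, 4, 3], [3, 4]⟩,
  ⟨[.a6], [1], [0]⟩]
def C704 : List Ch := [⟨P214, 0, [.a0], [.a0]⟩,
  ⟨P306, 1, [], []⟩,
  ⟨P308, 0, [.a1, .a10], [.a1, .a2, .a4, .a5, .a7, .a9, .a10, .a11]⟩,
  ⟨P281, 2, [], []⟩,
  ⟨P292, 0, [], []⟩,
  ⟨P314, 1, [.a1], [.a1, .a2]⟩,
  ⟨P316, 0, [.a10], [.a10, .a11]⟩]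
def N704 : List Ent := [⟨4, [.a2], [.a2]⟩,
  ⟨8, [.a3, .a9], [.a3, .a9]⟩,
  ⟨16, [.a4], [.a4, .a5]⟩,
  ⟨32, [.a5], [.a5]⟩,
  ⟨64, [.a6], [.a6]⟩,
  ⟨128, [.a7, .a11], [.a7, .a8, .a11]⟩,
  ⟨256, [.a8], [.a8]⟩,
  ⟨512, [.a9], [.a9]⟩,
  ⟨2048, [.a11], [.a11]⟩]
theorem bad704 (c : CtxF Goal γ) : Bad Goal γ [] P704 :=
  c.toCtx.bnd (B := B704) (D := D704) (I := [4, 5, 3, 0, 6, 1]) (r := 3) (C := C704) (N := N704) (by decide +kernel) (by decide +kernel) (by decide +kernel) (by decide +kernel)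
    (allB_cons (bad214 c) (allB_cons (bad306 c) (allB_cons (bad308 c) (allB_cons (bad281 c) (allB_cons (bad292 c) (allB_cons (bad314 c) (allB_cons (bad316 c) (allB_nil))))))))

def P705 : List Ent := [⟨4, [.a2], [.a2]⟩,
  ⟨8, [.a3], [.a3]⟩,
  ⟨32, [.a5], [.a5]⟩,
  ⟨128, [.a7], [.a7, .a8]⟩,
  ⟨256, [.a8], [.a8]⟩,
  ⟨512, [.a9], [.a9]⟩]
def B705 : List Gv := [⟨[.a2], [.a2]⟩, ⟨[.a3], [.a3]⟩, ⟨[.a7], [.a7, .a8]⟩, ⟨[.a9], [.a9]⟩]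
def D705 : List Dv := [⟨[.a5], [2, 1], [1, 2]⟩,
  ⟨[.a8], [3, 3], []⟩]
theorem bad705 (c : CtxF Goal γ) : Bad Goal γ [] P705 :=
  c.toCtx.cent (B := B705) (D := D705) (I := [2, 3, 1, 4, 0, 5]) (z := [.a6]) (by decide +kernel) (by decide +kernel)

def P706 : List Ent := [⟨4, [.a2, .a10], [.a2, .a3, .a5, .a8, .a10, .a11]⟩,
  ⟨8, [.a3, .a6, .a11], [.a3, .a6, .a8, .a11]⟩,
  ⟨32, [.a5], [.a5]⟩,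
  ⟨128, [.a7], [.a7, .a8]⟩,
  ⟨256, [.a8], [.a8]⟩,
  ⟨512, [.a9], [.a9]⟩]
def B706 : List Gv := [⟨[.a2, .a10], [.a2, .a3, .a5, .a8, .a10, .a11]⟩, ⟨[.a7], [.a7, .a8]⟩]
def D706 : List Dv := [⟨[.a3, .a6, .a8, .a11], [0, 0], []⟩,
  ⟨[.a5, .a9], [2, 1], [1, 2]⟩,
  ⟨[.a8], [3, 3], []⟩,
  ⟨[.a9], [1, 2, 4], [4, 2]⟩,
  ⟨[.a5], [2], [0]⟩,
  ⟨[.a3, .a6, .a11], [4], [2]⟩]
def C706 : List Ch := [⟨P245, 0, [.a10], [.a10, .a11]⟩,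
  ⟨P287, 1, [], []⟩,
  ⟨P301, 0, [], []⟩]
def S706 : List St := [.cent 1 1 0 [⟨32, [.a5], [.a5]⟩,
  ⟨256, [.a8], [.a8]⟩]]
theorem bad706 (c : CtxF Goal γ) : Bad Goal γ [] P706 :=
  c.toCtx.chn (B := B706) (D := D706) (I := [6, 0, 1, 7, 3, 2]) (r := 2) (C := C706) (l := S706) (x := ⟨[.a6], [.a6]⟩) (ix := [0]) (by decide +kernel) (by decide +kernel) (by decide +kernel) (by decide +kernel)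
    (allB_cons (bad245 c) (allB_cons (bad287 c) (allB_cons (bad301 c) (allB_nil))))

def P707 : List Ent := [⟨4, [.a2, .a10], [.a2, .a3, .a5, .a8, .a10, .a11]⟩,
  ⟨8, [.a3, .a9, .a11], [.a3, .a8, .a9, .a11]⟩,
  ⟨32, [.a5], [.a5]⟩,
  ⟨64, [.a6, .a9], [.a6, .a9]⟩,
  ⟨128, [.a7, .a11], [.a7, .a8, .a11]⟩,
  ⟨256, [.a8], [.a8]⟩]
def B707 : List Gv := [⟨[.a2, .a10], [.a2, .a3, .a5, .a8, .a10, .a11]⟩, ⟨[.a7, .a11], [.a7, .a8, .a11]⟩]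
def D707 : List Dv := [⟨[.a3, .a6, .a8, .a11], [0, 0], []⟩,
  ⟨[.a6, .a8, .a9], [2, 1], [1, 2]⟩,
  ⟨[.a8], [3, 3], []⟩,
  ⟨[.a5, .a8], [2, 4], [4, 2]⟩,
  ⟨[.a6, .a9], [2], [1]⟩,
  ⟨[.a5], [1], [2]⟩,
  ⟨[.a3, .a9, .a11], [5], [1, 3]⟩]
def C707 : List Ch := [⟨P249, 0, [.a1, .a10], [.a1, .a2, .a4, .a5, .a7, .a9, .a10, .a11]⟩,
  ⟨P289, 1, [], []⟩,
  ⟨P300, 0, [.a4, .a10], [.a4, .a5, .a10, .a11]⟩]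
def S707 : List St := [.cent 1 1 0 [⟨32, [.a5], [.a5]⟩,
  ⟨256, [.a8], [.a8]⟩]]
theorem bad707 (c : CtxF Goal γ) : Bad Goal γ [] P707 :=
  c.toCtx.chn (B := B707) (D := D707) (I := [7, 0, 1, 2, 8, 4]) (r := 2) (C := C707) (l := S707) (x := ⟨[.a9], [.a9]⟩) (ix := [0]) (by decide +kernel) (by decide +kernel) (by decide +kernel) (by decide +kernel)
    (allB_cons (bad249 c) (allB_cons (bad289 c) (allB_cons (bad300 c) (allB_nil))))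

def P708 : List Ent := [⟨4, [.a2, .a10], [.a2, .a3, .a5, .a8, .a10, .a11]⟩,
  ⟨8, [.a3, .a11], [.a3, .a8, .a11]⟩,
  ⟨64, [.a6], [.a6]⟩,
  ⟨128, [.a7, .a10], [.a7, .a8, .a9, .a10, .a11]⟩,
  ⟨256, [.a8], [.a8]⟩,
  ⟨512, [.a9, .a11], [.a9, .a11]⟩]
def B708 : List Gv := [⟨[.a2, .a10], [.a2, .a3, .a5, .a8, .a10, .a11]⟩, ⟨[.a7, .a10], [.a7, .a8, .a9, .a10, .a11]⟩]
def D708 : List Dv := [⟨[.a3, .a6, .a8, .a11], [0, 0], []⟩,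
  ⟨[.a8, .a9, .a11], [0, 2, 1], [1, 2]⟩,
  ⟨[.a6, .a8], [1, 3], [3, 1]⟩,
  ⟨[.a9, .a11], [1, 2, 2], []⟩,
  ⟨[.a8], [2], [0]⟩,
  ⟨[.a6], [2], [0]⟩,
  ⟨[.a3, .a11], [5], [0, 1]⟩]
theorem bad708 (c : CtxF Goal γ) : Bad Goal γ [] P708 :=
  c.toCtx.cent (B := B708) (D := D708) (I := [7, 0, 1, 8, 2, 3]) (z := [.a5]) (by decide +kernel) (by decide +kernel)

def P709 : List Ent := [⟨4, [.a2, .a10], [.a2, .a3, .a5, .a8, .a10, .a11]⟩,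
  ⟨8, [.a3, .a11], [.a3, .a8, .a11]⟩,
  ⟨32, [.a5, .a7, .a10], [.a5, .a7, .a8, .a9, .a10, .a11]⟩,
  ⟨64, [.a6], [.a6]⟩,
  ⟨256, [.a8], [.a8]⟩,
  ⟨512, [.a9, .a11], [.a9, .a11]⟩]
def B709 : List Gv := [⟨[.a2, .a10], [.a2, .a3, .a5, .a8, .a10, .a11]⟩, ⟨[.a5, .a7, .a10], [.a5, .a7, .a8, .a9, .a10, .a11]⟩]
def D709 : List Dv := [⟨[.a3, .a6, .a8, .a11], [0, 0], []⟩,
  ⟨[.a8, .a9, .a11], [0, 2, 1], [1, 2]⟩,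
  ⟨[.a6, .a8], [1, 3], [3, 1]⟩,
  ⟨[.a9, .a11], [1, 2, 2], []⟩,
  ⟨[.a8], [2], [0]⟩,
  ⟨[.a6], [2], [0]⟩,
  ⟨[.a3, .a11], [5], [0, 1]⟩]
theorem bad709 (c : CtxF Goal γ) : Bad Goal γ [] P709 :=
  c.toCtx.cent (B := B709) (D := D709) (I := [7, 0, 8, 1, 2, 3]) (z := [.a5]) (by decide +kernel) (by decide +kernel)

def P710 : List Ent := [⟨4, [.a2, .a4, .a9], [.a2, .a4, .a8, .a9]⟩,
  ⟨8, [.a3, .a6], [.a3, .a6]⟩,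
  ⟨32, [.a5, .a6], [.a5, .a6]⟩,
  ⟨256, [.a8], [.a8]⟩,
  ⟨1024, [.a10], [.a10, .a11]⟩,
  ⟨2048, [.a11], [.a11]⟩]
def B710 : List Gv := [⟨[.a2, .a4, .a9], [.a2, .a4, .a8, .a9]⟩, ⟨[.a10], [.a10, .a11]⟩]
def D710 : List Dv := [⟨[.a8], [0, 0], []⟩,
  ⟨[.a3, .a6, .a8], [2, 1], [1, 2]⟩,
  ⟨[.a11], [3, 3], []⟩,
  ⟨[.a5, .a6, .a8], [1, 4], [4, 1]⟩,
  ⟨[.a5, .a6], [0], [3]⟩,
  ⟨[.a3, .a6], [3], [4]⟩]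
theorem bad710 (c : CtxF Goal γ) : Bad Goal γ [] P710 :=
  c.toCtx.cent (B := B710) (D := D710) (I := [6, 0, 1, 5, 7, 3]) (z := [.a5]) (by decide +kernel) (by decide +kernel)

def P711 : List Ent := [⟨4, [.a2, .a4, .a9], [.a2, .a4, .a8, .a9]⟩,
  ⟨8, [.a3], [.a3]⟩,
  ⟨32, [.a5], [.a5]⟩,
  ⟨64, [.a6], [.a6]⟩,
  ⟨256, [.a8], [.a8]⟩,
  ⟨2048, [.a11], [.a11]⟩]
def B711 : List Gv := [⟨[.a2, .a4, .a9], [.a2, .a4, .a8, .a9]⟩, ⟨[.a3], [.a3]⟩, ⟨[.a5], [.a5]⟩, ⟨[.a11], [.a11]⟩]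
def D711 : List Dv := [⟨[.a8], [0, 0], []⟩,
  ⟨[.a6, .a8], [3, 4, 1], [1, 4]⟩,
  ⟨[.a6], [0], [1]⟩]
def C711 : List Ch := [⟨P234, 0, [], []⟩,
  ⟨P325, 1, [], []⟩,
  ⟨P325, 0, [.a10], [.a10, .a11]⟩,
  ⟨P326, 2, [], []⟩,
  ⟨P326, 0, [.a10], [.a10, .a11]⟩,
  ⟨P326, 1, [.a7, .a10], [.a7, .a8, .a9, .a10, .a11]⟩,
  ⟨P326, 0, [.a7], [.a7, .a8]⟩,
  ⟨P259, 3, [.a0], [.a0]⟩,
  ⟨P296, 0, [.a0], [.a0]⟩,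
  ⟨P327, 1, [], []⟩,
  ⟨P327, 0, [.a10], [.a10, .a11]⟩,
  ⟨P328, 2, [], []⟩,
  ⟨P328, 0, [.a10], [.a10, .a11]⟩,
  ⟨P328, 1, [.a7, .a10], [.a7, .a8, .a9, .a10, .a11]⟩,
  ⟨P328, 0, [.a7], [.a7, .a8]⟩]
def N711 : List Ent := [⟨4, [.a2, .a4, .a9], [.a2, .a4, .a8, .a9]⟩,
  ⟨8, [.a3], [.a3]⟩,
  ⟨16, [.a4], [.a4, .a5]⟩,
  ⟨32, [.a5], [.a5]⟩,
  ⟨64, [.a6], [.a6]⟩,
  ⟨128, [.a7], [.a7, .a8]⟩,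
  ⟨256, [.a8], [.a8]⟩,
  ⟨512, [.a9], [.a9]⟩,
  ⟨1024, [.a10], [.a10, .a11]⟩,
  ⟨2048, [.a11], [.a11]⟩]
theorem bad711 (c : CtxF Goal γ) : Bad Goal γ [] P711 :=
  c.toCtx.bnd (B := B711) (D := D711) (I := [3, 4, 5, 0, 2, 6]) (r := 4) (C := C711) (N := N711) (by decide +kernel) (by decide +kernel) (by decide +kernel) (by decide +kernel)
    (allB_cons (bad234 c) (allB_cons (bad325 c) (allB_cons (bad325 c) (allB_cons (bad326 c) (allB_cons (bad326 c) (allB_cons (bad326 c) (allB_cons (bad326 c) (allB_cons (bad259 c) (allB_cons (bad296 c) (allB_cons (bad327 c) (allB_cons (bad327 c) (allB_cons (bad328 c) (allB_cons (bad328 c) (allB_cons (bad328 c) (allB_cons (bad328 c) (allB_nil))))))))))))))))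

def P712 : List Ent := [⟨4, [.a2, .a4, .a9], [.a2, .a4, .a8, .a9]⟩,
  ⟨8, [.a3, .a10], [.a3, .a5, .a6, .a8, .a10, .a11]⟩,
  ⟨32, [.a5, .a10], [.a5, .a10, .a11]⟩,
  ⟨64, [.a6, .a10], [.a6, .a8, .a10, .a11]⟩,
  ⟨256, [.a8], [.a8]⟩,
  ⟨2048, [.a11], [.a11]⟩]
def B712 : List Gv := [⟨[.a2, .a4, .a9], [.a2, .a4, .a8, .a9]⟩, ⟨[.a3, .a10], [.a3, .a5, .a6, .a8, .a10, .a11]⟩]
def D712 : List Dv := [⟨[.a8], [0, 0], []⟩,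
  ⟨[.a5, .a10], [2, 2, 1], [1, 2]⟩,
  ⟨[.a6, .a8, .a10, .a11], [0, 3, 3], []⟩,
  ⟨[.a11], [1, 4, 1, 3], [3, 1]⟩,
  ⟨[.a6, .a10], [1], [3, 0]⟩]
theorem bad712 (c : CtxF Goal γ) : Bad Goal γ [] P712 :=
  c.toCtx.cent (B := B712) (D := D712) (I := [5, 6, 3, 0, 4, 1]) (z := [.a5]) (by decide +kernel) (by decide +kernel)

def P713 : List Ent := [⟨4, [.a2, .a4], [.a2, .a4, .a5]⟩,
  ⟨32, [.a5], [.a5]⟩,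
  ⟨64, [.a6], [.a6]⟩,
  ⟨256, [.a8], [.a8]⟩,
  ⟨512, [.a9], [.a9]⟩,
  ⟨2048, [.a11], [.a11]⟩]
def B713 : List Gv := [⟨[.a2, .a4], [.a2, .a4, .a5]⟩, ⟨[.a9], [.a9]⟩, ⟨[.a11], [.a11]⟩]
def D713 : List Dv := [⟨[.a5], [0, 0], []⟩,
  ⟨[.a8], [0, 2, 1], [1, 2]⟩,
  ⟨[.a6, .a8], [1, 4, 2], [2, 4]⟩,
  ⟨[.a6], [0], [1]⟩]
theorem bad713 (c : CtxF Goal γ) : Bad Goal γ [] P713 :=
  c.toCtx.cent (B := B713) (D := D713) (I := [4, 3, 0, 2, 5, 6]) (z := [.a7, .a9, .a11]) (by decide +kernel) (by decide +kernel)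

def P714 : List Ent := [⟨4, [.a2, .a4], [.a2, .a4, .a5]⟩,
  ⟨8, [.a3], [.a3]⟩,
  ⟨32, [.a5], [.a5]⟩,
  ⟨64, [.a6], [.a6]⟩,
  ⟨256, [.a8], [.a8]⟩,
  ⟨2048, [.a11], [.a11]⟩]
def B714 : List Gv := [⟨[.a2, .a4], [.a2, .a4, .a5]⟩, ⟨[.a3], [.a3]⟩, ⟨[.a11], [.a11]⟩]
def D714 : List Dv := [⟨[.a5], [0, 0], []⟩,
  ⟨[.a6, .a8], [0, 3, 1], [1, 3]⟩,
  ⟨[.a8], [4, 3], [3, 4]⟩,
  ⟨[.a6], [1], [0]⟩]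
theorem bad714 (c : CtxF Goal γ) : Bad Goal γ [] P714 :=
  c.toCtx.cent (B := B714) (D := D714) (I := [4, 5, 3, 0, 1, 6]) (z := [.a4]) (by decide +kernel) (by decide +kernel)

def P715 : List Ent := [⟨4, [.a2, .a4], [.a2, .a4, .a5]⟩,
  ⟨8, [.a3, .a9], [.a3, .a9]⟩,
  ⟨32, [.a5], [.a5]⟩,
  ⟨64, [.a6], [.a6]⟩,
  ⟨256, [.a8], [.a8]⟩,
  ⟨2048, [.a11], [.a11]⟩]
def B715 : List Gv := [⟨[.a2, .a4], [.a2, .a4, .a5]⟩, ⟨[.a3, .a9], [.a3, .a9]⟩, ⟨[.a11], [.a11]⟩]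
def D715 : List Dv := [⟨[.a5], [0, 0], []⟩,
  ⟨[.a8], [0, 2, 1], [1, 2]⟩,
  ⟨[.a6, .a8], [1, 4, 2], [2, 4]⟩,
  ⟨[.a6], [0], [1]⟩]
def C715 : List Ch := [⟨P235, 0, [], []⟩,
  ⟨P329, 1, [], []⟩,
  ⟨P325, 0, [.a10], [.a10, .a11]⟩,
  ⟨P213, 2, [.a0], [.a0]⟩,
  ⟨P298, 0, [.a0, .a1, .a3, .a5, .a6, .a7, .a8, .a9, .a10], [.a0, .a10, .a11]⟩,
  ⟨P330, 1, [], []⟩,
  ⟨P327, 0, [.a1], [.a1, .a2]⟩]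
def N715 : List Ent := [⟨4, [.a2, .a4], [.a2, .a4, .a5]⟩,
  ⟨8, [.a3, .a9], [.a3, .a9]⟩,
  ⟨16, [.a4], [.a4, .a5]⟩,
  ⟨32, [.a5], [.a5]⟩,
  ⟨64, [.a6], [.a6]⟩,
  ⟨128, [.a7], [.a7, .a8]⟩,
  ⟨256, [.a8], [.a8]⟩,
  ⟨512, [.a9], [.a9]⟩,
  ⟨2048, [.a11], [.a11]⟩]
theorem bad715 (c : CtxF Goal γ) : Bad Goal γ [] P715 :=
  c.toCtx.bnd (B := B715) (D := D715) (I := [4, 5, 3, 0, 2, 6]) (r := 3) (C := C715) (N := N715) (by decide +kernel) (by decide +kernel) (by decide +kernel) (by decide +kernel)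
    (allB_cons (bad235 c) (allB_cons (bad329 c) (allB_cons (bad325 c) (allB_cons (bad213 c) (allB_cons (bad298 c) (allB_cons (bad330 c) (allB_cons (bad327 c) (allB_nil))))))))

def P716 : List Ent := [⟨4, [.a2, .a4], [.a2, .a4, .a5]⟩,
  ⟨8, [.a3, .a11], [.a3, .a8, .a11]⟩,
  ⟨32, [.a5], [.a5]⟩,
  ⟨64, [.a6], [.a6]⟩,
  ⟨256, [.a8], [.a8]⟩,
  ⟨512, [.a9], [.a9]⟩]
def B716 : List Gv := [⟨[.a2, .a4], [.a2, .a4, .a5]⟩, ⟨[.a3, .a11], [.a3, .a8, .a11]⟩, ⟨[.a9], [.a9]⟩]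
def D716 : List Dv := [⟨[.a5], [0, 0], []⟩,
  ⟨[.a6, .a8], [0, 2, 1], [1, 2]⟩,
  ⟨[.a8], [3, 3], []⟩,
  ⟨[.a6], [1], [0]⟩]
def C716 : List Ch := [⟨P237, 0, [], []⟩,
  ⟨P256, 1, [.a0], [.a0]⟩,
  ⟨P292, 0, [.a0, .a1, .a3, .a5, .a6, .a7, .a8, .a9, .a10], [.a0, .a10, .a11]⟩,
  ⟨P330, 2, [.a1, .a10], [.a1, .a2, .a4, .a5, .a7, .a9, .a10, .a11]⟩,
  ⟨P327, 0, [], []⟩,
  ⟨P330, 1, [], []⟩,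
  ⟨P327, 0, [.a1, .a10], [.a1, .a2, .a4, .a5, .a7, .a9, .a10, .a11]⟩]
def N716 : List Ent := [⟨2, [.a1, .a10], [.a1, .a2, .a4, .a5, .a7, .a9, .a10, .a11]⟩,
  ⟨4, [.a2, .a4], [.a2, .a4, .a5]⟩,
  ⟨8, [.a3, .a11], [.a3, .a8, .a11]⟩,
  ⟨16, [.a4], [.a4, .a5]⟩,
  ⟨32, [.a5], [.a5]⟩,
  ⟨64, [.a6], [.a6]⟩,
  ⟨128, [.a7], [.a7, .a8]⟩,
  ⟨256, [.a8], [.a8]⟩,
  ⟨512, [.a9], [.a9]⟩,
  ⟨2048, [.a11], [.a11]⟩]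
theorem bad716 (c : CtxF Goal γ) : Bad Goal γ [] P716 :=
  c.toCtx.bnd (B := B716) (D := D716) (I := [4, 5, 3, 0, 1, 6]) (r := 3) (C := C716) (N := N716) (by decide +kernel) (by decide +kernel) (by decide +kernel) (by decide +kernel)
    (allB_cons (bad237 c) (allB_cons (bad256 c) (allB_cons (bad292 c) (allB_cons (bad330 c) (allB_cons (bad327 c) (allB_cons (bad330 c) (allB_cons (bad327 c) (allB_nil))))))))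

def P717 : List Ent := [⟨4, [.a2, .a4, .a7, .a9], [.a2, .a4, .a6, .a7, .a9]⟩,
  ⟨8, [.a3, .a9], [.a3, .a9]⟩,
  ⟨32, [.a5], [.a5]⟩,
  ⟨64, [.a6], [.a6]⟩,
  ⟨256, [.a8], [.a8]⟩,
  ⟨2048, [.a11], [.a11]⟩]
def B717 : List Gv := [⟨[.a2, .a4, .a7, .a9], [.a2, .a4, .a6, .a7, .a9]⟩, ⟨[.a3, .a9], [.a3, .a9]⟩, ⟨[.a11], [.a11]⟩]
def D717 : List Dv := [⟨[.a6], [0, 0], []⟩,
  ⟨[.a8], [2, 1], [1, 2]⟩,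
  ⟨[.a5, .a6, .a8], [4, 2], [2, 4]⟩,
  ⟨[.a5], [0], [2, 1]⟩]
def C717 : List Ch := [⟨P235, 0, [], []⟩,
  ⟨P331, 1, [], []⟩,
  ⟨P331, 0, [.a10], [.a10, .a11]⟩,
  ⟨P332, 2, [], []⟩,
  ⟨P237, 0, [.a0], [.a0]⟩,
  ⟨P333, 1, [], []⟩,
  ⟨P333, 0, [.a10], [.a10, .a11]⟩]
def N717 : List Ent := [⟨4, [.a2, .a4, .a7, .a9], [.a2, .a4, .a6, .a7, .a9]⟩,
  ⟨8, [.a3, .a9], [.a3, .a9]⟩,
  ⟨16, [.a4], [.a4, .a5]⟩,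
  ⟨32, [.a5], [.a5]⟩,
  ⟨64, [.a6], [.a6]⟩,
  ⟨128, [.a7], [.a7, .a8]⟩,
  ⟨256, [.a8], [.a8]⟩,
  ⟨512, [.a9], [.a9]⟩,
  ⟨1024, [.a10], [.a10, .a11]⟩,
  ⟨2048, [.a11], [.a11]⟩]
theorem bad717 (c : CtxF Goal γ) : Bad Goal γ [] P717 :=
  c.toCtx.bnd (B := B717) (D := D717) (I := [4, 5, 0, 3, 2, 6]) (r := 3) (C := C717) (N := N717) (by decide +kernel) (by decide +kernel) (by decide +kernel) (by decide +kernel)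
    (allB_cons (bad235 c) (allB_cons (bad331 c) (allB_cons (bad331 c) (allB_cons (bad332 c) (allB_cons (bad237 c) (allB_cons (bad333 c) (allB_cons (bad333 c) (allB_nil))))))))

def P718 : List Ent := [⟨4, [.a2, .a4, .a7], [.a2, .a4, .a5, .a6, .a7, .a8]⟩,
  ⟨32, [.a5], [.a5]⟩,
  ⟨64, [.a6], [.a6]⟩,
  ⟨256, [.a8], [.a8]⟩,
  ⟨512, [.a9], [.a9]⟩,
  ⟨2048, [.a11], [.a11]⟩]
def B718 : List Gv := [⟨[.a2, .a4, .a7], [.a2, .a4, .a5, .a6, .a7, .a8]⟩, ⟨[.a5], [.a5]⟩, ⟨[.a9], [.a9]⟩, ⟨[.a11], [.a11]⟩]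
def D718 : List Dv := [⟨[.a6, .a8], [1, 0, 0], []⟩,
  ⟨[.a8], [2, 3, 1], [1, 3]⟩,
  ⟨[.a6], [1], [0]⟩]
theorem bad718 (c : CtxF Goal γ) : Bad Goal γ [] P718 :=
  c.toCtx.cent (B := B718) (D := D718) (I := [3, 4, 0, 1, 5, 6]) (z := [.a7, .a9, .a11]) (by decide +kernel) (by decide +kernel)

def P719 : List Ent := [⟨4, [.a2, .a4, .a7], [.a2, .a4, .a5, .a6, .a7, .a8]⟩,
  ⟨8, [.a3], [.a3]⟩,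
  ⟨32, [.a5], [.a5]⟩,
  ⟨64, [.a6], [.a6]⟩,
  ⟨256, [.a8], [.a8]⟩,
  ⟨2048, [.a11], [.a11]⟩]
def B719 : List Gv := [⟨[.a2, .a4, .a7], [.a2, .a4, .a5, .a6, .a7, .a8]⟩, ⟨[.a3], [.a3]⟩, ⟨[.a11], [.a11]⟩]
def D719 : List Dv := [⟨[.a5, .a6, .a8], [0, 0], []⟩,
  ⟨[.a6, .a8], [0, 2, 1], [1, 2]⟩,
  ⟨[.a8], [4, 3], [3, 4]⟩,
  ⟨[.a6], [1], [0]⟩,
  ⟨[.a5], [3], [0, 1]⟩]
def C719 : List Ch := [⟨P234, 0, [], []⟩,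
  ⟨P334, 1, [], []⟩,
  ⟨P331, 0, [.a10], [.a10, .a11]⟩,
  ⟨P335, 2, [], []⟩,
  ⟨P234, 0, [.a0, .a1, .a3, .a5, .a6, .a7, .a8, .a9, .a10], [.a0, .a10, .a11]⟩,
  ⟨P333, 1, [.a0, .a10], [.a0, .a1, .a2, .a3, .a4, .a6, .a8, .a9, .a10, .a11]⟩,
  ⟨P331, 0, [.a0, .a1, .a3, .a5, .a6, .a7, .a8, .a9, .a10], [.a0, .a10, .a11]⟩]
def N719 : List Ent := [⟨1, [.a0, .a1], [.a0, .a1, .a2]⟩,
  ⟨4, [.a2, .a4, .a7], [.a2, .a4, .a5, .a6, .a7, .a8]⟩,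
  ⟨8, [.a3], [.a3]⟩,
  ⟨16, [.a4], [.a4, .a5]⟩,
  ⟨32, [.a5], [.a5]⟩,
  ⟨64, [.a6], [.a6]⟩,
  ⟨128, [.a7], [.a7, .a8]⟩,
  ⟨256, [.a8], [.a8]⟩,
  ⟨512, [.a9], [.a9]⟩,
  ⟨2048, [.a11], [.a11]⟩]
theorem bad719 (c : CtxF Goal γ) : Bad Goal γ [] P719 :=
  c.toCtx.bnd (B := B719) (D := D719) (I := [5, 6, 0, 1, 2, 7]) (r := 3) (C := C719) (N := N719) (by decide +kernel) (by decide +kernel) (by decide +kernel) (by decide +kernel)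
    (allB_cons (bad234 c) (allB_cons (bad334 c) (allB_cons (bad331 c) (allB_cons (bad335 c) (allB_cons (bad234 c) (allB_cons (bad333 c) (allB_cons (bad331 c) (allB_nil))))))))

def P720 : List Ent := [⟨4, [.a2, .a4, .a7], [.a2, .a4, .a5, .a6, .a7, .a8]⟩,
  ⟨8, [.a3], [.a3]⟩,
  ⟨32, [.a5], [.a5]⟩,
  ⟨64, [.a6], [.a6]⟩,
  ⟨256, [.a8], [.a8]⟩,
  ⟨512, [.a9], [.a9]⟩]
def B720 : List Gv := [⟨[.a2, .a4, .a7], [.a2, .a4, .a5, .a6, .a7, .a8]⟩, ⟨[.a3], [.a3]⟩, ⟨[.a9], [.a9]⟩]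
def D720 : List Dv := [⟨[.a5, .a6, .a8], [0, 0], []⟩,
  ⟨[.a6, .a8], [0, 2, 1], [1, 2]⟩,
  ⟨[.a8], [0, 1, 4, 2], [2, 4]⟩,
  ⟨[.a6], [1], [0]⟩,
  ⟨[.a5], [3], [0, 1]⟩]
def C720 : List Ch := [⟨P236, 0, [], []⟩,
  ⟨P332, 1, [.a0], [.a0]⟩,
  ⟨P332, 0, [.a0, .a1, .a3, .a5, .a6, .a7, .a8, .a9, .a10], [.a0, .a10, .a11]⟩,
  ⟨P335, 2, [], []⟩,
  ⟨P335, 0, [.a10], [.a10, .a11]⟩,
  ⟨P332, 1, [.a1], [.a1, .a2]⟩,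
  ⟨P332, 0, [], []⟩]
def N720 : List Ent := [⟨1, [.a0], [.a0]⟩,
  ⟨2, [.a1], [.a1, .a2]⟩,
  ⟨4, [.a2, .a4, .a7], [.a2, .a4, .a5, .a6, .a7, .a8]⟩,
  ⟨8, [.a3], [.a3]⟩,
  ⟨16, [.a4], [.a4, .a5]⟩,
  ⟨32, [.a5], [.a5]⟩,
  ⟨64, [.a6], [.a6]⟩,
  ⟨128, [.a7], [.a7, .a8]⟩,
  ⟨256, [.a8], [.a8]⟩,
  ⟨512, [.a9], [.a9]⟩,
  ⟨1024, [.a10], [.a10, .a11]⟩,
  ⟨2048, [.a11], [.a11]⟩]
theorem bad720 (c : CtxF Goal γ) : Bad Goal γ [] P720 :=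
  c.toCtx.bnd (B := B720) (D := D720) (I := [5, 6, 0, 1, 2, 7]) (r := 3) (C := C720) (N := N720) (by decide +kernel) (by decide +kernel) (by decide +kernel) (by decide +kernel)
    (allB_cons (bad236 c) (allB_cons (bad332 c) (allB_cons (bad332 c) (allB_cons (bad335 c) (allB_cons (bad335 c) (allB_cons (bad332 c) (allB_cons (bad332 c) (allB_nil))))))))

def P721 : List Ent := [⟨4, [.a2, .a4], [.a2, .a4, .a5]⟩,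
  ⟨32, [.a5], [.a5]⟩,
  ⟨64, [.a6], [.a6]⟩,
  ⟨128, [.a7], [.a7, .a8]⟩,
  ⟨256, [.a8], [.a8]⟩,
  ⟨2048, [.a11], [.a11]⟩]
def B721 : List Gv := [⟨[.a2, .a4], [.a2, .a4, .a5]⟩, ⟨[.a7], [.a7, .a8]⟩, ⟨[.a11], [.a11]⟩]
def D721 : List Dv := [⟨[.a5], [0, 0], []⟩,
  ⟨[.a6], [2, 1], [1, 2]⟩,
  ⟨[.a8], [3, 3], []⟩]
theorem bad721 (c : CtxF Goal γ) : Bad Goal γ [] P721 :=
  c.toCtx.cent (B := B721) (D := D721) (I := [3, 2, 1, 4, 0, 5]) (z := [.a7, .a9, .a11]) (by decide +kernel) (by decide +kernel)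

def P722 : List Ent := [⟨4, [.a2, .a4, .a9], [.a2, .a4, .a8, .a9]⟩,
  ⟨32, [.a5], [.a5]⟩,
  ⟨64, [.a6], [.a6]⟩,
  ⟨128, [.a7], [.a7, .a8]⟩,
  ⟨256, [.a8], [.a8]⟩,
  ⟨2048, [.a11], [.a11]⟩]
def B722 : List Gv := [⟨[.a2, .a4, .a9], [.a2, .a4, .a8, .a9]⟩, ⟨[.a7], [.a7, .a8]⟩, ⟨[.a11], [.a11]⟩]
def D722 : List Dv := [⟨[.a8], [0, 0], []⟩,
  ⟨[.a6], [2, 1], [1, 2]⟩,
  ⟨[.a5, .a6, .a8], [4, 2], [2, 4]⟩,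
  ⟨[.a5], [0], [1, 2]⟩]
theorem bad722 (c : CtxF Goal γ) : Bad Goal γ [] P722 :=
  c.toCtx.cent (B := B722) (D := D722) (I := [4, 0, 2, 5, 3, 6]) (z := [.a7, .a9, .a11]) (by decide +kernel) (by decide +kernel)

def P723 : List Ent := [⟨4, [.a2, .a4], [.a2, .a4, .a5]⟩,
  ⟨32, [.a5], [.a5]⟩,
  ⟨64, [.a6], [.a6]⟩,
  ⟨128, [.a7, .a9], [.a7, .a8, .a9]⟩,
  ⟨256, [.a8], [.a8]⟩,
  ⟨2048, [.a11], [.a11]⟩]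
def B723 : List Gv := [⟨[.a2, .a4], [.a2, .a4, .a5]⟩, ⟨[.a7, .a9], [.a7, .a8, .a9]⟩, ⟨[.a11], [.a11]⟩]
def D723 : List Dv := [⟨[.a5], [0, 0], []⟩,
  ⟨[.a6, .a8], [0, 2, 1], [1, 2]⟩,
  ⟨[.a8], [3, 3], []⟩,
  ⟨[.a6], [1], [0]⟩]
def C723 : List Ch := [⟨P195, 0, [.a10], [.a10, .a11]⟩,
  ⟨P329, 1, [], []⟩,
  ⟨P331, 0, [], []⟩,
  ⟨P336, 2, [], []⟩,
  ⟨P297, 0, [.a0, .a10], [.a0, .a1, .a2, .a3, .a4, .a6, .a8, .a9, .a10, .a11]⟩,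
  ⟨P253, 1, [.a0], [.a0]⟩,
  ⟨P337, 0, [], []⟩]
def N723 : List Ent := [⟨4, [.a2, .a4], [.a2, .a4, .a5]⟩,
  ⟨8, [.a3], [.a3]⟩,
  ⟨16, [.a4], [.a4, .a5]⟩,
  ⟨32, [.a5], [.a5]⟩,
  ⟨64, [.a6], [.a6]⟩,
  ⟨128, [.a7, .a9], [.a7, .a8, .a9]⟩,
  ⟨256, [.a8], [.a8]⟩,
  ⟨512, [.a9], [.a9]⟩,
  ⟨2048, [.a11], [.a11]⟩]
theorem bad723 (c : CtxF Goal γ) : Bad Goal γ [] P723 :=
  c.toCtx.bnd (B := B723) (D := D723) (I := [4, 3, 0, 5, 1, 6]) (r := 3) (C := C723) (N := N723) (by decide +kernel) (by decide +kernel) (by decide +kernel) (by decide +kernel)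
    (allB_cons (bad195 c) (allB_cons (bad329 c) (allB_cons (bad331 c) (allB_cons (bad336 c) (allB_cons (bad297 c) (allB_cons (bad253 c) (allB_cons (bad337 c) (allB_nil))))))))

def P724 : List Ent := [⟨4, [.a2, .a4, .a9], [.a2, .a4, .a8, .a9]⟩,
  ⟨32, [.a5], [.a5]⟩,
  ⟨64, [.a6], [.a6]⟩,
  ⟨128, [.a7, .a9], [.a7, .a8, .a9]⟩,
  ⟨256, [.a8], [.a8]⟩,
  ⟨2048, [.a11], [.a11]⟩]
def B724 : List Gv := [⟨[.a2, .a4, .a9], [.a2, .a4, .a8, .a9]⟩, ⟨[.a5], [.a5]⟩, ⟨[.a7, .a9], [.a7, .a8, .a9]⟩, ⟨[.a11], [.a11]⟩]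
def D724 : List Dv := [⟨[.a8], [0, 0], []⟩,
  ⟨[.a6, .a8], [2, 3, 1], [1, 3]⟩,
  ⟨[.a6], [0], [1]⟩]
def C724 : List Ch := [⟨P195, 0, [.a10], [.a10, .a11]⟩,
  ⟨P338, 1, [], []⟩,
  ⟨P338, 0, [.a7], [.a7, .a8]⟩,
  ⟨P325, 2, [], []⟩,
  ⟨P334, 0, [], []⟩,
  ⟨P338, 1, [.a4], [.a4, .a5]⟩,
  ⟨P338, 0, [.a2], [.a2]⟩,
  ⟨P339, 3, [], []⟩,
  ⟨P295, 0, [.a0, .a1, .a3, .a5, .a6, .a7, .a8, .a9, .a10], [.a0, .a10, .a11]⟩,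
  ⟨P340, 1, [], []⟩,
  ⟨P340, 0, [.a7], [.a7, .a8]⟩,
  ⟨P211, 2, [.a0, .a1, .a3, .a5, .a6, .a7, .a8, .a9, .a10], [.a0, .a10, .a11]⟩,
  ⟨P337, 0, [.a1, .a10], [.a1, .a2, .a4, .a5, .a7, .a9, .a10, .a11]⟩,
  ⟨P340, 1, [.a4], [.a4, .a5]⟩,
  ⟨P340, 0, [.a2], [.a2]⟩]
def N724 : List Ent := [⟨4, [.a2, .a4, .a9], [.a2, .a4, .a8, .a9]⟩,
  ⟨8, [.a3], [.a3]⟩,
  ⟨16, [.a4], [.a4, .a5]⟩,
  ⟨32, [.a5], [.a5]⟩,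
  ⟨64, [.a6], [.a6]⟩,
  ⟨128, [.a7, .a9], [.a7, .a8, .a9]⟩,
  ⟨256, [.a8], [.a8]⟩,
  ⟨512, [.a9], [.a9]⟩,
  ⟨2048, [.a11], [.a11]⟩]
theorem bad724 (c : CtxF Goal γ) : Bad Goal γ [] P724 :=
  c.toCtx.bnd (B := B724) (D := D724) (I := [3, 4, 0, 5, 2, 6]) (r := 4) (C := C724) (N := N724) (by decide +kernel) (by decide +kernel) (by decide +kernel) (by decide +kernel)
    (allB_cons (bad195 c) (allB_cons (bad338 c) (allB_cons (bad338 c) (allB_cons (bad325 c) (allB_cons (bad334 c) (allB_cons (bad338 c) (allB_cons (bad338 c) (allB_cons (bad339 c) (allB_cons (bad295 c) (allB_cons (bad340 c) (allB_cons (bad340 c) (allB_cons (bad211 c) (allB_cons (bad337 c) (allB_cons (bad340 c) (allB_cons (bad340 c) (allB_nil))))))))))))))))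

def P725 : List Ent := [⟨4, [.a2, .a4], [.a2, .a4, .a5]⟩,
  ⟨32, [.a5], [.a5]⟩,
  ⟨64, [.a6], [.a6]⟩,
  ⟨128, [.a7], [.a7, .a8]⟩,
  ⟨256, [.a8], [.a8]⟩,
  ⟨512, [.a9], [.a9]⟩]
def B725 : List Gv := [⟨[.a2, .a4], [.a2, .a4, .a5]⟩, ⟨[.a7], [.a7, .a8]⟩, ⟨[.a9], [.a9]⟩]
def D725 : List Dv := [⟨[.a5], [0, 0], []⟩,
  ⟨[.a6], [2, 1], [1, 2]⟩,
  ⟨[.a8], [3, 3], []⟩]
theorem bad725 (c : CtxF Goal γ) : Bad Goal γ [] P725 :=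
  c.toCtx.cent (B := B725) (D := D725) (I := [3, 2, 1, 4, 0, 5]) (z := [.a7, .a9, .a11]) (by decide +kernel) (by decide +kernel)

def P726 : List Ent := [⟨4, [.a2, .a4, .a11], [.a2, .a4, .a6, .a8, .a11]⟩,
  ⟨32, [.a5], [.a5]⟩,
  ⟨64, [.a6], [.a6]⟩,
  ⟨128, [.a7, .a11], [.a7, .a8, .a11]⟩,
  ⟨256, [.a8], [.a8]⟩,
  ⟨512, [.a9], [.a9]⟩]
def B726 : List Gv := [⟨[.a2, .a4, .a11], [.a2, .a4, .a6, .a8, .a11]⟩, ⟨[.a7, .a11], [.a7, .a8, .a11]⟩, ⟨[.a9], [.a9]⟩]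
def D726 : List Dv := [⟨[.a6, .a8], [0, 0], []⟩,
  ⟨[.a5, .a8], [2, 1], [1, 2]⟩,
  ⟨[.a8], [3, 3], []⟩,
  ⟨[.a6], [2], [0]⟩,
  ⟨[.a5], [2], [1]⟩]
def C726 : List Ch := [⟨P197, 0, [], []⟩,
  ⟨P292, 1, [.a0], [.a0]⟩,
  ⟨P332, 0, [.a0], [.a0]⟩,
  ⟨P341, 2, [], []⟩,
  ⟨P341, 0, [.a1, .a10], [.a1, .a2, .a4, .a5, .a7, .a9, .a10, .a11]⟩,
  ⟨P337, 1, [], []⟩,
  ⟨P337, 0, [.a1, .a10], [.a1, .a2, .a4, .a5, .a7, .a9, .a10, .a11]⟩]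
def N726 : List Ent := [⟨2, [.a1, .a10], [.a1, .a2, .a4, .a5, .a7, .a9, .a10, .a11]⟩,
  ⟨4, [.a2, .a4, .a11], [.a2, .a4, .a6, .a8, .a11]⟩,
  ⟨8, [.a3], [.a3]⟩,
  ⟨16, [.a4], [.a4, .a5]⟩,
  ⟨32, [.a5], [.a5]⟩,
  ⟨64, [.a6], [.a6]⟩,
  ⟨128, [.a7, .a11], [.a7, .a8, .a11]⟩,
  ⟨256, [.a8], [.a8]⟩,
  ⟨512, [.a9], [.a9]⟩,
  ⟨2048, [.a11], [.a11]⟩]
theorem bad726 (c : CtxF Goal γ) : Bad Goal γ [] P726 :=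
  c.toCtx.bnd (B := B726) (D := D726) (I := [5, 0, 1, 6, 2, 7]) (r := 3) (C := C726) (N := N726) (by decide +kernel) (by decide +kernel) (by decide +kernel) (by decide +kernel)
    (allB_cons (bad197 c) (allB_cons (bad292 c) (allB_cons (bad332 c) (allB_cons (bad341 c) (allB_cons (bad341 c) (allB_cons (bad337 c) (allB_cons (bad337 c) (allB_nil))))))))

def P727 : List Ent := [⟨4, [.a2, .a4], [.a2, .a4, .a5]⟩,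
  ⟨8, [.a3, .a7], [.a3, .a5, .a7, .a8]⟩,
  ⟨32, [.a5], [.a5]⟩,
  ⟨64, [.a6], [.a6]⟩,
  ⟨256, [.a8], [.a8]⟩,
  ⟨2048, [.a11], [.a11]⟩]
def B727 : List Gv := [⟨[.a2, .a4], [.a2, .a4, .a5]⟩, ⟨[.a3, .a7], [.a3, .a5, .a7, .a8]⟩, ⟨[.a11], [.a11]⟩]
def D727 : List Dv := [⟨[.a5], [0, 0], []⟩,
  ⟨[.a6], [2, 1], [1, 2]⟩,
  ⟨[.a8], [1, 3, 3], []⟩]
def C727 : List Ch := [⟨P239, 0, [], []⟩,
  ⟨P329, 1, [], []⟩,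
  ⟨P331, 0, [.a10], [.a10, .a11]⟩,
  ⟨P342, 2, [], []⟩,
  ⟨P293, 0, [.a0], [.a0]⟩,
  ⟨P254, 1, [.a0, .a1, .a3, .a5, .a6, .a7, .a8, .a9, .a10], [.a0, .a10, .a11]⟩,
  ⟨P343, 0, [], []⟩]
def N727 : List Ent := [⟨4, [.a2, .a4], [.a2, .a4, .a5]⟩,
  ⟨8, [.a3, .a7], [.a3, .a5, .a7, .a8]⟩,
  ⟨16, [.a4], [.a4, .a5]⟩,
  ⟨32, [.a5], [.a5]⟩,
  ⟨64, [.a6], [.a6]⟩,
  ⟨128, [.a7], [.a7, .a8]⟩,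
  ⟨256, [.a8], [.a8]⟩,
  ⟨512, [.a9], [.a9]⟩,
  ⟨2048, [.a11], [.a11]⟩]
theorem bad727 (c : CtxF Goal γ) : Bad Goal γ [] P727 :=
  c.toCtx.bnd (B := B727) (D := D727) (I := [3, 4, 2, 1, 0, 5]) (r := 3) (C := C727) (N := N727) (by decide +kernel) (by decide +kernel) (by decide +kernel) (by decide +kernel)
    (allB_cons (bad239 c) (allB_cons (bad329 c) (allB_cons (bad331 c) (allB_cons (bad342 c) (allB_cons (bad293 c) (allB_cons (bad254 c) (allB_cons (bad343 c) (allB_nil))))))))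

def P728 : List Ent := [⟨4, [.a2, .a4, .a9], [.a2, .a4, .a8, .a9]⟩,
  ⟨8, [.a3, .a7], [.a3, .a5, .a7, .a8]⟩,
  ⟨32, [.a5], [.a5]⟩,
  ⟨64, [.a6], [.a6]⟩,
  ⟨256, [.a8], [.a8]⟩,
  ⟨2048, [.a11], [.a11]⟩]
def B728 : List Gv := [⟨[.a2, .a4, .a9], [.a2, .a4, .a8, .a9]⟩, ⟨[.a3, .a7], [.a3, .a5, .a7, .a8]⟩, ⟨[.a11], [.a11]⟩]
def D728 : List Dv := [⟨[.a8], [0, 0], []⟩,
  ⟨[.a6], [2, 1], [1, 2]⟩,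
  ⟨[.a5, .a8], [3, 3], []⟩,
  ⟨[.a5], [0], [2]⟩]
def C728 : List Ch := [⟨P239, 0, [], []⟩,
  ⟨P325, 1, [], []⟩,
  ⟨P334, 0, [.a10], [.a10, .a11]⟩,
  ⟨P344, 2, [], []⟩,
  ⟨P290, 0, [.a0], [.a0]⟩,
  ⟨P216, 1, [.a0, .a1, .a3, .a5, .a6, .a7, .a8, .a9, .a10], [.a0, .a10, .a11]⟩,
  ⟨P343, 0, [.a1, .a10], [.a1, .a2, .a4, .a5, .a7, .a9, .a10, .a11]⟩]
def N728 : List Ent := [⟨4, [.a2, .a4, .a9], [.a2, .a4, .a8, .a9]⟩,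
  ⟨8, [.a3, .a7], [.a3, .a5, .a7, .a8]⟩,
  ⟨16, [.a4], [.a4, .a5]⟩,
  ⟨32, [.a5], [.a5]⟩,
  ⟨64, [.a6], [.a6]⟩,
  ⟨128, [.a7], [.a7, .a8]⟩,
  ⟨256, [.a8], [.a8]⟩,
  ⟨512, [.a9], [.a9]⟩,
  ⟨2048, [.a11], [.a11]⟩]
theorem bad728 (c : CtxF Goal γ) : Bad Goal γ [] P728 :=
  c.toCtx.bnd (B := B728) (D := D728) (I := [4, 5, 0, 2, 3, 6]) (r := 3) (C := C728) (N := N728) (by decide +kernel) (by decide +kernel) (by decide +kernel) (by decide +kernel)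
    (allB_cons (bad239 c) (allB_cons (bad325 c) (allB_cons (bad334 c) (allB_cons (bad344 c) (allB_cons (bad290 c) (allB_cons (bad216 c) (allB_cons (bad343 c) (allB_nil))))))))

def P729 : List Ent := [⟨4, [.a2, .a4], [.a2, .a4, .a5]⟩,
  ⟨8, [.a3, .a7, .a9], [.a3, .a5, .a7, .a8, .a9]⟩,
  ⟨32, [.a5], [.a5]⟩,
  ⟨64, [.a6], [.a6]⟩,
  ⟨256, [.a8], [.a8]⟩,
  ⟨2048, [.a11], [.a11]⟩]
def B729 : List Gv := [⟨[.a2, .a4], [.a2, .a4, .a5]⟩, ⟨[.a3, .a7, .a9], [.a3, .a5, .a7, .a8, .a9]⟩, ⟨[.a11], [.a11]⟩]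
def D729 : List Dv := [⟨[.a5], [0, 0], []⟩,
  ⟨[.a6, .a8], [0, 2, 1], [1, 2]⟩,
  ⟨[.a8], [1, 3, 3], []⟩,
  ⟨[.a6], [1], [0]⟩]
def C729 : List Ch := [⟨P239, 0, [.a10], [.a10, .a11]⟩,
  ⟨P329, 1, [], []⟩,
  ⟨P334, 0, [.a10], [.a10, .a11]⟩,
  ⟨P342, 2, [.a1, .a10], [.a1, .a2, .a4, .a5, .a7, .a9, .a10, .a11]⟩,
  ⟨P290, 0, [.a0, .a10], [.a0, .a1, .a2, .a3, .a4, .a6, .a8, .a9, .a10, .a11]⟩,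
  ⟨P210, 1, [.a0], [.a0]⟩,
  ⟨P345, 0, [], []⟩]
def N729 : List Ent := [⟨4, [.a2, .a4], [.a2, .a4, .a5]⟩,
  ⟨8, [.a3, .a7, .a9], [.a3, .a5, .a7, .a8, .a9]⟩,
  ⟨16, [.a4], [.a4, .a5]⟩,
  ⟨32, [.a5], [.a5]⟩,
  ⟨64, [.a6], [.a6]⟩,
  ⟨128, [.a7], [.a7, .a8]⟩,
  ⟨256, [.a8], [.a8]⟩,
  ⟨512, [.a9], [.a9]⟩,
  ⟨2048, [.a11], [.a11]⟩]
theorem bad729 (c : CtxF Goal γ) : Bad Goal γ [] P729 :=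
  c.toCtx.bnd (B := B729) (D := D729) (I := [4, 5, 3, 0, 1, 6]) (r := 3) (C := C729) (N := N729) (by decide +kernel) (by decide +kernel) (by decide +kernel) (by decide +kernel)
    (allB_cons (bad239 c) (allB_cons (bad329 c) (allB_cons (bad334 c) (allB_cons (bad342 c) (allB_cons (bad290 c) (allB_cons (bad210 c) (allB_cons (bad345 c) (allB_nil))))))))

def P730 : List Ent := [⟨4, [.a2, .a4, .a9], [.a2, .a4, .a8, .a9]⟩,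
  ⟨8, [.a3, .a7, .a9], [.a3, .a5, .a7, .a8, .a9]⟩,
  ⟨32, [.a5], [.a5]⟩,
  ⟨64, [.a6], [.a6]⟩,
  ⟨256, [.a8], [.a8]⟩,
  ⟨2048, [.a11], [.a11]⟩]
def B730 : List Gv := [⟨[.a2, .a4, .a9], [.a2, .a4, .a8, .a9]⟩, ⟨[.a3, .a7, .a9], [.a3, .a5, .a7, .a8, .a9]⟩, ⟨[.a11], [.a11]⟩]
def D730 : List Dv := [⟨[.a8], [0, 0], []⟩,
  ⟨[.a5, .a6, .a8], [2, 1], [1, 2]⟩,
  ⟨[.a6], [0, 3, 3], []⟩,
  ⟨[.a5], [1], [0, 2]⟩]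
def C730 : List Ch := [⟨P239, 0, [.a10], [.a10, .a11]⟩,
  ⟨P325, 1, [], []⟩,
  ⟨P331, 0, [.a10], [.a10, .a11]⟩,
  ⟨P344, 2, [.a1, .a10], [.a1, .a2, .a4, .a5, .a7, .a9, .a10, .a11]⟩,
  ⟨P293, 0, [.a0, .a10], [.a0, .a1, .a2, .a3, .a4, .a6, .a8, .a9, .a10, .a11]⟩,
  ⟨P257, 1, [.a0], [.a0]⟩,
  ⟨P345, 0, [.a1, .a10], [.a1, .a2, .a4, .a5, .a7, .a9, .a10, .a11]⟩]
def N730 : List Ent := [⟨4, [.a2, .a4, .a9], [.a2, .a4, .a8, .a9]⟩,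
  ⟨8, [.a3, .a7, .a9], [.a3, .a5, .a7, .a8, .a9]⟩,
  ⟨16, [.a4], [.a4, .a5]⟩,
  ⟨32, [.a5], [.a5]⟩,
  ⟨64, [.a6], [.a6]⟩,
  ⟨128, [.a7], [.a7, .a8]⟩,
  ⟨256, [.a8], [.a8]⟩,
  ⟨512, [.a9], [.a9]⟩,
  ⟨2048, [.a11], [.a11]⟩]
theorem bad730 (c : CtxF Goal γ) : Bad Goal γ [] P730 :=
  c.toCtx.bnd (B := B730) (D := D730) (I := [4, 5, 0, 1, 3, 6]) (r := 3) (C := C730) (N := N730) (by decide +kernel) (by decide +kernel) (by decide +kernel) (by decide +kernel)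
    (allB_cons (bad239 c) (allB_cons (bad325 c) (allB_cons (bad331 c) (allB_cons (bad344 c) (allB_cons (bad293 c) (allB_cons (bad257 c) (allB_cons (bad345 c) (allB_nil))))))))

def P731 : List Ent := [⟨4, [.a2, .a4], [.a2, .a4, .a5]⟩,
  ⟨8, [.a3, .a7], [.a3, .a5, .a7, .a8]⟩,
  ⟨32, [.a5], [.a5]⟩,
  ⟨64, [.a6], [.a6]⟩,
  ⟨256, [.a8], [.a8]⟩,
  ⟨512, [.a9], [.a9]⟩]
def B731 : List Gv := [⟨[.a2, .a4], [.a2, .a4, .a5]⟩, ⟨[.a3, .a7], [.a3, .a5, .a7, .a8]⟩, ⟨[.a9], [.a9]⟩]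
def D731 : List Dv := [⟨[.a5], [0, 0], []⟩,
  ⟨[.a6], [2, 1], [1, 2]⟩,
  ⟨[.a8], [1, 3, 3], []⟩]
def C731 : List Ch := [⟨P240, 0, [], []⟩,
  ⟨P256, 1, [.a0], [.a0]⟩,
  ⟨P332, 0, [.a0, .a1, .a3, .a5, .a6, .a7, .a8, .a9, .a10], [.a0, .a10, .a11]⟩,
  ⟨P342, 2, [], []⟩,
  ⟨P344, 0, [], []⟩,
  ⟨P342, 1, [.a1, .a10], [.a1, .a2, .a4, .a5, .a7, .a9, .a10, .a11]⟩,
  ⟨P344, 0, [.a1, .a10], [.a1, .a2, .a4, .a5, .a7, .a9, .a10, .a11]⟩]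
def N731 : List Ent := [⟨2, [.a1, .a10], [.a1, .a2, .a4, .a5, .a7, .a9, .a10, .a11]⟩,
  ⟨4, [.a2, .a4], [.a2, .a4, .a5]⟩,
  ⟨8, [.a3, .a7], [.a3, .a5, .a7, .a8]⟩,
  ⟨16, [.a4], [.a4, .a5]⟩,
  ⟨32, [.a5], [.a5]⟩,
  ⟨64, [.a6], [.a6]⟩,
  ⟨128, [.a7], [.a7, .a8]⟩,
  ⟨256, [.a8], [.a8]⟩,
  ⟨512, [.a9], [.a9]⟩,
  ⟨2048, [.a11], [.a11]⟩]
theorem bad731 (c : CtxF Goal γ) : Bad Goal γ [] P731 :=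
  c.toCtx.bnd (B := B731) (D := D731) (I := [3, 4, 2, 1, 0, 5]) (r := 3) (C := C731) (N := N731) (by decide +kernel) (by decide +kernel) (by decide +kernel) (by decide +kernel)
    (allB_cons (bad240 c) (allB_cons (bad256 c) (allB_cons (bad332 c) (allB_cons (bad342 c) (allB_cons (bad344 c) (allB_cons (bad342 c) (allB_cons (bad344 c) (allB_nil))))))))

def P732 : List Ent := [⟨4, [.a2, .a4, .a11], [.a2, .a4, .a6, .a8, .a11]⟩,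
  ⟨8, [.a3, .a7, .a11], [.a3, .a5, .a7, .a11]⟩,
  ⟨32, [.a5], [.a5]⟩,
  ⟨64, [.a6], [.a6]⟩,
  ⟨256, [.a8], [.a8]⟩,
  ⟨512, [.a9], [.a9]⟩]
def B732 : List Gv := [⟨[.a2, .a4, .a11], [.a2, .a4, .a6, .a8, .a11]⟩, ⟨[.a3, .a7, .a11], [.a3, .a5, .a7, .a11]⟩, ⟨[.a9], [.a9]⟩]
def D732 : List Dv := [⟨[.a6, .a8], [0, 0], []⟩,
  ⟨[.a5], [2, 1], [1, 2]⟩,
  ⟨[.a8], [0, 4, 2], [2, 4]⟩,
  ⟨[.a6], [2], [0]⟩]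
def C732 : List Ch := [⟨P241, 0, [], []⟩,
  ⟨P292, 1, [.a0], [.a0]⟩,
  ⟨P332, 0, [.a0, .a1, .a3, .a5, .a6, .a7, .a8, .a9, .a10], [.a0, .a10, .a11]⟩,
  ⟨P343, 2, [], []⟩,
  ⟨P343, 0, [.a1, .a10], [.a1, .a2, .a4, .a5, .a7, .a9, .a10, .a11]⟩,
  ⟨P345, 1, [], []⟩,
  ⟨P345, 0, [.a1, .a10], [.a1, .a2, .a4, .a5, .a7, .a9, .a10, .a11]⟩]
def N732 : List Ent := [⟨2, [.a1, .a10], [.a1, .a2, .a4, .a5, .a7, .a9, .a10, .a11]⟩,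
  ⟨4, [.a2, .a4, .a11], [.a2, .a4, .a6, .a8, .a11]⟩,
  ⟨8, [.a3, .a7, .a11], [.a3, .a5, .a7, .a11]⟩,
  ⟨16, [.a4], [.a4, .a5]⟩,
  ⟨32, [.a5], [.a5]⟩,
  ⟨64, [.a6], [.a6]⟩,
  ⟨128, [.a7], [.a7, .a8]⟩,
  ⟨256, [.a8], [.a8]⟩,
  ⟨512, [.a9], [.a9]⟩,
  ⟨2048, [.a11], [.a11]⟩]
theorem bad732 (c : CtxF Goal γ) : Bad Goal γ [] P732 :=
  c.toCtx.bnd (B := B732) (D := D732) (I := [4, 5, 2, 0, 1, 6]) (r := 3) (C := C732) (N := N732) (by decide +kernel) (by decide +kernel) (by decide +kernel) (by decide +kernel)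
    (allB_cons (bad241 c) (allB_cons (bad292 c) (allB_cons (bad332 c) (allB_cons (bad343 c) (allB_cons (bad343 c) (allB_cons (bad345 c) (allB_cons (bad345 c) (allB_nil))))))))

def P733 : List Ent := [⟨4, [.a2, .a4], [.a2, .a4, .a5]⟩,
  ⟨8, [.a3], [.a3]⟩,
  ⟨32, [.a5], [.a5]⟩,
  ⟨64, [.a6], [.a6]⟩,
  ⟨128, [.a7], [.a7, .a8]⟩,
  ⟨256, [.a8], [.a8]⟩]
def B733 : List Gv := [⟨[.a2, .a4], [.a2, .a4, .a5]⟩, ⟨[.a3], [.a3]⟩, ⟨[.a7], [.a7, .a8]⟩]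
def D733 : List Dv := [⟨[.a5], [0, 0], []⟩,
  ⟨[.a6], [3, 1], [1, 3]⟩,
  ⟨[.a8], [4, 4], []⟩]
theorem bad733 (c : CtxF Goal γ) : Bad Goal γ [] P733 :=
  c.toCtx.cent (B := B733) (D := D733) (I := [3, 4, 2, 1, 5, 0]) (z := [.a2]) (by decide +kernel) (by decide +kernel)

def P734 : List Ent := [⟨4, [.a2, .a4], [.a2, .a4, .a5]⟩,
  ⟨8, [.a3, .a11], [.a3, .a8, .a11]⟩,
  ⟨32, [.a5], [.a5]⟩,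
  ⟨64, [.a6], [.a6]⟩,
  ⟨128, [.a7], [.a7, .a8]⟩,
  ⟨256, [.a8], [.a8]⟩]
def B734 : List Gv := [⟨[.a2, .a4], [.a2, .a4, .a5]⟩, ⟨[.a3, .a11], [.a3, .a8, .a11]⟩, ⟨[.a7], [.a7, .a8]⟩]
def D734 : List Dv := [⟨[.a5], [0, 0], []⟩,
  ⟨[.a6, .a8], [0, 2, 1], [1, 2]⟩,
  ⟨[.a8], [3, 3], []⟩,
  ⟨[.a6], [1], [0]⟩]
def C734 : List Ch := [⟨P246, 0, [], []⟩,
  ⟨P336, 1, [.a1, .a10], [.a1, .a2, .a4, .a5, .a7, .a9, .a10, .a11]⟩,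
  ⟨P297, 0, [.a0, .a1], [.a0, .a1, .a2]⟩,
  ⟨P330, 2, [.a1, .a10], [.a1, .a2, .a4, .a5, .a7, .a9, .a10, .a11]⟩,
  ⟨P333, 0, [.a0, .a10], [.a0, .a1, .a2, .a3, .a4, .a6, .a8, .a9, .a10, .a11]⟩,
  ⟨P254, 1, [.a0, .a1, .a3, .a5, .a6, .a7, .a8, .a9, .a10], [.a0, .a10, .a11]⟩,
  ⟨P345, 0, [.a10], [.a10, .a11]⟩]
def N734 : List Ent := [⟨4, [.a2, .a4], [.a2, .a4, .a5]⟩,
  ⟨8, [.a3, .a11], [.a3, .a8, .a11]⟩,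
  ⟨16, [.a4], [.a4, .a5]⟩,
  ⟨32, [.a5], [.a5]⟩,
  ⟨64, [.a6], [.a6]⟩,
  ⟨128, [.a7], [.a7, .a8]⟩,
  ⟨256, [.a8], [.a8]⟩,
  ⟨512, [.a9], [.a9]⟩,
  ⟨2048, [.a11], [.a11]⟩]
theorem bad734 (c : CtxF Goal γ) : Bad Goal γ [] P734 :=
  c.toCtx.bnd (B := B734) (D := D734) (I := [4, 5, 3, 0, 6, 1]) (r := 3) (C := C734) (N := N734) (by decide +kernel) (by decide +kernel) (by decide +kernel) (by decide +kernel)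
    (allB_cons (bad246 c) (allB_cons (bad336 c) (allB_cons (bad297 c) (allB_cons (bad330 c) (allB_cons (bad333 c) (allB_cons (bad254 c) (allB_cons (bad345 c) (allB_nil))))))))

def P735 : List Ent := [⟨4, [.a2, .a4, .a11], [.a2, .a4, .a6, .a8, .a11]⟩,
  ⟨8, [.a3, .a11], [.a3, .a8, .a11]⟩,
  ⟨32, [.a5], [.a5]⟩,
  ⟨64, [.a6], [.a6]⟩,
  ⟨128, [.a7], [.a7, .a8]⟩,
  ⟨256, [.a8], [.a8]⟩]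
def B735 : List Gv := [⟨[.a2, .a4, .a11], [.a2, .a4, .a6, .a8, .a11]⟩, ⟨[.a3, .a11], [.a3, .a8, .a11]⟩, ⟨[.a7], [.a7, .a8]⟩]
def D735 : List Dv := [⟨[.a6, .a8], [0, 0], []⟩,
  ⟨[.a5, .a6], [2, 1], [1, 2]⟩,
  ⟨[.a8], [3, 3], []⟩,
  ⟨[.a6], [2], [0]⟩,
  ⟨[.a5], [2], [0]⟩]
def C735 : List Ch := [⟨P246, 0, [], []⟩,
  ⟨P295, 1, [.a0, .a1], [.a0, .a1, .a2]⟩,
  ⟨P336, 0, [.a10], [.a10, .a11]⟩,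
  ⟨P330, 2, [.a1], [.a1, .a2]⟩,
  ⟨P331, 0, [.a0, .a1, .a3, .a5, .a6, .a7, .a8, .a9, .a10], [.a0, .a10, .a11]⟩,
  ⟨P343, 1, [], []⟩,
  ⟨P210, 0, [.a0, .a1, .a3, .a5, .a6, .a7, .a8, .a9, .a10], [.a0, .a10, .a11]⟩]
def N735 : List Ent := [⟨4, [.a2, .a4, .a11], [.a2, .a4, .a6, .a8, .a11]⟩,
  ⟨8, [.a3, .a11], [.a3, .a8, .a11]⟩,
  ⟨16, [.a4], [.a4, .a5]⟩,
  ⟨32, [.a5], [.a5]⟩,
  ⟨64, [.a6], [.a6]⟩,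
  ⟨128, [.a7], [.a7, .a8]⟩,
  ⟨256, [.a8], [.a8]⟩,
  ⟨512, [.a9], [.a9]⟩,
  ⟨2048, [.a11], [.a11]⟩]
theorem bad735 (c : CtxF Goal γ) : Bad Goal γ [] P735 :=
  c.toCtx.bnd (B := B735) (D := D735) (I := [5, 6, 0, 1, 7, 2]) (r := 3) (C := C735) (N := N735) (by decide +kernel) (by decide +kernel) (by decide +kernel) (by decide +kernel)
    (allB_cons (bad246 c) (allB_cons (bad295 c) (allB_cons (bad336 c) (allB_cons (bad330 c) (allB_cons (bad331 c) (allB_cons (bad343 c) (allB_cons (bad210 c) (allB_nil))))))))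

def P736 : List Ent := [⟨4, [.a2, .a4, .a11], [.a2, .a4, .a6, .a8, .a11]⟩,
  ⟨8, [.a3], [.a3]⟩,
  ⟨32, [.a5], [.a5]⟩,
  ⟨64, [.a6], [.a6]⟩,
  ⟨128, [.a7, .a11], [.a7, .a8, .a11]⟩,
  ⟨256, [.a8], [.a8]⟩]
def B736 : List Gv := [⟨[.a2, .a4, .a11], [.a2, .a4, .a6, .a8, .a11]⟩, ⟨[.a3], [.a3]⟩, ⟨[.a7, .a11], [.a7, .a8, .a11]⟩]
def D736 : List Dv := [⟨[.a6, .a8], [0, 0], []⟩,
  ⟨[.a8], [2, 1], [1, 2]⟩,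
  ⟨[.a5, .a8], [4, 2], [2, 4]⟩,
  ⟨[.a6], [2], [1]⟩,
  ⟨[.a5], [1], [2]⟩]
def C736 : List Ch := [⟨P248, 0, [], []⟩,
  ⟨P341, 1, [], []⟩,
  ⟨P337, 0, [.a10], [.a10, .a11]⟩,
  ⟨P296, 2, [.a0, .a1], [.a0, .a1, .a2]⟩,
  ⟨P335, 0, [], []⟩,
  ⟨P343, 1, [], []⟩,
  ⟨P345, 0, [.a10], [.a10, .a11]⟩]
def N736 : List Ent := [⟨4, [.a2, .a4, .a11], [.a2, .a4, .a6, .a8, .a11]⟩,
  ⟨8, [.a3], [.a3]⟩,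
  ⟨16, [.a4], [.a4, .a5]⟩,
  ⟨32, [.a5], [.a5]⟩,
  ⟨64, [.a6], [.a6]⟩,
  ⟨128, [.a7, .a11], [.a7, .a8, .a11]⟩,
  ⟨256, [.a8], [.a8]⟩,
  ⟨512, [.a9], [.a9]⟩,
  ⟨2048, [.a11], [.a11]⟩]
theorem bad736 (c : CtxF Goal γ) : Bad Goal γ [] P736 :=
  c.toCtx.bnd (B := B736) (D := D736) (I := [5, 6, 0, 1, 7, 3]) (r := 3) (C := C736) (N := N736) (by decide +kernel) (by decide +kernel) (by decide +kernel) (by decide +kernel)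
    (allB_cons (bad248 c) (allB_cons (bad341 c) (allB_cons (bad337 c) (allB_cons (bad296 c) (allB_cons (bad335 c) (allB_cons (bad343 c) (allB_cons (bad345 c) (allB_nil))))))))

def P737 : List Ent := [⟨4, [.a2, .a4], [.a2, .a4, .a5]⟩,
  ⟨8, [.a3, .a11], [.a3, .a8, .a11]⟩,
  ⟨32, [.a5], [.a5]⟩,
  ⟨64, [.a6], [.a6]⟩,
  ⟨128, [.a7, .a11], [.a7, .a8, .a11]⟩,
  ⟨256, [.a8], [.a8]⟩]
def B737 : List Gv := [⟨[.a2, .a4], [.a2, .a4, .a5]⟩, ⟨[.a3, .a11], [.a3, .a8, .a11]⟩, ⟨[.a7, .a11], [.a7, .a8, .a11]⟩]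
def D737 : List Dv := [⟨[.a5], [0, 0], []⟩,
  ⟨[.a6, .a8], [0, 2, 1], [1, 2]⟩,
  ⟨[.a8], [3, 3], []⟩,
  ⟨[.a6], [1], [0]⟩]
def C737 : List Ch := [⟨P250, 0, [], []⟩,
  ⟨P215, 1, [.a0], [.a0]⟩,
  ⟨P337, 0, [.a10], [.a10, .a11]⟩,
  ⟨P330, 2, [.a1, .a10], [.a1, .a2, .a4, .a5, .a7, .a9, .a10, .a11]⟩,
  ⟨P331, 0, [.a0, .a1, .a3, .a5, .a6, .a7, .a8, .a9, .a10], [.a0, .a10, .a11]⟩,
  ⟨P342, 1, [], []⟩,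
  ⟨P290, 0, [.a0, .a1], [.a0, .a1, .a2]⟩]
def N737 : List Ent := [⟨4, [.a2, .a4], [.a2, .a4, .a5]⟩,
  ⟨8, [.a3, .a11], [.a3, .a8, .a11]⟩,
  ⟨16, [.a4], [.a4, .a5]⟩,
  ⟨32, [.a5], [.a5]⟩,
  ⟨64, [.a6], [.a6]⟩,
  ⟨128, [.a7, .a11], [.a7, .a8, .a11]⟩,
  ⟨256, [.a8], [.a8]⟩,
  ⟨512, [.a9], [.a9]⟩,
  ⟨2048, [.a11], [.a11]⟩]
theorem bad737 (c : CtxF Goal γ) : Bad Goal γ [] P737 :=
  c.toCtx.bnd (B := B737) (D := D737) (I := [4, 5, 3, 0, 6, 1]) (r := 3) (C := C737) (N := N737) (by decide +kernel) (by decide +kernel) (by decide +kernel) (by decide +kernel)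
    (allB_cons (bad250 c) (allB_cons (bad215 c) (allB_cons (bad337 c) (allB_cons (bad330 c) (allB_cons (bad331 c) (allB_cons (bad342 c) (allB_cons (bad290 c) (allB_nil))))))))

def P738 : List Ent := [⟨4, [.a2, .a4, .a11], [.a2, .a4, .a6, .a8, .a11]⟩,
  ⟨8, [.a3, .a11], [.a3, .a8, .a11]⟩,
  ⟨32, [.a5], [.a5]⟩,
  ⟨64, [.a6], [.a6]⟩,
  ⟨128, [.a7, .a11], [.a7, .a8, .a11]⟩,
  ⟨256, [.a8], [.a8]⟩]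
def B738 : List Gv := [⟨[.a2, .a4, .a11], [.a2, .a4, .a6, .a8, .a11]⟩, ⟨[.a3, .a11], [.a3, .a8, .a11]⟩, ⟨[.a7, .a11], [.a7, .a8, .a11]⟩]
def D738 : List Dv := [⟨[.a6, .a8], [0, 0], []⟩,
  ⟨[.a5, .a6], [2, 1], [1, 2]⟩,
  ⟨[.a8], [3, 3], []⟩,
  ⟨[.a6], [2], [0]⟩,
  ⟨[.a5], [2], [0]⟩]
def C738 : List Ch := [⟨P250, 0, [], []⟩,
  ⟨P341, 1, [], []⟩,
  ⟨P253, 0, [.a0, .a1, .a3, .a5, .a6, .a7, .a8, .a9, .a10], [.a0, .a10, .a11]⟩,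
  ⟨P330, 2, [.a1], [.a1, .a2]⟩,
  ⟨P333, 0, [.a0, .a10], [.a0, .a1, .a2, .a3, .a4, .a6, .a8, .a9, .a10, .a11]⟩,
  ⟨P293, 1, [.a0], [.a0]⟩,
  ⟨P342, 0, [.a1], [.a1, .a2]⟩]
def N738 : List Ent := [⟨4, [.a2, .a4, .a11], [.a2, .a4, .a6, .a8, .a11]⟩,
  ⟨8, [.a3, .a11], [.a3, .a8, .a11]⟩,
  ⟨16, [.a4], [.a4, .a5]⟩,
  ⟨32, [.a5], [.a5]⟩,
  ⟨64, [.a6], [.a6]⟩,
  ⟨128, [.a7, .a11], [.a7, .a8, .a11]⟩,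
  ⟨256, [.a8], [.a8]⟩,
  ⟨512, [.a9], [.a9]⟩,
  ⟨2048, [.a11], [.a11]⟩]
theorem bad738 (c : CtxF Goal γ) : Bad Goal γ [] P738 :=
  c.toCtx.bnd (B := B738) (D := D738) (I := [5, 6, 0, 1, 7, 2]) (r := 3) (C := C738) (N := N738) (by decide +kernel) (by decide +kernel) (by decide +kernel) (by decide +kernel)
    (allB_cons (bad250 c) (allB_cons (bad341 c) (allB_cons (bad253 c) (allB_cons (bad330 c) (allB_cons (bad333 c) (allB_cons (bad293 c) (allB_cons (bad342 c) (allB_nil))))))))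

def P739 : List Ent := [⟨4, [.a2, .a4, .a9], [.a2, .a4, .a8, .a9]⟩,
  ⟨8, [.a3], [.a3]⟩,
  ⟨32, [.a5], [.a5]⟩,
  ⟨64, [.a6], [.a6]⟩,
  ⟨128, [.a7], [.a7, .a8]⟩,
  ⟨256, [.a8], [.a8]⟩]
def B739 : List Gv := [⟨[.a2, .a4, .a9], [.a2, .a4, .a8, .a9]⟩, ⟨[.a3], [.a3]⟩, ⟨[.a7], [.a7, .a8]⟩]
def D739 : List Dv := [⟨[.a8], [0, 0], []⟩,
  ⟨[.a6], [3, 1], [1, 3]⟩,
  ⟨[.a5], [4, 3], [3, 4]⟩]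
def C739 : List Ch := [⟨P243, 0, [], []⟩,
  ⟨P339, 1, [.a1, .a10], [.a1, .a2, .a4, .a5, .a7, .a9, .a10, .a11]⟩,
  ⟨P339, 0, [.a10], [.a10, .a11]⟩,
  ⟨P259, 2, [.a0], [.a0]⟩,
  ⟨P335, 0, [.a10], [.a10, .a11]⟩,
  ⟨P344, 1, [], []⟩,
  ⟨P344, 0, [.a1], [.a1, .a2]⟩]
def N739 : List Ent := [⟨2, [.a1], [.a1, .a2]⟩,
  ⟨4, [.a2, .a4, .a9], [.a2, .a4, .a8, .a9]⟩,
  ⟨8, [.a3], [.a3]⟩,
  ⟨16, [.a4], [.a4, .a5]⟩,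
  ⟨32, [.a5], [.a5]⟩,
  ⟨64, [.a6], [.a6]⟩,
  ⟨128, [.a7], [.a7, .a8]⟩,
  ⟨256, [.a8], [.a8]⟩,
  ⟨512, [.a9], [.a9]⟩,
  ⟨2048, [.a11], [.a11]⟩]
theorem bad739 (c : CtxF Goal γ) : Bad Goal γ [] P739 :=
  c.toCtx.bnd (B := B739) (D := D739) (I := [3, 4, 0, 1, 5, 2]) (r := 3) (C := C739) (N := N739) (by decide +kernel) (by decide +kernel) (by decide +kernel) (by decide +kernel)
    (allB_cons (bad243 c) (allB_cons (bad339 c) (allB_cons (bad339 c) (allB_cons (bad259 c) (allB_cons (bad335 c) (allB_cons (bad344 c) (allB_cons (bad344 c) (allB_nil))))))))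

def P740 : List Ent := [⟨4, [.a2, .a4, .a9], [.a2, .a4, .a8, .a9]⟩,
  ⟨8, [.a3, .a11], [.a3, .a8, .a11]⟩,
  ⟨32, [.a5], [.a5]⟩,
  ⟨64, [.a6], [.a6]⟩,
  ⟨128, [.a7], [.a7, .a8]⟩,
  ⟨256, [.a8], [.a8]⟩]
def B740 : List Gv := [⟨[.a2, .a4, .a9], [.a2, .a4, .a8, .a9]⟩, ⟨[.a3, .a11], [.a3, .a8, .a11]⟩, ⟨[.a7], [.a7, .a8]⟩]
def D740 : List Dv := [⟨[.a8], [0, 0], []⟩,
  ⟨[.a5, .a6, .a8], [2, 1], [1, 2]⟩,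
  ⟨[.a6], [4, 2], [2, 4]⟩,
  ⟨[.a5], [1], [0, 2]⟩]
def C740 : List Ch := [⟨P246, 0, [], []⟩,
  ⟨P339, 1, [.a1, .a10], [.a1, .a2, .a4, .a5, .a7, .a9, .a10, .a11]⟩,
  ⟨P295, 0, [.a0], [.a0]⟩,
  ⟨P327, 2, [], []⟩,
  ⟨P331, 0, [.a0], [.a0]⟩,
  ⟨P216, 1, [.a0, .a1, .a3, .a5, .a6, .a7, .a8, .a9, .a10], [.a0, .a10, .a11]⟩,
  ⟨P345, 0, [.a1], [.a1, .a2]⟩]
def N740 : List Ent := [⟨4, [.a2, .a4, .a9], [.a2, .a4, .a8, .a9]⟩,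
  ⟨8, [.a3, .a11], [.a3, .a8, .a11]⟩,
  ⟨16, [.a4], [.a4, .a5]⟩,
  ⟨32, [.a5], [.a5]⟩,
  ⟨64, [.a6], [.a6]⟩,
  ⟨128, [.a7], [.a7, .a8]⟩,
  ⟨256, [.a8], [.a8]⟩,
  ⟨512, [.a9], [.a9]⟩,
  ⟨2048, [.a11], [.a11]⟩]
theorem bad740 (c : CtxF Goal γ) : Bad Goal γ [] P740 :=
  c.toCtx.bnd (B := B740) (D := D740) (I := [4, 5, 0, 1, 6, 3]) (r := 3) (C := C740) (N := N740) (by decide +kernel) (by decide +kernel) (by decide +kernel) (by decide +kernel)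
    (allB_cons (bad246 c) (allB_cons (bad339 c) (allB_cons (bad295 c) (allB_cons (bad327 c) (allB_cons (bad331 c) (allB_cons (bad216 c) (allB_cons (bad345 c) (allB_nil))))))))

def P741 : List Ent := [⟨4, [.a2, .a4, .a9, .a11], [.a2, .a4, .a5, .a6, .a9, .a11]⟩,
  ⟨8, [.a3, .a11], [.a3, .a8, .a11]⟩,
  ⟨32, [.a5], [.a5]⟩,
  ⟨64, [.a6], [.a6]⟩,
  ⟨128, [.a7], [.a7, .a8]⟩,
  ⟨256, [.a8], [.a8]⟩]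
def B741 : List Gv := [⟨[.a2, .a4, .a9, .a11], [.a2, .a4, .a5, .a6, .a9, .a11]⟩, ⟨[.a3, .a11], [.a3, .a8, .a11]⟩, ⟨[.a7], [.a7, .a8]⟩]
def D741 : List Dv := [⟨[.a5, .a6], [0, 0], []⟩,
  ⟨[.a8], [2, 2], []⟩,
  ⟨[.a6], [4, 2], [2, 4]⟩,
  ⟨[.a5], [2], [0]⟩]
def C741 : List Ch := [⟨P246, 0, [], []⟩,
  ⟨P297, 1, [.a0], [.a0]⟩,
  ⟨P339, 0, [.a10], [.a10, .a11]⟩,
  ⟨P327, 2, [.a10], [.a10, .a11]⟩,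
  ⟨P333, 0, [.a1], [.a1, .a2]⟩,
  ⟨P343, 1, [.a1, .a10], [.a1, .a2, .a4, .a5, .a7, .a9, .a10, .a11]⟩,
  ⟨P257, 0, [.a0, .a1, .a3, .a5, .a6, .a7, .a8, .a9, .a10], [.a0, .a10, .a11]⟩]
def N741 : List Ent := [⟨4, [.a2, .a4, .a9, .a11], [.a2, .a4, .a5, .a6, .a9, .a11]⟩,
  ⟨8, [.a3, .a11], [.a3, .a8, .a11]⟩,
  ⟨16, [.a4], [.a4, .a5]⟩,
  ⟨32, [.a5], [.a5]⟩,
  ⟨64, [.a6], [.a6]⟩,
  ⟨128, [.a7], [.a7, .a8]⟩,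
  ⟨256, [.a8], [.a8]⟩,
  ⟨512, [.a9], [.a9]⟩,
  ⟨2048, [.a11], [.a11]⟩]
theorem bad741 (c : CtxF Goal γ) : Bad Goal γ [] P741 :=
  c.toCtx.bnd (B := B741) (D := D741) (I := [4, 5, 0, 1, 6, 2]) (r := 3) (C := C741) (N := N741) (by decide +kernel) (by decide +kernel) (by decide +kernel) (by decide +kernel)
    (allB_cons (bad246 c) (allB_cons (bad297 c) (allB_cons (bad339 c) (allB_cons (bad327 c) (allB_cons (bad333 c) (allB_cons (bad343 c) (allB_cons (bad257 c) (allB_nil))))))))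

def P742 : List Ent := [⟨4, [.a2, .a4, .a9], [.a2, .a4, .a8, .a9]⟩,
  ⟨8, [.a3, .a11], [.a3, .a8, .a11]⟩,
  ⟨32, [.a5], [.a5]⟩,
  ⟨64, [.a6], [.a6]⟩,
  ⟨128, [.a7, .a11], [.a7, .a8, .a11]⟩,
  ⟨256, [.a8], [.a8]⟩]
def B742 : List Gv := [⟨[.a2, .a4, .a9], [.a2, .a4, .a8, .a9]⟩, ⟨[.a3, .a11], [.a3, .a8, .a11]⟩, ⟨[.a7, .a11], [.a7, .a8, .a11]⟩]
def D742 : List Dv := [⟨[.a8], [0, 0], []⟩,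
  ⟨[.a5, .a6, .a8], [2, 1], [1, 2]⟩,
  ⟨[.a6], [0, 4, 2], [2, 4]⟩,
  ⟨[.a5], [1], [0, 2]⟩]
def C742 : List Ch := [⟨P250, 0, [], []⟩,
  ⟨P260, 1, [.a0], [.a0]⟩,
  ⟨P337, 0, [.a1], [.a1, .a2]⟩,
  ⟨P327, 2, [], []⟩,
  ⟨P333, 0, [.a1], [.a1, .a2]⟩,
  ⟨P344, 1, [], []⟩,
  ⟨P293, 0, [.a0, .a1], [.a0, .a1, .a2]⟩]
def N742 : List Ent := [⟨4, [.a2, .a4, .a9], [.a2, .a4, .a8, .a9]⟩,
  ⟨8, [.a3, .a11], [.a3, .a8, .a11]⟩,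
  ⟨16, [.a4], [.a4, .a5]⟩,
  ⟨32, [.a5], [.a5]⟩,
  ⟨64, [.a6], [.a6]⟩,
  ⟨128, [.a7, .a11], [.a7, .a8, .a11]⟩,
  ⟨256, [.a8], [.a8]⟩,
  ⟨512, [.a9], [.a9]⟩,
  ⟨2048, [.a11], [.a11]⟩]
theorem bad742 (c : CtxF Goal γ) : Bad Goal γ [] P742 :=
  c.toCtx.bnd (B := B742) (D := D742) (I := [4, 5, 0, 1, 6, 3]) (r := 3) (C := C742) (N := N742) (by decide +kernel) (by decide +kernel) (by decide +kernel) (by decide +kernel)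
    (allB_cons (bad250 c) (allB_cons (bad260 c) (allB_cons (bad337 c) (allB_cons (bad327 c) (allB_cons (bad333 c) (allB_cons (bad344 c) (allB_cons (bad293 c) (allB_nil))))))))

def P743 : List Ent := [⟨4, [.a2, .a4, .a9, .a11], [.a2, .a4, .a5, .a6, .a9, .a11]⟩,
  ⟨8, [.a3, .a11], [.a3, .a8, .a11]⟩,
  ⟨32, [.a5], [.a5]⟩,
  ⟨64, [.a6], [.a6]⟩,
  ⟨128, [.a7, .a11], [.a7, .a8, .a11]⟩,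
  ⟨256, [.a8], [.a8]⟩]
def B743 : List Gv := [⟨[.a2, .a4, .a9, .a11], [.a2, .a4, .a5, .a6, .a9, .a11]⟩, ⟨[.a3, .a11], [.a3, .a8, .a11]⟩, ⟨[.a7, .a11], [.a7, .a8, .a11]⟩]
def D743 : List Dv := [⟨[.a5, .a6], [0, 0], []⟩,
  ⟨[.a8], [2, 2], []⟩,
  ⟨[.a6, .a8], [1, 4, 2], [2, 4]⟩,
  ⟨[.a6], [0], [1]⟩,
  ⟨[.a5], [3], [0]⟩]
def C743 : List Ch := [⟨P250, 0, [], []⟩,
  ⟨P341, 1, [.a1, .a10], [.a1, .a2, .a4, .a5, .a7, .a9, .a10, .a11]⟩,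
  ⟨P211, 0, [.a0], [.a0]⟩,
  ⟨P327, 2, [.a10], [.a10, .a11]⟩,
  ⟨P331, 0, [.a0], [.a0]⟩,
  ⟨P290, 1, [.a0], [.a0]⟩,
  ⟨P344, 0, [.a1], [.a1, .a2]⟩]
def N743 : List Ent := [⟨4, [.a2, .a4, .a9, .a11], [.a2, .a4, .a5, .a6, .a9, .a11]⟩,
  ⟨8, [.a3, .a11], [.a3, .a8, .a11]⟩,
  ⟨16, [.a4], [.a4, .a5]⟩,
  ⟨32, [.a5], [.a5]⟩,
  ⟨64, [.a6], [.a6]⟩,
  ⟨128, [.a7, .a11], [.a7, .a8, .a11]⟩,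
  ⟨256, [.a8], [.a8]⟩,
  ⟨512, [.a9], [.a9]⟩,
  ⟨2048, [.a11], [.a11]⟩]
theorem bad743 (c : CtxF Goal γ) : Bad Goal γ [] P743 :=
  c.toCtx.bnd (B := B743) (D := D743) (I := [5, 6, 0, 1, 7, 3]) (r := 3) (C := C743) (N := N743) (by decide +kernel) (by decide +kernel) (by decide +kernel) (by decide +kernel)
    (allB_cons (bad250 c) (allB_cons (bad341 c) (allB_cons (bad211 c) (allB_cons (bad327 c) (allB_cons (bad331 c) (allB_cons (bad290 c) (allB_cons (bad344 c) (allB_nil))))))))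

def P744 : List Ent := [⟨4, [.a2, .a4], [.a2, .a4, .a5]⟩,
  ⟨8, [.a3, .a9], [.a3, .a9]⟩,
  ⟨32, [.a5], [.a5]⟩,
  ⟨64, [.a6], [.a6]⟩,
  ⟨128, [.a7], [.a7, .a8]⟩,
  ⟨256, [.a8], [.a8]⟩]
def B744 : List Gv := [⟨[.a2, .a4], [.a2, .a4, .a5]⟩, ⟨[.a3, .a9], [.a3, .a9]⟩, ⟨[.a7], [.a7, .a8]⟩]
def D744 : List Dv := [⟨[.a5], [0, 0], []⟩,
  ⟨[.a8], [0, 2, 1], [1, 2]⟩,
  ⟨[.a6], [4, 2], [2, 4]⟩]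
def C744 : List Ch := [⟨P244, 0, [], []⟩,
  ⟨P336, 1, [.a1, .a10], [.a1, .a2, .a4, .a5, .a7, .a9, .a10, .a11]⟩,
  ⟨P339, 0, [.a10], [.a10, .a11]⟩,
  ⟨P213, 2, [.a0], [.a0]⟩,
  ⟨P332, 0, [.a1], [.a1, .a2]⟩,
  ⟨P342, 1, [.a1, .a10], [.a1, .a2, .a4, .a5, .a7, .a9, .a10, .a11]⟩,
  ⟨P344, 0, [.a10], [.a10, .a11]⟩]
def N744 : List Ent := [⟨4, [.a2, .a4], [.a2, .a4, .a5]⟩,
  ⟨8, [.a3, .a9], [.a3, .a9]⟩,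
  ⟨16, [.a4], [.a4, .a5]⟩,
  ⟨32, [.a5], [.a5]⟩,
  ⟨64, [.a6], [.a6]⟩,
  ⟨128, [.a7], [.a7, .a8]⟩,
  ⟨256, [.a8], [.a8]⟩,
  ⟨512, [.a9], [.a9]⟩,
  ⟨2048, [.a11], [.a11]⟩]
theorem bad744 (c : CtxF Goal γ) : Bad Goal γ [] P744 :=
  c.toCtx.bnd (B := B744) (D := D744) (I := [3, 4, 2, 0, 5, 1]) (r := 3) (C := C744) (N := N744) (by decide +kernel) (by decide +kernel) (by decide +kernel) (by decide +kernel)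
    (allB_cons (bad244 c) (allB_cons (bad336 c) (allB_cons (bad339 c) (allB_cons (bad213 c) (allB_cons (bad332 c) (allB_cons (bad342 c) (allB_cons (bad344 c) (allB_nil))))))))

def P745 : List Ent := [⟨4, [.a2, .a4, .a11], [.a2, .a4, .a6, .a8, .a11]⟩,
  ⟨8, [.a3, .a9], [.a3, .a9]⟩,
  ⟨32, [.a5], [.a5]⟩,
  ⟨64, [.a6], [.a6]⟩,
  ⟨128, [.a7, .a11], [.a7, .a8, .a11]⟩,
  ⟨256, [.a8], [.a8]⟩]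
def B745 : List Gv := [⟨[.a2, .a4, .a11], [.a2, .a4, .a6, .a8, .a11]⟩, ⟨[.a3, .a9], [.a3, .a9]⟩, ⟨[.a7, .a11], [.a7, .a8, .a11]⟩]
def D745 : List Dv := [⟨[.a6, .a8], [0, 0], []⟩,
  ⟨[.a5], [2, 1], [1, 2]⟩,
  ⟨[.a8], [0, 4, 2], [2, 4]⟩,
  ⟨[.a6], [2], [0]⟩]
def C745 : List Ch := [⟨P214, 0, [.a0], [.a0]⟩,
  ⟨P341, 1, [], []⟩,
  ⟨P337, 0, [.a1], [.a1, .a2]⟩,
  ⟨P298, 2, [.a0, .a1, .a3, .a5, .a6, .a7, .a8, .a9, .a10], [.a0, .a10, .a11]⟩,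
  ⟨P332, 0, [.a1], [.a1, .a2]⟩,
  ⟨P345, 1, [], []⟩,
  ⟨P343, 0, [.a1], [.a1, .a2]⟩]
def N745 : List Ent := [⟨4, [.a2, .a4, .a11], [.a2, .a4, .a6, .a8, .a11]⟩,
  ⟨8, [.a3, .a9], [.a3, .a9]⟩,
  ⟨16, [.a4], [.a4, .a5]⟩,
  ⟨32, [.a5], [.a5]⟩,
  ⟨64, [.a6], [.a6]⟩,
  ⟨128, [.a7, .a11], [.a7, .a8, .a11]⟩,
  ⟨256, [.a8], [.a8]⟩,
  ⟨512, [.a9], [.a9]⟩,
  ⟨2048, [.a11], [.a11]⟩]
theorem bad745 (c : CtxF Goal γ) : Bad Goal γ [] P745 :=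
  c.toCtx.bnd (B := B745) (D := D745) (I := [4, 5, 2, 0, 6, 1]) (r := 3) (C := C745) (N := N745) (by decide +kernel) (by decide +kernel) (by decide +kernel) (by decide +kernel)
    (allB_cons (bad214 c) (allB_cons (bad341 c) (allB_cons (bad337 c) (allB_cons (bad298 c) (allB_cons (bad332 c) (allB_cons (bad345 c) (allB_cons (bad343 c) (allB_nil))))))))

def P746 : List Ent := [⟨4, [.a2, .a4, .a11], [.a2, .a4, .a6, .a8, .a11]⟩,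
  ⟨8, [.a3, .a5], [.a3, .a5]⟩,
  ⟨64, [.a6], [.a6]⟩,
  ⟨128, [.a7, .a10], [.a7, .a8, .a9, .a10, .a11]⟩,
  ⟨256, [.a8], [.a8]⟩,
  ⟨512, [.a9, .a11], [.a9, .a11]⟩]
def B746 : List Gv := [⟨[.a2, .a4, .a11], [.a2, .a4, .a6, .a8, .a11]⟩, ⟨[.a7, .a10], [.a7, .a8, .a9, .a10, .a11]⟩]
def D746 : List Dv := [⟨[.a6, .a8], [0, 0], []⟩,
  ⟨[.a3, .a5, .a8], [2, 1], [1, 2]⟩,
  ⟨[.a8, .a9, .a11], [3, 3], []⟩,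
  ⟨[.a9, .a11], [0, 2, 4], [4, 2]⟩,
  ⟨[.a8], [1], [0]⟩,
  ⟨[.a6], [4], [0]⟩,
  ⟨[.a3, .a5], [4], [1]⟩]
theorem bad746 (c : CtxF Goal γ) : Bad Goal γ [] P746 :=
  c.toCtx.cent (B := B746) (D := D746) (I := [7, 0, 1, 8, 2, 3]) (z := [.a5]) (by decide +kernel) (by decide +kernel)

def P747 : List Ent := [⟨4, [.a2, .a4, .a11], [.a2, .a4, .a6, .a8, .a11]⟩,
  ⟨8, [.a3, .a7, .a10], [.a3, .a6, .a7, .a9, .a10, .a11]⟩,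
  ⟨32, [.a5, .a7, .a10], [.a5, .a7, .a8, .a9, .a10, .a11]⟩,
  ⟨64, [.a6], [.a6]⟩,
  ⟨256, [.a8], [.a8]⟩,
  ⟨512, [.a9, .a11], [.a9, .a11]⟩]
def B747 : List Gv := [⟨[.a2, .a4, .a11], [.a2, .a4, .a6, .a8, .a11]⟩, ⟨[.a3, .a7, .a10], [.a3, .a6, .a7, .a9, .a10, .a11]⟩]
def D747 : List Dv := [⟨[.a6, .a8], [0, 0], []⟩,
  ⟨[.a5, .a6, .a7, .a10], [2, 2, 1], [1, 2]⟩,
  ⟨[.a9, .a11], [1, 3, 3], []⟩,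
  ⟨[.a8], [2, 4], [4, 2]⟩,
  ⟨[.a6], [3], [0]⟩,
  ⟨[.a5, .a7, .a10], [3], [0, 1]⟩]
theorem bad747 (c : CtxF Goal γ) : Bad Goal γ [] P747 :=
  c.toCtx.cent (B := B747) (D := D747) (I := [6, 7, 0, 1, 2, 3]) (z := [.a5]) (by decide +kernel) (by decide +kernel)

def P748 : List Ent := [⟨4, [.a2], [.a2]⟩,
  ⟨16, [.a4], [.a4, .a5]⟩,
  ⟨32, [.a5], [.a5]⟩,
  ⟨64, [.a6], [.a6]⟩,
  ⟨256, [.a8], [.a8]⟩,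
  ⟨2048, [.a11], [.a11]⟩]
def B748 : List Gv := [⟨[.a2], [.a2]⟩, ⟨[.a4], [.a4, .a5]⟩, ⟨[.a6], [.a6]⟩, ⟨[.a11], [.a11]⟩]
def D748 : List Dv := [⟨[.a5], [1, 1], []⟩,
  ⟨[.a8], [3, 0, 4, 1], [1, 4]⟩]
def C748 : List Ch := [⟨P210, 0, [], []⟩,
  ⟨P280, 1, [], []⟩,
  ⟨P329, 0, [], []⟩,
  ⟨P346, 2, [], []⟩,
  ⟨P347, 0, [], []⟩,
  ⟨P346, 1, [.a7], [.a7, .a8]⟩,
  ⟨P347, 0, [.a7], [.a7, .a8]⟩,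
  ⟨P348, 3, [], []⟩,
  ⟨P349, 0, [], []⟩,
  ⟨P314, 1, [.a0, .a1], [.a0, .a1, .a2]⟩,
  ⟨P266, 0, [.a0, .a10], [.a0, .a1, .a2, .a3, .a4, .a6, .a8, .a9, .a10, .a11]⟩,
  ⟨P346, 2, [.a3], [.a3]⟩,
  ⟨P347, 0, [.a3], [.a3]⟩,
  ⟨P346, 1, [.a3, .a7], [.a3, .a5, .a7, .a8]⟩,
  ⟨P347, 0, [.a3, .a7], [.a3, .a5, .a7, .a8]⟩]
def N748 : List Ent := [⟨4, [.a2], [.a2]⟩,
  ⟨8, [.a3], [.a3]⟩,
  ⟨16, [.a4], [.a4, .a5]⟩,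
  ⟨32, [.a5], [.a5]⟩,
  ⟨64, [.a6], [.a6]⟩,
  ⟨128, [.a7], [.a7, .a8]⟩,
  ⟨256, [.a8], [.a8]⟩,
  ⟨512, [.a9], [.a9]⟩,
  ⟨2048, [.a11], [.a11]⟩]
theorem bad748 (c : CtxF Goal γ) : Bad Goal γ [] P748 :=
  c.toCtx.bnd (B := B748) (D := D748) (I := [2, 3, 1, 4, 0, 5]) (r := 4) (C := C748) (N := N748) (by decide +kernel) (by decide +kernel) (by decide +kernel) (by decide +kernel)
    (allB_cons (bad210 c) (allB_cons (bad280 c) (allB_cons (bad329 c) (allB_cons (bad346 c) (allB_cons (bad347 c) (allB_cons (bad346 c) (allB_cons (bad347 c) (allB_cons (bad348 c) (allB_cons (bad349 c) (allB_cons (bad314 c) (allB_cons (bad266 c) (allB_cons (bad346 c) (allB_cons (bad347 c) (allB_cons (bad346 c) (allB_cons (bad347 c) (allB_nil))))))))))))))))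

def P749 : List Ent := [⟨4, [.a2], [.a2]⟩,
  ⟨8, [.a3, .a4], [.a3, .a4, .a5]⟩,
  ⟨32, [.a5], [.a5]⟩,
  ⟨64, [.a6], [.a6]⟩,
  ⟨256, [.a8], [.a8]⟩,
  ⟨2048, [.a11], [.a11]⟩]
def B749 : List Gv := [⟨[.a2], [.a2]⟩, ⟨[.a3, .a4], [.a3, .a4, .a5]⟩, ⟨[.a11], [.a11]⟩]
def D749 : List Dv := [⟨[.a5], [1, 1], []⟩,
  ⟨[.a6, .a8], [0, 3, 1], [1, 3]⟩,
  ⟨[.a8], [4, 3], [3, 4]⟩,
  ⟨[.a6], [1], [0]⟩]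
theorem bad749 (c : CtxF Goal γ) : Bad Goal γ [] P749 :=
  c.toCtx.cent (B := B749) (D := D749) (I := [4, 5, 3, 0, 1, 6]) (z := [.a4]) (by decide +kernel) (by decide +kernel)

def P750 : List Ent := [⟨4, [.a2], [.a2]⟩,
  ⟨8, [.a3], [.a3]⟩,
  ⟨16, [.a4], [.a4, .a5]⟩,
  ⟨32, [.a5], [.a5]⟩,
  ⟨64, [.a6], [.a6]⟩,
  ⟨256, [.a8], [.a8]⟩]
def B750 : List Gv := [⟨[.a2], [.a2]⟩, ⟨[.a3], [.a3]⟩, ⟨[.a4], [.a4, .a5]⟩, ⟨[.a6], [.a6]⟩, ⟨[.a8], [.a8]⟩]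
def D750 : List Dv := [⟨[.a5], [2, 2], []⟩]
def C750 : List Ch := [⟨P252, 0, [], []⟩,
  ⟨P348, 1, [], []⟩,
  ⟨P348, 0, [.a10], [.a10, .a11]⟩,
  ⟨P286, 2, [], []⟩,
  ⟨P252, 0, [.a0], [.a0]⟩,
  ⟨P348, 1, [.a1], [.a1, .a2]⟩,
  ⟨P348, 0, [.a0, .a10], [.a0, .a1, .a2, .a3, .a4, .a6, .a8, .a9, .a10, .a11]⟩,
  ⟨P350, 3, [], []⟩,
  ⟨P350, 0, [.a11], [.a11]⟩,
  ⟨P350, 1, [.a10], [.a10, .a11]⟩,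
  ⟨P350, 0, [.a10, .a11], [.a10]⟩,
  ⟨P350, 2, [.a7], [.a7, .a8]⟩,
  ⟨P350, 0, [.a0, .a11], [.a0, .a2, .a3, .a4, .a5, .a6, .a7, .a9, .a11]⟩,
  ⟨P350, 1, [.a1, .a10], [.a1, .a2, .a4, .a5, .a7, .a9, .a10, .a11]⟩,
  ⟨P350, 0, [.a0, .a1, .a3, .a5, .a6, .a7, .a8, .a9, .a10, .a11], [.a0, .a2, .a3, .a4, .a5, .a6, .a7, .a9, .a10]⟩,
  ⟨P351, 4, [], []⟩,
  ⟨P352, 0, [], []⟩,
  ⟨P352, 1, [.a11], [.a11]⟩,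
  ⟨P351, 0, [.a11], [.a11]⟩,
  ⟨P351, 2, [.a9], [.a9]⟩,
  ⟨P352, 0, [.a0], [.a0]⟩,
  ⟨P352, 1, [.a0, .a2, .a3, .a4, .a5, .a6, .a7, .a9, .a11], [.a0, .a11]⟩,
  ⟨P351, 0, [.a0, .a1, .a3, .a5, .a6, .a7, .a8, .a9, .a11], [.a0, .a1, .a2, .a3, .a4, .a6, .a8, .a9, .a11]⟩,
  ⟨P352, 3, [.a10, .a11], [.a10]⟩,
  ⟨P351, 0, [.a10, .a11], [.a10]⟩,
  ⟨P352, 1, [.a10], [.a10, .a11]⟩,
  ⟨P351, 0, [.a10], [.a10, .a11]⟩,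
  ⟨P352, 2, [.a0, .a1, .a2, .a3, .a4, .a6, .a8, .a9, .a10, .a11], [.a0, .a10]⟩,
  ⟨P351, 0, [.a0, .a2, .a3, .a4, .a5, .a6, .a7, .a9, .a10, .a11], [.a0, .a1, .a2, .a3, .a4, .a6, .a8, .a9, .a10]⟩,
  ⟨P352, 1, [.a0, .a1, .a3, .a5, .a6, .a7, .a8, .a9, .a10], [.a0, .a10, .a11]⟩,
  ⟨P351, 0, [.a0, .a10], [.a0, .a1, .a2, .a3, .a4, .a6, .a8, .a9, .a10, .a11]⟩]
def N750 : List Ent := [⟨1, [.a0], [.a0]⟩,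
  ⟨2, [.a1], [.a1, .a2]⟩,
  ⟨4, [.a2], [.a2]⟩,
  ⟨8, [.a3], [.a3]⟩,
  ⟨16, [.a4], [.a4, .a5]⟩,
  ⟨32, [.a5], [.a5]⟩,
  ⟨64, [.a6], [.a6]⟩,
  ⟨128, [.a7], [.a7, .a8]⟩,
  ⟨256, [.a8], [.a8]⟩,
  ⟨512, [.a9], [.a9]⟩,
  ⟨1024, [.a10], [.a10, .a11]⟩,
  ⟨2048, [.a11], [.a11]⟩]
theorem bad750 (c : CtxF Goal γ) : Bad Goal γ [] P750 :=
  c.toCtx.bnd (B := B750) (D := D750) (I := [1, 2, 3, 0, 4, 5]) (r := 5) (C := C750) (N := N750) (by decide +kernel) (by decide +kernel) (by decide +kernel) (by decide +kernel)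
    (allB_cons (bad252 c) (allB_cons (bad348 c) (allB_cons (bad348 c) (allB_cons (bad286 c) (allB_cons (bad252 c) (allB_cons (bad348 c) (allB_cons (bad348 c) (allB_cons (bad350 c) (allB_cons (bad350 c) (allB_cons (bad350 c) (allB_cons (bad350 c) (allB_cons (bad350 c) (allB_cons (bad350 c) (allB_cons (bad350 c) (allB_cons (bad350 c) (allB_cons (bad351 c) (allB_cons (bad352 c) (allB_cons (bad352 c) (allB_cons (bad351 c) (allB_cons (bad351 c) (allB_cons (bad352 c) (allB_cons (bad352 c) (allB_cons (bad351 c) (allB_cons (bad352 c) (allB_cons (bad351 c) (allB_cons (bad352 c) (allB_cons (bad351 c) (allB_cons (bad352 c) (allB_cons (bad351 c) (allB_cons (bad352 c) (allB_cons (bad351 c) (allB_nil))))))))))))))))))))))))))))))))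

def P751 : List Ent := [⟨4, [.a2, .a11], [.a2, .a5, .a6, .a8, .a11]⟩,
  ⟨8, [.a3], [.a3]⟩,
  ⟨16, [.a4], [.a4, .a5]⟩,
  ⟨32, [.a5], [.a5]⟩,
  ⟨64, [.a6], [.a6]⟩,
  ⟨256, [.a8], [.a8]⟩]
def B751 : List Gv := [⟨[.a2, .a11], [.a2, .a5, .a6, .a8, .a11]⟩, ⟨[.a3], [.a3]⟩, ⟨[.a4], [.a4, .a5]⟩]
def D751 : List Dv := [⟨[.a5, .a6, .a8], [0, 0], []⟩,
  ⟨[.a8], [2, 1], [1, 2]⟩,
  ⟨[.a6, .a8], [1, 4, 4], []⟩,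
  ⟨[.a6], [0], [1]⟩,
  ⟨[.a5], [3], [0, 2]⟩]
def C751 : List Ch := [⟨P252, 0, [], []⟩,
  ⟨P349, 1, [], []⟩,
  ⟨P349, 0, [.a10], [.a10, .a11]⟩,
  ⟨P274, 2, [.a0, .a1], [.a0, .a1, .a2]⟩,
  ⟨P296, 0, [.a0, .a1], [.a0, .a1, .a2]⟩,
  ⟨P353, 1, [], []⟩,
  ⟨P353, 0, [.a10], [.a10, .a11]⟩]
def N751 : List Ent := [⟨4, [.a2, .a11], [.a2, .a5, .a6, .a8, .a11]⟩,
  ⟨8, [.a3], [.a3]⟩,
  ⟨16, [.a4], [.a4, .a5]⟩,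
  ⟨32, [.a5], [.a5]⟩,
  ⟨64, [.a6], [.a6]⟩,
  ⟨128, [.a7], [.a7, .a8]⟩,
  ⟨256, [.a8], [.a8]⟩,
  ⟨512, [.a9], [.a9]⟩,
  ⟨1024, [.a10], [.a10, .a11]⟩,
  ⟨2048, [.a11], [.a11]⟩]
theorem bad751 (c : CtxF Goal γ) : Bad Goal γ [] P751 :=
  c.toCtx.bnd (B := B751) (D := D751) (I := [5, 6, 7, 0, 1, 3]) (r := 3) (C := C751) (N := N751) (by decide +kernel) (by decide +kernel) (by decide +kernel) (by decide +kernel)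
    (allB_cons (bad252 c) (allB_cons (bad349 c) (allB_cons (bad349 c) (allB_cons (bad274 c) (allB_cons (bad296 c) (allB_cons (bad353 c) (allB_cons (bad353 c) (allB_nil))))))))

def P752 : List Ent := [⟨4, [.a2], [.a2]⟩,
  ⟨8, [.a3, .a11], [.a3, .a8, .a11]⟩,
  ⟨16, [.a4], [.a4, .a5]⟩,
  ⟨32, [.a5], [.a5]⟩,
  ⟨64, [.a6], [.a6]⟩,
  ⟨256, [.a8], [.a8]⟩]
def B752 : List Gv := [⟨[.a2], [.a2]⟩, ⟨[.a3, .a11], [.a3, .a8, .a11]⟩, ⟨[.a4], [.a4, .a5]⟩]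
def D752 : List Dv := [⟨[.a5, .a6, .a8], [1, 0], [0, 1]⟩,
  ⟨[.a8], [2, 2], []⟩,
  ⟨[.a6, .a8], [1, 4, 4], []⟩,
  ⟨[.a6], [0], [1]⟩,
  ⟨[.a5], [3], [0, 2]⟩]
def C752 : List Ch := [⟨P253, 0, [], []⟩,
  ⟨P348, 1, [], []⟩,
  ⟨P349, 0, [.a10], [.a10, .a11]⟩,
  ⟨P282, 2, [.a1], [.a1, .a2]⟩,
  ⟨P330, 0, [.a1, .a10], [.a1, .a2, .a4, .a5, .a7, .a9, .a10, .a11]⟩,
  ⟨P306, 1, [.a0, .a1], [.a0, .a1, .a2]⟩,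
  ⟨P225, 0, [.a0, .a10], [.a0, .a1, .a2, .a3, .a4, .a6, .a8, .a9, .a10, .a11]⟩]
def N752 : List Ent := [⟨4, [.a2], [.a2]⟩,
  ⟨8, [.a3, .a11], [.a3, .a8, .a11]⟩,
  ⟨16, [.a4], [.a4, .a5]⟩,
  ⟨32, [.a5], [.a5]⟩,
  ⟨64, [.a6], [.a6]⟩,
  ⟨128, [.a7], [.a7, .a8]⟩,
  ⟨256, [.a8], [.a8]⟩,
  ⟨512, [.a9], [.a9]⟩,
  ⟨2048, [.a11], [.a11]⟩]
theorem bad752 (c : CtxF Goal γ) : Bad Goal γ [] P752 :=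
  c.toCtx.bnd (B := B752) (D := D752) (I := [5, 6, 7, 0, 1, 3]) (r := 3) (C := C752) (N := N752) (by decide +kernel) (by decide +kernel) (by decide +kernel) (by decide +kernel)
    (allB_cons (bad253 c) (allB_cons (bad348 c) (allB_cons (bad349 c) (allB_cons (bad282 c) (allB_cons (bad330 c) (allB_cons (bad306 c) (allB_cons (bad225 c) (allB_nil))))))))

def P753 : List Ent := [⟨4, [.a2], [.a2]⟩,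
  ⟨8, [.a3, .a11], [.a3, .a8, .a11]⟩,
  ⟨16, [.a4, .a11], [.a4, .a5, .a11]⟩,
  ⟨32, [.a5], [.a5]⟩,
  ⟨64, [.a6], [.a6]⟩,
  ⟨256, [.a8], [.a8]⟩]
def B753 : List Gv := [⟨[.a2], [.a2]⟩, ⟨[.a3, .a11], [.a3, .a8, .a11]⟩, ⟨[.a4, .a11], [.a4, .a5, .a11]⟩]
def D753 : List Dv := [⟨[.a5, .a6, .a8], [1, 0], [0, 1]⟩,
  ⟨[.a8], [2, 2], []⟩,
  ⟨[.a6, .a8], [1, 4, 4], []⟩,
  ⟨[.a6], [0], [1]⟩,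
  ⟨[.a5], [3], [0, 2]⟩]
theorem bad753 (c : CtxF Goal γ) : Bad Goal γ [] P753 :=
  c.toCtx.cent (B := B753) (D := D753) (I := [5, 6, 7, 0, 1, 3]) (z := [.a4]) (by decide +kernel) (by decide +kernel)

def P754 : List Ent := [⟨4, [.a2, .a10], [.a2, .a3, .a5, .a8, .a10, .a11]⟩,
  ⟨8, [.a3, .a11], [.a3, .a8, .a11]⟩,
  ⟨16, [.a4], [.a4, .a5]⟩,
  ⟨32, [.a5], [.a5]⟩,
  ⟨64, [.a6], [.a6]⟩,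
  ⟨256, [.a8], [.a8]⟩]
def B754 : List Gv := [⟨[.a2, .a10], [.a2, .a3, .a5, .a8, .a10, .a11]⟩, ⟨[.a3, .a11], [.a3, .a8, .a11]⟩, ⟨[.a4], [.a4, .a5]⟩]
def D754 : List Dv := [⟨[.a6], [1, 0, 0], []⟩,
  ⟨[.a8], [2, 1], [1, 2]⟩,
  ⟨[.a5], [4, 4], []⟩]
def C754 : List Ch := [⟨P253, 0, [], []⟩,
  ⟨P354, 1, [], []⟩,
  ⟨P354, 0, [.a3], [.a3]⟩,
  ⟨P288, 2, [], []⟩,
  ⟨P299, 0, [.a1], [.a1, .a2]⟩,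
  ⟨P355, 1, [], []⟩,
  ⟨P355, 0, [.a3], [.a3]⟩]
def N754 : List Ent := [⟨4, [.a2, .a10], [.a2, .a3, .a5, .a8, .a10, .a11]⟩,
  ⟨8, [.a3, .a11], [.a3, .a8, .a11]⟩,
  ⟨16, [.a4], [.a4, .a5]⟩,
  ⟨32, [.a5], [.a5]⟩,
  ⟨64, [.a6], [.a6]⟩,
  ⟨256, [.a8], [.a8]⟩,
  ⟨512, [.a9], [.a9]⟩,
  ⟨2048, [.a11], [.a11]⟩]
theorem bad754 (c : CtxF Goal γ) : Bad Goal γ [] P754 :=
  c.toCtx.bnd (B := B754) (D := D754) (I := [3, 4, 5, 0, 2, 1]) (r := 3) (C := C754) (N := N754) (by decide +kernel) (by decide +kernel) (by decide +kernel) (by decide +kernel)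
    (allB_cons (bad253 c) (allB_cons (bad354 c) (allB_cons (bad354 c) (allB_cons (bad288 c) (allB_cons (bad299 c) (allB_cons (bad355 c) (allB_cons (bad355 c) (allB_nil))))))))

def P755 : List Ent := [⟨4, [.a2, .a10], [.a2, .a3, .a5, .a8, .a10, .a11]⟩,
  ⟨8, [.a3, .a11], [.a3, .a8, .a11]⟩,
  ⟨16, [.a4, .a11], [.a4, .a5, .a11]⟩,
  ⟨32, [.a5], [.a5]⟩,
  ⟨64, [.a6], [.a6]⟩,
  ⟨256, [.a8], [.a8]⟩]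
def B755 : List Gv := [⟨[.a2, .a10], [.a2, .a3, .a5, .a8, .a10, .a11]⟩, ⟨[.a4, .a11], [.a4, .a5, .a11]⟩]
def D755 : List Dv := [⟨[.a3, .a6, .a8, .a11], [0, 0], []⟩,
  ⟨[.a5, .a6, .a8], [2, 1], [1, 2]⟩,
  ⟨[.a6, .a8], [0, 3, 3], []⟩,
  ⟨[.a8], [2, 4], [4, 2]⟩,
  ⟨[.a6], [1], [0]⟩,
  ⟨[.a5], [3], [0, 1]⟩,
  ⟨[.a3, .a11], [5], [1, 2]⟩]
theorem bad755 (c : CtxF Goal γ) : Bad Goal γ [] P755 :=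
  c.toCtx.cent (B := B755) (D := D755) (I := [7, 0, 8, 1, 2, 3]) (z := [.a4]) (by decide +kernel) (by decide +kernel)

def P756 : List Ent := [⟨4, [.a2, .a9], [.a2, .a5, .a9]⟩,
  ⟨16, [.a4], [.a4, .a5]⟩,
  ⟨32, [.a5], [.a5]⟩,
  ⟨64, [.a6], [.a6]⟩,
  ⟨256, [.a8], [.a8]⟩,
  ⟨2048, [.a11], [.a11]⟩]
def B756 : List Gv := [⟨[.a2, .a9], [.a2, .a5, .a9]⟩, ⟨[.a4], [.a4, .a5]⟩, ⟨[.a11], [.a11]⟩]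
def D756 : List Dv := [⟨[.a5], [0, 0], []⟩,
  ⟨[.a8], [2, 1], [1, 2]⟩,
  ⟨[.a6, .a8], [1, 4, 2], [2, 4]⟩,
  ⟨[.a6], [0], [1]⟩]
def C756 : List Ch := [⟨P210, 0, [], []⟩,
  ⟨P277, 1, [], []⟩,
  ⟨P325, 0, [], []⟩,
  ⟨P356, 2, [], []⟩,
  ⟨P353, 0, [.a1], [.a1, .a2]⟩,
  ⟨P316, 1, [.a0, .a10], [.a0, .a1, .a2, .a3, .a4, .a6, .a8, .a9, .a10, .a11]⟩,
  ⟨P270, 0, [.a0, .a1], [.a0, .a1, .a2]⟩]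
def N756 : List Ent := [⟨4, [.a2, .a9], [.a2, .a5, .a9]⟩,
  ⟨8, [.a3], [.a3]⟩,
  ⟨16, [.a4], [.a4, .a5]⟩,
  ⟨32, [.a5], [.a5]⟩,
  ⟨64, [.a6], [.a6]⟩,
  ⟨128, [.a7], [.a7, .a8]⟩,
  ⟨256, [.a8], [.a8]⟩,
  ⟨512, [.a9], [.a9]⟩,
  ⟨2048, [.a11], [.a11]⟩]
theorem bad756 (c : CtxF Goal γ) : Bad Goal γ [] P756 :=
  c.toCtx.bnd (B := B756) (D := D756) (I := [4, 5, 3, 0, 2, 6]) (r := 3) (C := C756) (N := N756) (by decide +kernel) (by decide +kernel) (by decide +kernel) (by decide +kernel)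
    (allB_cons (bad210 c) (allB_cons (bad277 c) (allB_cons (bad325 c) (allB_cons (bad356 c) (allB_cons (bad353 c) (allB_cons (bad316 c) (allB_cons (bad270 c) (allB_nil))))))))

def P757 : List Ent := [⟨4, [.a2, .a9], [.a2, .a5, .a9]⟩,
  ⟨8, [.a3, .a4], [.a3, .a4, .a5]⟩,
  ⟨32, [.a5], [.a5]⟩,
  ⟨64, [.a6], [.a6]⟩,
  ⟨256, [.a8], [.a8]⟩,
  ⟨2048, [.a11], [.a11]⟩]
def B757 : List Gv := [⟨[.a2, .a9], [.a2, .a5, .a9]⟩, ⟨[.a3, .a4], [.a3, .a4, .a5]⟩, ⟨[.a11], [.a11]⟩]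
def D757 : List Dv := [⟨[.a5], [0, 0], []⟩,
  ⟨[.a8], [2, 1], [1, 2]⟩,
  ⟨[.a6, .a8], [1, 4, 2], [2, 4]⟩,
  ⟨[.a6], [0], [1]⟩]
def C757 : List Ch := [⟨P215, 0, [.a1], [.a1, .a2]⟩,
  ⟨P277, 1, [], []⟩,
  ⟨P325, 0, [.a10], [.a10, .a11]⟩,
  ⟨P356, 2, [.a1], [.a1, .a2]⟩,
  ⟨P349, 0, [.a1], [.a1, .a2]⟩,
  ⟨P308, 1, [.a0, .a10], [.a0, .a1, .a2, .a3, .a4, .a6, .a8, .a9, .a10, .a11]⟩,
  ⟨P229, 0, [.a0, .a10], [.a0, .a1, .a2, .a3, .a4, .a6, .a8, .a9, .a10, .a11]⟩]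
def N757 : List Ent := [⟨4, [.a2, .a9], [.a2, .a5, .a9]⟩,
  ⟨8, [.a3, .a4], [.a3, .a4, .a5]⟩,
  ⟨16, [.a4], [.a4, .a5]⟩,
  ⟨32, [.a5], [.a5]⟩,
  ⟨64, [.a6], [.a6]⟩,
  ⟨128, [.a7], [.a7, .a8]⟩,
  ⟨256, [.a8], [.a8]⟩,
  ⟨512, [.a9], [.a9]⟩,
  ⟨2048, [.a11], [.a11]⟩]
theorem bad757 (c : CtxF Goal γ) : Bad Goal γ [] P757 :=
  c.toCtx.bnd (B := B757) (D := D757) (I := [4, 5, 3, 0, 2, 6]) (r := 3) (C := C757) (N := N757) (by decide +kernel) (by decide +kernel) (by decide +kernel) (by decide +kernel)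
    (allB_cons (bad215 c) (allB_cons (bad277 c) (allB_cons (bad325 c) (allB_cons (bad356 c) (allB_cons (bad349 c) (allB_cons (bad308 c) (allB_cons (bad229 c) (allB_nil))))))))

def P758 : List Ent := [⟨4, [.a2, .a9], [.a2, .a5, .a9]⟩,
  ⟨8, [.a3], [.a3]⟩,
  ⟨16, [.a4], [.a4, .a5]⟩,
  ⟨32, [.a5], [.a5]⟩,
  ⟨64, [.a6], [.a6]⟩,
  ⟨256, [.a8], [.a8]⟩]
def B758 : List Gv := [⟨[.a2, .a9], [.a2, .a5, .a9]⟩, ⟨[.a3], [.a3]⟩, ⟨[.a4], [.a4, .a5]⟩, ⟨[.a6], [.a6]⟩]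
def D758 : List Dv := [⟨[.a5], [0, 0], []⟩,
  ⟨[.a8], [3, 1], [1, 3]⟩]
def C758 : List Ch := [⟨P252, 0, [], []⟩,
  ⟨P356, 1, [], []⟩,
  ⟨P356, 0, [.a10], [.a10, .a11]⟩,
  ⟨P278, 2, [], []⟩,
  ⟨P259, 0, [.a0], [.a0]⟩,
  ⟨P356, 1, [.a1], [.a1, .a2]⟩,
  ⟨P356, 0, [.a1, .a10], [.a1, .a2, .a4, .a5, .a7, .a9, .a10, .a11]⟩,
  ⟨P357, 3, [], []⟩,
  ⟨P357, 0, [.a1], [.a1, .a2]⟩,
  ⟨P357, 1, [.a10], [.a10, .a11]⟩,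
  ⟨P357, 0, [.a1, .a3, .a4, .a5, .a7, .a10], [.a1, .a2, .a10, .a11]⟩,
  ⟨P357, 2, [.a7], [.a7, .a8]⟩,
  ⟨P357, 0, [.a1, .a7], [.a1, .a2, .a7, .a8]⟩,
  ⟨P357, 1, [.a7, .a10], [.a7, .a8, .a9, .a10, .a11]⟩,
  ⟨P357, 0, [.a1, .a10], [.a1, .a2, .a4, .a5, .a7, .a9, .a10, .a11]⟩]
def N758 : List Ent := [⟨2, [.a1], [.a1, .a2]⟩,
  ⟨4, [.a2, .a9], [.a2, .a5, .a9]⟩,
  ⟨8, [.a3], [.a3]⟩,
  ⟨16, [.a4], [.a4, .a5]⟩,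
  ⟨32, [.a5], [.a5]⟩,
  ⟨64, [.a6], [.a6]⟩,
  ⟨128, [.a7], [.a7, .a8]⟩,
  ⟨256, [.a8], [.a8]⟩,
  ⟨512, [.a9], [.a9]⟩,
  ⟨1024, [.a10], [.a10, .a11]⟩,
  ⟨2048, [.a11], [.a11]⟩]
theorem bad758 (c : CtxF Goal γ) : Bad Goal γ [] P758 :=
  c.toCtx.bnd (B := B758) (D := D758) (I := [2, 3, 4, 1, 5, 0]) (r := 4) (C := C758) (N := N758) (by decide +kernel) (by decide +kernel) (by decide +kernel) (by decide +kernel)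
    (allB_cons (bad252 c) (allB_cons (bad356 c) (allB_cons (bad356 c) (allB_cons (bad278 c) (allB_cons (bad259 c) (allB_cons (bad356 c) (allB_cons (bad356 c) (allB_cons (bad357 c) (allB_cons (bad357 c) (allB_cons (bad357 c) (allB_cons (bad357 c) (allB_cons (bad357 c) (allB_cons (bad357 c) (allB_cons (bad357 c) (allB_cons (bad357 c) (allB_nil))))))))))))))))

def P759 : List Ent := [⟨4, [.a2, .a9], [.a2, .a5, .a9]⟩,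
  ⟨8, [.a3, .a11], [.a3, .a8, .a11]⟩,
  ⟨16, [.a4], [.a4, .a5]⟩,
  ⟨32, [.a5], [.a5]⟩,
  ⟨64, [.a6], [.a6]⟩,
  ⟨256, [.a8], [.a8]⟩]
def B759 : List Gv := [⟨[.a2, .a9], [.a2, .a5, .a9]⟩, ⟨[.a3, .a11], [.a3, .a8, .a11]⟩, ⟨[.a4], [.a4, .a5]⟩]
def D759 : List Dv := [⟨[.a5], [0, 0], []⟩,
  ⟨[.a6, .a8], [0, 2, 1], [1, 2]⟩,
  ⟨[.a8], [3, 3], []⟩,
  ⟨[.a6], [1], [0]⟩]
def C759 : List Ch := [⟨P253, 0, [], []⟩,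
  ⟨P356, 1, [], []⟩,
  ⟨P353, 0, [.a1, .a10], [.a1, .a2, .a4, .a5, .a7, .a9, .a10, .a11]⟩,
  ⟨P279, 2, [], []⟩,
  ⟨P327, 0, [], []⟩,
  ⟨P308, 1, [.a0, .a10], [.a0, .a1, .a2, .a3, .a4, .a6, .a8, .a9, .a10, .a11]⟩,
  ⟨P229, 0, [.a0, .a1], [.a0, .a1, .a2]⟩]
def N759 : List Ent := [⟨4, [.a2, .a9], [.a2, .a5, .a9]⟩,
  ⟨8, [.a3, .a11], [.a3, .a8, .a11]⟩,
  ⟨16, [.a4], [.a4, .a5]⟩,
  ⟨32, [.a5], [.a5]⟩,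
  ⟨64, [.a6], [.a6]⟩,
  ⟨128, [.a7], [.a7, .a8]⟩,
  ⟨256, [.a8], [.a8]⟩,
  ⟨512, [.a9], [.a9]⟩,
  ⟨2048, [.a11], [.a11]⟩]
theorem bad759 (c : CtxF Goal γ) : Bad Goal γ [] P759 :=
  c.toCtx.bnd (B := B759) (D := D759) (I := [4, 5, 6, 3, 0, 1]) (r := 3) (C := C759) (N := N759) (by decide +kernel) (by decide +kernel) (by decide +kernel) (by decide +kernel)
    (allB_cons (bad253 c) (allB_cons (bad356 c) (allB_cons (bad353 c) (allB_cons (bad279 c) (allB_cons (bad327 c) (allB_cons (bad308 c) (allB_cons (bad229 c) (allB_nil))))))))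

def P760 : List Ent := [⟨4, [.a2, .a9], [.a2, .a5, .a9]⟩,
  ⟨8, [.a3, .a11], [.a3, .a8, .a11]⟩,
  ⟨16, [.a4, .a11], [.a4, .a5, .a11]⟩,
  ⟨32, [.a5], [.a5]⟩,
  ⟨64, [.a6], [.a6]⟩,
  ⟨256, [.a8], [.a8]⟩]
def B760 : List Gv := [⟨[.a2, .a9], [.a2, .a5, .a9]⟩, ⟨[.a3, .a11], [.a3, .a8, .a11]⟩, ⟨[.a4, .a11], [.a4, .a5, .a11]⟩]
def D760 : List Dv := [⟨[.a5], [0, 0], []⟩,
  ⟨[.a6, .a8], [0, 2, 1], [1, 2]⟩,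
  ⟨[.a8], [3, 3], []⟩,
  ⟨[.a6], [1], [0]⟩]
def C760 : List Ch := [⟨P254, 0, [], []⟩,
  ⟨P316, 1, [.a0, .a10], [.a0, .a1, .a2, .a3, .a4, .a6, .a8, .a9, .a10, .a11]⟩,
  ⟨P270, 0, [.a0, .a10], [.a0, .a1, .a2, .a3, .a4, .a6, .a8, .a9, .a10, .a11]⟩,
  ⟨P279, 2, [], []⟩,
  ⟨P327, 0, [.a10], [.a10, .a11]⟩,
  ⟨P356, 1, [.a1], [.a1, .a2]⟩,
  ⟨P349, 0, [.a1, .a10], [.a1, .a2, .a4, .a5, .a7, .a9, .a10, .a11]⟩]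
def N760 : List Ent := [⟨4, [.a2, .a9], [.a2, .a5, .a9]⟩,
  ⟨8, [.a3, .a11], [.a3, .a8, .a11]⟩,
  ⟨16, [.a4, .a11], [.a4, .a5, .a11]⟩,
  ⟨32, [.a5], [.a5]⟩,
  ⟨64, [.a6], [.a6]⟩,
  ⟨128, [.a7], [.a7, .a8]⟩,
  ⟨256, [.a8], [.a8]⟩,
  ⟨512, [.a9], [.a9]⟩,
  ⟨2048, [.a11], [.a11]⟩]
theorem bad760 (c : CtxF Goal γ) : Bad Goal γ [] P760 :=
  c.toCtx.bnd (B := B760) (D := D760) (I := [4, 5, 6, 3, 0, 1]) (r := 3) (C := C760) (N := N760) (by decide +kernel) (by decide +kernel) (by decide +kernel) (by decide +kernel)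
    (allB_cons (bad254 c) (allB_cons (bad316 c) (allB_cons (bad270 c) (allB_cons (bad279 c) (allB_cons (bad327 c) (allB_cons (bad356 c) (allB_cons (bad349 c) (allB_nil))))))))

def P761 : List Ent := [⟨4, [.a2], [.a2]⟩,
  ⟨16, [.a4, .a9], [.a4, .a5, .a8, .a9]⟩,
  ⟨32, [.a5], [.a5]⟩,
  ⟨64, [.a6], [.a6]⟩,
  ⟨256, [.a8], [.a8]⟩,
  ⟨2048, [.a11], [.a11]⟩]
def B761 : List Gv := [⟨[.a2], [.a2]⟩, ⟨[.a4, .a9], [.a4, .a5, .a8, .a9]⟩, ⟨[.a11], [.a11]⟩]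
def D761 : List Dv := [⟨[.a5], [1, 0], [0, 1]⟩,
  ⟨[.a8], [0, 2, 2], []⟩,
  ⟨[.a6, .a8], [1, 4, 2], [2, 4]⟩,
  ⟨[.a6], [0], [1]⟩]
def C761 : List Ch := [⟨P211, 0, [], []⟩,
  ⟨P280, 1, [], []⟩,
  ⟨P325, 0, [], []⟩,
  ⟨P358, 2, [], []⟩,
  ⟨P359, 0, [], []⟩,
  ⟨P306, 1, [.a0], [.a0]⟩,
  ⟨P229, 0, [.a0, .a1, .a3, .a5, .a6, .a7, .a8, .a9, .a10], [.a0, .a10, .a11]⟩]
def N761 : List Ent := [⟨4, [.a2], [.a2]⟩,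
  ⟨8, [.a3], [.a3]⟩,
  ⟨16, [.a4, .a9], [.a4, .a5, .a8, .a9]⟩,
  ⟨32, [.a5], [.a5]⟩,
  ⟨64, [.a6], [.a6]⟩,
  ⟨128, [.a7], [.a7, .a8]⟩,
  ⟨256, [.a8], [.a8]⟩,
  ⟨512, [.a9], [.a9]⟩,
  ⟨2048, [.a11], [.a11]⟩]
theorem bad761 (c : CtxF Goal γ) : Bad Goal γ [] P761 :=
  c.toCtx.bnd (B := B761) (D := D761) (I := [4, 5, 3, 0, 2, 6]) (r := 3) (C := C761) (N := N761) (by decide +kernel) (by decide +kernel) (by decide +kernel) (by decide +kernel)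
    (allB_cons (bad211 c) (allB_cons (bad280 c) (allB_cons (bad325 c) (allB_cons (bad358 c) (allB_cons (bad359 c) (allB_cons (bad306 c) (allB_cons (bad229 c) (allB_nil))))))))

def P762 : List Ent := [⟨4, [.a2], [.a2]⟩,
  ⟨8, [.a3, .a4, .a9], [.a3, .a4, .a5, .a8, .a9]⟩,
  ⟨32, [.a5], [.a5]⟩,
  ⟨64, [.a6], [.a6]⟩,
  ⟨256, [.a8], [.a8]⟩,
  ⟨2048, [.a11], [.a11]⟩]
def B762 : List Gv := [⟨[.a2], [.a2]⟩, ⟨[.a3, .a4, .a9], [.a3, .a4, .a5, .a8, .a9]⟩, ⟨[.a11], [.a11]⟩]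
def D762 : List Dv := [⟨[.a5], [1, 0], [0, 1]⟩,
  ⟨[.a8], [0, 2, 2], []⟩,
  ⟨[.a6, .a8], [1, 4, 2], [2, 4]⟩,
  ⟨[.a6], [0], [1]⟩]
def C762 : List Ch := [⟨P216, 0, [.a1], [.a1, .a2]⟩,
  ⟨P280, 1, [], []⟩,
  ⟨P325, 0, [.a10], [.a10, .a11]⟩,
  ⟨P358, 2, [.a0], [.a0]⟩,
  ⟨P360, 0, [], []⟩,
  ⟨P314, 1, [.a0], [.a0]⟩,
  ⟨P270, 0, [.a0], [.a0]⟩]
def N762 : List Ent := [⟨4, [.a2], [.a2]⟩,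
  ⟨8, [.a3, .a4, .a9], [.a3, .a4, .a5, .a8, .a9]⟩,
  ⟨16, [.a4], [.a4, .a5]⟩,
  ⟨32, [.a5], [.a5]⟩,
  ⟨64, [.a6], [.a6]⟩,
  ⟨128, [.a7], [.a7, .a8]⟩,
  ⟨256, [.a8], [.a8]⟩,
  ⟨512, [.a9], [.a9]⟩,
  ⟨2048, [.a11], [.a11]⟩]
theorem bad762 (c : CtxF Goal γ) : Bad Goal γ [] P762 :=
  c.toCtx.bnd (B := B762) (D := D762) (I := [4, 5, 3, 0, 2, 6]) (r := 3) (C := C762) (N := N762) (by decide +kernel) (by decide +kernel) (by decide +kernel) (by decide +kernel)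
    (allB_cons (bad216 c) (allB_cons (bad280 c) (allB_cons (bad325 c) (allB_cons (bad358 c) (allB_cons (bad360 c) (allB_cons (bad314 c) (allB_cons (bad270 c) (allB_nil))))))))

def P763 : List Ent := [⟨4, [.a2], [.a2]⟩,
  ⟨8, [.a3], [.a3]⟩,
  ⟨16, [.a4, .a9], [.a4, .a5, .a8, .a9]⟩,
  ⟨32, [.a5], [.a5]⟩,
  ⟨64, [.a6], [.a6]⟩,
  ⟨256, [.a8], [.a8]⟩]
def B763 : List Gv := [⟨[.a2], [.a2]⟩, ⟨[.a3], [.a3]⟩, ⟨[.a4, .a9], [.a4, .a5, .a8, .a9]⟩, ⟨[.a6], [.a6]⟩]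
def D763 : List Dv := [⟨[.a5], [2, 0], [0, 2]⟩,
  ⟨[.a8], [0, 3, 3], []⟩]
def C763 : List Ch := [⟨P259, 0, [], []⟩,
  ⟨P358, 1, [], []⟩,
  ⟨P358, 0, [.a10], [.a10, .a11]⟩,
  ⟨P286, 2, [], []⟩,
  ⟨P259, 0, [.a0], [.a0]⟩,
  ⟨P358, 1, [.a0], [.a0]⟩,
  ⟨P358, 0, [.a0, .a1, .a3, .a5, .a6, .a7, .a8, .a9, .a10], [.a0, .a10, .a11]⟩,
  ⟨P361, 3, [], []⟩,
  ⟨P361, 0, [.a11], [.a11]⟩,
  ⟨P361, 1, [.a10], [.a10, .a11]⟩,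
  ⟨P361, 0, [.a10, .a11], [.a10]⟩,
  ⟨P361, 2, [.a0], [.a0]⟩,
  ⟨P361, 0, [.a0, .a2, .a3, .a4, .a5, .a6, .a7, .a9, .a11], [.a0, .a11]⟩,
  ⟨P361, 1, [.a0, .a1, .a3, .a5, .a6, .a7, .a8, .a9, .a10], [.a0, .a10, .a11]⟩,
  ⟨P361, 0, [.a0, .a1, .a2, .a3, .a4, .a6, .a8, .a9, .a10, .a11], [.a0, .a10]⟩]
def N763 : List Ent := [⟨1, [.a0], [.a0]⟩,
  ⟨2, [.a1], [.a1, .a2]⟩,
  ⟨4, [.a2], [.a2]⟩,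
  ⟨8, [.a3], [.a3]⟩,
  ⟨16, [.a4, .a9], [.a4, .a5, .a8, .a9]⟩,
  ⟨32, [.a5], [.a5]⟩,
  ⟨64, [.a6], [.a6]⟩,
  ⟨128, [.a7], [.a7, .a8]⟩,
  ⟨256, [.a8], [.a8]⟩,
  ⟨512, [.a9], [.a9]⟩,
  ⟨1024, [.a10], [.a10, .a11]⟩,
  ⟨2048, [.a11], [.a11]⟩]
theorem bad763 (c : CtxF Goal γ) : Bad Goal γ [] P763 :=
  c.toCtx.bnd (B := B763) (D := D763) (I := [2, 3, 4, 1, 5, 0]) (r := 4) (C := C763) (N := N763) (by decide +kernel) (by decide +kernel) (by decide +kernel) (by decide +kernel)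
    (allB_cons (bad259 c) (allB_cons (bad358 c) (allB_cons (bad358 c) (allB_cons (bad286 c) (allB_cons (bad259 c) (allB_cons (bad358 c) (allB_cons (bad358 c) (allB_cons (bad361 c) (allB_cons (bad361 c) (allB_cons (bad361 c) (allB_cons (bad361 c) (allB_cons (bad361 c) (allB_cons (bad361 c) (allB_cons (bad361 c) (allB_cons (bad361 c) (allB_nil))))))))))))))))

def P764 : List Ent := [⟨4, [.a2, .a11], [.a2, .a5, .a6, .a8, .a11]⟩,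
  ⟨8, [.a3], [.a3]⟩,
  ⟨16, [.a4, .a9], [.a4, .a5, .a8, .a9]⟩,
  ⟨32, [.a5], [.a5]⟩,
  ⟨64, [.a6], [.a6]⟩,
  ⟨256, [.a8], [.a8]⟩]
def B764 : List Gv := [⟨[.a2, .a11], [.a2, .a5, .a6, .a8, .a11]⟩, ⟨[.a3], [.a3]⟩, ⟨[.a4, .a9], [.a4, .a5, .a8, .a9]⟩]
def D764 : List Dv := [⟨[.a5, .a6, .a8], [0, 0], []⟩,
  ⟨[.a8], [2, 1], [1, 2]⟩,
  ⟨[.a6, .a8], [1, 4, 2], [2, 4]⟩,
  ⟨[.a6], [0], [1]⟩,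
  ⟨[.a5], [3], [0, 2]⟩]
def C764 : List Ch := [⟨P259, 0, [], []⟩,
  ⟨P359, 1, [], []⟩,
  ⟨P359, 0, [.a10], [.a10, .a11]⟩,
  ⟨P274, 2, [.a0, .a1], [.a0, .a1, .a2]⟩,
  ⟨P296, 0, [.a0], [.a0]⟩,
  ⟨P360, 1, [], []⟩,
  ⟨P360, 0, [.a10], [.a10, .a11]⟩]
def N764 : List Ent := [⟨4, [.a2, .a11], [.a2, .a5, .a6, .a8, .a11]⟩,
  ⟨8, [.a3], [.a3]⟩,
  ⟨16, [.a4, .a9], [.a4, .a5, .a8, .a9]⟩,
  ⟨32, [.a5], [.a5]⟩,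
  ⟨64, [.a6], [.a6]⟩,
  ⟨128, [.a7], [.a7, .a8]⟩,
  ⟨256, [.a8], [.a8]⟩,
  ⟨512, [.a9], [.a9]⟩,
  ⟨1024, [.a10], [.a10, .a11]⟩,
  ⟨2048, [.a11], [.a11]⟩]
theorem bad764 (c : CtxF Goal γ) : Bad Goal γ [] P764 :=
  c.toCtx.bnd (B := B764) (D := D764) (I := [5, 6, 7, 0, 1, 3]) (r := 3) (C := C764) (N := N764) (by decide +kernel) (by decide +kernel) (by decide +kernel) (by decide +kernel)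
    (allB_cons (bad259 c) (allB_cons (bad359 c) (allB_cons (bad359 c) (allB_cons (bad274 c) (allB_cons (bad296 c) (allB_cons (bad360 c) (allB_cons (bad360 c) (allB_nil))))))))

def P765 : List Ent := [⟨4, [.a2], [.a2]⟩,
  ⟨8, [.a3, .a11], [.a3, .a8, .a11]⟩,
  ⟨16, [.a4, .a9], [.a4, .a5, .a8, .a9]⟩,
  ⟨32, [.a5], [.a5]⟩,
  ⟨64, [.a6], [.a6]⟩,
  ⟨256, [.a8], [.a8]⟩]
def B765 : List Gv := [⟨[.a2], [.a2]⟩, ⟨[.a3, .a11], [.a3, .a8, .a11]⟩, ⟨[.a4, .a9], [.a4, .a5, .a8, .a9]⟩]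
def D765 : List Dv := [⟨[.a5, .a6, .a8], [1, 0], [0, 1]⟩,
  ⟨[.a8], [2, 2], []⟩,
  ⟨[.a6, .a8], [1, 4, 2], [2, 4]⟩,
  ⟨[.a6], [0], [1]⟩,
  ⟨[.a5], [3], [0, 2]⟩]
def C765 : List Ch := [⟨P257, 0, [.a1], [.a1, .a2]⟩,
  ⟨P358, 1, [], []⟩,
  ⟨P359, 0, [.a10], [.a10, .a11]⟩,
  ⟨P282, 2, [.a1], [.a1, .a2]⟩,
  ⟨P327, 0, [], []⟩,
  ⟨P314, 1, [.a0], [.a0]⟩,
  ⟨P270, 0, [.a0, .a1, .a3, .a5, .a6, .a7, .a8, .a9, .a10], [.a0, .a10, .a11]⟩]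
def N765 : List Ent := [⟨4, [.a2], [.a2]⟩,
  ⟨8, [.a3, .a11], [.a3, .a8, .a11]⟩,
  ⟨16, [.a4, .a9], [.a4, .a5, .a8, .a9]⟩,
  ⟨32, [.a5], [.a5]⟩,
  ⟨64, [.a6], [.a6]⟩,
  ⟨128, [.a7], [.a7, .a8]⟩,
  ⟨256, [.a8], [.a8]⟩,
  ⟨512, [.a9], [.a9]⟩,
  ⟨2048, [.a11], [.a11]⟩]
theorem bad765 (c : CtxF Goal γ) : Bad Goal γ [] P765 :=
  c.toCtx.bnd (B := B765) (D := D765) (I := [5, 6, 7, 0, 1, 3]) (r := 3) (C := C765) (N := N765) (by decide +kernel) (by decide +kernel) (by decide +kernel) (by decide +kernel)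
    (allB_cons (bad257 c) (allB_cons (bad358 c) (allB_cons (bad359 c) (allB_cons (bad282 c) (allB_cons (bad327 c) (allB_cons (bad314 c) (allB_cons (bad270 c) (allB_nil))))))))

def P766 : List Ent := [⟨4, [.a2], [.a2]⟩,
  ⟨8, [.a3, .a11], [.a3, .a8, .a11]⟩,
  ⟨16, [.a4, .a9, .a11], [.a4, .a5, .a8, .a9, .a11]⟩,
  ⟨32, [.a5], [.a5]⟩,
  ⟨64, [.a6], [.a6]⟩,
  ⟨256, [.a8], [.a8]⟩]
def B766 : List Gv := [⟨[.a2], [.a2]⟩, ⟨[.a3, .a11], [.a3, .a8, .a11]⟩, ⟨[.a4, .a9, .a11], [.a4, .a5, .a8, .a9, .a11]⟩]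
def D766 : List Dv := [⟨[.a5, .a6, .a8], [1, 0], [0, 1]⟩,
  ⟨[.a8], [2, 2], []⟩,
  ⟨[.a6, .a8], [4, 2], [2, 4]⟩,
  ⟨[.a6], [0], [1]⟩,
  ⟨[.a5], [3], [0, 2]⟩]
def C766 : List Ch := [⟨P260, 0, [], []⟩,
  ⟨P306, 1, [.a0], [.a0]⟩,
  ⟨P229, 0, [.a0], [.a0]⟩,
  ⟨P282, 2, [.a1], [.a1, .a2]⟩,
  ⟨P327, 0, [.a10], [.a10, .a11]⟩,
  ⟨P358, 1, [.a0], [.a0]⟩,
  ⟨P360, 0, [.a10], [.a10, .a11]⟩]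
def N766 : List Ent := [⟨4, [.a2], [.a2]⟩,
  ⟨8, [.a3, .a11], [.a3, .a8, .a11]⟩,
  ⟨16, [.a4, .a9, .a11], [.a4, .a5, .a8, .a9, .a11]⟩,
  ⟨32, [.a5], [.a5]⟩,
  ⟨64, [.a6], [.a6]⟩,
  ⟨128, [.a7], [.a7, .a8]⟩,
  ⟨256, [.a8], [.a8]⟩,
  ⟨512, [.a9], [.a9]⟩,
  ⟨2048, [.a11], [.a11]⟩]
theorem bad766 (c : CtxF Goal γ) : Bad Goal γ [] P766 :=
  c.toCtx.bnd (B := B766) (D := D766) (I := [5, 6, 7, 0, 1, 3]) (r := 3) (C := C766) (N := N766) (by decide +kernel) (by decide +kernel) (by decide +kernel) (by decide +kernel)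
    (allB_cons (bad260 c) (allB_cons (bad306 c) (allB_cons (bad229 c) (allB_cons (bad282 c) (allB_cons (bad327 c) (allB_cons (bad358 c) (allB_cons (bad360 c) (allB_nil))))))))

def P767 : List Ent := [⟨4, [.a2, .a10], [.a2, .a3, .a5, .a8, .a10, .a11]⟩,
  ⟨8, [.a3, .a11], [.a3, .a8, .a11]⟩,
  ⟨16, [.a4, .a9], [.a4, .a5, .a8, .a9]⟩,
  ⟨32, [.a5], [.a5]⟩,
  ⟨64, [.a6], [.a6]⟩,
  ⟨256, [.a8], [.a8]⟩]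
def B767 : List Gv := [⟨[.a2, .a10], [.a2, .a3, .a5, .a8, .a10, .a11]⟩, ⟨[.a3, .a11], [.a3, .a8, .a11]⟩, ⟨[.a4, .a9], [.a4, .a5, .a8, .a9]⟩]
def D767 : List Dv := [⟨[.a6], [1, 0, 0], []⟩,
  ⟨[.a8], [2, 1], [1, 2]⟩,
  ⟨[.a5], [4, 2], [2, 4]⟩]
def C767 : List Ch := [⟨P257, 0, [.a1], [.a1, .a2]⟩,
  ⟨P362, 1, [], []⟩,
  ⟨P362, 0, [.a3], [.a3]⟩,
  ⟨P288, 2, [], []⟩,
  ⟨P299, 0, [.a1, .a7], [.a1, .a2, .a7, .a8]⟩,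
  ⟨P363, 1, [], []⟩,
  ⟨P363, 0, [.a3], [.a3]⟩]
def N767 : List Ent := [⟨4, [.a2, .a10], [.a2, .a3, .a5, .a8, .a10, .a11]⟩,
  ⟨8, [.a3, .a11], [.a3, .a8, .a11]⟩,
  ⟨16, [.a4, .a9], [.a4, .a5, .a8, .a9]⟩,
  ⟨32, [.a5], [.a5]⟩,
  ⟨64, [.a6], [.a6]⟩,
  ⟨256, [.a8], [.a8]⟩,
  ⟨512, [.a9], [.a9]⟩,
  ⟨2048, [.a11], [.a11]⟩]
theorem bad767 (c : CtxF Goal γ) : Bad Goal γ [] P767 :=
  c.toCtx.bnd (B := B767) (D := D767) (I := [3, 4, 5, 0, 2, 1]) (r := 3) (C := C767) (N := N767) (by decide +kernel) (by decide +kernel) (by decide +kernel) (by decide +kernel)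
    (allB_cons (bad257 c) (allB_cons (bad362 c) (allB_cons (bad362 c) (allB_cons (bad288 c) (allB_cons (bad299 c) (allB_cons (bad363 c) (allB_cons (bad363 c) (allB_nil))))))))

def P768 : List Ent := [⟨4, [.a2, .a10], [.a2, .a3, .a5, .a8, .a10, .a11]⟩,
  ⟨8, [.a3, .a11], [.a3, .a8, .a11]⟩,
  ⟨16, [.a4, .a9, .a11], [.a4, .a5, .a8, .a9, .a11]⟩,
  ⟨32, [.a5], [.a5]⟩,
  ⟨64, [.a6], [.a6]⟩,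
  ⟨256, [.a8], [.a8]⟩]
def B768 : List Gv := [⟨[.a2, .a10], [.a2, .a3, .a5, .a8, .a10, .a11]⟩, ⟨[.a4, .a9, .a11], [.a4, .a5, .a8, .a9, .a11]⟩]
def D768 : List Dv := [⟨[.a3, .a6, .a8, .a11], [0, 0], []⟩,
  ⟨[.a6, .a8], [2, 1], [1, 2]⟩,
  ⟨[.a5, .a8], [3, 3], []⟩,
  ⟨[.a8], [2, 4], [4, 2]⟩,
  ⟨[.a6], [2], [0]⟩,
  ⟨[.a5], [2], [1]⟩,
  ⟨[.a3, .a11], [5], [1, 2]⟩]
theorem bad768 (c : CtxF Goal γ) : Bad Goal γ [] P768 :=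
  c.toCtx.cent (B := B768) (D := D768) (I := [7, 0, 8, 1, 2, 3]) (z := [.a3, .a4, .a6, .a11]) (by decide +kernel) (by decide +kernel)

def P769 : List Ent := [⟨4, [.a2, .a9], [.a2, .a5, .a9]⟩,
  ⟨16, [.a4, .a9], [.a4, .a5, .a8, .a9]⟩,
  ⟨32, [.a5], [.a5]⟩,
  ⟨64, [.a6], [.a6]⟩,
  ⟨256, [.a8], [.a8]⟩,
  ⟨2048, [.a11], [.a11]⟩]
def B769 : List Gv := [⟨[.a2, .a9], [.a2, .a5, .a9]⟩, ⟨[.a4, .a9], [.a4, .a5, .a8, .a9]⟩, ⟨[.a11], [.a11]⟩]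
def D769 : List Dv := [⟨[.a5], [0, 0], []⟩,
  ⟨[.a8], [0, 2, 1], [1, 2]⟩,
  ⟨[.a6, .a8], [1, 4, 2], [2, 4]⟩,
  ⟨[.a6], [0], [1]⟩]
def C769 : List Ch := [⟨P211, 0, [], []⟩,
  ⟨P277, 1, [], []⟩,
  ⟨P329, 0, [], []⟩,
  ⟨P356, 2, [.a0, .a10], [.a0, .a1, .a2, .a3, .a4, .a6, .a8, .a9, .a10, .a11]⟩,
  ⟨P360, 0, [.a1], [.a1, .a2]⟩,
  ⟨P308, 1, [.a0, .a1, .a3, .a5, .a6, .a7, .a8, .a9, .a10], [.a0, .a10, .a11]⟩,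
  ⟨P225, 0, [.a0], [.a0]⟩]
def N769 : List Ent := [⟨4, [.a2, .a9], [.a2, .a5, .a9]⟩,
  ⟨8, [.a3], [.a3]⟩,
  ⟨16, [.a4, .a9], [.a4, .a5, .a8, .a9]⟩,
  ⟨32, [.a5], [.a5]⟩,
  ⟨64, [.a6], [.a6]⟩,
  ⟨128, [.a7], [.a7, .a8]⟩,
  ⟨256, [.a8], [.a8]⟩,
  ⟨512, [.a9], [.a9]⟩,
  ⟨2048, [.a11], [.a11]⟩]
theorem bad769 (c : CtxF Goal γ) : Bad Goal γ [] P769 :=
  c.toCtx.bnd (B := B769) (D := D769) (I := [4, 5, 3, 0, 2, 6]) (r := 3) (C := C769) (N := N769) (by decide +kernel) (by decide +kernel) (by decide +kernel) (by decide +kernel)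
    (allB_cons (bad211 c) (allB_cons (bad277 c) (allB_cons (bad329 c) (allB_cons (bad356 c) (allB_cons (bad360 c) (allB_cons (bad308 c) (allB_cons (bad225 c) (allB_nil))))))))

def P770 : List Ent := [⟨4, [.a2, .a9], [.a2, .a5, .a9]⟩,
  ⟨8, [.a3, .a4, .a9], [.a3, .a4, .a5, .a8, .a9]⟩,
  ⟨32, [.a5], [.a5]⟩,
  ⟨64, [.a6], [.a6]⟩,
  ⟨256, [.a8], [.a8]⟩,
  ⟨2048, [.a11], [.a11]⟩]
def B770 : List Gv := [⟨[.a2, .a9], [.a2, .a5, .a9]⟩, ⟨[.a3, .a4, .a9], [.a3, .a4, .a5, .a8, .a9]⟩, ⟨[.a11], [.a11]⟩]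
def D770 : List Dv := [⟨[.a5], [0, 0], []⟩,
  ⟨[.a8], [0, 2, 1], [1, 2]⟩,
  ⟨[.a6, .a8], [1, 4, 2], [2, 4]⟩,
  ⟨[.a6], [0], [1]⟩]
def C770 : List Ch := [⟨P216, 0, [.a1], [.a1, .a2]⟩,
  ⟨P277, 1, [], []⟩,
  ⟨P329, 0, [.a10], [.a10, .a11]⟩,
  ⟨P356, 2, [.a0, .a1, .a3, .a5, .a6, .a7, .a8, .a9, .a10], [.a0, .a10, .a11]⟩,
  ⟨P359, 0, [.a1], [.a1, .a2]⟩,
  ⟨P316, 1, [.a0, .a1, .a3, .a5, .a6, .a7, .a8, .a9, .a10], [.a0, .a10, .a11]⟩,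
  ⟨P266, 0, [.a0, .a1, .a3, .a5, .a6, .a7, .a8, .a9, .a10], [.a0, .a10, .a11]⟩]
def N770 : List Ent := [⟨4, [.a2, .a9], [.a2, .a5, .a9]⟩,
  ⟨8, [.a3, .a4, .a9], [.a3, .a4, .a5, .a8, .a9]⟩,
  ⟨16, [.a4], [.a4, .a5]⟩,
  ⟨32, [.a5], [.a5]⟩,
  ⟨64, [.a6], [.a6]⟩,
  ⟨128, [.a7], [.a7, .a8]⟩,
  ⟨256, [.a8], [.a8]⟩,
  ⟨512, [.a9], [.a9]⟩,
  ⟨2048, [.a11], [.a11]⟩]
theorem bad770 (c : CtxF Goal γ) : Bad Goal γ [] P770 :=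
  c.toCtx.bnd (B := B770) (D := D770) (I := [4, 5, 3, 0, 2, 6]) (r := 3) (C := C770) (N := N770) (by decide +kernel) (by decide +kernel) (by decide +kernel) (by decide +kernel)
    (allB_cons (bad216 c) (allB_cons (bad277 c) (allB_cons (bad329 c) (allB_cons (bad356 c) (allB_cons (bad359 c) (allB_cons (bad316 c) (allB_cons (bad266 c) (allB_nil))))))))

def P771 : List Ent := [⟨4, [.a2, .a9], [.a2, .a5, .a9]⟩,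
  ⟨8, [.a3, .a11], [.a3, .a8, .a11]⟩,
  ⟨16, [.a4, .a9], [.a4, .a5, .a8, .a9]⟩,
  ⟨32, [.a5], [.a5]⟩,
  ⟨64, [.a6], [.a6]⟩,
  ⟨256, [.a8], [.a8]⟩]
def B771 : List Gv := [⟨[.a2, .a9], [.a2, .a5, .a9]⟩, ⟨[.a3, .a11], [.a3, .a8, .a11]⟩, ⟨[.a4, .a9], [.a4, .a5, .a8, .a9]⟩]
def D771 : List Dv := [⟨[.a5], [0, 0], []⟩,
  ⟨[.a6, .a8], [0, 2, 1], [1, 2]⟩,
  ⟨[.a8], [3, 3], []⟩,
  ⟨[.a6], [1], [0]⟩]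
def C771 : List Ch := [⟨P257, 0, [.a1], [.a1, .a2]⟩,
  ⟨P356, 1, [.a0, .a10], [.a0, .a1, .a2, .a3, .a4, .a6, .a8, .a9, .a10, .a11]⟩,
  ⟨P360, 0, [.a1, .a10], [.a1, .a2, .a4, .a5, .a7, .a9, .a10, .a11]⟩,
  ⟨P279, 2, [], []⟩,
  ⟨P330, 0, [.a1, .a10], [.a1, .a2, .a4, .a5, .a7, .a9, .a10, .a11]⟩,
  ⟨P316, 1, [.a0, .a1, .a3, .a5, .a6, .a7, .a8, .a9, .a10], [.a0, .a10, .a11]⟩,
  ⟨P266, 0, [.a0], [.a0]⟩]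
def N771 : List Ent := [⟨4, [.a2, .a9], [.a2, .a5, .a9]⟩,
  ⟨8, [.a3, .a11], [.a3, .a8, .a11]⟩,
  ⟨16, [.a4, .a9], [.a4, .a5, .a8, .a9]⟩,
  ⟨32, [.a5], [.a5]⟩,
  ⟨64, [.a6], [.a6]⟩,
  ⟨128, [.a7], [.a7, .a8]⟩,
  ⟨256, [.a8], [.a8]⟩,
  ⟨512, [.a9], [.a9]⟩,
  ⟨2048, [.a11], [.a11]⟩]
theorem bad771 (c : CtxF Goal γ) : Bad Goal γ [] P771 :=
  c.toCtx.bnd (B := B771) (D := D771) (I := [4, 5, 6, 3, 0, 1]) (r := 3) (C := C771) (N := N771) (by decide +kernel) (by decide +kernel) (by decide +kernel) (by decide +kernel)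
    (allB_cons (bad257 c) (allB_cons (bad356 c) (allB_cons (bad360 c) (allB_cons (bad279 c) (allB_cons (bad330 c) (allB_cons (bad316 c) (allB_cons (bad266 c) (allB_nil))))))))

def P772 : List Ent := [⟨4, [.a2, .a9], [.a2, .a5, .a9]⟩,
  ⟨8, [.a3, .a11], [.a3, .a8, .a11]⟩,
  ⟨16, [.a4, .a9, .a11], [.a4, .a5, .a8, .a9, .a11]⟩,
  ⟨32, [.a5], [.a5]⟩,
  ⟨64, [.a6], [.a6]⟩,
  ⟨256, [.a8], [.a8]⟩]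
def B772 : List Gv := [⟨[.a2, .a9], [.a2, .a5, .a9]⟩, ⟨[.a3, .a11], [.a3, .a8, .a11]⟩, ⟨[.a4, .a9, .a11], [.a4, .a5, .a8, .a9, .a11]⟩]
def D772 : List Dv := [⟨[.a5], [0, 0], []⟩,
  ⟨[.a6, .a8], [0, 2, 1], [1, 2]⟩,
  ⟨[.a8], [3, 3], []⟩,
  ⟨[.a6], [1], [0]⟩]
def C772 : List Ch := [⟨P260, 0, [], []⟩,
  ⟨P308, 1, [.a0, .a1, .a3, .a5, .a6, .a7, .a8, .a9, .a10], [.a0, .a10, .a11]⟩,
  ⟨P225, 0, [.a0, .a1, .a3, .a5, .a6, .a7, .a8, .a9, .a10], [.a0, .a10, .a11]⟩,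
  ⟨P279, 2, [], []⟩,
  ⟨P330, 0, [.a1], [.a1, .a2]⟩,
  ⟨P356, 1, [.a0, .a1, .a3, .a5, .a6, .a7, .a8, .a9, .a10], [.a0, .a10, .a11]⟩,
  ⟨P359, 0, [.a1, .a10], [.a1, .a2, .a4, .a5, .a7, .a9, .a10, .a11]⟩]
def N772 : List Ent := [⟨4, [.a2, .a9], [.a2, .a5, .a9]⟩,
  ⟨8, [.a3, .a11], [.a3, .a8, .a11]⟩,
  ⟨16, [.a4, .a9, .a11], [.a4, .a5, .a8, .a9, .a11]⟩,
  ⟨32, [.a5], [.a5]⟩,
  ⟨64, [.a6], [.a6]⟩,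
  ⟨128, [.a7], [.a7, .a8]⟩,
  ⟨256, [.a8], [.a8]⟩,
  ⟨512, [.a9], [.a9]⟩,
  ⟨2048, [.a11], [.a11]⟩]
theorem bad772 (c : CtxF Goal γ) : Bad Goal γ [] P772 :=
  c.toCtx.bnd (B := B772) (D := D772) (I := [4, 5, 6, 3, 0, 1]) (r := 3) (C := C772) (N := N772) (by decide +kernel) (by decide +kernel) (by decide +kernel) (by decide +kernel)
    (allB_cons (bad260 c) (allB_cons (bad308 c) (allB_cons (bad225 c) (allB_cons (bad279 c) (allB_cons (bad330 c) (allB_cons (bad356 c) (allB_cons (bad359 c) (allB_nil))))))))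

def P773 : List Ent := [⟨4, [.a2], [.a2]⟩,
  ⟨16, [.a4], [.a4, .a5]⟩,
  ⟨32, [.a5], [.a5]⟩,
  ⟨64, [.a6], [.a6]⟩,
  ⟨256, [.a8], [.a8]⟩,
  ⟨512, [.a9], [.a9]⟩]
def B773 : List Gv := [⟨[.a2], [.a2]⟩, ⟨[.a4], [.a4, .a5]⟩, ⟨[.a6], [.a6]⟩, ⟨[.a9], [.a9]⟩]
def D773 : List Dv := [⟨[.a5], [1, 1], []⟩,
  ⟨[.a8], [4, 2], [2, 4]⟩]
theorem bad773 (c : CtxF Goal γ) : Bad Goal γ [] P773 :=
  c.toCtx.cent (B := B773) (D := D773) (I := [2, 3, 1, 4, 0, 5]) (z := [.a3]) (by decide +kernel) (by decide +kernel)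

def P774 : List Ent := [⟨4, [.a2, .a11], [.a2, .a5, .a6, .a8, .a11]⟩,
  ⟨16, [.a4], [.a4, .a5]⟩,
  ⟨32, [.a5], [.a5]⟩,
  ⟨64, [.a6], [.a6]⟩,
  ⟨256, [.a8], [.a8]⟩,
  ⟨512, [.a9], [.a9]⟩]
def B774 : List Gv := [⟨[.a2, .a11], [.a2, .a5, .a6, .a8, .a11]⟩, ⟨[.a4], [.a4, .a5]⟩, ⟨[.a9], [.a9]⟩]
def D774 : List Dv := [⟨[.a5, .a6, .a8], [0, 0], []⟩,
  ⟨[.a6, .a8], [0, 2, 2], []⟩,
  ⟨[.a8], [4, 3], [3, 4]⟩,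
  ⟨[.a6], [1], [0]⟩,
  ⟨[.a5], [3], [0, 1]⟩]
def C774 : List Ch := [⟨P213, 0, [], []⟩,
  ⟨P276, 1, [.a0], [.a0]⟩,
  ⟨P292, 0, [.a0], [.a0]⟩,
  ⟨P349, 2, [], []⟩,
  ⟨P353, 0, [.a1], [.a1, .a2]⟩,
  ⟨P359, 1, [], []⟩,
  ⟨P360, 0, [.a1], [.a1, .a2]⟩]
def N774 : List Ent := [⟨4, [.a2, .a11], [.a2, .a5, .a6, .a8, .a11]⟩,
  ⟨8, [.a3], [.a3]⟩,
  ⟨16, [.a4], [.a4, .a5]⟩,
  ⟨32, [.a5], [.a5]⟩,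
  ⟨64, [.a6], [.a6]⟩,
  ⟨128, [.a7], [.a7, .a8]⟩,
  ⟨256, [.a8], [.a8]⟩,
  ⟨512, [.a9], [.a9]⟩,
  ⟨2048, [.a11], [.a11]⟩]
theorem bad774 (c : CtxF Goal γ) : Bad Goal γ [] P774 :=
  c.toCtx.bnd (B := B774) (D := D774) (I := [5, 6, 0, 1, 2, 7]) (r := 3) (C := C774) (N := N774) (by decide +kernel) (by decide +kernel) (by decide +kernel) (by decide +kernel)
    (allB_cons (bad213 c) (allB_cons (bad276 c) (allB_cons (bad292 c) (allB_cons (bad349 c) (allB_cons (bad353 c) (allB_cons (bad359 c) (allB_cons (bad360 c) (allB_nil))))))))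

def P775 : List Ent := [⟨4, [.a2, .a11], [.a2, .a5, .a6, .a8, .a11]⟩,
  ⟨8, [.a3, .a9], [.a3, .a9]⟩,
  ⟨16, [.a4], [.a4, .a5]⟩,
  ⟨32, [.a5], [.a5]⟩,
  ⟨64, [.a6], [.a6]⟩,
  ⟨256, [.a8], [.a8]⟩]
def B775 : List Gv := [⟨[.a2, .a11], [.a2, .a5, .a6, .a8, .a11]⟩, ⟨[.a3, .a9], [.a3, .a9]⟩, ⟨[.a4], [.a4, .a5]⟩]
def D775 : List Dv := [⟨[.a5, .a6, .a8], [0, 0], []⟩,
  ⟨[.a6], [0, 2, 1], [1, 2]⟩,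
  ⟨[.a8], [4, 3], [3, 4]⟩,
  ⟨[.a5], [2], [1, 0]⟩]
def C775 : List Ch := [⟨P256, 0, [], []⟩,
  ⟨P349, 1, [], []⟩,
  ⟨P353, 0, [.a1, .a10], [.a1, .a2, .a4, .a5, .a7, .a9, .a10, .a11]⟩,
  ⟨P220, 2, [.a0, .a1, .a3, .a5, .a6, .a7, .a8, .a9, .a10], [.a0, .a10, .a11]⟩,
  ⟨P298, 0, [.a0, .a1, .a3, .a5, .a6, .a7, .a8, .a9, .a10], [.a0, .a10, .a11]⟩,
  ⟨P360, 1, [], []⟩,
  ⟨P359, 0, [.a1, .a10], [.a1, .a2, .a4, .a5, .a7, .a9, .a10, .a11]⟩]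
def N775 : List Ent := [⟨4, [.a2, .a11], [.a2, .a5, .a6, .a8, .a11]⟩,
  ⟨8, [.a3, .a9], [.a3, .a9]⟩,
  ⟨16, [.a4], [.a4, .a5]⟩,
  ⟨32, [.a5], [.a5]⟩,
  ⟨64, [.a6], [.a6]⟩,
  ⟨128, [.a7], [.a7, .a8]⟩,
  ⟨256, [.a8], [.a8]⟩,
  ⟨512, [.a9], [.a9]⟩,
  ⟨2048, [.a11], [.a11]⟩]
theorem bad775 (c : CtxF Goal γ) : Bad Goal γ [] P775 :=
  c.toCtx.bnd (B := B775) (D := D775) (I := [4, 5, 6, 0, 2, 1]) (r := 3) (C := C775) (N := N775) (by decide +kernel) (by decide +kernel) (by decide +kernel) (by decide +kernel)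
    (allB_cons (bad256 c) (allB_cons (bad349 c) (allB_cons (bad353 c) (allB_cons (bad220 c) (allB_cons (bad298 c) (allB_cons (bad360 c) (allB_cons (bad359 c) (allB_nil))))))))

def P776 : List Ent := [⟨4, [.a2], [.a2]⟩,
  ⟨8, [.a3], [.a3]⟩,
  ⟨16, [.a4], [.a4, .a5]⟩,
  ⟨32, [.a5], [.a5]⟩,
  ⟨256, [.a8], [.a8]⟩,
  ⟨512, [.a9], [.a9]⟩]
def B776 : List Gv := [⟨[.a2], [.a2]⟩, ⟨[.a3], [.a3]⟩, ⟨[.a4], [.a4, .a5]⟩, ⟨[.a9], [.a9]⟩]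
def D776 : List Dv := [⟨[.a5], [2, 2], []⟩,
  ⟨[.a8], [4, 3], [3, 4]⟩]
theorem bad776 (c : CtxF Goal γ) : Bad Goal γ [] P776 :=
  c.toCtx.cent (B := B776) (D := D776) (I := [2, 3, 4, 1, 0, 5]) (z := [.a6]) (by decide +kernel) (by decide +kernel)

def P777 : List Ent := [⟨4, [.a2, .a10], [.a2, .a3, .a5, .a8, .a10, .a11]⟩,
  ⟨8, [.a3, .a6, .a11], [.a3, .a6, .a8, .a11]⟩,
  ⟨16, [.a4], [.a4, .a5]⟩,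
  ⟨32, [.a5], [.a5]⟩,
  ⟨256, [.a8], [.a8]⟩,
  ⟨512, [.a9], [.a9]⟩]
def B777 : List Gv := [⟨[.a2, .a10], [.a2, .a3, .a5, .a8, .a10, .a11]⟩, ⟨[.a4], [.a4, .a5]⟩, ⟨[.a9], [.a9]⟩]
def D777 : List Dv := [⟨[.a3, .a6, .a8, .a11], [0, 0], []⟩,
  ⟨[.a5], [2, 2], []⟩,
  ⟨[.a8], [4, 3], [3, 4]⟩,
  ⟨[.a3, .a6, .a11], [2], [0]⟩]
def C777 : List Ch := [⟨P263, 0, [.a10], [.a10, .a11]⟩,
  ⟨P287, 1, [], []⟩,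
  ⟨P300, 0, [.a1], [.a1, .a2]⟩,
  ⟨P354, 2, [], []⟩,
  ⟨P355, 0, [.a7], [.a7, .a8]⟩,
  ⟨P362, 1, [], []⟩,
  ⟨P363, 0, [.a7], [.a7, .a8]⟩]
def S777 : List St := [.comm 1 1 [⟨32, [.a5], [.a5]⟩,
  ⟨256, [.a8], [.a8]⟩] [⟨[.a9], [.a2, .a10]⟩, ⟨[.a4], [.a9]⟩]]
theorem bad777 (c : CtxF Goal γ) : Bad Goal γ [] P777 :=
  c.toCtx.chn (B := B777) (D := D777) (I := [4, 0, 5, 2, 1, 6]) (r := 3) (C := C777) (l := S777) (x := ⟨[.a6], [.a6]⟩) (ix := [0]) (by decide +kernel) (by decide +kernel) (by decide +kernel) (by decide +kernel)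
    (allB_cons (bad263 c) (allB_cons (bad287 c) (allB_cons (bad300 c) (allB_cons (bad354 c) (allB_cons (bad355 c) (allB_cons (bad362 c) (allB_cons (bad363 c) (allB_nil))))))))

def P778 : List Ent := [⟨4, [.a2, .a10], [.a2, .a3, .a5, .a8, .a10, .a11]⟩,
  ⟨8, [.a3, .a9, .a11], [.a3, .a8, .a9, .a11]⟩,
  ⟨16, [.a4], [.a4, .a5]⟩,
  ⟨32, [.a5], [.a5]⟩,
  ⟨64, [.a6, .a9], [.a6, .a9]⟩,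
  ⟨256, [.a8], [.a8]⟩]
def B778 : List Gv := [⟨[.a2, .a10], [.a2, .a3, .a5, .a8, .a10, .a11]⟩, ⟨[.a3, .a9, .a11], [.a3, .a8, .a9, .a11]⟩, ⟨[.a4], [.a4, .a5]⟩]
def D778 : List Dv := [⟨[.a6, .a9], [1, 0, 0], []⟩,
  ⟨[.a5, .a8], [2, 1], [1, 2]⟩,
  ⟨[.a8], [3, 3], []⟩,
  ⟨[.a5], [1], [0]⟩]
def C778 : List Ch := [⟨P264, 0, [.a10], [.a10, .a11]⟩,
  ⟨P354, 1, [], []⟩,
  ⟨P355, 0, [.a3, .a7], [.a3, .a5, .a7, .a8]⟩,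
  ⟨P289, 2, [], []⟩,
  ⟨P301, 0, [.a1], [.a1, .a2]⟩,
  ⟨P363, 1, [], []⟩,
  ⟨P362, 0, [.a3, .a7], [.a3, .a5, .a7, .a8]⟩]
def S778 : List St := [.comm 1 1 [⟨32, [.a5, .a8], [.a5, .a8]⟩,
  ⟨256, [.a8], [.a8]⟩] [⟨[.a6, .a9], [.a2, .a10]⟩, ⟨[.a4], [.a6, .a9]⟩]]
theorem bad778 (c : CtxF Goal γ) : Bad Goal γ [] P778 :=
  c.toCtx.chn (B := B778) (D := D778) (I := [4, 5, 6, 0, 3, 1]) (r := 3) (C := C778) (l := S778) (x := ⟨[.a9], [.a9]⟩) (ix := [0]) (by decide +kernel) (by decide +kernel) (by decide +kernel) (by decide +kernel)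
    (allB_cons (bad264 c) (allB_cons (bad354 c) (allB_cons (bad355 c) (allB_cons (bad289 c) (allB_cons (bad301 c) (allB_cons (bad363 c) (allB_cons (bad362 c) (allB_nil))))))))

def P779 : List Ent := [⟨4, [.a2], [.a2]⟩,
  ⟨16, [.a4, .a7], [.a4, .a5, .a6, .a7, .a8]⟩,
  ⟨32, [.a5], [.a5]⟩,
  ⟨64, [.a6], [.a6]⟩,
  ⟨256, [.a8], [.a8]⟩,
  ⟨2048, [.a11], [.a11]⟩]
def B779 : List Gv := [⟨[.a2], [.a2]⟩, ⟨[.a4, .a7], [.a4, .a5, .a6, .a7, .a8]⟩, ⟨[.a5], [.a5]⟩, ⟨[.a6], [.a6]⟩, ⟨[.a11], [.a11]⟩]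
def D779 : List Dv := [⟨[.a8], [3, 2, 1, 1], []⟩]
def C779 : List Ch := [⟨P218, 0, [], []⟩,
  ⟨P280, 1, [], []⟩,
  ⟨P334, 0, [], []⟩,
  ⟨P364, 2, [], []⟩,
  ⟨P365, 0, [], []⟩,
  ⟨P365, 1, [.a9], [.a9]⟩,
  ⟨P364, 0, [.a9], [.a9]⟩,
  ⟨P366, 3, [], []⟩,
  ⟨P367, 0, [], []⟩,
  ⟨P366, 1, [.a4], [.a4, .a5]⟩,
  ⟨P367, 0, [.a4], [.a4, .a5]⟩,
  ⟨P364, 2, [.a0, .a1], [.a0, .a1, .a2]⟩,
  ⟨P364, 0, [.a0, .a1, .a3, .a8, .a9], [.a0, .a1, .a2, .a9]⟩,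
  ⟨P364, 1, [.a0, .a1, .a2, .a3, .a4], [.a0, .a1, .a2, .a4, .a5]⟩,
  ⟨P364, 0, [.a0, .a1, .a5, .a6, .a8, .a9], [.a0, .a1, .a2, .a3, .a6, .a9]⟩,
  ⟨P368, 4, [], []⟩,
  ⟨P218, 0, [.a0, .a1], [.a0, .a1, .a2]⟩,
  ⟨P280, 1, [.a0, .a1], [.a0, .a1, .a2]⟩,
  ⟨P369, 0, [], []⟩,
  ⟨P365, 2, [.a3, .a9], [.a3, .a9]⟩,
  ⟨P364, 0, [.a3, .a9], [.a3, .a9]⟩,
  ⟨P364, 1, [.a3], [.a3]⟩,
  ⟨P365, 0, [.a3], [.a3]⟩,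
  ⟨P366, 3, [.a3], [.a3]⟩,
  ⟨P367, 0, [.a3], [.a3]⟩,
  ⟨P366, 1, [.a3, .a4], [.a3, .a4, .a5]⟩,
  ⟨P367, 0, [.a3, .a4], [.a3, .a4, .a5]⟩,
  ⟨P365, 2, [.a0, .a1, .a3, .a8, .a9], [.a0, .a1, .a2, .a9]⟩,
  ⟨P365, 0, [.a0, .a1], [.a0, .a1, .a2]⟩,
  ⟨P365, 1, [.a0, .a1, .a5, .a6, .a8, .a9], [.a0, .a1, .a2, .a3, .a6, .a9]⟩,
  ⟨P365, 0, [.a0, .a1, .a2, .a3, .a4], [.a0, .a1, .a2, .a4, .a5]⟩]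
def N779 : List Ent := [⟨1, [.a0, .a1], [.a0, .a1, .a2]⟩,
  ⟨4, [.a2], [.a2]⟩,
  ⟨8, [.a3], [.a3]⟩,
  ⟨16, [.a4, .a7], [.a4, .a5, .a6, .a7, .a8]⟩,
  ⟨32, [.a5], [.a5]⟩,
  ⟨64, [.a6], [.a6]⟩,
  ⟨128, [.a7], [.a7, .a8]⟩,
  ⟨256, [.a8], [.a8]⟩,
  ⟨512, [.a9], [.a9]⟩,
  ⟨2048, [.a11], [.a11]⟩]
theorem bad779 (c : CtxF Goal γ) : Bad Goal γ [] P779 :=
  c.toCtx.bnd (B := B779) (D := D779) (I := [1, 2, 3, 4, 0, 5]) (r := 5) (C := C779) (N := N779) (by decide +kernel) (by decide +kernel) (by decide +kernel) (by decide +kernel)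
    (allB_cons (bad218 c) (allB_cons (bad280 c) (allB_cons (bad334 c) (allB_cons (bad364 c) (allB_cons (bad365 c) (allB_cons (bad365 c) (allB_cons (bad364 c) (allB_cons (bad366 c) (allB_cons (bad367 c) (allB_cons (bad366 c) (allB_cons (bad367 c) (allB_cons (bad364 c) (allB_cons (bad364 c) (allB_cons (bad364 c) (allB_cons (bad364 c) (allB_cons (bad368 c) (allB_cons (bad218 c) (allB_cons (bad280 c) (allB_cons (bad369 c) (allB_cons (bad365 c) (allB_cons (bad364 c) (allB_cons (bad364 c) (allB_cons (bad365 c) (allB_cons (bad366 c) (allB_cons (bad367 c) (allB_cons (bad366 c) (allB_cons (bad367 c) (allB_cons (bad365 c) (allB_cons (bad365 c) (allB_cons (bad365 c) (allB_cons (bad365 c) (allB_nil))))))))))))))))))))))))))))))))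

def P780 : List Ent := [⟨4, [.a2, .a9], [.a2, .a5, .a9]⟩,
  ⟨16, [.a4, .a7], [.a4, .a5, .a6, .a7, .a8]⟩,
  ⟨32, [.a5], [.a5]⟩,
  ⟨64, [.a6], [.a6]⟩,
  ⟨256, [.a8], [.a8]⟩,
  ⟨2048, [.a11], [.a11]⟩]
def B780 : List Gv := [⟨[.a2, .a9], [.a2, .a5, .a9]⟩, ⟨[.a4, .a7], [.a4, .a5, .a6, .a7, .a8]⟩, ⟨[.a11], [.a11]⟩]
def D780 : List Dv := [⟨[.a5], [0, 0], []⟩,
  ⟨[.a8], [2, 1], [1, 2]⟩,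
  ⟨[.a6, .a8], [1, 3, 3], []⟩,
  ⟨[.a6], [0], [1]⟩]
def C780 : List Ch := [⟨P218, 0, [], []⟩,
  ⟨P277, 1, [], []⟩,
  ⟨P331, 0, [], []⟩,
  ⟨P370, 2, [], []⟩,
  ⟨P275, 0, [.a0], [.a0]⟩,
  ⟨P279, 1, [.a0, .a10], [.a0, .a1, .a2, .a3, .a4, .a6, .a8, .a9, .a10, .a11]⟩,
  ⟨P371, 0, [], []⟩]
def N780 : List Ent := [⟨4, [.a2, .a9], [.a2, .a5, .a9]⟩,
  ⟨8, [.a3], [.a3]⟩,
  ⟨16, [.a4, .a7], [.a4, .a5, .a6, .a7, .a8]⟩,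
  ⟨32, [.a5], [.a5]⟩,
  ⟨64, [.a6], [.a6]⟩,
  ⟨128, [.a7], [.a7, .a8]⟩,
  ⟨256, [.a8], [.a8]⟩,
  ⟨512, [.a9], [.a9]⟩,
  ⟨2048, [.a11], [.a11]⟩]
theorem bad780 (c : CtxF Goal γ) : Bad Goal γ [] P780 :=
  c.toCtx.bnd (B := B780) (D := D780) (I := [4, 5, 3, 0, 2, 6]) (r := 3) (C := C780) (N := N780) (by decide +kernel) (by decide +kernel) (by decide +kernel) (by decide +kernel)
    (allB_cons (bad218 c) (allB_cons (bad277 c) (allB_cons (bad331 c) (allB_cons (bad370 c) (allB_cons (bad275 c) (allB_cons (bad279 c) (allB_cons (bad371 c) (allB_nil))))))))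

def P781 : List Ent := [⟨4, [.a2], [.a2]⟩,
  ⟨16, [.a4, .a7, .a9], [.a4, .a5, .a6, .a7, .a9]⟩,
  ⟨32, [.a5], [.a5]⟩,
  ⟨64, [.a6], [.a6]⟩,
  ⟨256, [.a8], [.a8]⟩,
  ⟨2048, [.a11], [.a11]⟩]
def B781 : List Gv := [⟨[.a2], [.a2]⟩, ⟨[.a4, .a7, .a9], [.a4, .a5, .a6, .a7, .a9]⟩, ⟨[.a11], [.a11]⟩]
def D781 : List Dv := [⟨[.a5], [1, 0], [0, 1]⟩,
  ⟨[.a6], [0, 2, 2], []⟩,
  ⟨[.a8], [0, 1, 4, 2], [2, 4]⟩]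
def C781 : List Ch := [⟨P218, 0, [.a10], [.a10, .a11]⟩,
  ⟨P280, 1, [], []⟩,
  ⟨P331, 0, [], []⟩,
  ⟨P372, 2, [], []⟩,
  ⟨P273, 0, [.a0, .a10], [.a0, .a1, .a2, .a3, .a4, .a6, .a8, .a9, .a10, .a11]⟩,
  ⟨P282, 1, [.a0, .a1], [.a0, .a1, .a2]⟩,
  ⟨P373, 0, [], []⟩]
def N781 : List Ent := [⟨4, [.a2], [.a2]⟩,
  ⟨8, [.a3], [.a3]⟩,
  ⟨16, [.a4, .a7, .a9], [.a4, .a5, .a6, .a7, .a9]⟩,
  ⟨32, [.a5], [.a5]⟩,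
  ⟨64, [.a6], [.a6]⟩,
  ⟨128, [.a7], [.a7, .a8]⟩,
  ⟨256, [.a8], [.a8]⟩,
  ⟨512, [.a9], [.a9]⟩,
  ⟨2048, [.a11], [.a11]⟩]
theorem bad781 (c : CtxF Goal γ) : Bad Goal γ [] P781 :=
  c.toCtx.bnd (B := B781) (D := D781) (I := [3, 4, 2, 1, 0, 5]) (r := 3) (C := C781) (N := N781) (by decide +kernel) (by decide +kernel) (by decide +kernel) (by decide +kernel)
    (allB_cons (bad218 c) (allB_cons (bad280 c) (allB_cons (bad331 c) (allB_cons (bad372 c) (allB_cons (bad273 c) (allB_cons (bad282 c) (allB_cons (bad373 c) (allB_nil))))))))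

def P782 : List Ent := [⟨4, [.a2, .a9], [.a2, .a5, .a9]⟩,
  ⟨16, [.a4, .a7, .a9], [.a4, .a5, .a6, .a7, .a9]⟩,
  ⟨32, [.a5], [.a5]⟩,
  ⟨64, [.a6], [.a6]⟩,
  ⟨256, [.a8], [.a8]⟩,
  ⟨2048, [.a11], [.a11]⟩]
def B782 : List Gv := [⟨[.a2, .a9], [.a2, .a5, .a9]⟩, ⟨[.a4, .a7, .a9], [.a4, .a5, .a6, .a7, .a9]⟩, ⟨[.a11], [.a11]⟩]
def D782 : List Dv := [⟨[.a5], [0, 0], []⟩,
  ⟨[.a8], [0, 2, 1], [1, 2]⟩,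
  ⟨[.a6], [1, 3, 3], []⟩]
def C782 : List Ch := [⟨P218, 0, [.a10], [.a10, .a11]⟩,
  ⟨P277, 1, [], []⟩,
  ⟨P334, 0, [], []⟩,
  ⟨P370, 2, [.a0, .a10], [.a0, .a1, .a2, .a3, .a4, .a6, .a8, .a9, .a10, .a11]⟩,
  ⟨P222, 0, [.a0, .a10], [.a0, .a1, .a2, .a3, .a4, .a6, .a8, .a9, .a10, .a11]⟩,
  ⟨P277, 1, [.a0, .a1, .a3, .a5, .a6, .a7, .a8, .a9, .a10], [.a0, .a10, .a11]⟩,
  ⟨P373, 0, [.a0, .a10], [.a0, .a1, .a2, .a3, .a4, .a6, .a8, .a9, .a10, .a11]⟩]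
def N782 : List Ent := [⟨4, [.a2, .a9], [.a2, .a5, .a9]⟩,
  ⟨8, [.a3], [.a3]⟩,
  ⟨16, [.a4, .a7, .a9], [.a4, .a5, .a6, .a7, .a9]⟩,
  ⟨32, [.a5], [.a5]⟩,
  ⟨64, [.a6], [.a6]⟩,
  ⟨128, [.a7], [.a7, .a8]⟩,
  ⟨256, [.a8], [.a8]⟩,
  ⟨512, [.a9], [.a9]⟩,
  ⟨2048, [.a11], [.a11]⟩]
theorem bad782 (c : CtxF Goal γ) : Bad Goal γ [] P782 :=
  c.toCtx.bnd (B := B782) (D := D782) (I := [3, 4, 2, 0, 1, 5]) (r := 3) (C := C782) (N := N782) (by decide +kernel) (by decide +kernel) (by decide +kernel) (by decide +kernel)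
    (allB_cons (bad218 c) (allB_cons (bad277 c) (allB_cons (bad334 c) (allB_cons (bad370 c) (allB_cons (bad222 c) (allB_cons (bad277 c) (allB_cons (bad373 c) (allB_nil))))))))

def P783 : List Ent := [⟨4, [.a2], [.a2]⟩,
  ⟨16, [.a4, .a7], [.a4, .a5, .a6, .a7, .a8]⟩,
  ⟨32, [.a5], [.a5]⟩,
  ⟨64, [.a6], [.a6]⟩,
  ⟨256, [.a8], [.a8]⟩,
  ⟨512, [.a9], [.a9]⟩]
def B783 : List Gv := [⟨[.a2], [.a2]⟩, ⟨[.a4, .a7], [.a4, .a5, .a6, .a7, .a8]⟩, ⟨[.a9], [.a9]⟩]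
def D783 : List Dv := [⟨[.a5, .a6, .a8], [1, 1], []⟩,
  ⟨[.a6, .a8], [0, 3, 1], [1, 3]⟩,
  ⟨[.a8], [4, 3], [3, 4]⟩,
  ⟨[.a6], [1], [0]⟩,
  ⟨[.a5], [3], [0, 1]⟩]
def C783 : List Ch := [⟨P219, 0, [], []⟩,
  ⟨P281, 1, [.a0], [.a0]⟩,
  ⟨P332, 0, [.a0], [.a0]⟩,
  ⟨P368, 2, [], []⟩,
  ⟨P370, 0, [], []⟩,
  ⟨P372, 1, [], []⟩,
  ⟨P370, 0, [.a0, .a10], [.a0, .a1, .a2, .a3, .a4, .a6, .a8, .a9, .a10, .a11]⟩]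
def N783 : List Ent := [⟨4, [.a2], [.a2]⟩,
  ⟨8, [.a3], [.a3]⟩,
  ⟨16, [.a4, .a7], [.a4, .a5, .a6, .a7, .a8]⟩,
  ⟨32, [.a5], [.a5]⟩,
  ⟨64, [.a6], [.a6]⟩,
  ⟨128, [.a7], [.a7, .a8]⟩,
  ⟨256, [.a8], [.a8]⟩,
  ⟨512, [.a9], [.a9]⟩,
  ⟨2048, [.a11], [.a11]⟩]
theorem bad783 (c : CtxF Goal γ) : Bad Goal γ [] P783 :=
  c.toCtx.bnd (B := B783) (D := D783) (I := [5, 6, 0, 1, 2, 7]) (r := 3) (C := C783) (N := N783) (by decide +kernel) (by decide +kernel) (by decide +kernel) (by decide +kernel)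
    (allB_cons (bad219 c) (allB_cons (bad281 c) (allB_cons (bad332 c) (allB_cons (bad368 c) (allB_cons (bad370 c) (allB_cons (bad372 c) (allB_cons (bad370 c) (allB_nil))))))))

def P784 : List Ent := [⟨4, [.a2, .a11], [.a2, .a5, .a6, .a8, .a11]⟩,
  ⟨16, [.a4, .a7, .a11], [.a4, .a5, .a6, .a7, .a8, .a11]⟩,
  ⟨32, [.a5], [.a5]⟩,
  ⟨64, [.a6], [.a6]⟩,
  ⟨256, [.a8], [.a8]⟩,
  ⟨512, [.a9], [.a9]⟩]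
def B784 : List Gv := [⟨[.a2, .a11], [.a2, .a5, .a6, .a8, .a11]⟩, ⟨[.a4, .a7, .a11], [.a4, .a5, .a6, .a7, .a8, .a11]⟩, ⟨[.a9], [.a9]⟩]
def D784 : List Dv := [⟨[.a5, .a6, .a8], [0, 0], []⟩,
  ⟨[.a6, .a8], [0, 3, 1], [1, 3]⟩,
  ⟨[.a8], [4, 3], [3, 4]⟩,
  ⟨[.a6], [1], [0]⟩,
  ⟨[.a5], [3], [0, 1]⟩]
def C784 : List Ch := [⟨P220, 0, [], []⟩,
  ⟨P276, 1, [.a0], [.a0]⟩,
  ⟨P332, 0, [.a0], [.a0]⟩,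
  ⟨P369, 2, [], []⟩,
  ⟨P371, 0, [], []⟩,
  ⟨P373, 1, [], []⟩,
  ⟨P373, 0, [.a0, .a10], [.a0, .a1, .a2, .a3, .a4, .a6, .a8, .a9, .a10, .a11]⟩]
def N784 : List Ent := [⟨4, [.a2, .a11], [.a2, .a5, .a6, .a8, .a11]⟩,
  ⟨8, [.a3], [.a3]⟩,
  ⟨16, [.a4, .a7, .a11], [.a4, .a5, .a6, .a7, .a8, .a11]⟩,
  ⟨32, [.a5], [.a5]⟩,
  ⟨64, [.a6], [.a6]⟩,
  ⟨128, [.a7], [.a7, .a8]⟩,
  ⟨256, [.a8], [.a8]⟩,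
  ⟨512, [.a9], [.a9]⟩,
  ⟨2048, [.a11], [.a11]⟩]
theorem bad784 (c : CtxF Goal γ) : Bad Goal γ [] P784 :=
  c.toCtx.bnd (B := B784) (D := D784) (I := [5, 6, 0, 1, 2, 7]) (r := 3) (C := C784) (N := N784) (by decide +kernel) (by decide +kernel) (by decide +kernel) (by decide +kernel)
    (allB_cons (bad220 c) (allB_cons (bad276 c) (allB_cons (bad332 c) (allB_cons (bad369 c) (allB_cons (bad371 c) (allB_cons (bad373 c) (allB_cons (bad373 c) (allB_nil))))))))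

def P785 : List Ent := [⟨4, [.a2], [.a2]⟩,
  ⟨16, [.a4, .a7], [.a4, .a5, .a6, .a7, .a8]⟩,
  ⟨32, [.a5], [.a5]⟩,
  ⟨64, [.a6], [.a6]⟩,
  ⟨256, [.a8], [.a8]⟩,
  ⟨512, [.a9, .a11], [.a9, .a11]⟩]
def B785 : List Gv := [⟨[.a2], [.a2]⟩, ⟨[.a4, .a7], [.a4, .a5, .a6, .a7, .a8]⟩, ⟨[.a9, .a11], [.a9, .a11]⟩]
def D785 : List Dv := [⟨[.a5, .a6, .a8], [1, 1], []⟩,
  ⟨[.a6, .a8], [3, 1], [1, 3]⟩,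
  ⟨[.a8], [4, 3], [3, 4]⟩,
  ⟨[.a6], [1], [0]⟩,
  ⟨[.a5], [3], [0, 1]⟩]
def C785 : List Ch := [⟨P222, 0, [], []⟩,
  ⟨P280, 1, [.a1], [.a1, .a2]⟩,
  ⟨P331, 0, [.a1, .a10], [.a1, .a2, .a4, .a5, .a7, .a9, .a10, .a11]⟩,
  ⟨P368, 2, [], []⟩,
  ⟨P275, 0, [.a0], [.a0]⟩,
  ⟨P282, 1, [.a0, .a1], [.a0, .a1, .a2]⟩,
  ⟨P373, 0, [.a0, .a10], [.a0, .a1, .a2, .a3, .a4, .a6, .a8, .a9, .a10, .a11]⟩]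
def N785 : List Ent := [⟨4, [.a2], [.a2]⟩,
  ⟨8, [.a3], [.a3]⟩,
  ⟨16, [.a4, .a7], [.a4, .a5, .a6, .a7, .a8]⟩,
  ⟨32, [.a5], [.a5]⟩,
  ⟨64, [.a6], [.a6]⟩,
  ⟨128, [.a7], [.a7, .a8]⟩,
  ⟨256, [.a8], [.a8]⟩,
  ⟨512, [.a9, .a11], [.a9, .a11]⟩,
  ⟨2048, [.a11], [.a11]⟩]
theorem bad785 (c : CtxF Goal γ) : Bad Goal γ [] P785 :=
  c.toCtx.bnd (B := B785) (D := D785) (I := [5, 6, 0, 1, 2, 7]) (r := 3) (C := C785) (N := N785) (by decide +kernel) (by decide +kernel) (by decide +kernel) (by decide +kernel)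
    (allB_cons (bad222 c) (allB_cons (bad280 c) (allB_cons (bad331 c) (allB_cons (bad368 c) (allB_cons (bad275 c) (allB_cons (bad282 c) (allB_cons (bad373 c) (allB_nil))))))))

def P786 : List Ent := [⟨4, [.a2], [.a2]⟩,
  ⟨16, [.a4, .a7, .a11], [.a4, .a5, .a6, .a7, .a8, .a11]⟩,
  ⟨32, [.a5], [.a5]⟩,
  ⟨64, [.a6], [.a6]⟩,
  ⟨256, [.a8], [.a8]⟩,
  ⟨512, [.a9, .a11], [.a9, .a11]⟩]
def B786 : List Gv := [⟨[.a2], [.a2]⟩, ⟨[.a4, .a7, .a11], [.a4, .a5, .a6, .a7, .a8, .a11]⟩, ⟨[.a9, .a11], [.a9, .a11]⟩]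
def D786 : List Dv := [⟨[.a5, .a6, .a8], [1, 0], [0, 1]⟩,
  ⟨[.a6, .a8], [3, 1], [1, 3]⟩,
  ⟨[.a8], [4, 3], [3, 4]⟩,
  ⟨[.a6], [1], [0]⟩,
  ⟨[.a5], [3], [0, 1]⟩]
def C786 : List Ch := [⟨P222, 0, [.a10], [.a10, .a11]⟩,
  ⟨P280, 1, [.a1], [.a1, .a2]⟩,
  ⟨P334, 0, [.a0, .a1, .a3, .a5, .a6, .a7, .a8, .a9, .a10], [.a0, .a10, .a11]⟩,
  ⟨P280, 2, [.a0, .a1], [.a0, .a1, .a2]⟩,
  ⟨P371, 0, [], []⟩,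
  ⟨P372, 1, [], []⟩,
  ⟨P222, 0, [.a0, .a10], [.a0, .a1, .a2, .a3, .a4, .a6, .a8, .a9, .a10, .a11]⟩]
def N786 : List Ent := [⟨1, [.a0], [.a0]⟩,
  ⟨4, [.a2], [.a2]⟩,
  ⟨8, [.a3], [.a3]⟩,
  ⟨16, [.a4, .a7, .a11], [.a4, .a5, .a6, .a7, .a8, .a11]⟩,
  ⟨32, [.a5], [.a5]⟩,
  ⟨64, [.a6], [.a6]⟩,
  ⟨128, [.a7], [.a7, .a8]⟩,
  ⟨256, [.a8], [.a8]⟩,
  ⟨512, [.a9, .a11], [.a9, .a11]⟩,
  ⟨2048, [.a11], [.a11]⟩]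
theorem bad786 (c : CtxF Goal γ) : Bad Goal γ [] P786 :=
  c.toCtx.bnd (B := B786) (D := D786) (I := [5, 6, 0, 1, 2, 7]) (r := 3) (C := C786) (N := N786) (by decide +kernel) (by decide +kernel) (by decide +kernel) (by decide +kernel)
    (allB_cons (bad222 c) (allB_cons (bad280 c) (allB_cons (bad334 c) (allB_cons (bad280 c) (allB_cons (bad371 c) (allB_cons (bad372 c) (allB_cons (bad222 c) (allB_nil))))))))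

def P787 : List Ent := [⟨4, [.a2, .a11], [.a2, .a5, .a6, .a8, .a11]⟩,
  ⟨16, [.a4, .a7, .a11], [.a4, .a5, .a6, .a7, .a8, .a11]⟩,
  ⟨32, [.a5], [.a5]⟩,
  ⟨64, [.a6], [.a6]⟩,
  ⟨256, [.a8], [.a8]⟩,
  ⟨512, [.a9, .a11], [.a9, .a11]⟩]
def B787 : List Gv := [⟨[.a2, .a11], [.a2, .a5, .a6, .a8, .a11]⟩, ⟨[.a4, .a7, .a11], [.a4, .a5, .a6, .a7, .a8, .a11]⟩, ⟨[.a9, .a11], [.a9, .a11]⟩]
def D787 : List Dv := [⟨[.a5, .a6, .a8], [0, 0], []⟩,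
  ⟨[.a6, .a8], [3, 1], [1, 3]⟩,
  ⟨[.a8], [4, 3], [3, 4]⟩,
  ⟨[.a6], [1], [0]⟩,
  ⟨[.a5], [3], [0, 1]⟩]
def C787 : List Ch := [⟨P222, 0, [.a10], [.a10, .a11]⟩,
  ⟨P277, 1, [.a1], [.a1, .a2]⟩,
  ⟨P331, 0, [.a1, .a10], [.a1, .a2, .a4, .a5, .a7, .a9, .a10, .a11]⟩,
  ⟨P369, 2, [], []⟩,
  ⟨P279, 0, [.a0, .a10], [.a0, .a1, .a2, .a3, .a4, .a6, .a8, .a9, .a10, .a11]⟩,
  ⟨P273, 1, [.a0, .a10], [.a0, .a1, .a2, .a3, .a4, .a6, .a8, .a9, .a10, .a11]⟩,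
  ⟨P370, 0, [.a0, .a10], [.a0, .a1, .a2, .a3, .a4, .a6, .a8, .a9, .a10, .a11]⟩]
def N787 : List Ent := [⟨4, [.a2, .a11], [.a2, .a5, .a6, .a8, .a11]⟩,
  ⟨8, [.a3], [.a3]⟩,
  ⟨16, [.a4, .a7, .a11], [.a4, .a5, .a6, .a7, .a8, .a11]⟩,
  ⟨32, [.a5], [.a5]⟩,
  ⟨64, [.a6], [.a6]⟩,
  ⟨128, [.a7], [.a7, .a8]⟩,
  ⟨256, [.a8], [.a8]⟩,
  ⟨512, [.a9, .a11], [.a9, .a11]⟩,
  ⟨2048, [.a11], [.a11]⟩]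
theorem bad787 (c : CtxF Goal γ) : Bad Goal γ [] P787 :=
  c.toCtx.bnd (B := B787) (D := D787) (I := [5, 6, 0, 1, 2, 7]) (r := 3) (C := C787) (N := N787) (by decide +kernel) (by decide +kernel) (by decide +kernel) (by decide +kernel)
    (allB_cons (bad222 c) (allB_cons (bad277 c) (allB_cons (bad331 c) (allB_cons (bad369 c) (allB_cons (bad279 c) (allB_cons (bad273 c) (allB_cons (bad370 c) (allB_nil))))))))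

def P788 : List Ent := [⟨4, [.a2], [.a2]⟩,
  ⟨8, [.a3], [.a3]⟩,
  ⟨16, [.a4, .a7], [.a4, .a5, .a6, .a7, .a8]⟩,
  ⟨32, [.a5], [.a5]⟩,
  ⟨64, [.a6], [.a6]⟩,
  ⟨256, [.a8], [.a8]⟩]
def B788 : List Gv := [⟨[.a2], [.a2]⟩, ⟨[.a3], [.a3]⟩, ⟨[.a4, .a7], [.a4, .a5, .a6, .a7, .a8]⟩, ⟨[.a6], [.a6]⟩]
def D788 : List Dv := [⟨[.a5], [2, 1], [1, 2]⟩,
  ⟨[.a8], [4, 0, 3, 3], []⟩]
def C788 : List Ch := [⟨P272, 0, [], []⟩,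
  ⟨P368, 1, [], []⟩,
  ⟨P372, 0, [.a10], [.a10, .a11]⟩,
  ⟨P286, 2, [], []⟩,
  ⟨P335, 0, [], []⟩,
  ⟨P368, 1, [.a0], [.a0]⟩,
  ⟨P372, 0, [.a0, .a10], [.a0, .a1, .a2, .a3, .a4, .a6, .a8, .a9, .a10, .a11]⟩,
  ⟨P374, 3, [], []⟩,
  ⟨P375, 0, [], []⟩,
  ⟨P374, 1, [.a11], [.a11]⟩,
  ⟨P375, 0, [.a11], [.a11]⟩,
  ⟨P374, 2, [.a4], [.a4, .a5]⟩,
  ⟨P375, 0, [.a4], [.a4, .a5]⟩,
  ⟨P374, 1, [.a0, .a11], [.a0, .a2, .a3, .a4, .a5, .a6, .a7, .a9, .a11]⟩,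
  ⟨P375, 0, [.a0, .a11], [.a0, .a2, .a3, .a4, .a5, .a6, .a7, .a9, .a11]⟩]
def N788 : List Ent := [⟨1, [.a0], [.a0]⟩,
  ⟨2, [.a1], [.a1, .a2]⟩,
  ⟨4, [.a2], [.a2]⟩,
  ⟨8, [.a3], [.a3]⟩,
  ⟨16, [.a4, .a7], [.a4, .a5, .a6, .a7, .a8]⟩,
  ⟨32, [.a5], [.a5]⟩,
  ⟨64, [.a6], [.a6]⟩,
  ⟨128, [.a7], [.a7, .a8]⟩,
  ⟨256, [.a8], [.a8]⟩,
  ⟨512, [.a9], [.a9]⟩,
  ⟨2048, [.a11], [.a11]⟩]
theorem bad788 (c : CtxF Goal γ) : Bad Goal γ [] P788 :=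
  c.toCtx.bnd (B := B788) (D := D788) (I := [2, 3, 4, 1, 5, 0]) (r := 4) (C := C788) (N := N788) (by decide +kernel) (by decide +kernel) (by decide +kernel) (by decide +kernel)
    (allB_cons (bad272 c) (allB_cons (bad368 c) (allB_cons (bad372 c) (allB_cons (bad286 c) (allB_cons (bad335 c) (allB_cons (bad368 c) (allB_cons (bad372 c) (allB_cons (bad374 c) (allB_cons (bad375 c) (allB_cons (bad374 c) (allB_cons (bad375 c) (allB_cons (bad374 c) (allB_cons (bad375 c) (allB_cons (bad374 c) (allB_cons (bad375 c) (allB_nil))))))))))))))))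

def P789 : List Ent := [⟨4, [.a2], [.a2]⟩,
  ⟨8, [.a3, .a11], [.a3, .a8, .a11]⟩,
  ⟨16, [.a4, .a7], [.a4, .a5, .a6, .a7, .a8]⟩,
  ⟨32, [.a5], [.a5]⟩,
  ⟨64, [.a6], [.a6]⟩,
  ⟨256, [.a8], [.a8]⟩]
def B789 : List Gv := [⟨[.a2], [.a2]⟩, ⟨[.a3, .a11], [.a3, .a8, .a11]⟩, ⟨[.a4, .a7], [.a4, .a5, .a6, .a7, .a8]⟩]
def D789 : List Dv := [⟨[.a5, .a6, .a8], [1, 0], [0, 1]⟩,
  ⟨[.a8], [2, 2], []⟩,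
  ⟨[.a6, .a8], [1, 4, 3], [3, 4]⟩,
  ⟨[.a6], [0], [1]⟩,
  ⟨[.a5], [3], [0, 2]⟩]
def C789 : List Ch := [⟨P273, 0, [], []⟩,
  ⟨P368, 1, [], []⟩,
  ⟨P273, 0, [.a0, .a1], [.a0, .a1, .a2]⟩,
  ⟨P282, 2, [.a1], [.a1, .a2]⟩,
  ⟨P333, 0, [.a0, .a10], [.a0, .a1, .a2, .a3, .a4, .a6, .a8, .a9, .a10, .a11]⟩,
  ⟨P282, 1, [.a0], [.a0]⟩,
  ⟨P371, 0, [.a0, .a10], [.a0, .a1, .a2, .a3, .a4, .a6, .a8, .a9, .a10, .a11]⟩]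
def N789 : List Ent := [⟨1, [.a0, .a1], [.a0, .a1, .a2]⟩,
  ⟨4, [.a2], [.a2]⟩,
  ⟨8, [.a3, .a11], [.a3, .a8, .a11]⟩,
  ⟨16, [.a4, .a7], [.a4, .a5, .a6, .a7, .a8]⟩,
  ⟨32, [.a5], [.a5]⟩,
  ⟨64, [.a6], [.a6]⟩,
  ⟨128, [.a7], [.a7, .a8]⟩,
  ⟨256, [.a8], [.a8]⟩,
  ⟨512, [.a9], [.a9]⟩,
  ⟨2048, [.a11], [.a11]⟩]
theorem bad789 (c : CtxF Goal γ) : Bad Goal γ [] P789 :=
  c.toCtx.bnd (B := B789) (D := D789) (I := [5, 6, 7, 0, 1, 3]) (r := 3) (C := C789) (N := N789) (by decide +kernel) (by decide +kernel) (by decide +kernel) (by decide +kernel)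
    (allB_cons (bad273 c) (allB_cons (bad368 c) (allB_cons (bad273 c) (allB_cons (bad282 c) (allB_cons (bad333 c) (allB_cons (bad282 c) (allB_cons (bad371 c) (allB_nil))))))))

def P790 : List Ent := [⟨4, [.a2, .a11], [.a2, .a5, .a6, .a8, .a11]⟩,
  ⟨8, [.a3], [.a3]⟩,
  ⟨16, [.a4, .a7, .a11], [.a4, .a5, .a6, .a7, .a8, .a11]⟩,
  ⟨32, [.a5], [.a5]⟩,
  ⟨64, [.a6], [.a6]⟩,
  ⟨256, [.a8], [.a8]⟩]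
def B790 : List Gv := [⟨[.a2, .a11], [.a2, .a5, .a6, .a8, .a11]⟩, ⟨[.a3], [.a3]⟩, ⟨[.a4, .a7, .a11], [.a4, .a5, .a6, .a7, .a8, .a11]⟩]
def D790 : List Dv := [⟨[.a5, .a6, .a8], [0, 0], []⟩,
  ⟨[.a8], [2, 1], [1, 2]⟩,
  ⟨[.a6], [1, 4, 3], [3, 4]⟩,
  ⟨[.a5], [2], [0, 1]⟩]
def C790 : List Ch := [⟨P274, 0, [], []⟩,
  ⟨P369, 1, [], []⟩,
  ⟨P373, 0, [.a10], [.a10, .a11]⟩,
  ⟨P274, 2, [.a0, .a1], [.a0, .a1, .a2]⟩,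
  ⟨P335, 0, [], []⟩,
  ⟨P373, 1, [.a0, .a1, .a3, .a5, .a6, .a7, .a8, .a9, .a10], [.a0, .a10, .a11]⟩,
  ⟨P371, 0, [.a0, .a10], [.a0, .a1, .a2, .a3, .a4, .a6, .a8, .a9, .a10, .a11]⟩]
def N790 : List Ent := [⟨1, [.a0, .a1], [.a0, .a1, .a2]⟩,
  ⟨4, [.a2, .a11], [.a2, .a5, .a6, .a8, .a11]⟩,
  ⟨8, [.a3], [.a3]⟩,
  ⟨16, [.a4, .a7, .a11], [.a4, .a5, .a6, .a7, .a8, .a11]⟩,
  ⟨32, [.a5], [.a5]⟩,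
  ⟨64, [.a6], [.a6]⟩,
  ⟨128, [.a7], [.a7, .a8]⟩,
  ⟨256, [.a8], [.a8]⟩,
  ⟨512, [.a9], [.a9]⟩,
  ⟨2048, [.a11], [.a11]⟩]
theorem bad790 (c : CtxF Goal γ) : Bad Goal γ [] P790 :=
  c.toCtx.bnd (B := B790) (D := D790) (I := [4, 5, 6, 0, 1, 2]) (r := 3) (C := C790) (N := N790) (by decide +kernel) (by decide +kernel) (by decide +kernel) (by decide +kernel)
    (allB_cons (bad274 c) (allB_cons (bad369 c) (allB_cons (bad373 c) (allB_cons (bad274 c) (allB_cons (bad335 c) (allB_cons (bad373 c) (allB_cons (bad371 c) (allB_nil))))))))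

def P791 : List Ent := [⟨4, [.a2, .a11], [.a2, .a5, .a6, .a8, .a11]⟩,
  ⟨8, [.a3, .a11], [.a3, .a8, .a11]⟩,
  ⟨16, [.a4, .a7, .a11], [.a4, .a5, .a6, .a7, .a8, .a11]⟩,
  ⟨32, [.a5], [.a5]⟩,
  ⟨64, [.a6], [.a6]⟩,
  ⟨256, [.a8], [.a8]⟩]
def B791 : List Gv := [⟨[.a2, .a11], [.a2, .a5, .a6, .a8, .a11]⟩, ⟨[.a3, .a11], [.a3, .a8, .a11]⟩, ⟨[.a4, .a7, .a11], [.a4, .a5, .a6, .a7, .a8, .a11]⟩]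
def D791 : List Dv := [⟨[.a5, .a6, .a8], [0, 0], []⟩,
  ⟨[.a8], [0, 2, 1], [1, 2]⟩,
  ⟨[.a6], [1, 4, 3], [3, 4]⟩,
  ⟨[.a5], [2], [0, 1]⟩]
def C791 : List Ch := [⟨P275, 0, [], []⟩,
  ⟨P369, 1, [], []⟩,
  ⟨P282, 0, [.a0, .a10], [.a0, .a1, .a2, .a3, .a4, .a6, .a8, .a9, .a10, .a11]⟩,
  ⟨P282, 2, [.a1, .a10], [.a1, .a2, .a4, .a5, .a7, .a9, .a10, .a11]⟩,
  ⟨P333, 0, [.a0, .a10], [.a0, .a1, .a2, .a3, .a4, .a6, .a8, .a9, .a10, .a11]⟩,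
  ⟨P275, 1, [.a0, .a1], [.a0, .a1, .a2]⟩,
  ⟨P372, 0, [.a0, .a10], [.a0, .a1, .a2, .a3, .a4, .a6, .a8, .a9, .a10, .a11]⟩]
def N791 : List Ent := [⟨1, [.a0, .a1], [.a0, .a1, .a2]⟩,
  ⟨4, [.a2, .a11], [.a2, .a5, .a6, .a8, .a11]⟩,
  ⟨8, [.a3, .a11], [.a3, .a8, .a11]⟩,
  ⟨16, [.a4, .a7, .a11], [.a4, .a5, .a6, .a7, .a8, .a11]⟩,
  ⟨32, [.a5], [.a5]⟩,
  ⟨64, [.a6], [.a6]⟩,
  ⟨128, [.a7], [.a7, .a8]⟩,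
  ⟨256, [.a8], [.a8]⟩,
  ⟨512, [.a9], [.a9]⟩,
  ⟨2048, [.a11], [.a11]⟩]
theorem bad791 (c : CtxF Goal γ) : Bad Goal γ [] P791 :=
  c.toCtx.bnd (B := B791) (D := D791) (I := [4, 5, 6, 0, 1, 2]) (r := 3) (C := C791) (N := N791) (by decide +kernel) (by decide +kernel) (by decide +kernel) (by decide +kernel)
    (allB_cons (bad275 c) (allB_cons (bad369 c) (allB_cons (bad282 c) (allB_cons (bad282 c) (allB_cons (bad333 c) (allB_cons (bad275 c) (allB_cons (bad372 c) (allB_nil))))))))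

def P792 : List Ent := [⟨4, [.a2, .a9], [.a2, .a5, .a9]⟩,
  ⟨8, [.a3], [.a3]⟩,
  ⟨16, [.a4, .a7], [.a4, .a5, .a6, .a7, .a8]⟩,
  ⟨32, [.a5], [.a5]⟩,
  ⟨64, [.a6], [.a6]⟩,
  ⟨256, [.a8], [.a8]⟩]
def B792 : List Gv := [⟨[.a2, .a9], [.a2, .a5, .a9]⟩, ⟨[.a3], [.a3]⟩, ⟨[.a4, .a7], [.a4, .a5, .a6, .a7, .a8]⟩]
def D792 : List Dv := [⟨[.a5], [0, 0], []⟩,
  ⟨[.a8], [3, 1], [1, 3]⟩,
  ⟨[.a6, .a8], [1, 4, 4], []⟩,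
  ⟨[.a6], [0], [1]⟩]
def C792 : List Ch := [⟨P272, 0, [], []⟩,
  ⟨P370, 1, [], []⟩,
  ⟨P370, 0, [.a0, .a1], [.a0, .a1, .a2]⟩,
  ⟨P278, 2, [], []⟩,
  ⟨P335, 0, [.a10], [.a10, .a11]⟩,
  ⟨P370, 1, [.a1], [.a1, .a2]⟩,
  ⟨P370, 0, [.a0], [.a0]⟩]
def N792 : List Ent := [⟨1, [.a0], [.a0]⟩,
  ⟨2, [.a1], [.a1, .a2]⟩,
  ⟨4, [.a2, .a9], [.a2, .a5, .a9]⟩,
  ⟨8, [.a3], [.a3]⟩,
  ⟨16, [.a4, .a7], [.a4, .a5, .a6, .a7, .a8]⟩,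
  ⟨32, [.a5], [.a5]⟩,
  ⟨64, [.a6], [.a6]⟩,
  ⟨128, [.a7], [.a7, .a8]⟩,
  ⟨256, [.a8], [.a8]⟩,
  ⟨512, [.a9], [.a9]⟩,
  ⟨2048, [.a11], [.a11]⟩]
theorem bad792 (c : CtxF Goal γ) : Bad Goal γ [] P792 :=
  c.toCtx.bnd (B := B792) (D := D792) (I := [4, 5, 6, 3, 0, 2]) (r := 3) (C := C792) (N := N792) (by decide +kernel) (by decide +kernel) (by decide +kernel) (by decide +kernel)
    (allB_cons (bad272 c) (allB_cons (bad370 c) (allB_cons (bad370 c) (allB_cons (bad278 c) (allB_cons (bad335 c) (allB_cons (bad370 c) (allB_cons (bad370 c) (allB_nil))))))))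

def P793 : List Ent := [⟨4, [.a2, .a9, .a11], [.a2, .a6, .a8, .a9, .a11]⟩,
  ⟨8, [.a3, .a11], [.a3, .a8, .a11]⟩,
  ⟨16, [.a4, .a7], [.a4, .a5, .a6, .a7, .a8]⟩,
  ⟨32, [.a5], [.a5]⟩,
  ⟨64, [.a6], [.a6]⟩,
  ⟨256, [.a8], [.a8]⟩]
def B793 : List Gv := [⟨[.a2, .a9, .a11], [.a2, .a6, .a8, .a9, .a11]⟩, ⟨[.a3, .a11], [.a3, .a8, .a11]⟩, ⟨[.a4, .a7], [.a4, .a5, .a6, .a7, .a8]⟩]
def D793 : List Dv := [⟨[.a6, .a8], [0, 0], []⟩,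
  ⟨[.a5, .a6], [2, 1], [1, 2]⟩,
  ⟨[.a8], [3, 3], []⟩,
  ⟨[.a6], [2], [0]⟩,
  ⟨[.a5], [2], [0]⟩]
def C793 : List Ch := [⟨P273, 0, [], []⟩,
  ⟨P275, 1, [.a0], [.a0]⟩,
  ⟨P370, 0, [.a0, .a1], [.a0, .a1, .a2]⟩,
  ⟨P279, 2, [.a10], [.a10, .a11]⟩,
  ⟨P333, 0, [.a1], [.a1, .a2]⟩,
  ⟨P373, 1, [.a1], [.a1, .a2]⟩,
  ⟨P279, 0, [.a0], [.a0]⟩]
def N793 : List Ent := [⟨4, [.a2, .a9, .a11], [.a2, .a6, .a8, .a9, .a11]⟩,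
  ⟨8, [.a3, .a11], [.a3, .a8, .a11]⟩,
  ⟨16, [.a4, .a7], [.a4, .a5, .a6, .a7, .a8]⟩,
  ⟨32, [.a5], [.a5]⟩,
  ⟨64, [.a6], [.a6]⟩,
  ⟨128, [.a7], [.a7, .a8]⟩,
  ⟨256, [.a8], [.a8]⟩,
  ⟨512, [.a9], [.a9]⟩,
  ⟨2048, [.a11], [.a11]⟩]
theorem bad793 (c : CtxF Goal γ) : Bad Goal γ [] P793 :=
  c.toCtx.bnd (B := B793) (D := D793) (I := [5, 6, 7, 0, 1, 2]) (r := 3) (C := C793) (N := N793) (by decide +kernel) (by decide +kernel) (by decide +kernel) (by decide +kernel)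
    (allB_cons (bad273 c) (allB_cons (bad275 c) (allB_cons (bad370 c) (allB_cons (bad279 c) (allB_cons (bad333 c) (allB_cons (bad373 c) (allB_cons (bad279 c) (allB_nil))))))))

def P794 : List Ent := [⟨4, [.a2, .a7], [.a2, .a7, .a8]⟩,
  ⟨16, [.a4, .a7], [.a4, .a5, .a6, .a7, .a8]⟩,
  ⟨32, [.a5], [.a5]⟩,
  ⟨64, [.a6], [.a6]⟩,
  ⟨256, [.a8], [.a8]⟩,
  ⟨2048, [.a11], [.a11]⟩]
def B794 : List Gv := [⟨[.a2, .a7], [.a2, .a7, .a8]⟩, ⟨[.a4, .a7], [.a4, .a5, .a6, .a7, .a8]⟩, ⟨[.a11], [.a11]⟩]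
def D794 : List Dv := [⟨[.a8], [0, 0], []⟩,
  ⟨[.a6], [2, 1], [1, 2]⟩,
  ⟨[.a5, .a6, .a8], [3, 3], []⟩,
  ⟨[.a5], [0], [1, 2]⟩]
def C794 : List Ch := [⟨P218, 0, [], []⟩,
  ⟨P290, 1, [], []⟩,
  ⟨P329, 0, [], []⟩,
  ⟨P265, 2, [.a0], [.a0]⟩,
  ⟨P376, 0, [], []⟩,
  ⟨P313, 1, [.a0, .a1], [.a0, .a1, .a2]⟩,
  ⟨P353, 0, [.a0, .a1], [.a0, .a1, .a2]⟩]
def N794 : List Ent := [⟨4, [.a2, .a7], [.a2, .a7, .a8]⟩,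
  ⟨8, [.a3], [.a3]⟩,
  ⟨16, [.a4, .a7], [.a4, .a5, .a6, .a7, .a8]⟩,
  ⟨32, [.a5], [.a5]⟩,
  ⟨64, [.a6], [.a6]⟩,
  ⟨128, [.a7], [.a7, .a8]⟩,
  ⟨256, [.a8], [.a8]⟩,
  ⟨512, [.a9], [.a9]⟩,
  ⟨2048, [.a11], [.a11]⟩]
theorem bad794 (c : CtxF Goal γ) : Bad Goal γ [] P794 :=
  c.toCtx.bnd (B := B794) (D := D794) (I := [4, 5, 0, 2, 3, 6]) (r := 3) (C := C794) (N := N794) (by decide +kernel) (by decide +kernel) (by decide +kernel) (by decide +kernel)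
    (allB_cons (bad218 c) (allB_cons (bad290 c) (allB_cons (bad329 c) (allB_cons (bad265 c) (allB_cons (bad376 c) (allB_cons (bad313 c) (allB_cons (bad353 c) (allB_nil))))))))

def P795 : List Ent := [⟨4, [.a2, .a7, .a9], [.a2, .a5, .a7, .a8, .a9]⟩,
  ⟨16, [.a4, .a7], [.a4, .a5, .a6, .a7, .a8]⟩,
  ⟨32, [.a5], [.a5]⟩,
  ⟨64, [.a6], [.a6]⟩,
  ⟨256, [.a8], [.a8]⟩,
  ⟨2048, [.a11], [.a11]⟩]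
def B795 : List Gv := [⟨[.a2, .a7, .a9], [.a2, .a5, .a7, .a8, .a9]⟩, ⟨[.a4, .a7], [.a4, .a5, .a6, .a7, .a8]⟩, ⟨[.a11], [.a11]⟩]
def D795 : List Dv := [⟨[.a5, .a8], [0, 0], []⟩,
  ⟨[.a6, .a8], [2, 1], [1, 2]⟩,
  ⟨[.a8], [0, 1, 3, 3], []⟩,
  ⟨[.a6], [1], [0]⟩,
  ⟨[.a5], [3], [1]⟩]
def C795 : List Ch := [⟨P218, 0, [], []⟩,
  ⟨P295, 1, [.a10], [.a10, .a11]⟩,
  ⟨P325, 0, [], []⟩,
  ⟨P227, 2, [.a0, .a1, .a3, .a5, .a6, .a7, .a8, .a9, .a10], [.a0, .a10, .a11]⟩,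
  ⟨P377, 0, [], []⟩,
  ⟨P312, 1, [.a0, .a1], [.a0, .a1, .a2]⟩,
  ⟨P359, 0, [.a0, .a1], [.a0, .a1, .a2]⟩]
def N795 : List Ent := [⟨4, [.a2, .a7, .a9], [.a2, .a5, .a7, .a8, .a9]⟩,
  ⟨8, [.a3], [.a3]⟩,
  ⟨16, [.a4, .a7], [.a4, .a5, .a6, .a7, .a8]⟩,
  ⟨32, [.a5], [.a5]⟩,
  ⟨64, [.a6], [.a6]⟩,
  ⟨128, [.a7], [.a7, .a8]⟩,
  ⟨256, [.a8], [.a8]⟩,
  ⟨512, [.a9], [.a9]⟩,
  ⟨2048, [.a11], [.a11]⟩]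
theorem bad795 (c : CtxF Goal γ) : Bad Goal γ [] P795 :=
  c.toCtx.bnd (B := B795) (D := D795) (I := [5, 6, 0, 1, 2, 7]) (r := 3) (C := C795) (N := N795) (by decide +kernel) (by decide +kernel) (by decide +kernel) (by decide +kernel)
    (allB_cons (bad218 c) (allB_cons (bad295 c) (allB_cons (bad325 c) (allB_cons (bad227 c) (allB_cons (bad377 c) (allB_cons (bad312 c) (allB_cons (bad359 c) (allB_nil))))))))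

def P796 : List Ent := [⟨4, [.a2, .a7], [.a2, .a7, .a8]⟩,
  ⟨16, [.a4, .a7, .a9], [.a4, .a5, .a6, .a7, .a9]⟩,
  ⟨32, [.a5], [.a5]⟩,
  ⟨64, [.a6], [.a6]⟩,
  ⟨256, [.a8], [.a8]⟩,
  ⟨2048, [.a11], [.a11]⟩]
def B796 : List Gv := [⟨[.a2, .a7], [.a2, .a7, .a8]⟩, ⟨[.a4, .a7, .a9], [.a4, .a5, .a6, .a7, .a9]⟩, ⟨[.a5], [.a5]⟩, ⟨[.a11], [.a11]⟩]
def D796 : List Dv := [⟨[.a8], [0, 0], []⟩,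
  ⟨[.a6], [3, 2, 1], [1, 2]⟩]
def C796 : List Ch := [⟨P218, 0, [.a10], [.a10, .a11]⟩,
  ⟨P290, 1, [], []⟩,
  ⟨P325, 0, [], []⟩,
  ⟨P378, 2, [], []⟩,
  ⟨P378, 0, [.a9], [.a9]⟩,
  ⟨P378, 1, [.a7], [.a7, .a8]⟩,
  ⟨P378, 0, [.a4], [.a4, .a5]⟩,
  ⟨P269, 3, [.a0, .a1], [.a0, .a1, .a2]⟩,
  ⟨P379, 0, [], []⟩,
  ⟨P318, 1, [.a0, .a10], [.a0, .a1, .a2, .a3, .a4, .a6, .a8, .a9, .a10, .a11]⟩,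
  ⟨P360, 0, [.a0, .a10], [.a0, .a1, .a2, .a3, .a4, .a6, .a8, .a9, .a10, .a11]⟩,
  ⟨P380, 2, [], []⟩,
  ⟨P380, 0, [.a9], [.a9]⟩,
  ⟨P380, 1, [.a7], [.a7, .a8]⟩,
  ⟨P380, 0, [.a4], [.a4, .a5]⟩]
def N796 : List Ent := [⟨4, [.a2, .a7], [.a2, .a7, .a8]⟩,
  ⟨8, [.a3], [.a3]⟩,
  ⟨16, [.a4, .a7, .a9], [.a4, .a5, .a6, .a7, .a9]⟩,
  ⟨32, [.a5], [.a5]⟩,
  ⟨64, [.a6], [.a6]⟩,
  ⟨128, [.a7], [.a7, .a8]⟩,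
  ⟨256, [.a8], [.a8]⟩,
  ⟨512, [.a9], [.a9]⟩,
  ⟨2048, [.a11], [.a11]⟩]
theorem bad796 (c : CtxF Goal γ) : Bad Goal γ [] P796 :=
  c.toCtx.bnd (B := B796) (D := D796) (I := [2, 3, 4, 0, 1, 5]) (r := 4) (C := C796) (N := N796) (by decide +kernel) (by decide +kernel) (by decide +kernel) (by decide +kernel)
    (allB_cons (bad218 c) (allB_cons (bad290 c) (allB_cons (bad325 c) (allB_cons (bad378 c) (allB_cons (bad378 c) (allB_cons (bad378 c) (allB_cons (bad378 c) (allB_cons (bad269 c) (allB_cons (bad379 c) (allB_cons (bad318 c) (allB_cons (bad360 c) (allB_cons (bad380 c) (allB_cons (bad380 c) (allB_cons (bad380 c) (allB_cons (bad380 c) (allB_nil))))))))))))))))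

def P797 : List Ent := [⟨4, [.a2, .a7, .a9], [.a2, .a5, .a7, .a8, .a9]⟩,
  ⟨16, [.a4, .a7, .a9], [.a4, .a5, .a6, .a7, .a9]⟩,
  ⟨32, [.a5], [.a5]⟩,
  ⟨64, [.a6], [.a6]⟩,
  ⟨256, [.a8], [.a8]⟩,
  ⟨2048, [.a11], [.a11]⟩]
def B797 : List Gv := [⟨[.a2, .a7, .a9], [.a2, .a5, .a7, .a8, .a9]⟩, ⟨[.a4, .a7, .a9], [.a4, .a5, .a6, .a7, .a9]⟩, ⟨[.a11], [.a11]⟩]
def D797 : List Dv := [⟨[.a5, .a8], [0, 0], []⟩,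
  ⟨[.a6], [0, 2, 1], [1, 2]⟩,
  ⟨[.a8], [0, 1, 3, 3], []⟩,
  ⟨[.a5], [2], [0]⟩]
def C797 : List Ch := [⟨P218, 0, [.a10], [.a10, .a11]⟩,
  ⟨P295, 1, [.a10], [.a10, .a11]⟩,
  ⟨P329, 0, [], []⟩,
  ⟨P223, 2, [.a0, .a10], [.a0, .a1, .a2, .a3, .a4, .a6, .a8, .a9, .a10, .a11]⟩,
  ⟨P376, 0, [.a0, .a10], [.a0, .a1, .a2, .a3, .a4, .a6, .a8, .a9, .a10, .a11]⟩,
  ⟨P304, 1, [.a0, .a10], [.a0, .a1, .a2, .a3, .a4, .a6, .a8, .a9, .a10, .a11]⟩,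
  ⟨P349, 0, [.a0, .a10], [.a0, .a1, .a2, .a3, .a4, .a6, .a8, .a9, .a10, .a11]⟩]
def N797 : List Ent := [⟨4, [.a2, .a7, .a9], [.a2, .a5, .a7, .a8, .a9]⟩,
  ⟨8, [.a3], [.a3]⟩,
  ⟨16, [.a4, .a7, .a9], [.a4, .a5, .a6, .a7, .a9]⟩,
  ⟨32, [.a5], [.a5]⟩,
  ⟨64, [.a6], [.a6]⟩,
  ⟨128, [.a7], [.a7, .a8]⟩,
  ⟨256, [.a8], [.a8]⟩,
  ⟨512, [.a9], [.a9]⟩,
  ⟨2048, [.a11], [.a11]⟩]
theorem bad797 (c : CtxF Goal γ) : Bad Goal γ [] P797 :=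
  c.toCtx.bnd (B := B797) (D := D797) (I := [4, 5, 0, 2, 1, 6]) (r := 3) (C := C797) (N := N797) (by decide +kernel) (by decide +kernel) (by decide +kernel) (by decide +kernel)
    (allB_cons (bad218 c) (allB_cons (bad295 c) (allB_cons (bad329 c) (allB_cons (bad223 c) (allB_cons (bad376 c) (allB_cons (bad304 c) (allB_cons (bad349 c) (allB_nil))))))))

def P798 : List Ent := [⟨4, [.a2, .a7, .a11], [.a2, .a5, .a6, .a7, .a11]⟩,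
  ⟨16, [.a4, .a7], [.a4, .a5, .a6, .a7, .a8]⟩,
  ⟨32, [.a5], [.a5]⟩,
  ⟨64, [.a6], [.a6]⟩,
  ⟨256, [.a8], [.a8]⟩,
  ⟨512, [.a9], [.a9]⟩]
def B798 : List Gv := [⟨[.a2, .a7, .a11], [.a2, .a5, .a6, .a7, .a11]⟩, ⟨[.a4, .a7], [.a4, .a5, .a6, .a7, .a8]⟩, ⟨[.a9], [.a9]⟩]
def D798 : List Dv := [⟨[.a5, .a6], [0, 0], []⟩,
  ⟨[.a6], [2, 1], [1, 2]⟩,
  ⟨[.a8], [1, 3, 3], []⟩,
  ⟨[.a5], [2], [1]⟩]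
def C798 : List Ch := [⟨P219, 0, [], []⟩,
  ⟨P298, 1, [], []⟩,
  ⟨P292, 0, [.a0], [.a0]⟩,
  ⟨P376, 2, [], []⟩,
  ⟨P377, 0, [], []⟩,
  ⟨P379, 1, [], []⟩,
  ⟨P376, 0, [.a0, .a10], [.a0, .a1, .a2, .a3, .a4, .a6, .a8, .a9, .a10, .a11]⟩]
def N798 : List Ent := [⟨4, [.a2, .a7, .a11], [.a2, .a5, .a6, .a7, .a11]⟩,
  ⟨8, [.a3], [.a3]⟩,
  ⟨16, [.a4, .a7], [.a4, .a5, .a6, .a7, .a8]⟩,
  ⟨32, [.a5], [.a5]⟩,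
  ⟨64, [.a6], [.a6]⟩,
  ⟨128, [.a7], [.a7, .a8]⟩,
  ⟨256, [.a8], [.a8]⟩,
  ⟨512, [.a9], [.a9]⟩,
  ⟨2048, [.a11], [.a11]⟩]
theorem bad798 (c : CtxF Goal γ) : Bad Goal γ [] P798 :=
  c.toCtx.bnd (B := B798) (D := D798) (I := [4, 5, 0, 2, 1, 6]) (r := 3) (C := C798) (N := N798) (by decide +kernel) (by decide +kernel) (by decide +kernel) (by decide +kernel)
    (allB_cons (bad219 c) (allB_cons (bad298 c) (allB_cons (bad292 c) (allB_cons (bad376 c) (allB_cons (bad377 c) (allB_cons (bad379 c) (allB_cons (bad376 c) (allB_nil))))))))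

def P799 : List Ent := [⟨4, [.a2, .a7], [.a2, .a7, .a8]⟩,
  ⟨16, [.a4, .a7], [.a4, .a5, .a6, .a7, .a8]⟩,
  ⟨32, [.a5], [.a5]⟩,
  ⟨64, [.a6], [.a6]⟩,
  ⟨256, [.a8], [.a8]⟩,
  ⟨512, [.a9, .a11], [.a9, .a11]⟩]
def B799 : List Gv := [⟨[.a2, .a7], [.a2, .a7, .a8]⟩, ⟨[.a4, .a7], [.a4, .a5, .a6, .a7, .a8]⟩, ⟨[.a9, .a11], [.a9, .a11]⟩]
def D799 : List Dv := [⟨[.a8], [0, 0], []⟩,
  ⟨[.a6], [2, 1], [1, 2]⟩,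
  ⟨[.a5, .a6, .a8], [3, 3], []⟩,
  ⟨[.a5], [0], [1, 2]⟩]
def C799 : List Ch := [⟨P222, 0, [], []⟩,
  ⟨P290, 1, [.a1], [.a1, .a2]⟩,
  ⟨P329, 0, [.a1, .a10], [.a1, .a2, .a4, .a5, .a7, .a9, .a10, .a11]⟩,
  ⟨P265, 2, [.a0], [.a0]⟩,
  ⟨P377, 0, [], []⟩,
  ⟨P318, 1, [.a0, .a10], [.a0, .a1, .a2, .a3, .a4, .a6, .a8, .a9, .a10, .a11]⟩,
  ⟨P349, 0, [.a0, .a10], [.a0, .a1, .a2, .a3, .a4, .a6, .a8, .a9, .a10, .a11]⟩]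
def N799 : List Ent := [⟨4, [.a2, .a7], [.a2, .a7, .a8]⟩,
  ⟨8, [.a3], [.a3]⟩,
  ⟨16, [.a4, .a7], [.a4, .a5, .a6, .a7, .a8]⟩,
  ⟨32, [.a5], [.a5]⟩,
  ⟨64, [.a6], [.a6]⟩,
  ⟨128, [.a7], [.a7, .a8]⟩,
  ⟨256, [.a8], [.a8]⟩,
  ⟨512, [.a9, .a11], [.a9, .a11]⟩,
  ⟨2048, [.a11], [.a11]⟩]
theorem bad799 (c : CtxF Goal γ) : Bad Goal γ [] P799 :=
  c.toCtx.bnd (B := B799) (D := D799) (I := [4, 5, 0, 2, 3, 6]) (r := 3) (C := C799) (N := N799) (by decide +kernel) (by decide +kernel) (by decide +kernel) (by decide +kernel)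
    (allB_cons (bad222 c) (allB_cons (bad290 c) (allB_cons (bad329 c) (allB_cons (bad265 c) (allB_cons (bad377 c) (allB_cons (bad318 c) (allB_cons (bad349 c) (allB_nil))))))))

end Cfsg.Agent.H782.TF.Full
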