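import Cfsg.Agent.H782.TF.Full4

/-!
# S5262, q = 2: certificate of the subgroup tree, part 5 (generated; helper782)
-/

set_option autoImplicit false
set_option maxRecDepth 100000

namespace Cfsg.Agent.H782.TF.Full

open Cfsg.Agent.H782.TF

universe u

variable {U : Type u} [Group U] {Goal : Subgroup U → Prop} {γ : ℕ → U}

def P800 : List Ent := [⟨4, [.a2, .a7, .a11], [.a2, .a5, .a6, .a7, .a11]⟩,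
  ⟨16, [.a4, .a7], [.a4, .a5, .a6, .a7, .a8]⟩,
  ⟨32, [.a5], [.a5]⟩,
  ⟨64, [.a6], [.a6]⟩,
  ⟨256, [.a8], [.a8]⟩,
  ⟨512, [.a9, .a11], [.a9, .a11]⟩]
def B800 : List Gv := [⟨[.a2, .a7, .a11], [.a2, .a5, .a6, .a7, .a11]⟩, ⟨[.a4, .a7], [.a4, .a5, .a6, .a7, .a8]⟩, ⟨[.a9, .a11], [.a9, .a11]⟩]
def D800 : List Dv := [⟨[.a5, .a6], [0, 0], []⟩,
  ⟨[.a6], [2, 1], [1, 2]⟩,
  ⟨[.a8], [1, 3, 3], []⟩,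
  ⟨[.a5], [2], [1]⟩]
def C800 : List Ch := [⟨P222, 0, [], []⟩,
  ⟨P295, 1, [.a1, .a10], [.a1, .a2, .a4, .a5, .a7, .a9, .a10, .a11]⟩,
  ⟨P325, 0, [.a1, .a10], [.a1, .a2, .a4, .a5, .a7, .a9, .a10, .a11]⟩,
  ⟨P376, 2, [], []⟩,
  ⟨P227, 0, [.a0, .a1, .a3, .a5, .a6, .a7, .a8, .a9, .a10], [.a0, .a10, .a11]⟩,
  ⟨P360, 1, [.a0, .a10], [.a0, .a1, .a2, .a3, .a4, .a6, .a8, .a9, .a10, .a11]⟩,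
  ⟨P304, 0, [.a0, .a10], [.a0, .a1, .a2, .a3, .a4, .a6, .a8, .a9, .a10, .a11]⟩]
def N800 : List Ent := [⟨4, [.a2, .a7, .a11], [.a2, .a5, .a6, .a7, .a11]⟩,
  ⟨8, [.a3], [.a3]⟩,
  ⟨16, [.a4, .a7], [.a4, .a5, .a6, .a7, .a8]⟩,
  ⟨32, [.a5], [.a5]⟩,
  ⟨64, [.a6], [.a6]⟩,
  ⟨128, [.a7], [.a7, .a8]⟩,
  ⟨256, [.a8], [.a8]⟩,
  ⟨512, [.a9, .a11], [.a9, .a11]⟩,
  ⟨2048, [.a11], [.a11]⟩]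
theorem bad800 (c : CtxF Goal γ) : Bad Goal γ [] P800 :=
  c.toCtx.bnd (B := B800) (D := D800) (I := [4, 5, 0, 2, 1, 6]) (r := 3) (C := C800) (N := N800) (by decide +kernel) (by decide +kernel) (by decide +kernel) (by decide +kernel)
    (allB_cons (bad222 c) (allB_cons (bad295 c) (allB_cons (bad325 c) (allB_cons (bad376 c) (allB_cons (bad227 c) (allB_cons (bad360 c) (allB_cons (bad304 c) (allB_nil))))))))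

def P801 : List Ent := [⟨4, [.a2, .a7], [.a2, .a7, .a8]⟩,
  ⟨16, [.a4, .a7, .a11], [.a4, .a5, .a6, .a7, .a8, .a11]⟩,
  ⟨32, [.a5], [.a5]⟩,
  ⟨64, [.a6], [.a6]⟩,
  ⟨256, [.a8], [.a8]⟩,
  ⟨512, [.a9, .a11], [.a9, .a11]⟩]
def B801 : List Gv := [⟨[.a2, .a7], [.a2, .a7, .a8]⟩, ⟨[.a4, .a7, .a11], [.a4, .a5, .a6, .a7, .a8, .a11]⟩, ⟨[.a9, .a11], [.a9, .a11]⟩]
def D801 : List Dv := [⟨[.a8], [0, 0], []⟩,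
  ⟨[.a5, .a8], [2, 1], [1, 2]⟩,
  ⟨[.a6], [0, 3, 3], []⟩,
  ⟨[.a5], [1], [2]⟩]
def C801 : List Ch := [⟨P222, 0, [.a10], [.a10, .a11]⟩,
  ⟨P290, 1, [.a1], [.a1, .a2]⟩,
  ⟨P325, 0, [.a1, .a10], [.a1, .a2, .a4, .a5, .a7, .a9, .a10, .a11]⟩,
  ⟨P313, 2, [.a0, .a1], [.a0, .a1, .a2]⟩,
  ⟨P359, 0, [.a0, .a1], [.a0, .a1, .a2]⟩,
  ⟨P269, 1, [.a0, .a1], [.a0, .a1, .a2]⟩,
  ⟨P376, 0, [.a0, .a10], [.a0, .a1, .a2, .a3, .a4, .a6, .a8, .a9, .a10, .a11]⟩]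
def N801 : List Ent := [⟨4, [.a2, .a7], [.a2, .a7, .a8]⟩,
  ⟨8, [.a3], [.a3]⟩,
  ⟨16, [.a4, .a7, .a11], [.a4, .a5, .a6, .a7, .a8, .a11]⟩,
  ⟨32, [.a5], [.a5]⟩,
  ⟨64, [.a6], [.a6]⟩,
  ⟨128, [.a7], [.a7, .a8]⟩,
  ⟨256, [.a8], [.a8]⟩,
  ⟨512, [.a9, .a11], [.a9, .a11]⟩,
  ⟨2048, [.a11], [.a11]⟩]
theorem bad801 (c : CtxF Goal γ) : Bad Goal γ [] P801 :=
  c.toCtx.bnd (B := B801) (D := D801) (I := [4, 5, 0, 1, 3, 6]) (r := 3) (C := C801) (N := N801) (by decide +kernel) (by decide +kernel) (by decide +kernel) (by decide +kernel)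
    (allB_cons (bad222 c) (allB_cons (bad290 c) (allB_cons (bad325 c) (allB_cons (bad313 c) (allB_cons (bad359 c) (allB_cons (bad269 c) (allB_cons (bad376 c) (allB_nil))))))))

def P802 : List Ent := [⟨4, [.a2, .a7, .a11], [.a2, .a5, .a6, .a7, .a11]⟩,
  ⟨16, [.a4, .a7, .a11], [.a4, .a5, .a6, .a7, .a8, .a11]⟩,
  ⟨32, [.a5], [.a5]⟩,
  ⟨64, [.a6], [.a6]⟩,
  ⟨256, [.a8], [.a8]⟩,
  ⟨512, [.a9, .a11], [.a9, .a11]⟩]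
def B802 : List Gv := [⟨[.a2, .a7, .a11], [.a2, .a5, .a6, .a7, .a11]⟩, ⟨[.a4, .a7, .a11], [.a4, .a5, .a6, .a7, .a8, .a11]⟩, ⟨[.a9, .a11], [.a9, .a11]⟩]
def D802 : List Dv := [⟨[.a5, .a6], [0, 0], []⟩,
  ⟨[.a6, .a8], [0, 2, 1], [1, 2]⟩,
  ⟨[.a8], [1, 3, 3], []⟩,
  ⟨[.a6], [1], [0]⟩,
  ⟨[.a5], [3], [0]⟩]
def C802 : List Ch := [⟨P222, 0, [.a10], [.a10, .a11]⟩,
  ⟨P295, 1, [.a1, .a10], [.a1, .a2, .a4, .a5, .a7, .a9, .a10, .a11]⟩,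
  ⟨P329, 0, [.a1, .a10], [.a1, .a2, .a4, .a5, .a7, .a9, .a10, .a11]⟩,
  ⟨P353, 2, [.a0, .a1], [.a0, .a1, .a2]⟩,
  ⟨P312, 0, [.a0, .a1], [.a0, .a1, .a2]⟩,
  ⟨P379, 1, [], []⟩,
  ⟨P223, 0, [.a0, .a10], [.a0, .a1, .a2, .a3, .a4, .a6, .a8, .a9, .a10, .a11]⟩]
def N802 : List Ent := [⟨4, [.a2, .a7, .a11], [.a2, .a5, .a6, .a7, .a11]⟩,
  ⟨8, [.a3], [.a3]⟩,
  ⟨16, [.a4, .a7, .a11], [.a4, .a5, .a6, .a7, .a8, .a11]⟩,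
  ⟨32, [.a5], [.a5]⟩,
  ⟨64, [.a6], [.a6]⟩,
  ⟨128, [.a7], [.a7, .a8]⟩,
  ⟨256, [.a8], [.a8]⟩,
  ⟨512, [.a9, .a11], [.a9, .a11]⟩,
  ⟨2048, [.a11], [.a11]⟩]
theorem bad802 (c : CtxF Goal γ) : Bad Goal γ [] P802 :=
  c.toCtx.bnd (B := B802) (D := D802) (I := [5, 6, 0, 1, 2, 7]) (r := 3) (C := C802) (N := N802) (by decide +kernel) (by decide +kernel) (by decide +kernel) (by decide +kernel)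
    (allB_cons (bad222 c) (allB_cons (bad295 c) (allB_cons (bad329 c) (allB_cons (bad353 c) (allB_cons (bad312 c) (allB_cons (bad379 c) (allB_cons (bad223 c) (allB_nil))))))))

def P803 : List Ent := [⟨4, [.a2, .a7, .a11], [.a2, .a5, .a6, .a7, .a11]⟩,
  ⟨8, [.a3], [.a3]⟩,
  ⟨16, [.a4, .a7], [.a4, .a5, .a6, .a7, .a8]⟩,
  ⟨32, [.a5], [.a5]⟩,
  ⟨64, [.a6], [.a6]⟩,
  ⟨256, [.a8], [.a8]⟩]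
def B803 : List Gv := [⟨[.a2, .a7, .a11], [.a2, .a5, .a6, .a7, .a11]⟩, ⟨[.a3], [.a3]⟩, ⟨[.a4, .a7], [.a4, .a5, .a6, .a7, .a8]⟩]
def D803 : List Dv := [⟨[.a5, .a6], [0, 0], []⟩,
  ⟨[.a6, .a8], [0, 2, 1], [1, 2]⟩,
  ⟨[.a8], [0, 4, 2], [2, 4]⟩,
  ⟨[.a6], [1], [0]⟩,
  ⟨[.a5], [3], [0]⟩]
def C803 : List Ch := [⟨P272, 0, [], []⟩,
  ⟨P376, 1, [], []⟩,
  ⟨P376, 0, [.a0, .a1], [.a0, .a1, .a2]⟩,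
  ⟨P296, 2, [], []⟩,
  ⟨P296, 0, [.a0, .a1], [.a0, .a1, .a2]⟩,
  ⟨P377, 1, [.a0], [.a0]⟩,
  ⟨P379, 0, [.a0, .a10], [.a0, .a1, .a2, .a3, .a4, .a6, .a8, .a9, .a10, .a11]⟩]
def N803 : List Ent := [⟨1, [.a0, .a1], [.a0, .a1, .a2]⟩,
  ⟨4, [.a2, .a7, .a11], [.a2, .a5, .a6, .a7, .a11]⟩,
  ⟨8, [.a3], [.a3]⟩,
  ⟨16, [.a4, .a7], [.a4, .a5, .a6, .a7, .a8]⟩,
  ⟨32, [.a5], [.a5]⟩,
  ⟨64, [.a6], [.a6]⟩,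
  ⟨128, [.a7], [.a7, .a8]⟩,
  ⟨256, [.a8], [.a8]⟩,
  ⟨512, [.a9], [.a9]⟩,
  ⟨2048, [.a11], [.a11]⟩]
theorem bad803 (c : CtxF Goal γ) : Bad Goal γ [] P803 :=
  c.toCtx.bnd (B := B803) (D := D803) (I := [5, 6, 7, 0, 1, 2]) (r := 3) (C := C803) (N := N803) (by decide +kernel) (by decide +kernel) (by decide +kernel) (by decide +kernel)
    (allB_cons (bad272 c) (allB_cons (bad376 c) (allB_cons (bad376 c) (allB_cons (bad296 c) (allB_cons (bad296 c) (allB_cons (bad377 c) (allB_cons (bad379 c) (allB_nil))))))))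

def P804 : List Ent := [⟨4, [.a2, .a7], [.a2, .a7, .a8]⟩,
  ⟨8, [.a3, .a11], [.a3, .a8, .a11]⟩,
  ⟨16, [.a4, .a7], [.a4, .a5, .a6, .a7, .a8]⟩,
  ⟨32, [.a5], [.a5]⟩,
  ⟨64, [.a6], [.a6]⟩,
  ⟨256, [.a8], [.a8]⟩]
def B804 : List Gv := [⟨[.a2, .a7], [.a2, .a7, .a8]⟩, ⟨[.a3, .a11], [.a3, .a8, .a11]⟩, ⟨[.a4, .a7], [.a4, .a5, .a6, .a7, .a8]⟩]
def D804 : List Dv := [⟨[.a8], [0, 0], []⟩,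
  ⟨[.a6, .a8], [2, 1], [1, 2]⟩,
  ⟨[.a5], [4, 3], [3, 4]⟩,
  ⟨[.a6], [1], [2]⟩]
def C804 : List Ch := [⟨P273, 0, [], []⟩,
  ⟨P265, 1, [.a0], [.a0]⟩,
  ⟨P376, 0, [.a0, .a1], [.a0, .a1, .a2]⟩,
  ⟨P293, 2, [.a1], [.a1, .a2]⟩,
  ⟨P330, 0, [.a1, .a10], [.a1, .a2, .a4, .a5, .a7, .a9, .a10, .a11]⟩,
  ⟨P318, 1, [.a0, .a1, .a3, .a5, .a6, .a7, .a8, .a9, .a10], [.a0, .a10, .a11]⟩,
  ⟨P353, 0, [.a0, .a1, .a3, .a5, .a6, .a7, .a8, .a9, .a10], [.a0, .a10, .a11]⟩]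
def N804 : List Ent := [⟨4, [.a2, .a7], [.a2, .a7, .a8]⟩,
  ⟨8, [.a3, .a11], [.a3, .a8, .a11]⟩,
  ⟨16, [.a4, .a7], [.a4, .a5, .a6, .a7, .a8]⟩,
  ⟨32, [.a5], [.a5]⟩,
  ⟨64, [.a6], [.a6]⟩,
  ⟨128, [.a7], [.a7, .a8]⟩,
  ⟨256, [.a8], [.a8]⟩,
  ⟨512, [.a9], [.a9]⟩,
  ⟨2048, [.a11], [.a11]⟩]
theorem bad804 (c : CtxF Goal γ) : Bad Goal γ [] P804 :=
  c.toCtx.bnd (B := B804) (D := D804) (I := [4, 5, 6, 1, 0, 3]) (r := 3) (C := C804) (N := N804) (by decide +kernel) (by decide +kernel) (by decide +kernel) (by decide +kernel)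
    (allB_cons (bad273 c) (allB_cons (bad265 c) (allB_cons (bad376 c) (allB_cons (bad293 c) (allB_cons (bad330 c) (allB_cons (bad318 c) (allB_cons (bad353 c) (allB_nil))))))))

def P805 : List Ent := [⟨4, [.a2, .a7, .a11], [.a2, .a5, .a6, .a7, .a11]⟩,
  ⟨8, [.a3, .a11], [.a3, .a8, .a11]⟩,
  ⟨16, [.a4, .a7], [.a4, .a5, .a6, .a7, .a8]⟩,
  ⟨32, [.a5], [.a5]⟩,
  ⟨64, [.a6], [.a6]⟩,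
  ⟨256, [.a8], [.a8]⟩]
def B805 : List Gv := [⟨[.a2, .a7, .a11], [.a2, .a5, .a6, .a7, .a11]⟩, ⟨[.a3, .a11], [.a3, .a8, .a11]⟩, ⟨[.a4, .a7], [.a4, .a5, .a6, .a7, .a8]⟩]
def D805 : List Dv := [⟨[.a5, .a6], [0, 0], []⟩,
  ⟨[.a6], [2, 1], [1, 2]⟩,
  ⟨[.a8], [3, 3], []⟩,
  ⟨[.a5], [2], [1]⟩]
def C805 : List Ch := [⟨P273, 0, [], []⟩,
  ⟨P376, 1, [], []⟩,
  ⟨P223, 0, [.a0, .a1], [.a0, .a1, .a2]⟩,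
  ⟨P297, 2, [], []⟩,
  ⟨P330, 0, [.a1], [.a1, .a2]⟩,
  ⟨P349, 1, [.a0, .a1, .a3, .a5, .a6, .a7, .a8, .a9, .a10], [.a0, .a10, .a11]⟩,
  ⟨P312, 0, [.a0, .a1, .a3, .a5, .a6, .a7, .a8, .a9, .a10], [.a0, .a10, .a11]⟩]
def N805 : List Ent := [⟨4, [.a2, .a7, .a11], [.a2, .a5, .a6, .a7, .a11]⟩,
  ⟨8, [.a3, .a11], [.a3, .a8, .a11]⟩,
  ⟨16, [.a4, .a7], [.a4, .a5, .a6, .a7, .a8]⟩,
  ⟨32, [.a5], [.a5]⟩,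
  ⟨64, [.a6], [.a6]⟩,
  ⟨128, [.a7], [.a7, .a8]⟩,
  ⟨256, [.a8], [.a8]⟩,
  ⟨512, [.a9], [.a9]⟩,
  ⟨2048, [.a11], [.a11]⟩]
theorem bad805 (c : CtxF Goal γ) : Bad Goal γ [] P805 :=
  c.toCtx.bnd (B := B805) (D := D805) (I := [4, 5, 6, 0, 2, 1]) (r := 3) (C := C805) (N := N805) (by decide +kernel) (by decide +kernel) (by decide +kernel) (by decide +kernel)
    (allB_cons (bad273 c) (allB_cons (bad376 c) (allB_cons (bad223 c) (allB_cons (bad297 c) (allB_cons (bad330 c) (allB_cons (bad349 c) (allB_cons (bad312 c) (allB_nil))))))))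

def P806 : List Ent := [⟨4, [.a2, .a7], [.a2, .a7, .a8]⟩,
  ⟨8, [.a3, .a11], [.a3, .a8, .a11]⟩,
  ⟨16, [.a4, .a7, .a11], [.a4, .a5, .a6, .a7, .a8, .a11]⟩,
  ⟨32, [.a5], [.a5]⟩,
  ⟨64, [.a6], [.a6]⟩,
  ⟨256, [.a8], [.a8]⟩]
def B806 : List Gv := [⟨[.a2, .a7], [.a2, .a7, .a8]⟩, ⟨[.a3, .a11], [.a3, .a8, .a11]⟩, ⟨[.a4, .a7, .a11], [.a4, .a5, .a6, .a7, .a8, .a11]⟩]
def D806 : List Dv := [⟨[.a8], [0, 0], []⟩,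
  ⟨[.a6, .a8], [2, 1], [1, 2]⟩,
  ⟨[.a5, .a8], [4, 2], [2, 4]⟩,
  ⟨[.a6], [1], [2]⟩,
  ⟨[.a5], [1], [3]⟩]
def C806 : List Ch := [⟨P275, 0, [], []⟩,
  ⟨P313, 1, [.a0, .a1], [.a0, .a1, .a2]⟩,
  ⟨P349, 0, [.a0, .a1], [.a0, .a1, .a2]⟩,
  ⟨P293, 2, [.a1], [.a1, .a2]⟩,
  ⟨P330, 0, [.a1], [.a1, .a2]⟩,
  ⟨P265, 1, [.a0, .a1], [.a0, .a1, .a2]⟩,
  ⟨P379, 0, [.a0, .a10], [.a0, .a1, .a2, .a3, .a4, .a6, .a8, .a9, .a10, .a11]⟩]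
def N806 : List Ent := [⟨4, [.a2, .a7], [.a2, .a7, .a8]⟩,
  ⟨8, [.a3, .a11], [.a3, .a8, .a11]⟩,
  ⟨16, [.a4, .a7, .a11], [.a4, .a5, .a6, .a7, .a8, .a11]⟩,
  ⟨32, [.a5], [.a5]⟩,
  ⟨64, [.a6], [.a6]⟩,
  ⟨128, [.a7], [.a7, .a8]⟩,
  ⟨256, [.a8], [.a8]⟩,
  ⟨512, [.a9], [.a9]⟩,
  ⟨2048, [.a11], [.a11]⟩]
theorem bad806 (c : CtxF Goal γ) : Bad Goal γ [] P806 :=
  c.toCtx.bnd (B := B806) (D := D806) (I := [5, 6, 7, 0, 1, 4]) (r := 3) (C := C806) (N := N806) (by decide +kernel) (by decide +kernel) (by decide +kernel) (by decide +kernel)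
    (allB_cons (bad275 c) (allB_cons (bad313 c) (allB_cons (bad349 c) (allB_cons (bad293 c) (allB_cons (bad330 c) (allB_cons (bad265 c) (allB_cons (bad379 c) (allB_nil))))))))

def P807 : List Ent := [⟨4, [.a2, .a7, .a11], [.a2, .a5, .a6, .a7, .a11]⟩,
  ⟨8, [.a3, .a11], [.a3, .a8, .a11]⟩,
  ⟨16, [.a4, .a7, .a11], [.a4, .a5, .a6, .a7, .a8, .a11]⟩,
  ⟨32, [.a5], [.a5]⟩,
  ⟨64, [.a6], [.a6]⟩,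
  ⟨256, [.a8], [.a8]⟩]
def B807 : List Gv := [⟨[.a2, .a7, .a11], [.a2, .a5, .a6, .a7, .a11]⟩, ⟨[.a3, .a11], [.a3, .a8, .a11]⟩, ⟨[.a4, .a7, .a11], [.a4, .a5, .a6, .a7, .a8, .a11]⟩]
def D807 : List Dv := [⟨[.a5, .a6], [0, 0], []⟩,
  ⟨[.a6], [2, 1], [1, 2]⟩,
  ⟨[.a8], [3, 3], []⟩,
  ⟨[.a5], [2], [1]⟩]
def C807 : List Ch := [⟨P275, 0, [], []⟩,
  ⟨P353, 1, [.a0, .a1], [.a0, .a1, .a2]⟩,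
  ⟨P304, 0, [.a0, .a1], [.a0, .a1, .a2]⟩,
  ⟨P297, 2, [], []⟩,
  ⟨P330, 0, [.a1, .a10], [.a1, .a2, .a4, .a5, .a7, .a9, .a10, .a11]⟩,
  ⟨P377, 1, [.a0], [.a0]⟩,
  ⟨P223, 0, [.a0], [.a0]⟩]
def N807 : List Ent := [⟨4, [.a2, .a7, .a11], [.a2, .a5, .a6, .a7, .a11]⟩,
  ⟨8, [.a3, .a11], [.a3, .a8, .a11]⟩,
  ⟨16, [.a4, .a7, .a11], [.a4, .a5, .a6, .a7, .a8, .a11]⟩,
  ⟨32, [.a5], [.a5]⟩,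
  ⟨64, [.a6], [.a6]⟩,
  ⟨128, [.a7], [.a7, .a8]⟩,
  ⟨256, [.a8], [.a8]⟩,
  ⟨512, [.a9], [.a9]⟩,
  ⟨2048, [.a11], [.a11]⟩]
theorem bad807 (c : CtxF Goal γ) : Bad Goal γ [] P807 :=
  c.toCtx.bnd (B := B807) (D := D807) (I := [4, 5, 6, 0, 2, 1]) (r := 3) (C := C807) (N := N807) (by decide +kernel) (by decide +kernel) (by decide +kernel) (by decide +kernel)
    (allB_cons (bad275 c) (allB_cons (bad353 c) (allB_cons (bad304 c) (allB_cons (bad297 c) (allB_cons (bad330 c) (allB_cons (bad377 c) (allB_cons (bad223 c) (allB_nil))))))))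

def P808 : List Ent := [⟨4, [.a2, .a7, .a9], [.a2, .a5, .a7, .a8, .a9]⟩,
  ⟨8, [.a3, .a11], [.a3, .a8, .a11]⟩,
  ⟨16, [.a4, .a7], [.a4, .a5, .a6, .a7, .a8]⟩,
  ⟨32, [.a5], [.a5]⟩,
  ⟨64, [.a6], [.a6]⟩,
  ⟨256, [.a8], [.a8]⟩]
def B808 : List Gv := [⟨[.a2, .a7, .a9], [.a2, .a5, .a7, .a8, .a9]⟩, ⟨[.a3, .a11], [.a3, .a8, .a11]⟩, ⟨[.a4, .a7], [.a4, .a5, .a6, .a7, .a8]⟩]
def D808 : List Dv := [⟨[.a5, .a8], [0, 0], []⟩,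
  ⟨[.a6, .a8], [2, 1], [1, 2]⟩,
  ⟨[.a8], [3, 3], []⟩,
  ⟨[.a6], [1], [0]⟩,
  ⟨[.a5], [3], [1]⟩]
def C808 : List Ch := [⟨P273, 0, [], []⟩,
  ⟨P227, 1, [.a0, .a1, .a3, .a5, .a6, .a7, .a8, .a9, .a10], [.a0, .a10, .a11]⟩,
  ⟨P379, 0, [.a10], [.a10, .a11]⟩,
  ⟨P297, 2, [.a10], [.a10, .a11]⟩,
  ⟨P327, 0, [], []⟩,
  ⟨P304, 1, [.a0, .a1, .a3, .a5, .a6, .a7, .a8, .a9, .a10], [.a0, .a10, .a11]⟩,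
  ⟨P359, 0, [.a0, .a1, .a3, .a5, .a6, .a7, .a8, .a9, .a10], [.a0, .a10, .a11]⟩]
def N808 : List Ent := [⟨4, [.a2, .a7, .a9], [.a2, .a5, .a7, .a8, .a9]⟩,
  ⟨8, [.a3, .a11], [.a3, .a8, .a11]⟩,
  ⟨16, [.a4, .a7], [.a4, .a5, .a6, .a7, .a8]⟩,
  ⟨32, [.a5], [.a5]⟩,
  ⟨64, [.a6], [.a6]⟩,
  ⟨128, [.a7], [.a7, .a8]⟩,
  ⟨256, [.a8], [.a8]⟩,
  ⟨512, [.a9], [.a9]⟩,
  ⟨2048, [.a11], [.a11]⟩]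
theorem bad808 (c : CtxF Goal γ) : Bad Goal γ [] P808 :=
  c.toCtx.bnd (B := B808) (D := D808) (I := [5, 6, 7, 0, 1, 2]) (r := 3) (C := C808) (N := N808) (by decide +kernel) (by decide +kernel) (by decide +kernel) (by decide +kernel)
    (allB_cons (bad273 c) (allB_cons (bad227 c) (allB_cons (bad379 c) (allB_cons (bad297 c) (allB_cons (bad327 c) (allB_cons (bad304 c) (allB_cons (bad359 c) (allB_nil))))))))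

def P809 : List Ent := [⟨4, [.a2, .a7, .a9, .a11], [.a2, .a6, .a7, .a9, .a11]⟩,
  ⟨8, [.a3, .a11], [.a3, .a8, .a11]⟩,
  ⟨16, [.a4, .a7], [.a4, .a5, .a6, .a7, .a8]⟩,
  ⟨32, [.a5], [.a5]⟩,
  ⟨64, [.a6], [.a6]⟩,
  ⟨256, [.a8], [.a8]⟩]
def B809 : List Gv := [⟨[.a2, .a7, .a9, .a11], [.a2, .a6, .a7, .a9, .a11]⟩, ⟨[.a3, .a11], [.a3, .a8, .a11]⟩, ⟨[.a4, .a7], [.a4, .a5, .a6, .a7, .a8]⟩]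
def D809 : List Dv := [⟨[.a6], [0, 0], []⟩,
  ⟨[.a8], [2, 2], []⟩,
  ⟨[.a5], [4, 3], [3, 4]⟩]
def C809 : List Ch := [⟨P273, 0, [], []⟩,
  ⟨P377, 1, [], []⟩,
  ⟨P269, 0, [.a0, .a10], [.a0, .a1, .a2, .a3, .a4, .a6, .a8, .a9, .a10, .a11]⟩,
  ⟨P293, 2, [.a1, .a10], [.a1, .a2, .a4, .a5, .a7, .a9, .a10, .a11]⟩,
  ⟨P327, 0, [.a10], [.a10, .a11]⟩,
  ⟨P360, 1, [.a0, .a1, .a3, .a5, .a6, .a7, .a8, .a9, .a10], [.a0, .a10, .a11]⟩,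
  ⟨P313, 0, [.a0, .a1, .a3, .a5, .a6, .a7, .a8, .a9, .a10], [.a0, .a10, .a11]⟩]
def N809 : List Ent := [⟨4, [.a2, .a7, .a9, .a11], [.a2, .a6, .a7, .a9, .a11]⟩,
  ⟨8, [.a3, .a11], [.a3, .a8, .a11]⟩,
  ⟨16, [.a4, .a7], [.a4, .a5, .a6, .a7, .a8]⟩,
  ⟨32, [.a5], [.a5]⟩,
  ⟨64, [.a6], [.a6]⟩,
  ⟨128, [.a7], [.a7, .a8]⟩,
  ⟨256, [.a8], [.a8]⟩,
  ⟨512, [.a9], [.a9]⟩,
  ⟨2048, [.a11], [.a11]⟩]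
theorem bad809 (c : CtxF Goal γ) : Bad Goal γ [] P809 :=
  c.toCtx.bnd (B := B809) (D := D809) (I := [3, 4, 5, 0, 2, 1]) (r := 3) (C := C809) (N := N809) (by decide +kernel) (by decide +kernel) (by decide +kernel) (by decide +kernel)
    (allB_cons (bad273 c) (allB_cons (bad377 c) (allB_cons (bad269 c) (allB_cons (bad293 c) (allB_cons (bad327 c) (allB_cons (bad360 c) (allB_cons (bad313 c) (allB_nil))))))))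

def P810 : List Ent := [⟨4, [.a2, .a7, .a9], [.a2, .a5, .a7, .a8, .a9]⟩,
  ⟨8, [.a3, .a11], [.a3, .a8, .a11]⟩,
  ⟨16, [.a4, .a7, .a11], [.a4, .a5, .a6, .a7, .a8, .a11]⟩,
  ⟨32, [.a5], [.a5]⟩,
  ⟨64, [.a6], [.a6]⟩,
  ⟨256, [.a8], [.a8]⟩]
def B810 : List Gv := [⟨[.a2, .a7, .a9], [.a2, .a5, .a7, .a8, .a9]⟩, ⟨[.a3, .a11], [.a3, .a8, .a11]⟩, ⟨[.a4, .a7, .a11], [.a4, .a5, .a6, .a7, .a8, .a11]⟩]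
def D810 : List Dv := [⟨[.a5, .a8], [0, 0], []⟩,
  ⟨[.a6, .a8], [2, 1], [1, 2]⟩,
  ⟨[.a8], [3, 3], []⟩,
  ⟨[.a6], [1], [0]⟩,
  ⟨[.a5], [3], [1]⟩]
def C810 : List Ch := [⟨P275, 0, [], []⟩,
  ⟨P312, 1, [.a0, .a1], [.a0, .a1, .a2]⟩,
  ⟨P360, 0, [.a0, .a1], [.a0, .a1, .a2]⟩,
  ⟨P297, 2, [.a10], [.a10, .a11]⟩,
  ⟨P327, 0, [.a10], [.a10, .a11]⟩,
  ⟨P227, 1, [.a0, .a10], [.a0, .a1, .a2, .a3, .a4, .a6, .a8, .a9, .a10, .a11]⟩,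
  ⟨P376, 0, [.a0], [.a0]⟩]
def N810 : List Ent := [⟨4, [.a2, .a7, .a9], [.a2, .a5, .a7, .a8, .a9]⟩,
  ⟨8, [.a3, .a11], [.a3, .a8, .a11]⟩,
  ⟨16, [.a4, .a7, .a11], [.a4, .a5, .a6, .a7, .a8, .a11]⟩,
  ⟨32, [.a5], [.a5]⟩,
  ⟨64, [.a6], [.a6]⟩,
  ⟨128, [.a7], [.a7, .a8]⟩,
  ⟨256, [.a8], [.a8]⟩,
  ⟨512, [.a9], [.a9]⟩,
  ⟨2048, [.a11], [.a11]⟩]
theorem bad810 (c : CtxF Goal γ) : Bad Goal γ [] P810 :=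
  c.toCtx.bnd (B := B810) (D := D810) (I := [5, 6, 7, 0, 1, 2]) (r := 3) (C := C810) (N := N810) (by decide +kernel) (by decide +kernel) (by decide +kernel) (by decide +kernel)
    (allB_cons (bad275 c) (allB_cons (bad312 c) (allB_cons (bad360 c) (allB_cons (bad297 c) (allB_cons (bad327 c) (allB_cons (bad227 c) (allB_cons (bad376 c) (allB_nil))))))))

def P811 : List Ent := [⟨4, [.a2, .a7, .a9, .a11], [.a2, .a6, .a7, .a9, .a11]⟩,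
  ⟨8, [.a3, .a11], [.a3, .a8, .a11]⟩,
  ⟨16, [.a4, .a7, .a11], [.a4, .a5, .a6, .a7, .a8, .a11]⟩,
  ⟨32, [.a5], [.a5]⟩,
  ⟨64, [.a6], [.a6]⟩,
  ⟨256, [.a8], [.a8]⟩]
def B811 : List Gv := [⟨[.a2, .a7, .a9, .a11], [.a2, .a6, .a7, .a9, .a11]⟩, ⟨[.a3, .a11], [.a3, .a8, .a11]⟩, ⟨[.a4, .a7, .a11], [.a4, .a5, .a6, .a7, .a8, .a11]⟩]
def D811 : List Dv := [⟨[.a6], [0, 0], []⟩,
  ⟨[.a8], [2, 2], []⟩,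
  ⟨[.a5], [4, 2], [2, 4]⟩]
def C811 : List Ch := [⟨P275, 0, [], []⟩,
  ⟨P359, 1, [.a0, .a1], [.a0, .a1, .a2]⟩,
  ⟨P318, 0, [.a0, .a1], [.a0, .a1, .a2]⟩,
  ⟨P293, 2, [.a1, .a10], [.a1, .a2, .a4, .a5, .a7, .a9, .a10, .a11]⟩,
  ⟨P327, 0, [], []⟩,
  ⟨P376, 1, [.a1], [.a1, .a2]⟩,
  ⟨P269, 0, [.a0, .a1, .a3, .a5, .a6, .a7, .a8, .a9, .a10], [.a0, .a10, .a11]⟩]
def N811 : List Ent := [⟨4, [.a2, .a7, .a9, .a11], [.a2, .a6, .a7, .a9, .a11]⟩,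
  ⟨8, [.a3, .a11], [.a3, .a8, .a11]⟩,
  ⟨16, [.a4, .a7, .a11], [.a4, .a5, .a6, .a7, .a8, .a11]⟩,
  ⟨32, [.a5], [.a5]⟩,
  ⟨64, [.a6], [.a6]⟩,
  ⟨128, [.a7], [.a7, .a8]⟩,
  ⟨256, [.a8], [.a8]⟩,
  ⟨512, [.a9], [.a9]⟩,
  ⟨2048, [.a11], [.a11]⟩]
theorem bad811 (c : CtxF Goal γ) : Bad Goal γ [] P811 :=
  c.toCtx.bnd (B := B811) (D := D811) (I := [3, 4, 5, 0, 2, 1]) (r := 3) (C := C811) (N := N811) (by decide +kernel) (by decide +kernel) (by decide +kernel) (by decide +kernel)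
    (allB_cons (bad275 c) (allB_cons (bad359 c) (allB_cons (bad318 c) (allB_cons (bad293 c) (allB_cons (bad327 c) (allB_cons (bad376 c) (allB_cons (bad269 c) (allB_nil))))))))

def P812 : List Ent := [⟨4, [.a2], [.a2]⟩,
  ⟨16, [.a4], [.a4, .a5]⟩,
  ⟨32, [.a5], [.a5]⟩,
  ⟨64, [.a6], [.a6]⟩,
  ⟨128, [.a7], [.a7, .a8]⟩,
  ⟨256, [.a8], [.a8]⟩]
def B812 : List Gv := [⟨[.a2], [.a2]⟩, ⟨[.a4], [.a4, .a5]⟩, ⟨[.a7], [.a7, .a8]⟩]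
def D812 : List Dv := [⟨[.a5], [1, 1], []⟩,
  ⟨[.a6], [3, 2], [2, 3]⟩,
  ⟨[.a8], [4, 4], []⟩]
def C812 : List Ch := [⟨P223, 0, [], []⟩,
  ⟨P303, 1, [], []⟩,
  ⟨P336, 0, [.a1, .a10], [.a1, .a2, .a4, .a5, .a7, .a9, .a10, .a11]⟩,
  ⟨P348, 2, [], []⟩,
  ⟨P342, 0, [.a0], [.a0]⟩,
  ⟨P368, 1, [], []⟩,
  ⟨P265, 0, [.a0], [.a0]⟩]
def N812 : List Ent := [⟨4, [.a2], [.a2]⟩,
  ⟨8, [.a3], [.a3]⟩,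
  ⟨16, [.a4], [.a4, .a5]⟩,
  ⟨32, [.a5], [.a5]⟩,
  ⟨64, [.a6], [.a6]⟩,
  ⟨128, [.a7], [.a7, .a8]⟩,
  ⟨256, [.a8], [.a8]⟩,
  ⟨512, [.a9], [.a9]⟩,
  ⟨2048, [.a11], [.a11]⟩]
theorem bad812 (c : CtxF Goal γ) : Bad Goal γ [] P812 :=
  c.toCtx.bnd (B := B812) (D := D812) (I := [3, 4, 2, 1, 5, 0]) (r := 3) (C := C812) (N := N812) (by decide +kernel) (by decide +kernel) (by decide +kernel) (by decide +kernel)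
    (allB_cons (bad223 c) (allB_cons (bad303 c) (allB_cons (bad336 c) (allB_cons (bad348 c) (allB_cons (bad342 c) (allB_cons (bad368 c) (allB_cons (bad265 c) (allB_nil))))))))

def P813 : List Ent := [⟨4, [.a2, .a11], [.a2, .a5, .a6, .a8, .a11]⟩,
  ⟨16, [.a4, .a11], [.a4, .a5, .a11]⟩,
  ⟨32, [.a5], [.a5]⟩,
  ⟨64, [.a6], [.a6]⟩,
  ⟨128, [.a7], [.a7, .a8]⟩,
  ⟨256, [.a8], [.a8]⟩]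
def B813 : List Gv := [⟨[.a2, .a11], [.a2, .a5, .a6, .a8, .a11]⟩, ⟨[.a4, .a11], [.a4, .a5, .a11]⟩, ⟨[.a7], [.a7, .a8]⟩]
def D813 : List Dv := [⟨[.a5, .a6, .a8], [0, 0], []⟩,
  ⟨[.a6, .a8], [0, 2, 2], []⟩,
  ⟨[.a8], [0, 4, 3], [3, 4]⟩,
  ⟨[.a6], [1], [0]⟩,
  ⟨[.a5], [3], [0, 1]⟩]
def C813 : List Ch := [⟨P224, 0, [], []⟩,
  ⟨P304, 1, [], []⟩,
  ⟨P336, 0, [.a1, .a10], [.a1, .a2, .a4, .a5, .a7, .a9, .a10, .a11]⟩,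
  ⟨P266, 2, [.a0, .a10], [.a0, .a1, .a2, .a3, .a4, .a6, .a8, .a9, .a10, .a11]⟩,
  ⟨P345, 0, [.a0, .a1, .a3, .a5, .a6, .a7, .a8, .a9, .a10], [.a0, .a10, .a11]⟩,
  ⟨P369, 1, [], []⟩,
  ⟨P353, 0, [.a0, .a1], [.a0, .a1, .a2]⟩]
def N813 : List Ent := [⟨4, [.a2, .a11], [.a2, .a5, .a6, .a8, .a11]⟩,
  ⟨8, [.a3], [.a3]⟩,
  ⟨16, [.a4, .a11], [.a4, .a5, .a11]⟩,
  ⟨32, [.a5], [.a5]⟩,
  ⟨64, [.a6], [.a6]⟩,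
  ⟨128, [.a7], [.a7, .a8]⟩,
  ⟨256, [.a8], [.a8]⟩,
  ⟨512, [.a9], [.a9]⟩,
  ⟨2048, [.a11], [.a11]⟩]
theorem bad813 (c : CtxF Goal γ) : Bad Goal γ [] P813 :=
  c.toCtx.bnd (B := B813) (D := D813) (I := [5, 6, 0, 1, 7, 2]) (r := 3) (C := C813) (N := N813) (by decide +kernel) (by decide +kernel) (by decide +kernel) (by decide +kernel)
    (allB_cons (bad224 c) (allB_cons (bad304 c) (allB_cons (bad336 c) (allB_cons (bad266 c) (allB_cons (bad345 c) (allB_cons (bad369 c) (allB_cons (bad353 c) (allB_nil))))))))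

def P814 : List Ent := [⟨4, [.a2, .a11], [.a2, .a5, .a6, .a8, .a11]⟩,
  ⟨16, [.a4], [.a4, .a5]⟩,
  ⟨32, [.a5], [.a5]⟩,
  ⟨64, [.a6], [.a6]⟩,
  ⟨128, [.a7, .a11], [.a7, .a8, .a11]⟩,
  ⟨256, [.a8], [.a8]⟩]
def B814 : List Gv := [⟨[.a2, .a11], [.a2, .a5, .a6, .a8, .a11]⟩, ⟨[.a4], [.a4, .a5]⟩, ⟨[.a7, .a11], [.a7, .a8, .a11]⟩]
def D814 : List Dv := [⟨[.a5, .a6, .a8], [0, 0], []⟩,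
  ⟨[.a6, .a8], [0, 2, 2], []⟩,
  ⟨[.a8], [0, 4, 3], [3, 4]⟩,
  ⟨[.a6], [1], [0]⟩,
  ⟨[.a5], [3], [0, 1]⟩]
def C814 : List Ch := [⟨P225, 0, [], []⟩,
  ⟨P271, 1, [.a0], [.a0]⟩,
  ⟨P341, 0, [], []⟩,
  ⟨P349, 2, [], []⟩,
  ⟨P342, 0, [.a0], [.a0]⟩,
  ⟨P369, 1, [], []⟩,
  ⟨P313, 0, [.a0, .a1], [.a0, .a1, .a2]⟩]
def N814 : List Ent := [⟨4, [.a2, .a11], [.a2, .a5, .a6, .a8, .a11]⟩,
  ⟨8, [.a3], [.a3]⟩,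
  ⟨16, [.a4], [.a4, .a5]⟩,
  ⟨32, [.a5], [.a5]⟩,
  ⟨64, [.a6], [.a6]⟩,
  ⟨128, [.a7, .a11], [.a7, .a8, .a11]⟩,
  ⟨256, [.a8], [.a8]⟩,
  ⟨512, [.a9], [.a9]⟩,
  ⟨2048, [.a11], [.a11]⟩]
theorem bad814 (c : CtxF Goal γ) : Bad Goal γ [] P814 :=
  c.toCtx.bnd (B := B814) (D := D814) (I := [5, 6, 0, 1, 7, 2]) (r := 3) (C := C814) (N := N814) (by decide +kernel) (by decide +kernel) (by decide +kernel) (by decide +kernel)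
    (allB_cons (bad225 c) (allB_cons (bad271 c) (allB_cons (bad341 c) (allB_cons (bad349 c) (allB_cons (bad342 c) (allB_cons (bad369 c) (allB_cons (bad313 c) (allB_nil))))))))

def P815 : List Ent := [⟨4, [.a2], [.a2]⟩,
  ⟨16, [.a4, .a11], [.a4, .a5, .a11]⟩,
  ⟨32, [.a5], [.a5]⟩,
  ⟨64, [.a6], [.a6]⟩,
  ⟨128, [.a7, .a11], [.a7, .a8, .a11]⟩,
  ⟨256, [.a8], [.a8]⟩]
def B815 : List Gv := [⟨[.a2], [.a2]⟩, ⟨[.a4, .a11], [.a4, .a5, .a11]⟩, ⟨[.a7, .a11], [.a7, .a8, .a11]⟩]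
def D815 : List Dv := [⟨[.a5, .a6, .a8], [1, 0], [0, 1]⟩,
  ⟨[.a6, .a8], [0, 2, 2], []⟩,
  ⟨[.a8], [0, 4, 3], [3, 4]⟩,
  ⟨[.a6], [1], [0]⟩,
  ⟨[.a5], [3], [0, 1]⟩]
def C815 : List Ch := [⟨P226, 0, [], []⟩,
  ⟨P306, 1, [], []⟩,
  ⟨P341, 0, [], []⟩,
  ⟨P314, 2, [.a0, .a1], [.a0, .a1, .a2]⟩,
  ⟨P345, 0, [.a0, .a1, .a3, .a5, .a6, .a7, .a8, .a9, .a10], [.a0, .a10, .a11]⟩,
  ⟨P368, 1, [], []⟩,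
  ⟨P376, 0, [], []⟩]
def N815 : List Ent := [⟨4, [.a2], [.a2]⟩,
  ⟨8, [.a3], [.a3]⟩,
  ⟨16, [.a4, .a11], [.a4, .a5, .a11]⟩,
  ⟨32, [.a5], [.a5]⟩,
  ⟨64, [.a6], [.a6]⟩,
  ⟨128, [.a7, .a11], [.a7, .a8, .a11]⟩,
  ⟨256, [.a8], [.a8]⟩,
  ⟨512, [.a9], [.a9]⟩,
  ⟨2048, [.a11], [.a11]⟩]
theorem bad815 (c : CtxF Goal γ) : Bad Goal γ [] P815 :=
  c.toCtx.bnd (B := B815) (D := D815) (I := [5, 6, 0, 1, 7, 2]) (r := 3) (C := C815) (N := N815) (by decide +kernel) (by decide +kernel) (by decide +kernel) (by decide +kernel)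
    (allB_cons (bad226 c) (allB_cons (bad306 c) (allB_cons (bad341 c) (allB_cons (bad314 c) (allB_cons (bad345 c) (allB_cons (bad368 c) (allB_cons (bad376 c) (allB_nil))))))))

def P816 : List Ent := [⟨4, [.a2, .a9], [.a2, .a5, .a9]⟩,
  ⟨16, [.a4], [.a4, .a5]⟩,
  ⟨32, [.a5], [.a5]⟩,
  ⟨64, [.a6], [.a6]⟩,
  ⟨128, [.a7], [.a7, .a8]⟩,
  ⟨256, [.a8], [.a8]⟩]
def B816 : List Gv := [⟨[.a2, .a9], [.a2, .a5, .a9]⟩, ⟨[.a4], [.a4, .a5]⟩, ⟨[.a7], [.a7, .a8]⟩]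
def D816 : List Dv := [⟨[.a5], [0, 0], []⟩,
  ⟨[.a8], [2, 1], [1, 2]⟩,
  ⟨[.a6], [4, 3], [3, 4]⟩]
def C816 : List Ch := [⟨P223, 0, [], []⟩,
  ⟨P307, 1, [], []⟩,
  ⟨P339, 0, [.a1, .a10], [.a1, .a2, .a4, .a5, .a7, .a9, .a10, .a11]⟩,
  ⟨P356, 2, [], []⟩,
  ⟨P336, 0, [.a0], [.a0]⟩,
  ⟨P370, 1, [], []⟩,
  ⟨P227, 0, [.a0, .a1, .a3, .a5, .a6, .a7, .a8, .a9, .a10], [.a0, .a10, .a11]⟩]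
def N816 : List Ent := [⟨4, [.a2, .a9], [.a2, .a5, .a9]⟩,
  ⟨8, [.a3], [.a3]⟩,
  ⟨16, [.a4], [.a4, .a5]⟩,
  ⟨32, [.a5], [.a5]⟩,
  ⟨64, [.a6], [.a6]⟩,
  ⟨128, [.a7], [.a7, .a8]⟩,
  ⟨256, [.a8], [.a8]⟩,
  ⟨512, [.a9], [.a9]⟩,
  ⟨2048, [.a11], [.a11]⟩]
theorem bad816 (c : CtxF Goal γ) : Bad Goal γ [] P816 :=
  c.toCtx.bnd (B := B816) (D := D816) (I := [3, 4, 2, 0, 5, 1]) (r := 3) (C := C816) (N := N816) (by decide +kernel) (by decide +kernel) (by decide +kernel) (by decide +kernel)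
    (allB_cons (bad223 c) (allB_cons (bad307 c) (allB_cons (bad339 c) (allB_cons (bad356 c) (allB_cons (bad336 c) (allB_cons (bad370 c) (allB_cons (bad227 c) (allB_nil))))))))

def P817 : List Ent := [⟨4, [.a2, .a9, .a11], [.a2, .a6, .a8, .a9, .a11]⟩,
  ⟨16, [.a4, .a11], [.a4, .a5, .a11]⟩,
  ⟨32, [.a5], [.a5]⟩,
  ⟨64, [.a6], [.a6]⟩,
  ⟨128, [.a7], [.a7, .a8]⟩,
  ⟨256, [.a8], [.a8]⟩]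
def B817 : List Gv := [⟨[.a2, .a9, .a11], [.a2, .a6, .a8, .a9, .a11]⟩, ⟨[.a4, .a11], [.a4, .a5, .a11]⟩, ⟨[.a7], [.a7, .a8]⟩]
def D817 : List Dv := [⟨[.a6, .a8], [0, 0], []⟩,
  ⟨[.a5, .a6], [2, 1], [1, 2]⟩,
  ⟨[.a8], [1, 0, 3, 3], []⟩,
  ⟨[.a6], [2], [0]⟩,
  ⟨[.a5], [2], [0]⟩]
def C817 : List Ch := [⟨P224, 0, [], []⟩,
  ⟨P304, 1, [.a1], [.a1, .a2]⟩,
  ⟨P339, 0, [.a1, .a10], [.a1, .a2, .a4, .a5, .a7, .a9, .a10, .a11]⟩,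
  ⟨P270, 2, [.a0, .a1], [.a0, .a1, .a2]⟩,
  ⟨P343, 0, [.a0, .a10], [.a0, .a1, .a2, .a3, .a4, .a6, .a8, .a9, .a10, .a11]⟩,
  ⟨P371, 1, [], []⟩,
  ⟨P359, 0, [.a0, .a1], [.a0, .a1, .a2]⟩]
def N817 : List Ent := [⟨4, [.a2, .a9, .a11], [.a2, .a6, .a8, .a9, .a11]⟩,
  ⟨8, [.a3], [.a3]⟩,
  ⟨16, [.a4, .a11], [.a4, .a5, .a11]⟩,
  ⟨32, [.a5], [.a5]⟩,
  ⟨64, [.a6], [.a6]⟩,
  ⟨128, [.a7], [.a7, .a8]⟩,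
  ⟨256, [.a8], [.a8]⟩,
  ⟨512, [.a9], [.a9]⟩,
  ⟨2048, [.a11], [.a11]⟩]
theorem bad817 (c : CtxF Goal γ) : Bad Goal γ [] P817 :=
  c.toCtx.bnd (B := B817) (D := D817) (I := [5, 6, 0, 1, 7, 2]) (r := 3) (C := C817) (N := N817) (by decide +kernel) (by decide +kernel) (by decide +kernel) (by decide +kernel)
    (allB_cons (bad224 c) (allB_cons (bad304 c) (allB_cons (bad339 c) (allB_cons (bad270 c) (allB_cons (bad343 c) (allB_cons (bad371 c) (allB_cons (bad359 c) (allB_nil))))))))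

def P818 : List Ent := [⟨4, [.a2, .a9, .a11], [.a2, .a6, .a8, .a9, .a11]⟩,
  ⟨16, [.a4], [.a4, .a5]⟩,
  ⟨32, [.a5], [.a5]⟩,
  ⟨64, [.a6], [.a6]⟩,
  ⟨128, [.a7, .a11], [.a7, .a8, .a11]⟩,
  ⟨256, [.a8], [.a8]⟩]
def B818 : List Gv := [⟨[.a2, .a9, .a11], [.a2, .a6, .a8, .a9, .a11]⟩, ⟨[.a4], [.a4, .a5]⟩, ⟨[.a7, .a11], [.a7, .a8, .a11]⟩]
def D818 : List Dv := [⟨[.a6, .a8], [0, 0], []⟩,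
  ⟨[.a8], [2, 1], [1, 2]⟩,
  ⟨[.a5], [3, 3], []⟩,
  ⟨[.a6], [2], [1]⟩]
def C818 : List Ch := [⟨P225, 0, [], []⟩,
  ⟨P228, 1, [.a0, .a10], [.a0, .a1, .a2, .a3, .a4, .a6, .a8, .a9, .a10, .a11]⟩,
  ⟨P341, 0, [.a1, .a10], [.a1, .a2, .a4, .a5, .a7, .a9, .a10, .a11]⟩,
  ⟨P353, 2, [.a1], [.a1, .a2]⟩,
  ⟨P336, 0, [.a0], [.a0]⟩,
  ⟨P371, 1, [], []⟩,
  ⟨P312, 0, [.a0, .a1], [.a0, .a1, .a2]⟩]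
def N818 : List Ent := [⟨4, [.a2, .a9, .a11], [.a2, .a6, .a8, .a9, .a11]⟩,
  ⟨8, [.a3], [.a3]⟩,
  ⟨16, [.a4], [.a4, .a5]⟩,
  ⟨32, [.a5], [.a5]⟩,
  ⟨64, [.a6], [.a6]⟩,
  ⟨128, [.a7, .a11], [.a7, .a8, .a11]⟩,
  ⟨256, [.a8], [.a8]⟩,
  ⟨512, [.a9], [.a9]⟩,
  ⟨2048, [.a11], [.a11]⟩]
theorem bad818 (c : CtxF Goal γ) : Bad Goal γ [] P818 :=
  c.toCtx.bnd (B := B818) (D := D818) (I := [4, 5, 1, 0, 6, 2]) (r := 3) (C := C818) (N := N818) (by decide +kernel) (by decide +kernel) (by decide +kernel) (by decide +kernel)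
    (allB_cons (bad225 c) (allB_cons (bad228 c) (allB_cons (bad341 c) (allB_cons (bad353 c) (allB_cons (bad336 c) (allB_cons (bad371 c) (allB_cons (bad312 c) (allB_nil))))))))

def P819 : List Ent := [⟨4, [.a2, .a9], [.a2, .a5, .a9]⟩,
  ⟨16, [.a4, .a11], [.a4, .a5, .a11]⟩,
  ⟨32, [.a5], [.a5]⟩,
  ⟨64, [.a6], [.a6]⟩,
  ⟨128, [.a7, .a11], [.a7, .a8, .a11]⟩,
  ⟨256, [.a8], [.a8]⟩]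
def B819 : List Gv := [⟨[.a2, .a9], [.a2, .a5, .a9]⟩, ⟨[.a4, .a11], [.a4, .a5, .a11]⟩, ⟨[.a7, .a11], [.a7, .a8, .a11]⟩]
def D819 : List Dv := [⟨[.a5], [0, 0], []⟩,
  ⟨[.a6], [0, 2, 1], [1, 2]⟩,
  ⟨[.a8], [0, 1, 4, 2], [2, 4]⟩]
def C819 : List Ch := [⟨P226, 0, [], []⟩,
  ⟨P308, 1, [], []⟩,
  ⟨P341, 0, [.a1, .a10], [.a1, .a2, .a4, .a5, .a7, .a9, .a10, .a11]⟩,
  ⟨P316, 2, [.a0, .a10], [.a0, .a1, .a2, .a3, .a4, .a6, .a8, .a9, .a10, .a11]⟩,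
  ⟨P343, 0, [.a0, .a10], [.a0, .a1, .a2, .a3, .a4, .a6, .a8, .a9, .a10, .a11]⟩,
  ⟨P370, 1, [], []⟩,
  ⟨P377, 0, [], []⟩]
def N819 : List Ent := [⟨4, [.a2, .a9], [.a2, .a5, .a9]⟩,
  ⟨8, [.a3], [.a3]⟩,
  ⟨16, [.a4, .a11], [.a4, .a5, .a11]⟩,
  ⟨32, [.a5], [.a5]⟩,
  ⟨64, [.a6], [.a6]⟩,
  ⟨128, [.a7, .a11], [.a7, .a8, .a11]⟩,
  ⟨256, [.a8], [.a8]⟩,
  ⟨512, [.a9], [.a9]⟩,
  ⟨2048, [.a11], [.a11]⟩]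
theorem bad819 (c : CtxF Goal γ) : Bad Goal γ [] P819 :=
  c.toCtx.bnd (B := B819) (D := D819) (I := [3, 4, 2, 1, 5, 0]) (r := 3) (C := C819) (N := N819) (by decide +kernel) (by decide +kernel) (by decide +kernel) (by decide +kernel)
    (allB_cons (bad226 c) (allB_cons (bad308 c) (allB_cons (bad341 c) (allB_cons (bad316 c) (allB_cons (bad343 c) (allB_cons (bad370 c) (allB_cons (bad377 c) (allB_nil))))))))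

def P820 : List Ent := [⟨4, [.a2], [.a2]⟩,
  ⟨16, [.a4, .a9], [.a4, .a5, .a8, .a9]⟩,
  ⟨32, [.a5], [.a5]⟩,
  ⟨64, [.a6], [.a6]⟩,
  ⟨128, [.a7], [.a7, .a8]⟩,
  ⟨256, [.a8], [.a8]⟩]
def B820 : List Gv := [⟨[.a2], [.a2]⟩, ⟨[.a4, .a9], [.a4, .a5, .a8, .a9]⟩, ⟨[.a7], [.a7, .a8]⟩]
def D820 : List Dv := [⟨[.a5], [1, 0], [0, 1]⟩,
  ⟨[.a8], [0, 2, 2], []⟩,
  ⟨[.a6], [4, 3], [3, 4]⟩]
def C820 : List Ch := [⟨P227, 0, [], []⟩,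
  ⟨P303, 1, [], []⟩,
  ⟨P339, 0, [.a1, .a10], [.a1, .a2, .a4, .a5, .a7, .a9, .a10, .a11]⟩,
  ⟨P358, 2, [], []⟩,
  ⟨P344, 0, [.a0, .a1], [.a0, .a1, .a2]⟩,
  ⟨P372, 1, [], []⟩,
  ⟨P269, 0, [.a0, .a1], [.a0, .a1, .a2]⟩]
def N820 : List Ent := [⟨4, [.a2], [.a2]⟩,
  ⟨8, [.a3], [.a3]⟩,
  ⟨16, [.a4, .a9], [.a4, .a5, .a8, .a9]⟩,
  ⟨32, [.a5], [.a5]⟩,
  ⟨64, [.a6], [.a6]⟩,
  ⟨128, [.a7], [.a7, .a8]⟩,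
  ⟨256, [.a8], [.a8]⟩,
  ⟨512, [.a9], [.a9]⟩,
  ⟨2048, [.a11], [.a11]⟩]
theorem bad820 (c : CtxF Goal γ) : Bad Goal γ [] P820 :=
  c.toCtx.bnd (B := B820) (D := D820) (I := [3, 4, 2, 0, 5, 1]) (r := 3) (C := C820) (N := N820) (by decide +kernel) (by decide +kernel) (by decide +kernel) (by decide +kernel)
    (allB_cons (bad227 c) (allB_cons (bad303 c) (allB_cons (bad339 c) (allB_cons (bad358 c) (allB_cons (bad344 c) (allB_cons (bad372 c) (allB_cons (bad269 c) (allB_nil))))))))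

def P821 : List Ent := [⟨4, [.a2, .a11], [.a2, .a5, .a6, .a8, .a11]⟩,
  ⟨16, [.a4, .a9, .a11], [.a4, .a5, .a8, .a9, .a11]⟩,
  ⟨32, [.a5], [.a5]⟩,
  ⟨64, [.a6], [.a6]⟩,
  ⟨128, [.a7], [.a7, .a8]⟩,
  ⟨256, [.a8], [.a8]⟩]
def B821 : List Gv := [⟨[.a2, .a11], [.a2, .a5, .a6, .a8, .a11]⟩, ⟨[.a4, .a9, .a11], [.a4, .a5, .a8, .a9, .a11]⟩, ⟨[.a7], [.a7, .a8]⟩]
def D821 : List Dv := [⟨[.a5, .a6, .a8], [0, 0], []⟩,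
  ⟨[.a6, .a8], [2, 1], [1, 2]⟩,
  ⟨[.a8], [0, 1, 3, 3], []⟩,
  ⟨[.a6], [1], [0]⟩,
  ⟨[.a5], [3], [0, 1]⟩]
def C821 : List Ch := [⟨P228, 0, [], []⟩,
  ⟨P304, 1, [], []⟩,
  ⟨P339, 0, [.a1, .a10], [.a1, .a2, .a4, .a5, .a7, .a9, .a10, .a11]⟩,
  ⟨P229, 2, [.a0, .a1, .a3, .a5, .a6, .a7, .a8, .a9, .a10], [.a0, .a10, .a11]⟩,
  ⟨P341, 0, [.a0, .a1, .a3, .a5, .a6, .a7, .a8, .a9, .a10], [.a0, .a10, .a11]⟩,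
  ⟨P373, 1, [], []⟩,
  ⟨P360, 0, [.a0, .a10], [.a0, .a1, .a2, .a3, .a4, .a6, .a8, .a9, .a10, .a11]⟩]
def N821 : List Ent := [⟨4, [.a2, .a11], [.a2, .a5, .a6, .a8, .a11]⟩,
  ⟨8, [.a3], [.a3]⟩,
  ⟨16, [.a4, .a9, .a11], [.a4, .a5, .a8, .a9, .a11]⟩,
  ⟨32, [.a5], [.a5]⟩,
  ⟨64, [.a6], [.a6]⟩,
  ⟨128, [.a7], [.a7, .a8]⟩,
  ⟨256, [.a8], [.a8]⟩,
  ⟨512, [.a9], [.a9]⟩,
  ⟨2048, [.a11], [.a11]⟩]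
theorem bad821 (c : CtxF Goal γ) : Bad Goal γ [] P821 :=
  c.toCtx.bnd (B := B821) (D := D821) (I := [5, 6, 0, 1, 7, 2]) (r := 3) (C := C821) (N := N821) (by decide +kernel) (by decide +kernel) (by decide +kernel) (by decide +kernel)
    (allB_cons (bad228 c) (allB_cons (bad304 c) (allB_cons (bad339 c) (allB_cons (bad229 c) (allB_cons (bad341 c) (allB_cons (bad373 c) (allB_cons (bad360 c) (allB_nil))))))))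

def P822 : List Ent := [⟨4, [.a2, .a11], [.a2, .a5, .a6, .a8, .a11]⟩,
  ⟨16, [.a4, .a9], [.a4, .a5, .a8, .a9]⟩,
  ⟨32, [.a5], [.a5]⟩,
  ⟨64, [.a6], [.a6]⟩,
  ⟨128, [.a7, .a11], [.a7, .a8, .a11]⟩,
  ⟨256, [.a8], [.a8]⟩]
def B822 : List Gv := [⟨[.a2, .a11], [.a2, .a5, .a6, .a8, .a11]⟩, ⟨[.a4, .a9], [.a4, .a5, .a8, .a9]⟩, ⟨[.a7, .a11], [.a7, .a8, .a11]⟩]
def D822 : List Dv := [⟨[.a5, .a6, .a8], [0, 0], []⟩,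
  ⟨[.a6, .a8], [0, 2, 1], [1, 2]⟩,
  ⟨[.a8], [0, 1, 3, 3], []⟩,
  ⟨[.a6], [1], [0]⟩,
  ⟨[.a5], [3], [0, 1]⟩]
def C822 : List Ch := [⟨P229, 0, [], []⟩,
  ⟨P271, 1, [.a0], [.a0]⟩,
  ⟨P341, 0, [.a1, .a10], [.a1, .a2, .a4, .a5, .a7, .a9, .a10, .a11]⟩,
  ⟨P359, 2, [], []⟩,
  ⟨P344, 0, [.a0, .a1], [.a0, .a1, .a2]⟩,
  ⟨P373, 1, [], []⟩,
  ⟨P318, 0, [.a0, .a10], [.a0, .a1, .a2, .a3, .a4, .a6, .a8, .a9, .a10, .a11]⟩]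
def N822 : List Ent := [⟨4, [.a2, .a11], [.a2, .a5, .a6, .a8, .a11]⟩,
  ⟨8, [.a3], [.a3]⟩,
  ⟨16, [.a4, .a9], [.a4, .a5, .a8, .a9]⟩,
  ⟨32, [.a5], [.a5]⟩,
  ⟨64, [.a6], [.a6]⟩,
  ⟨128, [.a7, .a11], [.a7, .a8, .a11]⟩,
  ⟨256, [.a8], [.a8]⟩,
  ⟨512, [.a9], [.a9]⟩,
  ⟨2048, [.a11], [.a11]⟩]
theorem bad822 (c : CtxF Goal γ) : Bad Goal γ [] P822 :=
  c.toCtx.bnd (B := B822) (D := D822) (I := [5, 6, 0, 1, 7, 2]) (r := 3) (C := C822) (N := N822) (by decide +kernel) (by decide +kernel) (by decide +kernel) (by decide +kernel)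
    (allB_cons (bad229 c) (allB_cons (bad271 c) (allB_cons (bad341 c) (allB_cons (bad359 c) (allB_cons (bad344 c) (allB_cons (bad373 c) (allB_cons (bad318 c) (allB_nil))))))))

def P823 : List Ent := [⟨4, [.a2], [.a2]⟩,
  ⟨16, [.a4, .a9, .a11], [.a4, .a5, .a8, .a9, .a11]⟩,
  ⟨32, [.a5], [.a5]⟩,
  ⟨64, [.a6], [.a6]⟩,
  ⟨128, [.a7, .a11], [.a7, .a8, .a11]⟩,
  ⟨256, [.a8], [.a8]⟩]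
def B823 : List Gv := [⟨[.a2], [.a2]⟩, ⟨[.a4, .a9, .a11], [.a4, .a5, .a8, .a9, .a11]⟩, ⟨[.a7, .a11], [.a7, .a8, .a11]⟩]
def D823 : List Dv := [⟨[.a6, .a8], [1, 0], [0, 1]⟩,
  ⟨[.a5, .a8], [2, 2], []⟩,
  ⟨[.a8], [1, 0, 4, 2], [2, 4]⟩,
  ⟨[.a6], [2], [0]⟩,
  ⟨[.a5], [2], [1]⟩]
def C823 : List Ch := [⟨P230, 0, [], []⟩,
  ⟨P306, 1, [], []⟩,
  ⟨P341, 0, [.a1, .a10], [.a1, .a2, .a4, .a5, .a7, .a9, .a10, .a11]⟩,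
  ⟨P306, 2, [.a0], [.a0]⟩,
  ⟨P341, 0, [.a0, .a1, .a3, .a5, .a6, .a7, .a8, .a9, .a10], [.a0, .a10, .a11]⟩,
  ⟨P372, 1, [], []⟩,
  ⟨P379, 0, [], []⟩]
def N823 : List Ent := [⟨1, [.a0], [.a0]⟩,
  ⟨4, [.a2], [.a2]⟩,
  ⟨8, [.a3], [.a3]⟩,
  ⟨16, [.a4, .a9, .a11], [.a4, .a5, .a8, .a9, .a11]⟩,
  ⟨32, [.a5], [.a5]⟩,
  ⟨64, [.a6], [.a6]⟩,
  ⟨128, [.a7, .a11], [.a7, .a8, .a11]⟩,
  ⟨256, [.a8], [.a8]⟩,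
  ⟨512, [.a9], [.a9]⟩,
  ⟨2048, [.a11], [.a11]⟩]
theorem bad823 (c : CtxF Goal γ) : Bad Goal γ [] P823 :=
  c.toCtx.bnd (B := B823) (D := D823) (I := [5, 6, 0, 1, 7, 2]) (r := 3) (C := C823) (N := N823) (by decide +kernel) (by decide +kernel) (by decide +kernel) (by decide +kernel)
    (allB_cons (bad230 c) (allB_cons (bad306 c) (allB_cons (bad341 c) (allB_cons (bad306 c) (allB_cons (bad341 c) (allB_cons (bad372 c) (allB_cons (bad379 c) (allB_nil))))))))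

def P824 : List Ent := [⟨4, [.a2, .a9, .a11], [.a2, .a6, .a8, .a9, .a11]⟩,
  ⟨16, [.a4, .a9, .a11], [.a4, .a5, .a8, .a9, .a11]⟩,
  ⟨32, [.a5], [.a5]⟩,
  ⟨64, [.a6], [.a6]⟩,
  ⟨128, [.a7], [.a7, .a8]⟩,
  ⟨256, [.a8], [.a8]⟩]
def B824 : List Gv := [⟨[.a2, .a9, .a11], [.a2, .a6, .a8, .a9, .a11]⟩, ⟨[.a4, .a9, .a11], [.a4, .a5, .a8, .a9, .a11]⟩, ⟨[.a7], [.a7, .a8]⟩]
def D824 : List Dv := [⟨[.a6, .a8], [0, 0], []⟩,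
  ⟨[.a8], [0, 2, 1], [1, 2]⟩,
  ⟨[.a5, .a8], [3, 3], []⟩,
  ⟨[.a6], [2], [1]⟩,
  ⟨[.a5], [1], [2]⟩]
def C824 : List Ch := [⟨P228, 0, [], []⟩,
  ⟨P304, 1, [.a1], [.a1, .a2]⟩,
  ⟨P336, 0, [.a1, .a10], [.a1, .a2, .a4, .a5, .a7, .a9, .a10, .a11]⟩,
  ⟨P225, 2, [.a0], [.a0]⟩,
  ⟨P337, 0, [.a0, .a10], [.a0, .a1, .a2, .a3, .a4, .a6, .a8, .a9, .a10, .a11]⟩,
  ⟨P373, 1, [.a0, .a10], [.a0, .a1, .a2, .a3, .a4, .a6, .a8, .a9, .a10, .a11]⟩,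
  ⟨P349, 0, [.a0, .a10], [.a0, .a1, .a2, .a3, .a4, .a6, .a8, .a9, .a10, .a11]⟩]
def N824 : List Ent := [⟨4, [.a2, .a9, .a11], [.a2, .a6, .a8, .a9, .a11]⟩,
  ⟨8, [.a3], [.a3]⟩,
  ⟨16, [.a4, .a9, .a11], [.a4, .a5, .a8, .a9, .a11]⟩,
  ⟨32, [.a5], [.a5]⟩,
  ⟨64, [.a6], [.a6]⟩,
  ⟨128, [.a7], [.a7, .a8]⟩,
  ⟨256, [.a8], [.a8]⟩,
  ⟨512, [.a9], [.a9]⟩,
  ⟨2048, [.a11], [.a11]⟩]
theorem bad824 (c : CtxF Goal γ) : Bad Goal γ [] P824 :=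
  c.toCtx.bnd (B := B824) (D := D824) (I := [5, 6, 0, 1, 7, 3]) (r := 3) (C := C824) (N := N824) (by decide +kernel) (by decide +kernel) (by decide +kernel) (by decide +kernel)
    (allB_cons (bad228 c) (allB_cons (bad304 c) (allB_cons (bad336 c) (allB_cons (bad225 c) (allB_cons (bad337 c) (allB_cons (bad373 c) (allB_cons (bad349 c) (allB_nil))))))))

def P825 : List Ent := [⟨4, [.a2, .a9], [.a2, .a5, .a9]⟩,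
  ⟨16, [.a4, .a9, .a11], [.a4, .a5, .a8, .a9, .a11]⟩,
  ⟨32, [.a5], [.a5]⟩,
  ⟨64, [.a6], [.a6]⟩,
  ⟨128, [.a7, .a11], [.a7, .a8, .a11]⟩,
  ⟨256, [.a8], [.a8]⟩]
def B825 : List Gv := [⟨[.a2, .a9], [.a2, .a5, .a9]⟩, ⟨[.a4, .a9, .a11], [.a4, .a5, .a8, .a9, .a11]⟩, ⟨[.a7, .a11], [.a7, .a8, .a11]⟩]
def D825 : List Dv := [⟨[.a5], [0, 0], []⟩,
  ⟨[.a6], [2, 1], [1, 2]⟩,
  ⟨[.a8], [1, 3, 3], []⟩]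
def C825 : List Ch := [⟨P230, 0, [], []⟩,
  ⟨P308, 1, [], []⟩,
  ⟨P341, 0, [], []⟩,
  ⟨P308, 2, [.a0, .a1, .a3, .a5, .a6, .a7, .a8, .a9, .a10], [.a0, .a10, .a11]⟩,
  ⟨P337, 0, [.a0, .a10], [.a0, .a1, .a2, .a3, .a4, .a6, .a8, .a9, .a10, .a11]⟩,
  ⟨P370, 1, [.a0, .a10], [.a0, .a1, .a2, .a3, .a4, .a6, .a8, .a9, .a10, .a11]⟩,
  ⟨P376, 0, [.a0, .a10], [.a0, .a1, .a2, .a3, .a4, .a6, .a8, .a9, .a10, .a11]⟩]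
def N825 : List Ent := [⟨4, [.a2, .a9], [.a2, .a5, .a9]⟩,
  ⟨8, [.a3], [.a3]⟩,
  ⟨16, [.a4, .a9, .a11], [.a4, .a5, .a8, .a9, .a11]⟩,
  ⟨32, [.a5], [.a5]⟩,
  ⟨64, [.a6], [.a6]⟩,
  ⟨128, [.a7, .a11], [.a7, .a8, .a11]⟩,
  ⟨256, [.a8], [.a8]⟩,
  ⟨512, [.a9], [.a9]⟩,
  ⟨2048, [.a11], [.a11]⟩]
theorem bad825 (c : CtxF Goal γ) : Bad Goal γ [] P825 :=
  c.toCtx.bnd (B := B825) (D := D825) (I := [3, 4, 2, 1, 5, 0]) (r := 3) (C := C825) (N := N825) (by decide +kernel) (by decide +kernel) (by decide +kernel) (by decide +kernel)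
    (allB_cons (bad230 c) (allB_cons (bad308 c) (allB_cons (bad341 c) (allB_cons (bad308 c) (allB_cons (bad337 c) (allB_cons (bad370 c) (allB_cons (bad376 c) (allB_nil))))))))

def P826 : List Ent := [⟨4, [.a2], [.a2]⟩,
  ⟨16, [.a4], [.a4, .a5]⟩,
  ⟨32, [.a5], [.a5]⟩,
  ⟨64, [.a6], [.a6]⟩,
  ⟨128, [.a7, .a9], [.a7, .a8, .a9]⟩,
  ⟨256, [.a8], [.a8]⟩]
def B826 : List Gv := [⟨[.a2], [.a2]⟩, ⟨[.a4], [.a4, .a5]⟩, ⟨[.a7, .a9], [.a7, .a8, .a9]⟩]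
def D826 : List Dv := [⟨[.a5], [1, 1], []⟩,
  ⟨[.a6, .a8], [3, 2], [2, 3]⟩,
  ⟨[.a8], [4, 4], []⟩,
  ⟨[.a6], [1], [0]⟩]
theorem bad826 (c : CtxF Goal γ) : Bad Goal γ [] P826 :=
  c.toCtx.cent (B := B826) (D := D826) (I := [4, 5, 3, 0, 6, 1]) (z := [.a2, .a3]) (by decide +kernel) (by decide +kernel)

def P827 : List Ent := [⟨4, [.a2, .a11], [.a2, .a5, .a6, .a8, .a11]⟩,
  ⟨16, [.a4, .a11], [.a4, .a5, .a11]⟩,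
  ⟨32, [.a5], [.a5]⟩,
  ⟨64, [.a6], [.a6]⟩,
  ⟨128, [.a7, .a9], [.a7, .a8, .a9]⟩,
  ⟨256, [.a8], [.a8]⟩]
def B827 : List Gv := [⟨[.a2, .a11], [.a2, .a5, .a6, .a8, .a11]⟩, ⟨[.a4, .a11], [.a4, .a5, .a11]⟩, ⟨[.a7, .a9], [.a7, .a8, .a9]⟩]
def D827 : List Dv := [⟨[.a5, .a6, .a8], [0, 0], []⟩,
  ⟨[.a6, .a8], [0, 2, 2], []⟩,
  ⟨[.a8], [4, 4], []⟩,
  ⟨[.a6], [1], [0]⟩,
  ⟨[.a5], [3], [0, 1]⟩]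
def C827 : List Ch := [⟨P224, 0, [.a10], [.a10, .a11]⟩,
  ⟨P312, 1, [], []⟩,
  ⟨P336, 0, [], []⟩,
  ⟨P266, 2, [.a0, .a10], [.a0, .a1, .a2, .a3, .a4, .a6, .a8, .a9, .a10, .a11]⟩,
  ⟨P343, 0, [.a0, .a10], [.a0, .a1, .a2, .a3, .a4, .a6, .a8, .a9, .a10, .a11]⟩,
  ⟨P373, 1, [], []⟩,
  ⟨P349, 0, [.a0, .a10], [.a0, .a1, .a2, .a3, .a4, .a6, .a8, .a9, .a10, .a11]⟩]
def N827 : List Ent := [⟨4, [.a2, .a11], [.a2, .a5, .a6, .a8, .a11]⟩,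
  ⟨8, [.a3], [.a3]⟩,
  ⟨16, [.a4, .a11], [.a4, .a5, .a11]⟩,
  ⟨32, [.a5], [.a5]⟩,
  ⟨64, [.a6], [.a6]⟩,
  ⟨128, [.a7, .a9], [.a7, .a8, .a9]⟩,
  ⟨256, [.a8], [.a8]⟩,
  ⟨512, [.a9], [.a9]⟩,
  ⟨2048, [.a11], [.a11]⟩]
theorem bad827 (c : CtxF Goal γ) : Bad Goal γ [] P827 :=
  c.toCtx.bnd (B := B827) (D := D827) (I := [5, 6, 0, 1, 7, 2]) (r := 3) (C := C827) (N := N827) (by decide +kernel) (by decide +kernel) (by decide +kernel) (by decide +kernel)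
    (allB_cons (bad224 c) (allB_cons (bad312 c) (allB_cons (bad336 c) (allB_cons (bad266 c) (allB_cons (bad343 c) (allB_cons (bad373 c) (allB_cons (bad349 c) (allB_nil))))))))

def P828 : List Ent := [⟨4, [.a2], [.a2]⟩,
  ⟨16, [.a4, .a11], [.a4, .a5, .a11]⟩,
  ⟨32, [.a5], [.a5]⟩,
  ⟨64, [.a6], [.a6]⟩,
  ⟨128, [.a7, .a9, .a11], [.a7, .a8, .a9, .a11]⟩,
  ⟨256, [.a8], [.a8]⟩]
def B828 : List Gv := [⟨[.a2], [.a2]⟩, ⟨[.a4, .a11], [.a4, .a5, .a11]⟩, ⟨[.a7, .a9, .a11], [.a7, .a8, .a9, .a11]⟩]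
def D828 : List Dv := [⟨[.a5, .a6, .a8], [1, 0], [0, 1]⟩,
  ⟨[.a6, .a8], [0, 2, 2], []⟩,
  ⟨[.a8], [4, 4], []⟩,
  ⟨[.a6], [1], [0]⟩,
  ⟨[.a5], [3], [0, 1]⟩]
def C828 : List Ch := [⟨P226, 0, [.a10], [.a10, .a11]⟩,
  ⟨P306, 1, [.a1], [.a1, .a2]⟩,
  ⟨P337, 0, [], []⟩,
  ⟨P314, 2, [.a0, .a1], [.a0, .a1, .a2]⟩,
  ⟨P343, 0, [.a0, .a10], [.a0, .a1, .a2, .a3, .a4, .a6, .a8, .a9, .a10, .a11]⟩,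
  ⟨P372, 1, [], []⟩,
  ⟨P376, 0, [.a0, .a10], [.a0, .a1, .a2, .a3, .a4, .a6, .a8, .a9, .a10, .a11]⟩]
def N828 : List Ent := [⟨4, [.a2], [.a2]⟩,
  ⟨8, [.a3], [.a3]⟩,
  ⟨16, [.a4, .a11], [.a4, .a5, .a11]⟩,
  ⟨32, [.a5], [.a5]⟩,
  ⟨64, [.a6], [.a6]⟩,
  ⟨128, [.a7, .a9, .a11], [.a7, .a8, .a9, .a11]⟩,
  ⟨256, [.a8], [.a8]⟩,
  ⟨512, [.a9], [.a9]⟩,
  ⟨2048, [.a11], [.a11]⟩]
theorem bad828 (c : CtxF Goal γ) : Bad Goal γ [] P828 :=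
  c.toCtx.bnd (B := B828) (D := D828) (I := [5, 6, 0, 1, 7, 2]) (r := 3) (C := C828) (N := N828) (by decide +kernel) (by decide +kernel) (by decide +kernel) (by decide +kernel)
    (allB_cons (bad226 c) (allB_cons (bad306 c) (allB_cons (bad337 c) (allB_cons (bad314 c) (allB_cons (bad343 c) (allB_cons (bad372 c) (allB_cons (bad376 c) (allB_nil))))))))

def P829 : List Ent := [⟨4, [.a2, .a9], [.a2, .a5, .a9]⟩,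
  ⟨16, [.a4], [.a4, .a5]⟩,
  ⟨32, [.a5], [.a5]⟩,
  ⟨64, [.a6], [.a6]⟩,
  ⟨128, [.a7, .a9], [.a7, .a8, .a9]⟩,
  ⟨256, [.a8], [.a8]⟩]
def B829 : List Gv := [⟨[.a2, .a9], [.a2, .a5, .a9]⟩, ⟨[.a4], [.a4, .a5]⟩, ⟨[.a7, .a9], [.a7, .a8, .a9]⟩]
def D829 : List Dv := [⟨[.a5], [0, 0], []⟩,
  ⟨[.a8], [2, 1], [1, 2]⟩,
  ⟨[.a6, .a8], [4, 3], [3, 4]⟩,
  ⟨[.a6], [0], [1]⟩]
def C829 : List Ch := [⟨P223, 0, [.a10], [.a10, .a11]⟩,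
  ⟨P311, 1, [], []⟩,
  ⟨P339, 0, [], []⟩,
  ⟨P356, 2, [], []⟩,
  ⟨P342, 0, [.a0], [.a0]⟩,
  ⟨P370, 1, [.a0, .a10], [.a0, .a1, .a2, .a3, .a4, .a6, .a8, .a9, .a10, .a11]⟩,
  ⟨P269, 0, [.a0, .a1], [.a0, .a1, .a2]⟩]
def N829 : List Ent := [⟨4, [.a2, .a9], [.a2, .a5, .a9]⟩,
  ⟨8, [.a3], [.a3]⟩,
  ⟨16, [.a4], [.a4, .a5]⟩,
  ⟨32, [.a5], [.a5]⟩,
  ⟨64, [.a6], [.a6]⟩,
  ⟨128, [.a7, .a9], [.a7, .a8, .a9]⟩,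
  ⟨256, [.a8], [.a8]⟩,
  ⟨512, [.a9], [.a9]⟩,
  ⟨2048, [.a11], [.a11]⟩]
theorem bad829 (c : CtxF Goal γ) : Bad Goal γ [] P829 :=
  c.toCtx.bnd (B := B829) (D := D829) (I := [4, 5, 3, 0, 6, 2]) (r := 3) (C := C829) (N := N829) (by decide +kernel) (by decide +kernel) (by decide +kernel) (by decide +kernel)
    (allB_cons (bad223 c) (allB_cons (bad311 c) (allB_cons (bad339 c) (allB_cons (bad356 c) (allB_cons (bad342 c) (allB_cons (bad370 c) (allB_cons (bad269 c) (allB_nil))))))))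

def P830 : List Ent := [⟨4, [.a2, .a9, .a11], [.a2, .a6, .a8, .a9, .a11]⟩,
  ⟨16, [.a4, .a11], [.a4, .a5, .a11]⟩,
  ⟨32, [.a5], [.a5]⟩,
  ⟨64, [.a6], [.a6]⟩,
  ⟨128, [.a7, .a9], [.a7, .a8, .a9]⟩,
  ⟨256, [.a8], [.a8]⟩]
def B830 : List Gv := [⟨[.a2, .a9, .a11], [.a2, .a6, .a8, .a9, .a11]⟩, ⟨[.a4, .a11], [.a4, .a5, .a11]⟩, ⟨[.a7, .a9], [.a7, .a8, .a9]⟩]
def D830 : List Dv := [⟨[.a6, .a8], [0, 0], []⟩,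
  ⟨[.a5, .a6], [2, 1], [1, 2]⟩,
  ⟨[.a8], [1, 0, 3, 3], []⟩,
  ⟨[.a6], [2], [0]⟩,
  ⟨[.a5], [2], [0]⟩]
def C830 : List Ch := [⟨P224, 0, [.a10], [.a10, .a11]⟩,
  ⟨P312, 1, [.a1], [.a1, .a2]⟩,
  ⟨P339, 0, [], []⟩,
  ⟨P270, 2, [.a0, .a1], [.a0, .a1, .a2]⟩,
  ⟨P345, 0, [.a0, .a1, .a3, .a5, .a6, .a7, .a8, .a9, .a10], [.a0, .a10, .a11]⟩,
  ⟨P373, 1, [.a0, .a10], [.a0, .a1, .a2, .a3, .a4, .a6, .a8, .a9, .a10, .a11]⟩,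
  ⟨P360, 0, [.a0, .a10], [.a0, .a1, .a2, .a3, .a4, .a6, .a8, .a9, .a10, .a11]⟩]
def N830 : List Ent := [⟨4, [.a2, .a9, .a11], [.a2, .a6, .a8, .a9, .a11]⟩,
  ⟨8, [.a3], [.a3]⟩,
  ⟨16, [.a4, .a11], [.a4, .a5, .a11]⟩,
  ⟨32, [.a5], [.a5]⟩,
  ⟨64, [.a6], [.a6]⟩,
  ⟨128, [.a7, .a9], [.a7, .a8, .a9]⟩,
  ⟨256, [.a8], [.a8]⟩,
  ⟨512, [.a9], [.a9]⟩,
  ⟨2048, [.a11], [.a11]⟩]
theorem bad830 (c : CtxF Goal γ) : Bad Goal γ [] P830 :=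
  c.toCtx.bnd (B := B830) (D := D830) (I := [5, 6, 0, 1, 7, 2]) (r := 3) (C := C830) (N := N830) (by decide +kernel) (by decide +kernel) (by decide +kernel) (by decide +kernel)
    (allB_cons (bad224 c) (allB_cons (bad312 c) (allB_cons (bad339 c) (allB_cons (bad270 c) (allB_cons (bad345 c) (allB_cons (bad373 c) (allB_cons (bad360 c) (allB_nil))))))))

def P831 : List Ent := [⟨4, [.a2, .a9, .a11], [.a2, .a6, .a8, .a9, .a11]⟩,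
  ⟨16, [.a4], [.a4, .a5]⟩,
  ⟨32, [.a5], [.a5]⟩,
  ⟨64, [.a6], [.a6]⟩,
  ⟨128, [.a7, .a9, .a11], [.a7, .a8, .a9, .a11]⟩,
  ⟨256, [.a8], [.a8]⟩]
def B831 : List Gv := [⟨[.a2, .a9, .a11], [.a2, .a6, .a8, .a9, .a11]⟩, ⟨[.a4], [.a4, .a5]⟩, ⟨[.a7, .a9, .a11], [.a7, .a8, .a9, .a11]⟩]
def D831 : List Dv := [⟨[.a6, .a8], [0, 0], []⟩,
  ⟨[.a8], [2, 1], [1, 2]⟩,
  ⟨[.a5], [3, 3], []⟩,
  ⟨[.a6], [2], [1]⟩]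
def C831 : List Ch := [⟨P225, 0, [.a10], [.a10, .a11]⟩,
  ⟨P271, 1, [.a0, .a1], [.a0, .a1, .a2]⟩,
  ⟨P337, 0, [.a1, .a10], [.a1, .a2, .a4, .a5, .a7, .a9, .a10, .a11]⟩,
  ⟨P353, 2, [.a1], [.a1, .a2]⟩,
  ⟨P342, 0, [.a0], [.a0]⟩,
  ⟨P373, 1, [.a0, .a10], [.a0, .a1, .a2, .a3, .a4, .a6, .a8, .a9, .a10, .a11]⟩,
  ⟨P318, 0, [.a0, .a10], [.a0, .a1, .a2, .a3, .a4, .a6, .a8, .a9, .a10, .a11]⟩]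
def N831 : List Ent := [⟨4, [.a2, .a9, .a11], [.a2, .a6, .a8, .a9, .a11]⟩,
  ⟨8, [.a3], [.a3]⟩,
  ⟨16, [.a4], [.a4, .a5]⟩,
  ⟨32, [.a5], [.a5]⟩,
  ⟨64, [.a6], [.a6]⟩,
  ⟨128, [.a7, .a9, .a11], [.a7, .a8, .a9, .a11]⟩,
  ⟨256, [.a8], [.a8]⟩,
  ⟨512, [.a9], [.a9]⟩,
  ⟨2048, [.a11], [.a11]⟩]
theorem bad831 (c : CtxF Goal γ) : Bad Goal γ [] P831 :=
  c.toCtx.bnd (B := B831) (D := D831) (I := [4, 5, 1, 0, 6, 2]) (r := 3) (C := C831) (N := N831) (by decide +kernel) (by decide +kernel) (by decide +kernel) (by decide +kernel)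
    (allB_cons (bad225 c) (allB_cons (bad271 c) (allB_cons (bad337 c) (allB_cons (bad353 c) (allB_cons (bad342 c) (allB_cons (bad373 c) (allB_cons (bad318 c) (allB_nil))))))))

def P832 : List Ent := [⟨4, [.a2, .a9], [.a2, .a5, .a9]⟩,
  ⟨16, [.a4, .a11], [.a4, .a5, .a11]⟩,
  ⟨32, [.a5], [.a5]⟩,
  ⟨64, [.a6], [.a6]⟩,
  ⟨128, [.a7, .a9, .a11], [.a7, .a8, .a9, .a11]⟩,
  ⟨256, [.a8], [.a8]⟩]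
def B832 : List Gv := [⟨[.a2, .a9], [.a2, .a5, .a9]⟩, ⟨[.a4, .a11], [.a4, .a5, .a11]⟩, ⟨[.a7, .a9, .a11], [.a7, .a8, .a9, .a11]⟩]
def D832 : List Dv := [⟨[.a5], [0, 0], []⟩,
  ⟨[.a6], [0, 2, 1], [1, 2]⟩,
  ⟨[.a8], [0, 4, 2], [2, 4]⟩]
def C832 : List Ch := [⟨P226, 0, [.a10], [.a10, .a11]⟩,
  ⟨P308, 1, [.a1], [.a1, .a2]⟩,
  ⟨P337, 0, [.a1, .a10], [.a1, .a2, .a4, .a5, .a7, .a9, .a10, .a11]⟩,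
  ⟨P316, 2, [.a0, .a10], [.a0, .a1, .a2, .a3, .a4, .a6, .a8, .a9, .a10, .a11]⟩,
  ⟨P345, 0, [.a0, .a1, .a3, .a5, .a6, .a7, .a8, .a9, .a10], [.a0, .a10, .a11]⟩,
  ⟨P370, 1, [.a0, .a10], [.a0, .a1, .a2, .a3, .a4, .a6, .a8, .a9, .a10, .a11]⟩,
  ⟨P379, 0, [], []⟩]
def N832 : List Ent := [⟨4, [.a2, .a9], [.a2, .a5, .a9]⟩,
  ⟨8, [.a3], [.a3]⟩,
  ⟨16, [.a4, .a11], [.a4, .a5, .a11]⟩,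
  ⟨32, [.a5], [.a5]⟩,
  ⟨64, [.a6], [.a6]⟩,
  ⟨128, [.a7, .a9, .a11], [.a7, .a8, .a9, .a11]⟩,
  ⟨256, [.a8], [.a8]⟩,
  ⟨512, [.a9], [.a9]⟩,
  ⟨2048, [.a11], [.a11]⟩]
theorem bad832 (c : CtxF Goal γ) : Bad Goal γ [] P832 :=
  c.toCtx.bnd (B := B832) (D := D832) (I := [3, 4, 2, 1, 5, 0]) (r := 3) (C := C832) (N := N832) (by decide +kernel) (by decide +kernel) (by decide +kernel) (by decide +kernel)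
    (allB_cons (bad226 c) (allB_cons (bad308 c) (allB_cons (bad337 c) (allB_cons (bad316 c) (allB_cons (bad345 c) (allB_cons (bad370 c) (allB_cons (bad379 c) (allB_nil))))))))

def P833 : List Ent := [⟨4, [.a2], [.a2]⟩,
  ⟨16, [.a4, .a9], [.a4, .a5, .a8, .a9]⟩,
  ⟨32, [.a5], [.a5]⟩,
  ⟨64, [.a6], [.a6]⟩,
  ⟨128, [.a7, .a9], [.a7, .a8, .a9]⟩,
  ⟨256, [.a8], [.a8]⟩]
def B833 : List Gv := [⟨[.a2], [.a2]⟩, ⟨[.a4, .a9], [.a4, .a5, .a8, .a9]⟩, ⟨[.a7, .a9], [.a7, .a8, .a9]⟩]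
def D833 : List Dv := [⟨[.a5], [1, 0], [0, 1]⟩,
  ⟨[.a8], [0, 2, 2], []⟩,
  ⟨[.a6, .a8], [4, 3], [3, 4]⟩,
  ⟨[.a6], [0], [1]⟩]
def C833 : List Ch := [⟨P227, 0, [.a10], [.a10, .a11]⟩,
  ⟨P310, 1, [], []⟩,
  ⟨P339, 0, [], []⟩,
  ⟨P358, 2, [], []⟩,
  ⟨P339, 0, [.a0, .a1], [.a0, .a1, .a2]⟩,
  ⟨P368, 1, [], []⟩,
  ⟨P227, 0, [.a0, .a1, .a3, .a5, .a6, .a7, .a8, .a9, .a10], [.a0, .a10, .a11]⟩]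
def N833 : List Ent := [⟨1, [.a0, .a1], [.a0, .a1, .a2]⟩,
  ⟨4, [.a2], [.a2]⟩,
  ⟨8, [.a3], [.a3]⟩,
  ⟨16, [.a4, .a9], [.a4, .a5, .a8, .a9]⟩,
  ⟨32, [.a5], [.a5]⟩,
  ⟨64, [.a6], [.a6]⟩,
  ⟨128, [.a7, .a9], [.a7, .a8, .a9]⟩,
  ⟨256, [.a8], [.a8]⟩,
  ⟨512, [.a9], [.a9]⟩,
  ⟨2048, [.a11], [.a11]⟩]
theorem bad833 (c : CtxF Goal γ) : Bad Goal γ [] P833 :=
  c.toCtx.bnd (B := B833) (D := D833) (I := [4, 5, 3, 0, 6, 2]) (r := 3) (C := C833) (N := N833) (by decide +kernel) (by decide +kernel) (by decide +kernel) (by decide +kernel)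
    (allB_cons (bad227 c) (allB_cons (bad310 c) (allB_cons (bad339 c) (allB_cons (bad358 c) (allB_cons (bad339 c) (allB_cons (bad368 c) (allB_cons (bad227 c) (allB_nil))))))))

def P834 : List Ent := [⟨4, [.a2, .a11], [.a2, .a5, .a6, .a8, .a11]⟩,
  ⟨16, [.a4, .a9, .a11], [.a4, .a5, .a8, .a9, .a11]⟩,
  ⟨32, [.a5], [.a5]⟩,
  ⟨64, [.a6], [.a6]⟩,
  ⟨128, [.a7, .a9], [.a7, .a8, .a9]⟩,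
  ⟨256, [.a8], [.a8]⟩]
def B834 : List Gv := [⟨[.a2, .a11], [.a2, .a5, .a6, .a8, .a11]⟩, ⟨[.a4, .a9, .a11], [.a4, .a5, .a8, .a9, .a11]⟩, ⟨[.a7, .a9], [.a7, .a8, .a9]⟩]
def D834 : List Dv := [⟨[.a5, .a6, .a8], [0, 0], []⟩,
  ⟨[.a6, .a8], [2, 1], [1, 2]⟩,
  ⟨[.a8], [0, 1, 3, 3], []⟩,
  ⟨[.a6], [1], [0]⟩,
  ⟨[.a5], [3], [0, 1]⟩]
def C834 : List Ch := [⟨P228, 0, [.a10], [.a10, .a11]⟩,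
  ⟨P312, 1, [], []⟩,
  ⟨P339, 0, [], []⟩,
  ⟨P229, 2, [.a0, .a1, .a3, .a5, .a6, .a7, .a8, .a9, .a10], [.a0, .a10, .a11]⟩,
  ⟨P337, 0, [.a0, .a10], [.a0, .a1, .a2, .a3, .a4, .a6, .a8, .a9, .a10, .a11]⟩,
  ⟨P369, 1, [], []⟩,
  ⟨P359, 0, [.a0, .a1], [.a0, .a1, .a2]⟩]
def N834 : List Ent := [⟨4, [.a2, .a11], [.a2, .a5, .a6, .a8, .a11]⟩,
  ⟨8, [.a3], [.a3]⟩,
  ⟨16, [.a4, .a9, .a11], [.a4, .a5, .a8, .a9, .a11]⟩,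
  ⟨32, [.a5], [.a5]⟩,
  ⟨64, [.a6], [.a6]⟩,
  ⟨128, [.a7, .a9], [.a7, .a8, .a9]⟩,
  ⟨256, [.a8], [.a8]⟩,
  ⟨512, [.a9], [.a9]⟩,
  ⟨2048, [.a11], [.a11]⟩]
theorem bad834 (c : CtxF Goal γ) : Bad Goal γ [] P834 :=
  c.toCtx.bnd (B := B834) (D := D834) (I := [5, 6, 0, 1, 7, 2]) (r := 3) (C := C834) (N := N834) (by decide +kernel) (by decide +kernel) (by decide +kernel) (by decide +kernel)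
    (allB_cons (bad228 c) (allB_cons (bad312 c) (allB_cons (bad339 c) (allB_cons (bad229 c) (allB_cons (bad337 c) (allB_cons (bad369 c) (allB_cons (bad359 c) (allB_nil))))))))

def P835 : List Ent := [⟨4, [.a2], [.a2]⟩,
  ⟨16, [.a4, .a9, .a11], [.a4, .a5, .a8, .a9, .a11]⟩,
  ⟨32, [.a5], [.a5]⟩,
  ⟨64, [.a6], [.a6]⟩,
  ⟨128, [.a7, .a9, .a11], [.a7, .a8, .a9, .a11]⟩,
  ⟨256, [.a8], [.a8]⟩]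
def B835 : List Gv := [⟨[.a2], [.a2]⟩, ⟨[.a4, .a9, .a11], [.a4, .a5, .a8, .a9, .a11]⟩, ⟨[.a7, .a9, .a11], [.a7, .a8, .a9, .a11]⟩]
def D835 : List Dv := [⟨[.a6, .a8], [1, 0], [0, 1]⟩,
  ⟨[.a5, .a8], [2, 2], []⟩,
  ⟨[.a8], [4, 4], []⟩,
  ⟨[.a6], [2], [0]⟩,
  ⟨[.a5], [2], [1]⟩]
def C835 : List Ch := [⟨P230, 0, [.a10], [.a10, .a11]⟩,
  ⟨P306, 1, [.a1], [.a1, .a2]⟩,
  ⟨P337, 0, [.a1, .a10], [.a1, .a2, .a4, .a5, .a7, .a9, .a10, .a11]⟩,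
  ⟨P306, 2, [.a0], [.a0]⟩,
  ⟨P337, 0, [.a0, .a10], [.a0, .a1, .a2, .a3, .a4, .a6, .a8, .a9, .a10, .a11]⟩,
  ⟨P368, 1, [], []⟩,
  ⟨P377, 0, [], []⟩]
def N835 : List Ent := [⟨1, [.a0, .a1], [.a0, .a1, .a2]⟩,
  ⟨4, [.a2], [.a2]⟩,
  ⟨8, [.a3], [.a3]⟩,
  ⟨16, [.a4, .a9, .a11], [.a4, .a5, .a8, .a9, .a11]⟩,
  ⟨32, [.a5], [.a5]⟩,
  ⟨64, [.a6], [.a6]⟩,
  ⟨128, [.a7, .a9, .a11], [.a7, .a8, .a9, .a11]⟩,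
  ⟨256, [.a8], [.a8]⟩,
  ⟨512, [.a9], [.a9]⟩,
  ⟨2048, [.a11], [.a11]⟩]
theorem bad835 (c : CtxF Goal γ) : Bad Goal γ [] P835 :=
  c.toCtx.bnd (B := B835) (D := D835) (I := [5, 6, 0, 1, 7, 2]) (r := 3) (C := C835) (N := N835) (by decide +kernel) (by decide +kernel) (by decide +kernel) (by decide +kernel)
    (allB_cons (bad230 c) (allB_cons (bad306 c) (allB_cons (bad337 c) (allB_cons (bad306 c) (allB_cons (bad337 c) (allB_cons (bad368 c) (allB_cons (bad377 c) (allB_nil))))))))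

def P836 : List Ent := [⟨4, [.a2, .a9], [.a2, .a5, .a9]⟩,
  ⟨16, [.a4, .a9], [.a4, .a5, .a8, .a9]⟩,
  ⟨32, [.a5], [.a5]⟩,
  ⟨64, [.a6], [.a6]⟩,
  ⟨128, [.a7, .a9], [.a7, .a8, .a9]⟩,
  ⟨256, [.a8], [.a8]⟩]
def B836 : List Gv := [⟨[.a2, .a9], [.a2, .a5, .a9]⟩, ⟨[.a4, .a9], [.a4, .a5, .a8, .a9]⟩, ⟨[.a7, .a9], [.a7, .a8, .a9]⟩]
def D836 : List Dv := [⟨[.a5], [0, 0], []⟩,
  ⟨[.a8], [0, 2, 1], [1, 2]⟩,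
  ⟨[.a6, .a8], [4, 3], [3, 4]⟩,
  ⟨[.a6], [0], [1]⟩]
def C836 : List Ch := [⟨P227, 0, [.a10], [.a10, .a11]⟩,
  ⟨P311, 1, [], []⟩,
  ⟨P336, 0, [], []⟩,
  ⟨P356, 2, [.a0, .a10], [.a0, .a1, .a2, .a3, .a4, .a6, .a8, .a9, .a10, .a11]⟩,
  ⟨P344, 0, [.a0, .a1], [.a0, .a1, .a2]⟩,
  ⟨P370, 1, [], []⟩,
  ⟨P265, 0, [.a0], [.a0]⟩]
def N836 : List Ent := [⟨4, [.a2, .a9], [.a2, .a5, .a9]⟩,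
  ⟨8, [.a3], [.a3]⟩,
  ⟨16, [.a4, .a9], [.a4, .a5, .a8, .a9]⟩,
  ⟨32, [.a5], [.a5]⟩,
  ⟨64, [.a6], [.a6]⟩,
  ⟨128, [.a7, .a9], [.a7, .a8, .a9]⟩,
  ⟨256, [.a8], [.a8]⟩,
  ⟨512, [.a9], [.a9]⟩,
  ⟨2048, [.a11], [.a11]⟩]
theorem bad836 (c : CtxF Goal γ) : Bad Goal γ [] P836 :=
  c.toCtx.bnd (B := B836) (D := D836) (I := [4, 5, 3, 0, 6, 2]) (r := 3) (C := C836) (N := N836) (by decide +kernel) (by decide +kernel) (by decide +kernel) (by decide +kernel)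
    (allB_cons (bad227 c) (allB_cons (bad311 c) (allB_cons (bad336 c) (allB_cons (bad356 c) (allB_cons (bad344 c) (allB_cons (bad370 c) (allB_cons (bad265 c) (allB_nil))))))))

def P837 : List Ent := [⟨4, [.a2, .a9, .a11], [.a2, .a6, .a8, .a9, .a11]⟩,
  ⟨16, [.a4, .a9], [.a4, .a5, .a8, .a9]⟩,
  ⟨32, [.a5], [.a5]⟩,
  ⟨64, [.a6], [.a6]⟩,
  ⟨128, [.a7, .a9, .a11], [.a7, .a8, .a9, .a11]⟩,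
  ⟨256, [.a8], [.a8]⟩]
def B837 : List Gv := [⟨[.a2, .a9, .a11], [.a2, .a6, .a8, .a9, .a11]⟩, ⟨[.a4, .a9], [.a4, .a5, .a8, .a9]⟩, ⟨[.a7, .a9, .a11], [.a7, .a8, .a9, .a11]⟩]
def D837 : List Dv := [⟨[.a6, .a8], [0, 0], []⟩,
  ⟨[.a5, .a8], [2, 1], [1, 2]⟩,
  ⟨[.a8], [4, 4], []⟩,
  ⟨[.a6], [2], [0]⟩,
  ⟨[.a5], [2], [1]⟩]
def C837 : List Ch := [⟨P229, 0, [.a10], [.a10, .a11]⟩,
  ⟨P271, 1, [.a0, .a1], [.a0, .a1, .a2]⟩,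
  ⟨P337, 0, [], []⟩,
  ⟨P360, 2, [.a1], [.a1, .a2]⟩,
  ⟨P344, 0, [.a0, .a1], [.a0, .a1, .a2]⟩,
  ⟨P371, 1, [], []⟩,
  ⟨P313, 0, [.a0, .a1], [.a0, .a1, .a2]⟩]
def N837 : List Ent := [⟨4, [.a2, .a9, .a11], [.a2, .a6, .a8, .a9, .a11]⟩,
  ⟨8, [.a3], [.a3]⟩,
  ⟨16, [.a4, .a9], [.a4, .a5, .a8, .a9]⟩,
  ⟨32, [.a5], [.a5]⟩,
  ⟨64, [.a6], [.a6]⟩,
  ⟨128, [.a7, .a9, .a11], [.a7, .a8, .a9, .a11]⟩,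
  ⟨256, [.a8], [.a8]⟩,
  ⟨512, [.a9], [.a9]⟩,
  ⟨2048, [.a11], [.a11]⟩]
theorem bad837 (c : CtxF Goal γ) : Bad Goal γ [] P837 :=
  c.toCtx.bnd (B := B837) (D := D837) (I := [5, 6, 0, 1, 7, 2]) (r := 3) (C := C837) (N := N837) (by decide +kernel) (by decide +kernel) (by decide +kernel) (by decide +kernel)
    (allB_cons (bad229 c) (allB_cons (bad271 c) (allB_cons (bad337 c) (allB_cons (bad360 c) (allB_cons (bad344 c) (allB_cons (bad371 c) (allB_cons (bad313 c) (allB_nil))))))))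

def P838 : List Ent := [⟨4, [.a2, .a11], [.a2, .a5, .a6, .a8, .a11]⟩,
  ⟨8, [.a3, .a7], [.a3, .a5, .a7, .a8]⟩,
  ⟨16, [.a4, .a11], [.a4, .a5, .a11]⟩,
  ⟨32, [.a5], [.a5]⟩,
  ⟨64, [.a6], [.a6]⟩,
  ⟨256, [.a8], [.a8]⟩]
def B838 : List Gv := [⟨[.a2, .a11], [.a2, .a5, .a6, .a8, .a11]⟩, ⟨[.a3, .a7], [.a3, .a5, .a7, .a8]⟩, ⟨[.a4, .a11], [.a4, .a5, .a11]⟩]
def D838 : List Dv := [⟨[.a5, .a6, .a8], [0, 0], []⟩,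
  ⟨[.a8], [2, 1], [1, 2]⟩,
  ⟨[.a6], [1, 3, 3], []⟩,
  ⟨[.a5], [2], [0, 1]⟩]
def C838 : List Ch := [⟨P267, 0, [], []⟩,
  ⟨P266, 1, [.a0, .a10], [.a0, .a1, .a2, .a3, .a4, .a6, .a8, .a9, .a10, .a11]⟩,
  ⟨P343, 0, [.a0, .a1], [.a0, .a1, .a2]⟩,
  ⟨P313, 2, [], []⟩,
  ⟨P342, 0, [], []⟩,
  ⟨P373, 1, [.a0, .a1, .a3, .a5, .a6, .a7, .a8, .a9, .a10], [.a0, .a10, .a11]⟩,
  ⟨P353, 0, [.a0, .a1, .a3, .a5, .a6, .a7, .a8, .a9, .a10], [.a0, .a10, .a11]⟩]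
def N838 : List Ent := [⟨4, [.a2, .a11], [.a2, .a5, .a6, .a8, .a11]⟩,
  ⟨8, [.a3, .a7], [.a3, .a5, .a7, .a8]⟩,
  ⟨16, [.a4, .a11], [.a4, .a5, .a11]⟩,
  ⟨32, [.a5], [.a5]⟩,
  ⟨64, [.a6], [.a6]⟩,
  ⟨128, [.a7], [.a7, .a8]⟩,
  ⟨256, [.a8], [.a8]⟩,
  ⟨512, [.a9], [.a9]⟩,
  ⟨2048, [.a11], [.a11]⟩]
theorem bad838 (c : CtxF Goal γ) : Bad Goal γ [] P838 :=
  c.toCtx.bnd (B := B838) (D := D838) (I := [4, 5, 6, 0, 1, 2]) (r := 3) (C := C838) (N := N838) (by decide +kernel) (by decide +kernel) (by decide +kernel) (by decide +kernel)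
    (allB_cons (bad267 c) (allB_cons (bad266 c) (allB_cons (bad343 c) (allB_cons (bad313 c) (allB_cons (bad342 c) (allB_cons (bad373 c) (allB_cons (bad353 c) (allB_nil))))))))

def P839 : List Ent := [⟨4, [.a2], [.a2]⟩,
  ⟨8, [.a3, .a7, .a11], [.a3, .a5, .a7, .a11]⟩,
  ⟨16, [.a4, .a11], [.a4, .a5, .a11]⟩,
  ⟨32, [.a5], [.a5]⟩,
  ⟨64, [.a6], [.a6]⟩,
  ⟨256, [.a8], [.a8]⟩]
def B839 : List Gv := [⟨[.a2], [.a2]⟩, ⟨[.a3, .a7, .a11], [.a3, .a5, .a7, .a11]⟩, ⟨[.a4, .a11], [.a4, .a5, .a11]⟩, ⟨[.a6], [.a6]⟩]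
def D839 : List Dv := [⟨[.a5, .a6, .a8], [1, 0], [0, 1]⟩,
  ⟨[.a8], [4, 0, 2, 2], []⟩,
  ⟨[.a5], [1], [5, 0]⟩]
def C839 : List Ch := [⟨P268, 0, [], []⟩,
  ⟨P314, 1, [.a0, .a1], [.a0, .a1, .a2]⟩,
  ⟨P343, 0, [.a0, .a1], [.a0, .a1, .a2]⟩,
  ⟨P314, 2, [], []⟩,
  ⟨P343, 0, [], []⟩,
  ⟨P368, 1, [.a0], [.a0]⟩,
  ⟨P379, 0, [.a0, .a10], [.a0, .a1, .a2, .a3, .a4, .a6, .a8, .a9, .a10, .a11]⟩,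
  ⟨P381, 3, [], []⟩,
  ⟨P382, 0, [], []⟩,
  ⟨P381, 1, [.a4], [.a4, .a5]⟩,
  ⟨P382, 0, [.a4], [.a4, .a5]⟩,
  ⟨P381, 2, [.a7], [.a7, .a8]⟩,
  ⟨P382, 0, [.a7], [.a7, .a8]⟩,
  ⟨P381, 1, [.a3], [.a3]⟩,
  ⟨P382, 0, [.a3], [.a3]⟩]
def N839 : List Ent := [⟨1, [.a0, .a1], [.a0, .a1, .a2]⟩,
  ⟨4, [.a2], [.a2]⟩,
  ⟨8, [.a3, .a7, .a11], [.a3, .a5, .a7, .a11]⟩,
  ⟨16, [.a4, .a11], [.a4, .a5, .a11]⟩,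
  ⟨32, [.a5], [.a5]⟩,
  ⟨64, [.a6], [.a6]⟩,
  ⟨128, [.a7], [.a7, .a8]⟩,
  ⟨256, [.a8], [.a8]⟩,
  ⟨512, [.a9], [.a9]⟩,
  ⟨2048, [.a11], [.a11]⟩]
theorem bad839 (c : CtxF Goal γ) : Bad Goal γ [] P839 :=
  c.toCtx.bnd (B := B839) (D := D839) (I := [3, 4, 5, 0, 6, 1]) (r := 4) (C := C839) (N := N839) (by decide +kernel) (by decide +kernel) (by decide +kernel) (by decide +kernel)
    (allB_cons (bad268 c) (allB_cons (bad314 c) (allB_cons (bad343 c) (allB_cons (bad314 c) (allB_cons (bad343 c) (allB_cons (bad368 c) (allB_cons (bad379 c) (allB_cons (bad381 c) (allB_cons (bad382 c) (allB_cons (bad381 c) (allB_cons (bad382 c) (allB_cons (bad381 c) (allB_cons (bad382 c) (allB_cons (bad381 c) (allB_cons (bad382 c) (allB_nil))))))))))))))))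

def P840 : List Ent := [⟨4, [.a2, .a9], [.a2, .a5, .a9]⟩,
  ⟨8, [.a3, .a7], [.a3, .a5, .a7, .a8]⟩,
  ⟨16, [.a4], [.a4, .a5]⟩,
  ⟨32, [.a5], [.a5]⟩,
  ⟨64, [.a6], [.a6]⟩,
  ⟨256, [.a8], [.a8]⟩]
def B840 : List Gv := [⟨[.a2, .a9], [.a2, .a5, .a9]⟩, ⟨[.a3, .a7], [.a3, .a5, .a7, .a8]⟩, ⟨[.a4], [.a4, .a5]⟩]
def D840 : List Dv := [⟨[.a5], [0, 0], []⟩,
  ⟨[.a8], [0, 2, 2], []⟩,
  ⟨[.a6], [4, 3], [3, 4]⟩]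
def C840 : List Ch := [⟨P265, 0, [], []⟩,
  ⟨P356, 1, [], []⟩,
  ⟨P342, 0, [.a0, .a1, .a3, .a5, .a6, .a7, .a8, .a9, .a10], [.a0, .a10, .a11]⟩,
  ⟨P315, 2, [], []⟩,
  ⟨P344, 0, [], []⟩,
  ⟨P370, 1, [.a1], [.a1, .a2]⟩,
  ⟨P269, 0, [.a0, .a1, .a3, .a5, .a6, .a7, .a8, .a9, .a10], [.a0, .a10, .a11]⟩]
def N840 : List Ent := [⟨4, [.a2, .a9], [.a2, .a5, .a9]⟩,
  ⟨8, [.a3, .a7], [.a3, .a5, .a7, .a8]⟩,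
  ⟨16, [.a4], [.a4, .a5]⟩,
  ⟨32, [.a5], [.a5]⟩,
  ⟨64, [.a6], [.a6]⟩,
  ⟨128, [.a7], [.a7, .a8]⟩,
  ⟨256, [.a8], [.a8]⟩,
  ⟨512, [.a9], [.a9]⟩,
  ⟨2048, [.a11], [.a11]⟩]
theorem bad840 (c : CtxF Goal γ) : Bad Goal γ [] P840 :=
  c.toCtx.bnd (B := B840) (D := D840) (I := [3, 4, 5, 2, 0, 1]) (r := 3) (C := C840) (N := N840) (by decide +kernel) (by decide +kernel) (by decide +kernel) (by decide +kernel)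
    (allB_cons (bad265 c) (allB_cons (bad356 c) (allB_cons (bad342 c) (allB_cons (bad315 c) (allB_cons (bad344 c) (allB_cons (bad370 c) (allB_cons (bad269 c) (allB_nil))))))))

def P841 : List Ent := [⟨4, [.a2, .a9, .a11], [.a2, .a6, .a8, .a9, .a11]⟩,
  ⟨8, [.a3, .a7], [.a3, .a5, .a7, .a8]⟩,
  ⟨16, [.a4, .a11], [.a4, .a5, .a11]⟩,
  ⟨32, [.a5], [.a5]⟩,
  ⟨64, [.a6], [.a6]⟩,
  ⟨256, [.a8], [.a8]⟩]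
def B841 : List Gv := [⟨[.a2, .a9, .a11], [.a2, .a6, .a8, .a9, .a11]⟩, ⟨[.a3, .a7], [.a3, .a5, .a7, .a8]⟩, ⟨[.a4, .a11], [.a4, .a5, .a11]⟩]
def D841 : List Dv := [⟨[.a6, .a8], [0, 0], []⟩,
  ⟨[.a8], [2, 1], [1, 2]⟩,
  ⟨[.a5, .a8], [3, 3], []⟩,
  ⟨[.a6], [2], [1]⟩,
  ⟨[.a5], [1], [2]⟩]
def C841 : List Ch := [⟨P267, 0, [], []⟩,
  ⟨P270, 1, [.a0, .a1], [.a0, .a1, .a2]⟩,
  ⟨P345, 0, [.a0], [.a0]⟩,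
  ⟨P313, 2, [.a1], [.a1, .a2]⟩,
  ⟨P344, 0, [], []⟩,
  ⟨P373, 1, [.a1], [.a1, .a2]⟩,
  ⟨P359, 0, [.a0, .a1, .a3, .a5, .a6, .a7, .a8, .a9, .a10], [.a0, .a10, .a11]⟩]
def N841 : List Ent := [⟨4, [.a2, .a9, .a11], [.a2, .a6, .a8, .a9, .a11]⟩,
  ⟨8, [.a3, .a7], [.a3, .a5, .a7, .a8]⟩,
  ⟨16, [.a4, .a11], [.a4, .a5, .a11]⟩,
  ⟨32, [.a5], [.a5]⟩,
  ⟨64, [.a6], [.a6]⟩,
  ⟨128, [.a7], [.a7, .a8]⟩,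
  ⟨256, [.a8], [.a8]⟩,
  ⟨512, [.a9], [.a9]⟩,
  ⟨2048, [.a11], [.a11]⟩]
theorem bad841 (c : CtxF Goal γ) : Bad Goal γ [] P841 :=
  c.toCtx.bnd (B := B841) (D := D841) (I := [5, 6, 7, 0, 1, 3]) (r := 3) (C := C841) (N := N841) (by decide +kernel) (by decide +kernel) (by decide +kernel) (by decide +kernel)
    (allB_cons (bad267 c) (allB_cons (bad270 c) (allB_cons (bad345 c) (allB_cons (bad313 c) (allB_cons (bad344 c) (allB_cons (bad373 c) (allB_cons (bad359 c) (allB_nil))))))))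

def P842 : List Ent := [⟨4, [.a2, .a9], [.a2, .a5, .a9]⟩,
  ⟨8, [.a3, .a7, .a11], [.a3, .a5, .a7, .a11]⟩,
  ⟨16, [.a4, .a11], [.a4, .a5, .a11]⟩,
  ⟨32, [.a5], [.a5]⟩,
  ⟨64, [.a6], [.a6]⟩,
  ⟨256, [.a8], [.a8]⟩]
def B842 : List Gv := [⟨[.a2, .a9], [.a2, .a5, .a9]⟩, ⟨[.a3, .a7, .a11], [.a3, .a5, .a7, .a11]⟩, ⟨[.a4, .a11], [.a4, .a5, .a11]⟩]
def D842 : List Dv := [⟨[.a5], [0, 0], []⟩,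
  ⟨[.a6, .a8], [0, 2, 1], [1, 2]⟩,
  ⟨[.a8], [0, 1, 4, 2], [2, 4]⟩,
  ⟨[.a6], [1], [0]⟩]
def C842 : List Ch := [⟨P268, 0, [], []⟩,
  ⟨P316, 1, [.a0, .a10], [.a0, .a1, .a2, .a3, .a4, .a6, .a8, .a9, .a10, .a11]⟩,
  ⟨P345, 0, [.a0], [.a0]⟩,
  ⟨P316, 2, [], []⟩,
  ⟨P343, 0, [.a1, .a10], [.a1, .a2, .a4, .a5, .a7, .a9, .a10, .a11]⟩,
  ⟨P370, 1, [.a1], [.a1, .a2]⟩,
  ⟨P376, 0, [.a0], [.a0]⟩]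
def N842 : List Ent := [⟨4, [.a2, .a9], [.a2, .a5, .a9]⟩,
  ⟨8, [.a3, .a7, .a11], [.a3, .a5, .a7, .a11]⟩,
  ⟨16, [.a4, .a11], [.a4, .a5, .a11]⟩,
  ⟨32, [.a5], [.a5]⟩,
  ⟨64, [.a6], [.a6]⟩,
  ⟨128, [.a7], [.a7, .a8]⟩,
  ⟨256, [.a8], [.a8]⟩,
  ⟨512, [.a9], [.a9]⟩,
  ⟨2048, [.a11], [.a11]⟩]
theorem bad842 (c : CtxF Goal γ) : Bad Goal γ [] P842 :=
  c.toCtx.bnd (B := B842) (D := D842) (I := [4, 5, 6, 3, 0, 1]) (r := 3) (C := C842) (N := N842) (by decide +kernel) (by decide +kernel) (by decide +kernel) (by decide +kernel)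
    (allB_cons (bad268 c) (allB_cons (bad316 c) (allB_cons (bad345 c) (allB_cons (bad316 c) (allB_cons (bad343 c) (allB_cons (bad370 c) (allB_cons (bad376 c) (allB_nil))))))))

def P843 : List Ent := [⟨4, [.a2], [.a2]⟩,
  ⟨8, [.a3, .a7, .a9], [.a3, .a5, .a7, .a8, .a9]⟩,
  ⟨16, [.a4], [.a4, .a5]⟩,
  ⟨32, [.a5], [.a5]⟩,
  ⟨64, [.a6], [.a6]⟩,
  ⟨256, [.a8], [.a8]⟩]
def B843 : List Gv := [⟨[.a2], [.a2]⟩, ⟨[.a3, .a7, .a9], [.a3, .a5, .a7, .a8, .a9]⟩, ⟨[.a4], [.a4, .a5]⟩]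
def D843 : List Dv := [⟨[.a5], [1, 0], [0, 1]⟩,
  ⟨[.a8], [0, 2, 2], []⟩,
  ⟨[.a6, .a8], [4, 3], [3, 4]⟩,
  ⟨[.a6], [0], [1]⟩]
theorem bad843 (c : CtxF Goal γ) : Bad Goal γ [] P843 :=
  c.toCtx.cent (B := B843) (D := D843) (I := [4, 5, 6, 3, 0, 2]) (z := [.a2, .a3]) (by decide +kernel) (by decide +kernel)

def P844 : List Ent := [⟨4, [.a2, .a11], [.a2, .a5, .a6, .a8, .a11]⟩,
  ⟨8, [.a3, .a7, .a9, .a11], [.a3, .a5, .a7, .a9, .a11]⟩,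
  ⟨16, [.a4], [.a4, .a5]⟩,
  ⟨32, [.a5], [.a5]⟩,
  ⟨64, [.a6], [.a6]⟩,
  ⟨256, [.a8], [.a8]⟩]
def B844 : List Gv := [⟨[.a2, .a11], [.a2, .a5, .a6, .a8, .a11]⟩, ⟨[.a3, .a7, .a9, .a11], [.a3, .a5, .a7, .a9, .a11]⟩, ⟨[.a4], [.a4, .a5]⟩]
def D844 : List Dv := [⟨[.a5, .a6, .a8], [0, 0], []⟩,
  ⟨[.a6], [2, 1], [1, 2]⟩,
  ⟨[.a8], [0, 1, 3, 3], []⟩,
  ⟨[.a5], [2], [1, 0]⟩]
def C844 : List Ch := [⟨P266, 0, [.a10], [.a10, .a11]⟩,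
  ⟨P349, 1, [], []⟩,
  ⟨P342, 0, [.a0, .a1, .a3, .a5, .a6, .a7, .a8, .a9, .a10], [.a0, .a10, .a11]⟩,
  ⟨P267, 2, [.a0, .a10], [.a0, .a1, .a2, .a3, .a4, .a6, .a8, .a9, .a10, .a11]⟩,
  ⟨P345, 0, [], []⟩,
  ⟨P371, 1, [.a1], [.a1, .a2]⟩,
  ⟨P318, 0, [.a0], [.a0]⟩]
def N844 : List Ent := [⟨4, [.a2, .a11], [.a2, .a5, .a6, .a8, .a11]⟩,
  ⟨8, [.a3, .a7, .a9, .a11], [.a3, .a5, .a7, .a9, .a11]⟩,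
  ⟨16, [.a4], [.a4, .a5]⟩,
  ⟨32, [.a5], [.a5]⟩,
  ⟨64, [.a6], [.a6]⟩,
  ⟨128, [.a7], [.a7, .a8]⟩,
  ⟨256, [.a8], [.a8]⟩,
  ⟨512, [.a9], [.a9]⟩,
  ⟨2048, [.a11], [.a11]⟩]
theorem bad844 (c : CtxF Goal γ) : Bad Goal γ [] P844 :=
  c.toCtx.bnd (B := B844) (D := D844) (I := [4, 5, 6, 0, 2, 1]) (r := 3) (C := C844) (N := N844) (by decide +kernel) (by decide +kernel) (by decide +kernel) (by decide +kernel)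
    (allB_cons (bad266 c) (allB_cons (bad349 c) (allB_cons (bad342 c) (allB_cons (bad267 c) (allB_cons (bad345 c) (allB_cons (bad371 c) (allB_cons (bad318 c) (allB_nil))))))))

def P845 : List Ent := [⟨4, [.a2], [.a2]⟩,
  ⟨8, [.a3, .a7, .a9, .a11], [.a3, .a5, .a7, .a9, .a11]⟩,
  ⟨16, [.a4, .a11], [.a4, .a5, .a11]⟩,
  ⟨32, [.a5], [.a5]⟩,
  ⟨64, [.a6], [.a6]⟩,
  ⟨256, [.a8], [.a8]⟩]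
def B845 : List Gv := [⟨[.a2], [.a2]⟩, ⟨[.a3, .a7, .a9, .a11], [.a3, .a5, .a7, .a9, .a11]⟩, ⟨[.a4, .a11], [.a4, .a5, .a11]⟩]
def D845 : List Dv := [⟨[.a6, .a8], [1, 0], [0, 1]⟩,
  ⟨[.a5], [2, 2], []⟩,
  ⟨[.a8], [1, 4, 3], [3, 4]⟩,
  ⟨[.a6], [2], [0]⟩]
def C845 : List Ch := [⟨P268, 0, [.a10], [.a10, .a11]⟩,
  ⟨P314, 1, [.a0, .a1], [.a0, .a1, .a2]⟩,
  ⟨P345, 0, [.a0], [.a0]⟩,
  ⟨P314, 2, [.a1], [.a1, .a2]⟩,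
  ⟨P345, 0, [], []⟩,
  ⟨P372, 1, [.a1], [.a1, .a2]⟩,
  ⟨P377, 0, [.a0, .a1, .a3, .a5, .a6, .a7, .a8, .a9, .a10], [.a0, .a10, .a11]⟩]
def N845 : List Ent := [⟨1, [.a0], [.a0]⟩,
  ⟨4, [.a2], [.a2]⟩,
  ⟨8, [.a3, .a7, .a9, .a11], [.a3, .a5, .a7, .a9, .a11]⟩,
  ⟨16, [.a4, .a11], [.a4, .a5, .a11]⟩,
  ⟨32, [.a5], [.a5]⟩,
  ⟨64, [.a6], [.a6]⟩,
  ⟨128, [.a7], [.a7, .a8]⟩,
  ⟨256, [.a8], [.a8]⟩,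
  ⟨512, [.a9], [.a9]⟩,
  ⟨2048, [.a11], [.a11]⟩]
theorem bad845 (c : CtxF Goal γ) : Bad Goal γ [] P845 :=
  c.toCtx.bnd (B := B845) (D := D845) (I := [4, 5, 6, 2, 0, 1]) (r := 3) (C := C845) (N := N845) (by decide +kernel) (by decide +kernel) (by decide +kernel) (by decide +kernel)
    (allB_cons (bad268 c) (allB_cons (bad314 c) (allB_cons (bad345 c) (allB_cons (bad314 c) (allB_cons (bad345 c) (allB_cons (bad372 c) (allB_cons (bad377 c) (allB_nil))))))))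

def P846 : List Ent := [⟨4, [.a2, .a9, .a11], [.a2, .a6, .a8, .a9, .a11]⟩,
  ⟨8, [.a3, .a7, .a9], [.a3, .a5, .a7, .a8, .a9]⟩,
  ⟨16, [.a4, .a11], [.a4, .a5, .a11]⟩,
  ⟨32, [.a5], [.a5]⟩,
  ⟨64, [.a6], [.a6]⟩,
  ⟨256, [.a8], [.a8]⟩]
def B846 : List Gv := [⟨[.a2, .a9, .a11], [.a2, .a6, .a8, .a9, .a11]⟩, ⟨[.a3, .a7, .a9], [.a3, .a5, .a7, .a8, .a9]⟩, ⟨[.a4, .a11], [.a4, .a5, .a11]⟩]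
def D846 : List Dv := [⟨[.a6, .a8], [0, 0], []⟩,
  ⟨[.a5, .a8], [2, 1], [1, 2]⟩,
  ⟨[.a8], [1, 4, 3], [3, 4]⟩,
  ⟨[.a6], [2], [0]⟩,
  ⟨[.a5], [2], [1]⟩]
def C846 : List Ch := [⟨P267, 0, [.a10], [.a10, .a11]⟩,
  ⟨P270, 1, [.a0, .a1], [.a0, .a1, .a2]⟩,
  ⟨P343, 0, [.a0, .a1], [.a0, .a1, .a2]⟩,
  ⟨P318, 2, [.a1], [.a1, .a2]⟩,
  ⟨P344, 0, [.a1, .a10], [.a1, .a2, .a4, .a5, .a7, .a9, .a10, .a11]⟩,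
  ⟨P369, 1, [.a0], [.a0]⟩,
  ⟨P360, 0, [.a0], [.a0]⟩]
def N846 : List Ent := [⟨4, [.a2, .a9, .a11], [.a2, .a6, .a8, .a9, .a11]⟩,
  ⟨8, [.a3, .a7, .a9], [.a3, .a5, .a7, .a8, .a9]⟩,
  ⟨16, [.a4, .a11], [.a4, .a5, .a11]⟩,
  ⟨32, [.a5], [.a5]⟩,
  ⟨64, [.a6], [.a6]⟩,
  ⟨128, [.a7], [.a7, .a8]⟩,
  ⟨256, [.a8], [.a8]⟩,
  ⟨512, [.a9], [.a9]⟩,
  ⟨2048, [.a11], [.a11]⟩]
theorem bad846 (c : CtxF Goal γ) : Bad Goal γ [] P846 :=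
  c.toCtx.bnd (B := B846) (D := D846) (I := [5, 6, 7, 0, 1, 2]) (r := 3) (C := C846) (N := N846) (by decide +kernel) (by decide +kernel) (by decide +kernel) (by decide +kernel)
    (allB_cons (bad267 c) (allB_cons (bad270 c) (allB_cons (bad343 c) (allB_cons (bad318 c) (allB_cons (bad344 c) (allB_cons (bad369 c) (allB_cons (bad360 c) (allB_nil))))))))

def P847 : List Ent := [⟨4, [.a2], [.a2]⟩,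
  ⟨8, [.a3, .a7, .a9], [.a3, .a5, .a7, .a8, .a9]⟩,
  ⟨16, [.a4, .a9], [.a4, .a5, .a8, .a9]⟩,
  ⟨32, [.a5], [.a5]⟩,
  ⟨64, [.a6], [.a6]⟩,
  ⟨256, [.a8], [.a8]⟩]
def B847 : List Gv := [⟨[.a2], [.a2]⟩, ⟨[.a3, .a7, .a9], [.a3, .a5, .a7, .a8, .a9]⟩, ⟨[.a4, .a9], [.a4, .a5, .a8, .a9]⟩]
def D847 : List Dv := [⟨[.a5], [1, 0], [0, 1]⟩,
  ⟨[.a8], [0, 2, 2], []⟩,
  ⟨[.a6, .a8], [4, 3], [3, 4]⟩,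
  ⟨[.a6], [0], [1]⟩]
def C847 : List Ch := [⟨P269, 0, [.a10], [.a10, .a11]⟩,
  ⟨P358, 1, [], []⟩,
  ⟨P344, 0, [.a0, .a10], [.a0, .a1, .a2, .a3, .a4, .a6, .a8, .a9, .a10, .a11]⟩,
  ⟨P317, 2, [], []⟩,
  ⟨P344, 0, [.a1, .a10], [.a1, .a2, .a4, .a5, .a7, .a9, .a10, .a11]⟩,
  ⟨P368, 1, [.a0], [.a0]⟩,
  ⟨P269, 0, [.a0, .a1, .a3, .a5, .a6, .a7, .a8, .a9, .a10], [.a0, .a10, .a11]⟩]
def N847 : List Ent := [⟨1, [.a0, .a1], [.a0, .a1, .a2]⟩,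
  ⟨4, [.a2], [.a2]⟩,
  ⟨8, [.a3, .a7, .a9], [.a3, .a5, .a7, .a8, .a9]⟩,
  ⟨16, [.a4, .a9], [.a4, .a5, .a8, .a9]⟩,
  ⟨32, [.a5], [.a5]⟩,
  ⟨64, [.a6], [.a6]⟩,
  ⟨128, [.a7], [.a7, .a8]⟩,
  ⟨256, [.a8], [.a8]⟩,
  ⟨512, [.a9], [.a9]⟩,
  ⟨2048, [.a11], [.a11]⟩]
theorem bad847 (c : CtxF Goal γ) : Bad Goal γ [] P847 :=
  c.toCtx.bnd (B := B847) (D := D847) (I := [4, 5, 6, 3, 0, 2]) (r := 3) (C := C847) (N := N847) (by decide +kernel) (by decide +kernel) (by decide +kernel) (by decide +kernel)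
    (allB_cons (bad269 c) (allB_cons (bad358 c) (allB_cons (bad344 c) (allB_cons (bad317 c) (allB_cons (bad344 c) (allB_cons (bad368 c) (allB_cons (bad269 c) (allB_nil))))))))

def P848 : List Ent := [⟨2, [.a1], [.a1, .a2]⟩,
  ⟨4, [.a2], [.a2]⟩,
  ⟨32, [.a5], [.a5]⟩,
  ⟨64, [.a6], [.a6]⟩,
  ⟨256, [.a8], [.a8]⟩,
  ⟨512, [.a9], [.a9]⟩]
def B848 : List Gv := [⟨[.a1], [.a1, .a2]⟩, ⟨[.a6], [.a6]⟩, ⟨[.a9], [.a9]⟩]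
def D848 : List Dv := [⟨[.a2], [0, 0], []⟩,
  ⟨[.a5], [2, 1], [1, 2]⟩,
  ⟨[.a8], [3, 4, 2], [2, 4]⟩]
theorem bad848 (c : CtxF Goal γ) : Bad Goal γ [] P848 :=
  c.toCtx.cent (B := B848) (D := D848) (I := [3, 2, 1, 4, 0, 5]) (z := [.a3]) (by decide +kernel) (by decide +kernel)

def P849 : List Ent := [⟨2, [.a1], [.a1, .a2]⟩,
  ⟨4, [.a2], [.a2]⟩,
  ⟨8, [.a3], [.a3]⟩,
  ⟨32, [.a5], [.a5]⟩,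
  ⟨64, [.a6, .a8], [.a6, .a8]⟩,
  ⟨512, [.a9], [.a9]⟩]
def B849 : List Gv := [⟨[.a1], [.a1, .a2]⟩, ⟨[.a3], [.a3]⟩, ⟨[.a9], [.a9]⟩]
def D849 : List Dv := [⟨[.a2], [0, 0], []⟩,
  ⟨[.a6, .a8], [3, 1], [1, 3]⟩,
  ⟨[.a5], [1, 4], [4, 1]⟩]
theorem bad849 (c : CtxF Goal γ) : Bad Goal γ [] P849 :=
  c.toCtx.cent (B := B849) (D := D849) (I := [3, 2, 4, 0, 1, 5]) (z := [.a8]) (by decide +kernel) (by decide +kernel)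

def P850 : List Ent := [⟨2, [.a1, .a8], [.a1, .a2, .a8]⟩,
  ⟨4, [.a2], [.a2]⟩,
  ⟨8, [.a3], [.a3]⟩,
  ⟨32, [.a5], [.a5]⟩,
  ⟨64, [.a6, .a8], [.a6, .a8]⟩,
  ⟨512, [.a9], [.a9]⟩]
def B850 : List Gv := [⟨[.a1, .a8], [.a1, .a2, .a8]⟩, ⟨[.a3], [.a3]⟩, ⟨[.a9], [.a9]⟩]
def D850 : List Dv := [⟨[.a2], [0, 0], []⟩,
  ⟨[.a6, .a8], [3, 1], [1, 3]⟩,
  ⟨[.a5], [1, 4], [4, 1]⟩]
theorem bad850 (c : CtxF Goal γ) : Bad Goal γ [] P850 :=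
  c.toCtx.cent (B := B850) (D := D850) (I := [3, 2, 4, 0, 1, 5]) (z := [.a8]) (by decide +kernel) (by decide +kernel)

def P851 : List Ent := [⟨2, [.a1], [.a1, .a2]⟩,
  ⟨4, [.a2], [.a2]⟩,
  ⟨8, [.a3], [.a3]⟩,
  ⟨32, [.a5], [.a5]⟩,
  ⟨64, [.a6], [.a6]⟩,
  ⟨256, [.a8], [.a8]⟩]
def B851 : List Gv := [⟨[.a1], [.a1, .a2]⟩, ⟨[.a3], [.a3]⟩, ⟨[.a6], [.a6]⟩, ⟨[.a8], [.a8]⟩]
def D851 : List Dv := [⟨[.a2], [0, 0], []⟩,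
  ⟨[.a5], [3, 1], [1, 3]⟩]
def C851 : List Ch := [⟨P286, 0, [], []⟩,
  ⟨P383, 1, [], []⟩,
  ⟨P383, 0, [.a4], [.a4, .a5]⟩,
  ⟨P384, 2, [], []⟩,
  ⟨P384, 0, [.a9], [.a9]⟩,
  ⟨P385, 1, [], []⟩,
  ⟨P385, 0, [.a4], [.a4, .a5]⟩,
  ⟨P386, 3, [], []⟩,
  ⟨P386, 0, [.a9], [.a9]⟩,
  ⟨P387, 1, [], []⟩,
  ⟨P387, 0, [.a4], [.a4, .a5]⟩,
  ⟨P388, 2, [], []⟩,
  ⟨P389, 0, [], []⟩,
  ⟨P390, 1, [], []⟩,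
  ⟨P390, 0, [.a4], [.a4, .a5]⟩]
def N851 : List Ent := [⟨1, [.a0], [.a0]⟩,
  ⟨2, [.a1], [.a1, .a2]⟩,
  ⟨4, [.a2], [.a2]⟩,
  ⟨8, [.a3], [.a3]⟩,
  ⟨16, [.a4], [.a4, .a5]⟩,
  ⟨32, [.a5], [.a5]⟩,
  ⟨64, [.a6], [.a6]⟩,
  ⟨128, [.a7], [.a7, .a8]⟩,
  ⟨256, [.a8], [.a8]⟩,
  ⟨512, [.a9], [.a9]⟩]
theorem bad851 (c : CtxF Goal γ) : Bad Goal γ [] P851 :=
  c.toCtx.bnd (B := B851) (D := D851) (I := [2, 1, 3, 0, 4, 5]) (r := 4) (C := C851) (N := N851) (by decide +kernel) (by decide +kernel) (by decide +kernel) (by decide +kernel)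
    (allB_cons (bad286 c) (allB_cons (bad383 c) (allB_cons (bad383 c) (allB_cons (bad384 c) (allB_cons (bad384 c) (allB_cons (bad385 c) (allB_cons (bad385 c) (allB_cons (bad386 c) (allB_cons (bad386 c) (allB_cons (bad387 c) (allB_cons (bad387 c) (allB_cons (bad388 c) (allB_cons (bad389 c) (allB_cons (bad390 c) (allB_cons (bad390 c) (allB_nil))))))))))))))))

def P852 : List Ent := [⟨2, [.a1, .a11], [.a1, .a2, .a5, .a6, .a9, .a11]⟩,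
  ⟨4, [.a2, .a9], [.a2, .a5, .a9]⟩,
  ⟨8, [.a3], [.a3]⟩,
  ⟨32, [.a5], [.a5]⟩,
  ⟨64, [.a6], [.a6]⟩,
  ⟨256, [.a8], [.a8]⟩]
def B852 : List Gv := [⟨[.a1, .a11], [.a1, .a2, .a5, .a6, .a9, .a11]⟩, ⟨[.a3], [.a3]⟩, ⟨[.a6], [.a6]⟩]
def D852 : List Dv := [⟨[.a2, .a5, .a8, .a9], [0, 0], []⟩,
  ⟨[.a8], [2, 1], [1, 2]⟩,
  ⟨[.a5], [4, 2], [2, 4]⟩,
  ⟨[.a2, .a9], [2], [0, 1]⟩]
def C852 : List Ch := [⟨P278, 0, [], []⟩,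
  ⟨P391, 1, [], []⟩,
  ⟨P391, 0, [.a4], [.a4, .a5]⟩,
  ⟨P392, 2, [], []⟩,
  ⟨P392, 0, [.a9], [.a9]⟩,
  ⟨P392, 1, [.a0, .a10], [.a0, .a1, .a2, .a3, .a4, .a6, .a8, .a9, .a10, .a11]⟩,
  ⟨P392, 0, [.a0, .a2, .a3, .a5, .a6, .a7, .a8, .a9, .a10], [.a0, .a1, .a2, .a4, .a5, .a7, .a9, .a10, .a11]⟩]
def N852 : List Ent := [⟨1, [.a0, .a10], [.a0, .a1, .a2, .a3, .a4, .a6, .a8, .a9, .a10, .a11]⟩,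
  ⟨2, [.a1, .a11], [.a1, .a2, .a5, .a6, .a9, .a11]⟩,
  ⟨4, [.a2, .a9], [.a2, .a5, .a9]⟩,
  ⟨8, [.a3], [.a3]⟩,
  ⟨16, [.a4], [.a4, .a5]⟩,
  ⟨32, [.a5], [.a5]⟩,
  ⟨64, [.a6], [.a6]⟩,
  ⟨128, [.a7], [.a7, .a8]⟩,
  ⟨256, [.a8], [.a8]⟩,
  ⟨512, [.a9], [.a9]⟩]
theorem bad852 (c : CtxF Goal γ) : Bad Goal γ [] P852 :=
  c.toCtx.bnd (B := B852) (D := D852) (I := [4, 0, 5, 1, 6, 2]) (r := 3) (C := C852) (N := N852) (by decide +kernel) (by decide +kernel) (by decide +kernel) (by decide +kernel)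
    (allB_cons (bad278 c) (allB_cons (bad391 c) (allB_cons (bad391 c) (allB_cons (bad392 c) (allB_cons (bad392 c) (allB_cons (bad392 c) (allB_cons (bad392 c) (allB_nil))))))))

def P853 : List Ent := [⟨2, [.a1, .a11], [.a1, .a2, .a5, .a6, .a9, .a11]⟩,
  ⟨4, [.a2], [.a2]⟩,
  ⟨32, [.a5], [.a5]⟩,
  ⟨64, [.a6], [.a6]⟩,
  ⟨256, [.a8], [.a8]⟩,
  ⟨512, [.a9], [.a9]⟩]
def B853 : List Gv := [⟨[.a1, .a11], [.a1, .a2, .a5, .a6, .a9, .a11]⟩, ⟨[.a2], [.a2]⟩, ⟨[.a6], [.a6]⟩]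
def D853 : List Dv := [⟨[.a5, .a8, .a9], [1, 0, 0], []⟩,
  ⟨[.a8], [3, 2, 1], [1, 2]⟩,
  ⟨[.a9], [0, 1, 4, 2], [2, 4]⟩,
  ⟨[.a5], [2], [1, 0]⟩]
theorem bad853 (c : CtxF Goal γ) : Bad Goal γ [] P853 :=
  c.toCtx.cent (B := B853) (D := D853) (I := [4, 5, 0, 6, 2, 1]) (z := [.a7]) (by decide +kernel) (by decide +kernel)

def P854 : List Ent := [⟨2, [.a1], [.a1, .a2]⟩,
  ⟨4, [.a2], [.a2]⟩,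
  ⟨8, [.a3], [.a3]⟩,
  ⟨16, [.a4, .a7], [.a4, .a5, .a6, .a7, .a8]⟩,
  ⟨32, [.a5], [.a5]⟩,
  ⟨64, [.a6, .a8], [.a6, .a8]⟩]
def B854 : List Gv := [⟨[.a1], [.a1, .a2]⟩, ⟨[.a4, .a7], [.a4, .a5, .a6, .a7, .a8]⟩]
def D854 : List Dv := [⟨[.a2], [0, 0], []⟩,
  ⟨[.a3], [2, 1], [1, 2]⟩,
  ⟨[.a5, .a6, .a8], [3, 3], []⟩,
  ⟨[.a6, .a8], [0, 1, 4], [4, 1]⟩,
  ⟨[.a5], [1], [0]⟩]
theorem bad854 (c : CtxF Goal γ) : Bad Goal γ [] P854 :=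
  c.toCtx.cent (B := B854) (D := D854) (I := [5, 4, 3, 6, 0, 1]) (z := [.a0, .a1]) (by decide +kernel) (by decide +kernel)

def P855 : List Ent := [⟨2, [.a1, .a8], [.a1, .a2, .a8]⟩,
  ⟨4, [.a2], [.a2]⟩,
  ⟨8, [.a3], [.a3]⟩,
  ⟨16, [.a4, .a7], [.a4, .a5, .a6, .a7, .a8]⟩,
  ⟨32, [.a5], [.a5]⟩,
  ⟨64, [.a6, .a8], [.a6, .a8]⟩]
def B855 : List Gv := [⟨[.a1, .a8], [.a1, .a2, .a8]⟩, ⟨[.a4, .a7], [.a4, .a5, .a6, .a7, .a8]⟩]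
def D855 : List Dv := [⟨[.a2], [0, 0], []⟩,
  ⟨[.a3], [2, 1], [1, 2]⟩,
  ⟨[.a5, .a6, .a8], [3, 3], []⟩,
  ⟨[.a6, .a8], [0, 1, 4], [4, 1]⟩,
  ⟨[.a5], [1], [0]⟩]
theorem bad855 (c : CtxF Goal γ) : Bad Goal γ [] P855 :=
  c.toCtx.cent (B := B855) (D := D855) (I := [5, 4, 3, 6, 0, 1]) (z := [.a0, .a1, .a6]) (by decide +kernel) (by decide +kernel)

def P856 : List Ent := [⟨2, [.a1, .a7], [.a1, .a2, .a7, .a8]⟩,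
  ⟨4, [.a2, .a8], [.a2, .a8]⟩,
  ⟨8, [.a3], [.a3]⟩,
  ⟨32, [.a5], [.a5]⟩,
  ⟨64, [.a6, .a8], [.a6, .a8]⟩,
  ⟨512, [.a9], [.a9]⟩]
def B856 : List Gv := [⟨[.a1, .a7], [.a1, .a2, .a7, .a8]⟩, ⟨[.a3], [.a3]⟩, ⟨[.a9], [.a9]⟩]
def D856 : List Dv := [⟨[.a2, .a8], [0, 0], []⟩,
  ⟨[.a5], [2, 1], [1, 2]⟩,
  ⟨[.a6, .a8], [4, 2], [2, 4]⟩]
theorem bad856 (c : CtxF Goal γ) : Bad Goal γ [] P856 :=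
  c.toCtx.cent (B := B856) (D := D856) (I := [3, 2, 4, 1, 0, 5]) (z := [.a3, .a6]) (by decide +kernel) (by decide +kernel)

def P857 : List Ent := [⟨2, [.a1, .a7, .a8], [.a1, .a2, .a7]⟩,
  ⟨4, [.a2, .a8], [.a2, .a8]⟩,
  ⟨8, [.a3], [.a3]⟩,
  ⟨32, [.a5], [.a5]⟩,
  ⟨64, [.a6, .a8], [.a6, .a8]⟩,
  ⟨512, [.a9], [.a9]⟩]
def B857 : List Gv := [⟨[.a1, .a7, .a8], [.a1, .a2, .a7]⟩, ⟨[.a3], [.a3]⟩, ⟨[.a9], [.a9]⟩]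
def D857 : List Dv := [⟨[.a2, .a8], [0, 0], []⟩,
  ⟨[.a5], [2, 1], [1, 2]⟩,
  ⟨[.a6, .a8], [4, 2], [2, 4]⟩]
theorem bad857 (c : CtxF Goal γ) : Bad Goal γ [] P857 :=
  c.toCtx.cent (B := B857) (D := D857) (I := [3, 2, 4, 1, 0, 5]) (z := [.a3, .a6]) (by decide +kernel) (by decide +kernel)

def P858 : List Ent := [⟨2, [.a1, .a7], [.a1, .a2, .a7, .a8]⟩,
  ⟨4, [.a2], [.a2]⟩,
  ⟨32, [.a5], [.a5]⟩,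
  ⟨64, [.a6], [.a6]⟩,
  ⟨256, [.a8], [.a8]⟩,
  ⟨512, [.a9], [.a9]⟩]
def B858 : List Gv := [⟨[.a1, .a7], [.a1, .a2, .a7, .a8]⟩, ⟨[.a2], [.a2]⟩, ⟨[.a9], [.a9]⟩]
def D858 : List Dv := [⟨[.a8], [1, 0, 0], []⟩,
  ⟨[.a6, .a8], [3, 1], [1, 3]⟩,
  ⟨[.a5], [4, 3], [3, 4]⟩,
  ⟨[.a6], [1], [2]⟩]
theorem bad858 (c : CtxF Goal γ) : Bad Goal γ [] P858 :=
  c.toCtx.cent (B := B858) (D := D858) (I := [4, 5, 1, 0, 3, 6]) (z := [.a3, .a6]) (by decide +kernel) (by decide +kernel)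

def P859 : List Ent := [⟨2, [.a1, .a7], [.a1, .a2, .a7, .a8]⟩,
  ⟨4, [.a2], [.a2]⟩,
  ⟨8, [.a3], [.a3]⟩,
  ⟨32, [.a5], [.a5]⟩,
  ⟨64, [.a6], [.a6]⟩,
  ⟨256, [.a8], [.a8]⟩]
def B859 : List Gv := [⟨[.a1, .a7], [.a1, .a2, .a7, .a8]⟩, ⟨[.a2], [.a2]⟩, ⟨[.a3], [.a3]⟩, ⟨[.a6], [.a6]⟩]
def D859 : List Dv := [⟨[.a8], [1, 0, 0], []⟩,
  ⟨[.a5], [3, 1], [1, 3]⟩]
def C859 : List Ch := [⟨P286, 0, [], []⟩,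
  ⟨P393, 1, [], []⟩,
  ⟨P393, 0, [.a0], [.a0]⟩,
  ⟨P394, 2, [], []⟩,
  ⟨P394, 0, [.a0], [.a0]⟩,
  ⟨P395, 1, [], []⟩,
  ⟨P395, 0, [.a4], [.a4, .a5]⟩,
  ⟨P396, 3, [], []⟩,
  ⟨P396, 0, [.a4], [.a4, .a5]⟩,
  ⟨P397, 1, [], []⟩,
  ⟨P397, 0, [.a0], [.a0]⟩,
  ⟨P398, 2, [], []⟩,
  ⟨P398, 0, [.a0], [.a0]⟩,
  ⟨P399, 1, [], []⟩,
  ⟨P400, 0, [], []⟩]
def N859 : List Ent := [⟨1, [.a0], [.a0]⟩,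
  ⟨2, [.a1, .a7], [.a1, .a2, .a7, .a8]⟩,
  ⟨4, [.a2], [.a2]⟩,
  ⟨8, [.a3], [.a3]⟩,
  ⟨16, [.a4], [.a4, .a5]⟩,
  ⟨32, [.a5], [.a5]⟩,
  ⟨64, [.a6], [.a6]⟩,
  ⟨128, [.a7], [.a7, .a8]⟩,
  ⟨256, [.a8], [.a8]⟩,
  ⟨512, [.a9], [.a9]⟩]
theorem bad859 (c : CtxF Goal γ) : Bad Goal γ [] P859 :=
  c.toCtx.bnd (B := B859) (D := D859) (I := [2, 3, 4, 0, 5, 1]) (r := 4) (C := C859) (N := N859) (by decide +kernel) (by decide +kernel) (by decide +kernel) (by decide +kernel)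
    (allB_cons (bad286 c) (allB_cons (bad393 c) (allB_cons (bad393 c) (allB_cons (bad394 c) (allB_cons (bad394 c) (allB_cons (bad395 c) (allB_cons (bad395 c) (allB_cons (bad396 c) (allB_cons (bad396 c) (allB_cons (bad397 c) (allB_cons (bad397 c) (allB_cons (bad398 c) (allB_cons (bad398 c) (allB_cons (bad399 c) (allB_cons (bad400 c) (allB_nil))))))))))))))))

def P860 : List Ent := [⟨2, [.a1, .a7, .a11], [.a1, .a2, .a5, .a6, .a7, .a8, .a9, .a11]⟩,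
  ⟨4, [.a2, .a9], [.a2, .a5, .a9]⟩,
  ⟨8, [.a3], [.a3]⟩,
  ⟨32, [.a5], [.a5]⟩,
  ⟨64, [.a6], [.a6]⟩,
  ⟨256, [.a8], [.a8]⟩]
def B860 : List Gv := [⟨[.a1, .a7, .a11], [.a1, .a2, .a5, .a6, .a7, .a8, .a9, .a11]⟩, ⟨[.a3], [.a3]⟩, ⟨[.a6], [.a6]⟩]
def D860 : List Dv := [⟨[.a2, .a5, .a9], [0, 0], []⟩,
  ⟨[.a5, .a8], [2, 1], [1, 2]⟩,
  ⟨[.a8], [0, 4, 2], [2, 4]⟩,
  ⟨[.a5], [1], [0]⟩,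
  ⟨[.a2, .a9], [3], [0]⟩]
def C860 : List Ch := [⟨P278, 0, [], []⟩,
  ⟨P401, 1, [], []⟩,
  ⟨P401, 0, [.a4], [.a4, .a5]⟩,
  ⟨P402, 2, [], []⟩,
  ⟨P402, 0, [.a4], [.a4, .a5]⟩,
  ⟨P402, 1, [.a0, .a2, .a3, .a5, .a6, .a7, .a8, .a9, .a10], [.a0, .a1, .a2, .a4, .a5, .a7, .a9, .a10, .a11]⟩,
  ⟨P402, 0, [.a0, .a10], [.a0, .a1, .a2, .a3, .a4, .a6, .a8, .a9, .a10, .a11]⟩]
def N860 : List Ent := [⟨1, [.a0, .a10], [.a0, .a1, .a2, .a3, .a4, .a6, .a8, .a9, .a10, .a11]⟩,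
  ⟨2, [.a1, .a7, .a11], [.a1, .a2, .a5, .a6, .a7, .a8, .a9, .a11]⟩,
  ⟨4, [.a2, .a9], [.a2, .a5, .a9]⟩,
  ⟨8, [.a3], [.a3]⟩,
  ⟨16, [.a4], [.a4, .a5]⟩,
  ⟨32, [.a5], [.a5]⟩,
  ⟨64, [.a6], [.a6]⟩,
  ⟨128, [.a7], [.a7, .a8]⟩,
  ⟨256, [.a8], [.a8]⟩,
  ⟨512, [.a9], [.a9]⟩]
theorem bad860 (c : CtxF Goal γ) : Bad Goal γ [] P860 :=
  c.toCtx.bnd (B := B860) (D := D860) (I := [5, 0, 6, 1, 7, 2]) (r := 3) (C := C860) (N := N860) (by decide +kernel) (by decide +kernel) (by decide +kernel) (by decide +kernel)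
    (allB_cons (bad278 c) (allB_cons (bad401 c) (allB_cons (bad401 c) (allB_cons (bad402 c) (allB_cons (bad402 c) (allB_cons (bad402 c) (allB_cons (bad402 c) (allB_nil))))))))

def P861 : List Ent := [⟨2, [.a1, .a7, .a11], [.a1, .a2, .a5, .a6, .a7, .a8, .a9, .a11]⟩,
  ⟨4, [.a2], [.a2]⟩,
  ⟨32, [.a5], [.a5]⟩,
  ⟨64, [.a6], [.a6]⟩,
  ⟨256, [.a8], [.a8]⟩,
  ⟨512, [.a9], [.a9]⟩]
def B861 : List Gv := [⟨[.a1, .a7, .a11], [.a1, .a2, .a5, .a6, .a7, .a8, .a9, .a11]⟩, ⟨[.a2], [.a2]⟩, ⟨[.a6], [.a6]⟩]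
def D861 : List Dv := [⟨[.a5, .a9], [1, 0, 0], []⟩,
  ⟨[.a8], [3, 2, 1], [1, 2]⟩,
  ⟨[.a9], [1, 4, 2], [2, 4]⟩,
  ⟨[.a5], [2], [0]⟩]
theorem bad861 (c : CtxF Goal γ) : Bad Goal γ [] P861 :=
  c.toCtx.cent (B := B861) (D := D861) (I := [4, 5, 0, 6, 2, 1]) (z := [.a7]) (by decide +kernel) (by decide +kernel)

def P862 : List Ent := [⟨2, [.a1, .a7], [.a1, .a2, .a7, .a8]⟩,
  ⟨4, [.a2, .a8], [.a2, .a8]⟩,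
  ⟨8, [.a3, .a8], [.a3, .a8]⟩,
  ⟨16, [.a4, .a7], [.a4, .a5, .a6, .a7, .a8]⟩,
  ⟨32, [.a5], [.a5]⟩,
  ⟨64, [.a6, .a8], [.a6, .a8]⟩]
def B862 : List Gv := [⟨[.a1, .a7], [.a1, .a2, .a7, .a8]⟩, ⟨[.a4, .a7], [.a4, .a5, .a6, .a7, .a8]⟩]
def D862 : List Dv := [⟨[.a2, .a8], [0, 0], []⟩,
  ⟨[.a3, .a5, .a6], [2, 1], [1, 2]⟩,
  ⟨[.a5, .a6, .a8], [3, 3], []⟩,
  ⟨[.a6, .a8], [0, 1, 4], [4, 1]⟩,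
  ⟨[.a5], [1], [0]⟩,
  ⟨[.a3, .a8], [3], [0, 1]⟩]
theorem bad862 (c : CtxF Goal γ) : Bad Goal γ [] P862 :=
  c.toCtx.cent (B := B862) (D := D862) (I := [6, 5, 0, 7, 1, 2]) (z := [.a2]) (by decide +kernel) (by decide +kernel)

def P863 : List Ent := [⟨2, [.a1, .a7, .a8], [.a1, .a2, .a7]⟩,
  ⟨4, [.a2, .a8], [.a2, .a8]⟩,
  ⟨8, [.a3, .a8], [.a3, .a8]⟩,
  ⟨16, [.a4, .a7], [.a4, .a5, .a6, .a7, .a8]⟩,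
  ⟨32, [.a5], [.a5]⟩,
  ⟨64, [.a6, .a8], [.a6, .a8]⟩]
def B863 : List Gv := [⟨[.a1, .a7, .a8], [.a1, .a2, .a7]⟩, ⟨[.a4, .a7], [.a4, .a5, .a6, .a7, .a8]⟩]
def D863 : List Dv := [⟨[.a2, .a8], [0, 0], []⟩,
  ⟨[.a3, .a5, .a6], [2, 1], [1, 2]⟩,
  ⟨[.a5, .a6, .a8], [3, 3], []⟩,
  ⟨[.a6, .a8], [0, 1, 4], [4, 1]⟩,
  ⟨[.a5], [1], [0]⟩,
  ⟨[.a3, .a8], [3], [0, 1]⟩]
theorem bad863 (c : CtxF Goal γ) : Bad Goal γ [] P863 :=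
  c.toCtx.cent (B := B863) (D := D863) (I := [6, 5, 0, 7, 1, 2]) (z := [.a2]) (by decide +kernel) (by decide +kernel)

def P864 : List Ent := [⟨2, [.a1], [.a1, .a2]⟩,
  ⟨4, [.a2], [.a2]⟩,
  ⟨32, [.a5], [.a5]⟩,
  ⟨64, [.a6], [.a6]⟩,
  ⟨128, [.a7], [.a7, .a8]⟩,
  ⟨256, [.a8], [.a8]⟩]
def B864 : List Gv := [⟨[.a1], [.a1, .a2]⟩, ⟨[.a6], [.a6]⟩, ⟨[.a7], [.a7, .a8]⟩]
def D864 : List Dv := [⟨[.a2], [0, 0], []⟩,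
  ⟨[.a5], [2, 1], [1, 2]⟩,
  ⟨[.a8], [4, 4], []⟩]
def C864 : List Ch := [⟨P303, 0, [], []⟩,
  ⟨P403, 1, [], []⟩,
  ⟨P403, 0, [.a9], [.a9]⟩,
  ⟨P383, 2, [], []⟩,
  ⟨P394, 0, [], []⟩,
  ⟨P404, 1, [], []⟩,
  ⟨P404, 0, [.a9], [.a9]⟩]
def N864 : List Ent := [⟨2, [.a1], [.a1, .a2]⟩,
  ⟨4, [.a2], [.a2]⟩,
  ⟨8, [.a3], [.a3]⟩,
  ⟨32, [.a5], [.a5]⟩,
  ⟨64, [.a6], [.a6]⟩,
  ⟨128, [.a7], [.a7, .a8]⟩,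
  ⟨256, [.a8], [.a8]⟩,
  ⟨512, [.a9], [.a9]⟩]
theorem bad864 (c : CtxF Goal γ) : Bad Goal γ [] P864 :=
  c.toCtx.bnd (B := B864) (D := D864) (I := [3, 2, 1, 4, 5, 0]) (r := 3) (C := C864) (N := N864) (by decide +kernel) (by decide +kernel) (by decide +kernel) (by decide +kernel)
    (allB_cons (bad303 c) (allB_cons (bad403 c) (allB_cons (bad403 c) (allB_cons (bad383 c) (allB_cons (bad394 c) (allB_cons (bad404 c) (allB_cons (bad404 c) (allB_nil))))))))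

def P865 : List Ent := [⟨2, [.a1], [.a1, .a2]⟩,
  ⟨4, [.a2], [.a2]⟩,
  ⟨32, [.a5], [.a5]⟩,
  ⟨64, [.a6], [.a6]⟩,
  ⟨128, [.a7, .a9], [.a7, .a8, .a9]⟩,
  ⟨256, [.a8], [.a8]⟩]
def B865 : List Gv := [⟨[.a1], [.a1, .a2]⟩, ⟨[.a7, .a9], [.a7, .a8, .a9]⟩]
def D865 : List Dv := [⟨[.a2], [0, 0], []⟩,
  ⟨[.a6, .a8], [2, 1], [1, 2]⟩,
  ⟨[.a8], [3, 3], []⟩,
  ⟨[.a5], [2, 4], [4, 2]⟩,
  ⟨[.a6], [2], [1]⟩]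
theorem bad865 (c : CtxF Goal γ) : Bad Goal γ [] P865 :=
  c.toCtx.cent (B := B865) (D := D865) (I := [5, 4, 1, 0, 6, 2]) (z := [.a2, .a3]) (by decide +kernel) (by decide +kernel)

def P866 : List Ent := [⟨2, [.a1, .a11], [.a1, .a2, .a5, .a6, .a9, .a11]⟩,
  ⟨4, [.a2, .a9], [.a2, .a5, .a9]⟩,
  ⟨32, [.a5], [.a5]⟩,
  ⟨64, [.a6], [.a6]⟩,
  ⟨128, [.a7], [.a7, .a8]⟩,
  ⟨256, [.a8], [.a8]⟩]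
def B866 : List Gv := [⟨[.a1, .a11], [.a1, .a2, .a5, .a6, .a9, .a11]⟩, ⟨[.a6], [.a6]⟩, ⟨[.a7], [.a7, .a8]⟩]
def D866 : List Dv := [⟨[.a2, .a5, .a8, .a9], [0, 0], []⟩,
  ⟨[.a5], [2, 1], [1, 2]⟩,
  ⟨[.a8], [4, 4], []⟩,
  ⟨[.a2, .a9], [2], [1, 0]⟩]
def C866 : List Ch := [⟨P307, 0, [], []⟩,
  ⟨P405, 1, [], []⟩,
  ⟨P405, 0, [.a9], [.a9]⟩,
  ⟨P391, 2, [], []⟩,
  ⟨P401, 0, [], []⟩,
  ⟨P406, 1, [], []⟩,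
  ⟨P406, 0, [.a9], [.a9]⟩]
def N866 : List Ent := [⟨1, [.a0, .a4, .a10], [.a0, .a1, .a6, .a8, .a9, .a10, .a11]⟩,
  ⟨2, [.a1, .a11], [.a1, .a2, .a5, .a6, .a9, .a11]⟩,
  ⟨4, [.a2, .a9], [.a2, .a5, .a9]⟩,
  ⟨8, [.a3], [.a3]⟩,
  ⟨32, [.a5], [.a5]⟩,
  ⟨64, [.a6], [.a6]⟩,
  ⟨128, [.a7], [.a7, .a8]⟩,
  ⟨256, [.a8], [.a8]⟩,
  ⟨512, [.a9], [.a9]⟩]
theorem bad866 (c : CtxF Goal γ) : Bad Goal γ [] P866 :=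
  c.toCtx.bnd (B := B866) (D := D866) (I := [4, 0, 2, 5, 6, 1]) (r := 3) (C := C866) (N := N866) (by decide +kernel) (by decide +kernel) (by decide +kernel) (by decide +kernel)
    (allB_cons (bad307 c) (allB_cons (bad405 c) (allB_cons (bad405 c) (allB_cons (bad391 c) (allB_cons (bad401 c) (allB_cons (bad406 c) (allB_cons (bad406 c) (allB_nil))))))))

def P867 : List Ent := [⟨2, [.a1, .a11], [.a1, .a2, .a5, .a6, .a9, .a11]⟩,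
  ⟨4, [.a2, .a9], [.a2, .a5, .a9]⟩,
  ⟨32, [.a5], [.a5]⟩,
  ⟨64, [.a6], [.a6]⟩,
  ⟨128, [.a7, .a9], [.a7, .a8, .a9]⟩,
  ⟨256, [.a8], [.a8]⟩]
def B867 : List Gv := [⟨[.a1, .a11], [.a1, .a2, .a5, .a6, .a9, .a11]⟩, ⟨[.a7, .a9], [.a7, .a8, .a9]⟩]
def D867 : List Dv := [⟨[.a2, .a5, .a8, .a9], [0, 0], []⟩,
  ⟨[.a6, .a8], [2, 1], [1, 2]⟩,
  ⟨[.a8], [3, 3], []⟩,
  ⟨[.a5], [2, 4], [4, 2]⟩,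
  ⟨[.a6], [2], [1]⟩,
  ⟨[.a2, .a9], [4], [1, 2]⟩]
theorem bad867 (c : CtxF Goal γ) : Bad Goal γ [] P867 :=
  c.toCtx.cent (B := B867) (D := D867) (I := [6, 0, 2, 1, 7, 3]) (z := [.a7]) (by decide +kernel) (by decide +kernel)

def P868 : List Ent := [⟨2, [.a1], [.a1, .a2]⟩,
  ⟨4, [.a2], [.a2]⟩,
  ⟨8, [.a3, .a7, .a9], [.a3, .a5, .a7, .a8, .a9]⟩,
  ⟨32, [.a5], [.a5]⟩,
  ⟨64, [.a6], [.a6]⟩,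
  ⟨256, [.a8], [.a8]⟩]
def B868 : List Gv := [⟨[.a1], [.a1, .a2]⟩, ⟨[.a3, .a7, .a9], [.a3, .a5, .a7, .a8, .a9]⟩]
def D868 : List Dv := [⟨[.a2], [0, 0], []⟩,
  ⟨[.a6, .a8], [2, 1], [1, 2]⟩,
  ⟨[.a5, .a8], [3, 3], []⟩,
  ⟨[.a8], [0, 2, 4], [4, 2]⟩,
  ⟨[.a6], [2], [0]⟩,
  ⟨[.a5], [2], [1]⟩]
theorem bad868 (c : CtxF Goal γ) : Bad Goal γ [] P868 :=
  c.toCtx.cent (B := B868) (D := D868) (I := [6, 5, 7, 0, 1, 2]) (z := [.a2, .a3]) (by decide +kernel) (by decide +kernel)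

def P869 : List Ent := [⟨2, [.a1, .a11], [.a1, .a2, .a5, .a6, .a9, .a11]⟩,
  ⟨4, [.a2, .a9], [.a2, .a5, .a9]⟩,
  ⟨8, [.a3, .a7], [.a3, .a5, .a7, .a8]⟩,
  ⟨32, [.a5], [.a5]⟩,
  ⟨64, [.a6], [.a6]⟩,
  ⟨256, [.a8], [.a8]⟩]
def B869 : List Gv := [⟨[.a1, .a11], [.a1, .a2, .a5, .a6, .a9, .a11]⟩, ⟨[.a3, .a7], [.a3, .a5, .a7, .a8]⟩, ⟨[.a6], [.a6]⟩]
def D869 : List Dv := [⟨[.a2, .a5, .a8, .a9], [0, 0], []⟩,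
  ⟨[.a8], [2, 1], [1, 2]⟩,
  ⟨[.a5, .a8], [3, 3], []⟩,
  ⟨[.a5], [0], [1]⟩,
  ⟨[.a2, .a9], [3], [0, 2]⟩]
def C869 : List Ch := [⟨P315, 0, [], []⟩,
  ⟨P391, 1, [], []⟩,
  ⟨P401, 0, [.a4], [.a4, .a5]⟩,
  ⟨P407, 2, [], []⟩,
  ⟨P407, 0, [.a9], [.a9]⟩,
  ⟨P407, 1, [.a0, .a2, .a4, .a5, .a6, .a9, .a10], [.a0, .a1, .a2, .a10, .a11]⟩,
  ⟨P407, 0, [.a0, .a2, .a4, .a10], [.a0, .a1, .a2, .a3, .a6, .a9, .a10, .a11]⟩]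
def N869 : List Ent := [⟨1, [.a0, .a4, .a10], [.a0, .a1, .a6, .a8, .a9, .a10, .a11]⟩,
  ⟨2, [.a1, .a11], [.a1, .a2, .a5, .a6, .a9, .a11]⟩,
  ⟨4, [.a2, .a9], [.a2, .a5, .a9]⟩,
  ⟨8, [.a3, .a7], [.a3, .a5, .a7, .a8]⟩,
  ⟨32, [.a5], [.a5]⟩,
  ⟨64, [.a6], [.a6]⟩,
  ⟨128, [.a7], [.a7, .a8]⟩,
  ⟨256, [.a8], [.a8]⟩,
  ⟨512, [.a9], [.a9]⟩]
theorem bad869 (c : CtxF Goal γ) : Bad Goal γ [] P869 :=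
  c.toCtx.bnd (B := B869) (D := D869) (I := [5, 0, 6, 1, 7, 3]) (r := 3) (C := C869) (N := N869) (by decide +kernel) (by decide +kernel) (by decide +kernel) (by decide +kernel)
    (allB_cons (bad315 c) (allB_cons (bad391 c) (allB_cons (bad401 c) (allB_cons (bad407 c) (allB_cons (bad407 c) (allB_cons (bad407 c) (allB_cons (bad407 c) (allB_nil))))))))

def P870 : List Ent := [⟨2, [.a1], [.a1, .a2]⟩,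
  ⟨4, [.a2], [.a2]⟩,
  ⟨8, [.a3, .a7, .a11], [.a3, .a5, .a7, .a11]⟩,
  ⟨32, [.a5], [.a5]⟩,
  ⟨64, [.a6, .a9], [.a6, .a9]⟩,
  ⟨256, [.a8, .a9], [.a8, .a9]⟩]
def B870 : List Gv := [⟨[.a1], [.a1, .a2]⟩, ⟨[.a3, .a7, .a11], [.a3, .a5, .a7, .a11]⟩]
def D870 : List Dv := [⟨[.a2], [0, 0], []⟩,
  ⟨[.a5, .a6, .a9], [2, 1], [1, 2]⟩,
  ⟨[.a6, .a9], [0, 3, 3], []⟩,
  ⟨[.a8, .a9], [1, 2, 4], [4, 2]⟩,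
  ⟨[.a5], [2], [1]⟩]
theorem bad870 (c : CtxF Goal γ) : Bad Goal γ [] P870 :=
  c.toCtx.cent (B := B870) (D := D870) (I := [5, 4, 6, 0, 2, 1]) (z := [.a8]) (by decide +kernel) (by decide +kernel)

def P871 : List Ent := [⟨2, [.a1, .a9], [.a1, .a2, .a6, .a8, .a9]⟩,
  ⟨4, [.a2], [.a2]⟩,
  ⟨8, [.a3, .a7, .a11], [.a3, .a5, .a7, .a11]⟩,
  ⟨32, [.a5], [.a5]⟩,
  ⟨64, [.a6, .a9], [.a6, .a9]⟩,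
  ⟨256, [.a8, .a9], [.a8, .a9]⟩]
def B871 : List Gv := [⟨[.a1, .a9], [.a1, .a2, .a6, .a8, .a9]⟩, ⟨[.a3, .a7, .a11], [.a3, .a5, .a7, .a11]⟩]
def D871 : List Dv := [⟨[.a2, .a5, .a6, .a8], [0, 0], []⟩,
  ⟨[.a5, .a6, .a9], [2, 1], [1, 2]⟩,
  ⟨[.a6, .a9], [0, 3, 3], []⟩,
  ⟨[.a8, .a9], [1, 2, 4], [4, 2]⟩,
  ⟨[.a5], [2], [1]⟩,
  ⟨[.a2], [4], [0, 2, 1]⟩]
theorem bad871 (c : CtxF Goal γ) : Bad Goal γ [] P871 :=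
  c.toCtx.cent (B := B871) (D := D871) (I := [6, 0, 7, 1, 3, 2]) (z := [.a8]) (by decide +kernel) (by decide +kernel)

def P872 : List Ent := [⟨2, [.a1, .a11], [.a1, .a2, .a5, .a6, .a9, .a11]⟩,
  ⟨4, [.a2, .a8], [.a2, .a8]⟩,
  ⟨8, [.a3, .a7, .a11], [.a3, .a5, .a7, .a11]⟩,
  ⟨32, [.a5], [.a5]⟩,
  ⟨64, [.a6, .a8], [.a6, .a8]⟩,
  ⟨512, [.a9], [.a9]⟩]
def B872 : List Gv := [⟨[.a1, .a11], [.a1, .a2, .a5, .a6, .a9, .a11]⟩, ⟨[.a3, .a7, .a11], [.a3, .a5, .a7, .a11]⟩]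
def D872 : List Dv := [⟨[.a2, .a5, .a8, .a9], [0, 0], []⟩,
  ⟨[.a5, .a6, .a8, .a9], [2, 1], [1, 2]⟩,
  ⟨[.a6, .a8, .a9], [0, 3, 3], []⟩,
  ⟨[.a9], [1, 2, 4], [4, 2]⟩,
  ⟨[.a6, .a8], [1], [0]⟩,
  ⟨[.a5], [3], [0, 1]⟩,
  ⟨[.a2, .a8], [5], [0, 2]⟩]
theorem bad872 (c : CtxF Goal γ) : Bad Goal γ [] P872 :=
  c.toCtx.cent (B := B872) (D := D872) (I := [7, 0, 8, 1, 2, 3]) (z := [.a8]) (by decide +kernel) (by decide +kernel)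

def P873 : List Ent := [⟨2, [.a1, .a8, .a11], [.a1, .a2, .a5, .a6, .a8, .a9, .a11]⟩,
  ⟨4, [.a2, .a8], [.a2, .a8]⟩,
  ⟨8, [.a3, .a7, .a11], [.a3, .a5, .a7, .a11]⟩,
  ⟨32, [.a5], [.a5]⟩,
  ⟨64, [.a6, .a8], [.a6, .a8]⟩,
  ⟨512, [.a9], [.a9]⟩]
def B873 : List Gv := [⟨[.a1, .a8, .a11], [.a1, .a2, .a5, .a6, .a8, .a9, .a11]⟩, ⟨[.a3, .a7, .a11], [.a3, .a5, .a7, .a11]⟩]
def D873 : List Dv := [⟨[.a2, .a5, .a8, .a9], [0, 0], []⟩,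
  ⟨[.a5, .a6, .a8, .a9], [2, 1], [1, 2]⟩,
  ⟨[.a6, .a8, .a9], [0, 3, 3], []⟩,
  ⟨[.a9], [1, 2, 4], [4, 2]⟩,
  ⟨[.a6, .a8], [1], [0]⟩,
  ⟨[.a5], [3], [0, 1]⟩,
  ⟨[.a2, .a8], [5], [0, 2]⟩]
theorem bad873 (c : CtxF Goal γ) : Bad Goal γ [] P873 :=
  c.toCtx.cent (B := B873) (D := D873) (I := [7, 0, 8, 1, 2, 3]) (z := [.a8]) (by decide +kernel) (by decide +kernel)

def P874 : List Ent := [⟨2, [.a1], [.a1, .a2]⟩,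
  ⟨4, [.a2], [.a2]⟩,
  ⟨8, [.a3], [.a3]⟩,
  ⟨32, [.a5], [.a5]⟩,
  ⟨128, [.a7], [.a7, .a8]⟩,
  ⟨256, [.a8], [.a8]⟩]
def B874 : List Gv := [⟨[.a1], [.a1, .a2]⟩, ⟨[.a3], [.a3]⟩, ⟨[.a7], [.a7, .a8]⟩]
def D874 : List Dv := [⟨[.a2], [0, 0], []⟩,
  ⟨[.a5], [3, 2], [2, 3]⟩,
  ⟨[.a8], [4, 4], []⟩]
def C874 : List Ch := [⟨P322, 0, [], []⟩,
  ⟨P403, 1, [], []⟩,
  ⟨P404, 0, [.a4], [.a4, .a5]⟩,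
  ⟨P384, 2, [], []⟩,
  ⟨P396, 0, [], []⟩,
  ⟨P403, 1, [.a0], [.a0]⟩,
  ⟨P404, 0, [.a0, .a2, .a4], [.a0, .a4, .a5]⟩]
def N874 : List Ent := [⟨1, [.a0], [.a0]⟩,
  ⟨2, [.a1], [.a1, .a2]⟩,
  ⟨4, [.a2], [.a2]⟩,
  ⟨8, [.a3], [.a3]⟩,
  ⟨32, [.a5], [.a5]⟩,
  ⟨64, [.a6], [.a6]⟩,
  ⟨128, [.a7], [.a7, .a8]⟩,
  ⟨256, [.a8], [.a8]⟩]
theorem bad874 (c : CtxF Goal γ) : Bad Goal γ [] P874 :=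
  c.toCtx.bnd (B := B874) (D := D874) (I := [3, 2, 4, 1, 5, 0]) (r := 3) (C := C874) (N := N874) (by decide +kernel) (by decide +kernel) (by decide +kernel) (by decide +kernel)
    (allB_cons (bad322 c) (allB_cons (bad403 c) (allB_cons (bad404 c) (allB_cons (bad384 c) (allB_cons (bad396 c) (allB_cons (bad403 c) (allB_cons (bad404 c) (allB_nil))))))))

def P875 : List Ent := [⟨2, [.a1], [.a1, .a2]⟩,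
  ⟨4, [.a2], [.a2]⟩,
  ⟨8, [.a3, .a6], [.a3, .a6]⟩,
  ⟨32, [.a5], [.a5]⟩,
  ⟨128, [.a7], [.a7, .a8]⟩,
  ⟨256, [.a8], [.a8]⟩]
def B875 : List Gv := [⟨[.a1], [.a1, .a2]⟩, ⟨[.a3, .a6], [.a3, .a6]⟩, ⟨[.a7], [.a7, .a8]⟩]
def D875 : List Dv := [⟨[.a2], [0, 0], []⟩,
  ⟨[.a5], [2, 1], [1, 2]⟩,
  ⟨[.a8], [4, 4], []⟩]
def C875 : List Ch := [⟨P323, 0, [], []⟩,
  ⟨P403, 1, [], []⟩,
  ⟨P404, 0, [.a4, .a8, .a9], [.a4, .a5, .a9]⟩,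
  ⟨P385, 2, [], []⟩,
  ⟨P398, 0, [], []⟩,
  ⟨P404, 1, [.a0], [.a0]⟩,
  ⟨P403, 0, [.a0, .a2, .a3, .a4, .a5, .a6, .a8, .a9], [.a0, .a4, .a5, .a9]⟩]
def N875 : List Ent := [⟨1, [.a0, .a4, .a9], [.a0, .a2, .a3, .a4, .a6, .a8, .a9]⟩,
  ⟨2, [.a1], [.a1, .a2]⟩,
  ⟨4, [.a2], [.a2]⟩,
  ⟨8, [.a3, .a6], [.a3, .a6]⟩,
  ⟨32, [.a5], [.a5]⟩,
  ⟨64, [.a6], [.a6]⟩,
  ⟨128, [.a7], [.a7, .a8]⟩,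
  ⟨256, [.a8], [.a8]⟩]
theorem bad875 (c : CtxF Goal γ) : Bad Goal γ [] P875 :=
  c.toCtx.bnd (B := B875) (D := D875) (I := [3, 2, 4, 1, 5, 0]) (r := 3) (C := C875) (N := N875) (by decide +kernel) (by decide +kernel) (by decide +kernel) (by decide +kernel)
    (allB_cons (bad323 c) (allB_cons (bad403 c) (allB_cons (bad404 c) (allB_cons (bad385 c) (allB_cons (bad398 c) (allB_cons (bad404 c) (allB_cons (bad403 c) (allB_nil))))))))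

def P876 : List Ent := [⟨2, [.a1, .a11], [.a1, .a2, .a5, .a6, .a9, .a11]⟩,
  ⟨4, [.a2, .a9], [.a2, .a5, .a9]⟩,
  ⟨8, [.a3], [.a3]⟩,
  ⟨32, [.a5], [.a5]⟩,
  ⟨128, [.a7], [.a7, .a8]⟩,
  ⟨256, [.a8], [.a8]⟩]
def B876 : List Gv := [⟨[.a1, .a11], [.a1, .a2, .a5, .a6, .a9, .a11]⟩, ⟨[.a3], [.a3]⟩, ⟨[.a7], [.a7, .a8]⟩]
def D876 : List Dv := [⟨[.a2, .a5, .a8, .a9], [0, 0], []⟩,
  ⟨[.a8], [2, 1], [1, 2]⟩,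
  ⟨[.a5], [4, 3], [3, 4]⟩,
  ⟨[.a2, .a9], [2], [0, 1]⟩]
def C876 : List Ch := [⟨P324, 0, [], []⟩,
  ⟨P405, 1, [], []⟩,
  ⟨P406, 0, [.a4], [.a4, .a5]⟩,
  ⟨P392, 2, [], []⟩,
  ⟨P402, 0, [], []⟩,
  ⟨P407, 1, [], []⟩,
  ⟨P407, 0, [.a0, .a2, .a3, .a5, .a6, .a7, .a8, .a9, .a10], [.a0, .a1, .a2, .a4, .a5, .a7, .a9, .a10, .a11]⟩]
def S876 : List St := [.comm 1 1 [⟨32, [.a5], [.a5]⟩,
  ⟨256, [.a8], [.a8]⟩] [⟨[.a3], [.a7]⟩, ⟨[.a3], [.a1, .a11]⟩]]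
theorem bad876 (c : CtxF Goal γ) : Bad Goal γ [] P876 :=
  c.toCtx.chn (B := B876) (D := D876) (I := [4, 0, 5, 1, 6, 2]) (r := 3) (C := C876) (l := S876) (x := ⟨[.a6], [.a6]⟩) (ix := [0]) (by decide +kernel) (by decide +kernel) (by decide +kernel) (by decide +kernel)
    (allB_cons (bad324 c) (allB_cons (bad405 c) (allB_cons (bad406 c) (allB_cons (bad392 c) (allB_cons (bad402 c) (allB_cons (bad407 c) (allB_cons (bad407 c) (allB_nil))))))))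

def P877 : List Ent := [⟨2, [.a1], [.a1, .a2]⟩,
  ⟨4, [.a2], [.a2]⟩,
  ⟨8, [.a3], [.a3]⟩,
  ⟨16, [.a4], [.a4, .a5]⟩,
  ⟨32, [.a5], [.a5]⟩,
  ⟨256, [.a8], [.a8]⟩]
def B877 : List Gv := [⟨[.a1], [.a1, .a2]⟩, ⟨[.a4], [.a4, .a5]⟩, ⟨[.a8], [.a8]⟩]
def D877 : List Dv := [⟨[.a2], [0, 0], []⟩,
  ⟨[.a3], [2, 1], [1, 2]⟩,
  ⟨[.a5], [3, 3], []⟩]
def C877 : List Ch := [⟨P350, 0, [], []⟩,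
  ⟨P384, 1, [], []⟩,
  ⟨P398, 0, [.a10, .a11], [.a10]⟩,
  ⟨P408, 2, [], []⟩,
  ⟨P409, 0, [], []⟩,
  ⟨P410, 1, [], []⟩,
  ⟨P411, 0, [], []⟩]
def N877 : List Ent := [⟨1, [.a0], [.a0]⟩,
  ⟨2, [.a1], [.a1, .a2]⟩,
  ⟨4, [.a2], [.a2]⟩,
  ⟨8, [.a3], [.a3]⟩,
  ⟨16, [.a4], [.a4, .a5]⟩,
  ⟨32, [.a5], [.a5]⟩,
  ⟨64, [.a6], [.a6]⟩,
  ⟨256, [.a8], [.a8]⟩]
theorem bad877 (c : CtxF Goal γ) : Bad Goal γ [] P877 :=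
  c.toCtx.bnd (B := B877) (D := D877) (I := [3, 2, 1, 4, 0, 5]) (r := 3) (C := C877) (N := N877) (by decide +kernel) (by decide +kernel) (by decide +kernel) (by decide +kernel)
    (allB_cons (bad350 c) (allB_cons (bad384 c) (allB_cons (bad398 c) (allB_cons (bad408 c) (allB_cons (bad409 c) (allB_cons (bad410 c) (allB_cons (bad411 c) (allB_nil))))))))

def P878 : List Ent := [⟨2, [.a1], [.a1, .a2]⟩,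
  ⟨4, [.a2], [.a2]⟩,
  ⟨8, [.a3], [.a3]⟩,
  ⟨16, [.a4], [.a4, .a5]⟩,
  ⟨32, [.a5], [.a5]⟩,
  ⟨64, [.a6], [.a6]⟩]
def B878 : List Gv := [⟨[.a1], [.a1, .a2]⟩, ⟨[.a4], [.a4, .a5]⟩, ⟨[.a6], [.a6]⟩]
def D878 : List Dv := [⟨[.a2], [0, 0], []⟩,
  ⟨[.a3], [2, 1], [1, 2]⟩,
  ⟨[.a5], [3, 3], []⟩]
theorem bad878 (c : CtxF Goal γ) : Bad Goal γ [] P878 :=
  c.toCtx.cent (B := B878) (D := D878) (I := [3, 2, 1, 4, 0, 5]) (z := [.a8]) (by decide +kernel) (by decide +kernel)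

def P879 : List Ent := [⟨2, [.a1, .a8], [.a1, .a2, .a8]⟩,
  ⟨4, [.a2], [.a2]⟩,
  ⟨8, [.a3], [.a3]⟩,
  ⟨16, [.a4], [.a4, .a5]⟩,
  ⟨32, [.a5], [.a5]⟩,
  ⟨64, [.a6], [.a6]⟩]
def B879 : List Gv := [⟨[.a1, .a8], [.a1, .a2, .a8]⟩, ⟨[.a4], [.a4, .a5]⟩, ⟨[.a6], [.a6]⟩]
def D879 : List Dv := [⟨[.a2], [0, 0], []⟩,
  ⟨[.a3], [2, 1], [1, 2]⟩,
  ⟨[.a5], [3, 3], []⟩]
theorem bad879 (c : CtxF Goal γ) : Bad Goal γ [] P879 :=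
  c.toCtx.cent (B := B879) (D := D879) (I := [3, 2, 1, 4, 0, 5]) (z := [.a8]) (by decide +kernel) (by decide +kernel)

def P880 : List Ent := [⟨2, [.a1], [.a1, .a2]⟩,
  ⟨4, [.a2], [.a2]⟩,
  ⟨8, [.a3], [.a3]⟩,
  ⟨16, [.a4], [.a4, .a5]⟩,
  ⟨32, [.a5], [.a5]⟩,
  ⟨64, [.a6, .a8], [.a6, .a8]⟩]
def B880 : List Gv := [⟨[.a1], [.a1, .a2]⟩, ⟨[.a4], [.a4, .a5]⟩, ⟨[.a6, .a8], [.a6, .a8]⟩]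
def D880 : List Dv := [⟨[.a2], [0, 0], []⟩,
  ⟨[.a3], [2, 1], [1, 2]⟩,
  ⟨[.a5], [3, 3], []⟩]
theorem bad880 (c : CtxF Goal γ) : Bad Goal γ [] P880 :=
  c.toCtx.cent (B := B880) (D := D880) (I := [3, 2, 1, 4, 0, 5]) (z := [.a8]) (by decide +kernel) (by decide +kernel)

def P881 : List Ent := [⟨2, [.a1, .a8], [.a1, .a2, .a8]⟩,
  ⟨4, [.a2], [.a2]⟩,
  ⟨8, [.a3], [.a3]⟩,
  ⟨16, [.a4], [.a4, .a5]⟩,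
  ⟨32, [.a5], [.a5]⟩,
  ⟨64, [.a6, .a8], [.a6, .a8]⟩]
def B881 : List Gv := [⟨[.a1, .a8], [.a1, .a2, .a8]⟩, ⟨[.a4], [.a4, .a5]⟩, ⟨[.a6, .a8], [.a6, .a8]⟩]
def D881 : List Dv := [⟨[.a2], [0, 0], []⟩,
  ⟨[.a3], [2, 1], [1, 2]⟩,
  ⟨[.a5], [3, 3], []⟩]
theorem bad881 (c : CtxF Goal γ) : Bad Goal γ [] P881 :=
  c.toCtx.cent (B := B881) (D := D881) (I := [3, 2, 1, 4, 0, 5]) (z := [.a8]) (by decide +kernel) (by decide +kernel)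

def P882 : List Ent := [⟨2, [.a1], [.a1, .a2]⟩,
  ⟨4, [.a2], [.a2]⟩,
  ⟨8, [.a3, .a6], [.a3, .a6]⟩,
  ⟨16, [.a4, .a9], [.a4, .a5, .a8, .a9]⟩,
  ⟨32, [.a5], [.a5]⟩,
  ⟨256, [.a8], [.a8]⟩]
def B882 : List Gv := [⟨[.a1], [.a1, .a2]⟩, ⟨[.a4, .a9], [.a4, .a5, .a8, .a9]⟩]
def D882 : List Dv := [⟨[.a2], [0, 0], []⟩,
  ⟨[.a3, .a6, .a8], [2, 1], [1, 2]⟩,
  ⟨[.a5, .a8], [3, 3], []⟩,
  ⟨[.a8], [0, 2, 4], [4, 2]⟩,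
  ⟨[.a5], [1], [0]⟩,
  ⟨[.a3, .a6], [3], [1]⟩]
theorem bad882 (c : CtxF Goal γ) : Bad Goal γ [] P882 :=
  c.toCtx.cent (B := B882) (D := D882) (I := [6, 5, 0, 7, 1, 2]) (z := [.a3]) (by decide +kernel) (by decide +kernel)

def P883 : List Ent := [⟨2, [.a1, .a11], [.a1, .a2, .a5, .a6, .a9, .a11]⟩,
  ⟨4, [.a2, .a9], [.a2, .a5, .a9]⟩,
  ⟨8, [.a3], [.a3]⟩,
  ⟨16, [.a4], [.a4, .a5]⟩,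
  ⟨32, [.a5], [.a5]⟩,
  ⟨256, [.a8], [.a8]⟩]
def B883 : List Gv := [⟨[.a1, .a11], [.a1, .a2, .a5, .a6, .a9, .a11]⟩, ⟨[.a4], [.a4, .a5]⟩]
def D883 : List Dv := [⟨[.a2, .a5, .a8, .a9], [0, 0], []⟩,
  ⟨[.a3], [2, 1], [1, 2]⟩,
  ⟨[.a5], [3, 3], []⟩,
  ⟨[.a8], [2, 4], [4, 2]⟩,
  ⟨[.a2, .a9], [3], [1, 0]⟩]
def C883 : List Ch := [⟨P357, 0, [], []⟩,
  ⟨P392, 1, [], []⟩,
  ⟨P402, 0, [.a0, .a1], [.a0, .a1, .a2]⟩]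
def S883 : List St := [.cent 1 1 0 [⟨32, [.a5], [.a5]⟩,
  ⟨256, [.a8], [.a8]⟩]]
theorem bad883 (c : CtxF Goal γ) : Bad Goal γ [] P883 :=
  c.toCtx.chn (B := B883) (D := D883) (I := [5, 0, 3, 6, 2, 1]) (r := 2) (C := C883) (l := S883) (x := ⟨[.a6], [.a6]⟩) (ix := [0]) (by decide +kernel) (by decide +kernel) (by decide +kernel) (by decide +kernel)
    (allB_cons (bad357 c) (allB_cons (bad392 c) (allB_cons (bad402 c) (allB_nil))))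

def P884 : List Ent := [⟨1, [.a0], [.a0]⟩,
  ⟨4, [.a2, .a3, .a4, .a7, .a9], [.a2, .a3, .a4, .a5, .a6, .a7, .a9]⟩,
  ⟨32, [.a5], [.a5]⟩,
  ⟨64, [.a6], [.a6]⟩,
  ⟨256, [.a8], [.a8]⟩,
  ⟨2048, [.a11], [.a11]⟩]
def B884 : List Gv := [⟨[.a0], [.a0]⟩, ⟨[.a8], [.a8]⟩, ⟨[.a11], [.a11]⟩]
def D884 : List Dv := [⟨[.a5], [1, 0], [0, 1]⟩,
  ⟨[.a2, .a3, .a4, .a7, .a9], [3, 1], [1, 3]⟩,
  ⟨[.a6], [1, 0, 2], [2, 0]⟩]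
def C884 : List Ch := [⟨P334, 0, [.a10], [.a10, .a11]⟩,
  ⟨P412, 1, [], []⟩,
  ⟨P413, 0, [], []⟩,
  ⟨P414, 2, [], []⟩,
  ⟨P415, 0, [], []⟩,
  ⟨P412, 1, [.a3], [.a3]⟩,
  ⟨P413, 0, [.a3], [.a3]⟩]
def N884 : List Ent := [⟨1, [.a0], [.a0]⟩,
  ⟨4, [.a2, .a3, .a4, .a7, .a9], [.a2, .a3, .a4, .a5, .a6, .a7, .a9]⟩,
  ⟨8, [.a3], [.a3]⟩,
  ⟨16, [.a4, .a7, .a9], [.a4, .a5, .a6, .a7, .a9]⟩,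
  ⟨32, [.a5], [.a5]⟩,
  ⟨64, [.a6], [.a6]⟩,
  ⟨256, [.a8], [.a8]⟩,
  ⟨2048, [.a11], [.a11]⟩]
theorem bad884 (c : CtxF Goal γ) : Bad Goal γ [] P884 :=
  c.toCtx.bnd (B := B884) (D := D884) (I := [3, 1, 2, 0, 4, 5]) (r := 3) (C := C884) (N := N884) (by decide +kernel) (by decide +kernel) (by decide +kernel) (by decide +kernel)
    (allB_cons (bad334 c) (allB_cons (bad412 c) (allB_cons (bad413 c) (allB_cons (bad414 c) (allB_cons (bad415 c) (allB_cons (bad412 c) (allB_cons (bad413 c) (allB_nil))))))))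

def P885 : List Ent := [⟨1, [.a0], [.a0]⟩,
  ⟨4, [.a2, .a4, .a7, .a9], [.a2, .a4, .a6, .a7, .a9]⟩,
  ⟨8, [.a3], [.a3]⟩,
  ⟨32, [.a5], [.a5]⟩,
  ⟨64, [.a6], [.a6]⟩,
  ⟨256, [.a8], [.a8]⟩]
def B885 : List Gv := [⟨[.a0], [.a0]⟩, ⟨[.a2, .a4, .a7, .a9], [.a2, .a4, .a6, .a7, .a9]⟩, ⟨[.a3], [.a3]⟩, ⟨[.a8], [.a8]⟩]
def D885 : List Dv := [⟨[.a5, .a6], [1, 0], [0, 1]⟩,
  ⟨[.a6], [2, 2], []⟩,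
  ⟨[.a5], [1], [0]⟩]
theorem bad885 (c : CtxF Goal γ) : Bad Goal γ [] P885 :=
  c.toCtx.cent (B := B885) (D := D885) (I := [3, 4, 5, 0, 1, 6]) (z := [.a2, .a3]) (by decide +kernel) (by decide +kernel)

def P886 : List Ent := [⟨1, [.a0, .a11], [.a0, .a2, .a3, .a4, .a5, .a6, .a7, .a9, .a11]⟩,
  ⟨4, [.a2, .a4, .a7, .a9], [.a2, .a4, .a6, .a7, .a9]⟩,
  ⟨8, [.a3], [.a3]⟩,
  ⟨32, [.a5], [.a5]⟩,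
  ⟨64, [.a6], [.a6]⟩,
  ⟨256, [.a8], [.a8]⟩]
def B886 : List Gv := [⟨[.a0, .a11], [.a0, .a2, .a3, .a4, .a5, .a6, .a7, .a9, .a11]⟩, ⟨[.a2, .a4, .a7, .a9], [.a2, .a4, .a6, .a7, .a9]⟩]
def D886 : List Dv := [⟨[.a3], [1, 0, 0], []⟩,
  ⟨[.a5, .a8], [2, 1], [1, 2]⟩,
  ⟨[.a6], [3, 3], []⟩,
  ⟨[.a8], [1, 2, 4], [4, 2]⟩,
  ⟨[.a5], [2], [0]⟩]
def C886 : List Ch := [⟨P335, 0, [.a10], [.a10, .a11]⟩,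
  ⟨P415, 1, [], []⟩,
  ⟨P415, 0, [.a9], [.a9]⟩]
def N886 : List Ent := [⟨1, [.a0, .a11], [.a0, .a2, .a3, .a4, .a5, .a6, .a7, .a9, .a11]⟩,
  ⟨4, [.a2, .a4, .a7, .a9], [.a2, .a4, .a6, .a7, .a9]⟩,
  ⟨8, [.a3], [.a3]⟩,
  ⟨16, [.a4, .a7], [.a4, .a5, .a6, .a7, .a8]⟩,
  ⟨32, [.a5], [.a5]⟩,
  ⟨64, [.a6], [.a6]⟩,
  ⟨256, [.a8], [.a8]⟩,
  ⟨512, [.a9], [.a9]⟩,
  ⟨2048, [.a11], [.a11]⟩]
theorem bad886 (c : CtxF Goal γ) : Bad Goal γ [] P886 :=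
  c.toCtx.bnd (B := B886) (D := D886) (I := [5, 6, 4, 0, 2, 1]) (r := 2) (C := C886) (N := N886) (by decide +kernel) (by decide +kernel) (by decide +kernel) (by decide +kernel)
    (allB_cons (bad335 c) (allB_cons (bad415 c) (allB_cons (bad415 c) (allB_nil))))

def P887 : List Ent := [⟨1, [.a0], [.a0]⟩,
  ⟨4, [.a2, .a4, .a7, .a9, .a11], [.a2, .a4, .a5, .a7, .a8, .a9, .a11]⟩,
  ⟨8, [.a3, .a11], [.a3, .a8, .a11]⟩,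
  ⟨32, [.a5], [.a5]⟩,
  ⟨64, [.a6], [.a6]⟩,
  ⟨256, [.a8], [.a8]⟩]
def B887 : List Gv := [⟨[.a0], [.a0]⟩, ⟨[.a2, .a4, .a7, .a9, .a11], [.a2, .a4, .a5, .a7, .a8, .a9, .a11]⟩]
def D887 : List Dv := [⟨[.a3, .a6, .a11], [1, 1, 0], [0, 1]⟩,
  ⟨[.a5, .a8], [2, 2], []⟩,
  ⟨[.a6], [0, 1, 3, 1, 2], [2, 1]⟩,
  ⟨[.a8], [2, 2], []⟩,
  ⟨[.a5], [2], [0]⟩,
  ⟨[.a3, .a11], [4], [2]⟩]
def C887 : List Ch := [⟨P333, 0, [.a1], [.a1, .a2]⟩,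
  ⟨P414, 1, [], []⟩,
  ⟨P415, 0, [.a9], [.a9]⟩]
def N887 : List Ent := [⟨1, [.a0], [.a0]⟩,
  ⟨4, [.a2, .a4, .a7, .a9, .a11], [.a2, .a4, .a5, .a7, .a8, .a9, .a11]⟩,
  ⟨8, [.a3, .a11], [.a3, .a8, .a11]⟩,
  ⟨16, [.a4, .a7, .a9], [.a4, .a5, .a6, .a7, .a9]⟩,
  ⟨32, [.a5], [.a5]⟩,
  ⟨64, [.a6], [.a6]⟩,
  ⟨256, [.a8], [.a8]⟩,
  ⟨2048, [.a11], [.a11]⟩]
theorem bad887 (c : CtxF Goal γ) : Bad Goal γ [] P887 :=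
  c.toCtx.bnd (B := B887) (D := D887) (I := [6, 7, 0, 1, 3, 2]) (r := 2) (C := C887) (N := N887) (by decide +kernel) (by decide +kernel) (by decide +kernel) (by decide +kernel)
    (allB_cons (bad333 c) (allB_cons (bad414 c) (allB_cons (bad415 c) (allB_nil))))

def P888 : List Ent := [⟨1, [.a0, .a4, .a7], [.a0, .a3, .a4, .a6, .a7, .a8]⟩,
  ⟨4, [.a2, .a4, .a7, .a9], [.a2, .a4, .a6, .a7, .a9]⟩,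
  ⟨8, [.a3], [.a3]⟩,
  ⟨32, [.a5], [.a5]⟩,
  ⟨64, [.a6], [.a6]⟩,
  ⟨256, [.a8], [.a8]⟩]
def B888 : List Gv := [⟨[.a0, .a4, .a7], [.a0, .a3, .a4, .a6, .a7, .a8]⟩, ⟨[.a2, .a4, .a7, .a9], [.a2, .a4, .a6, .a7, .a9]⟩]
def D888 : List Dv := [⟨[.a3, .a5, .a6, .a8], [0, 0], []⟩,
  ⟨[.a6, .a8], [2, 1], [1, 2]⟩,
  ⟨[.a8], [0, 3, 3], []⟩,
  ⟨[.a5], [2, 4], [4, 2]⟩,
  ⟨[.a6], [2], [1]⟩,
  ⟨[.a3], [4], [1, 0, 2]⟩]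
theorem bad888 (c : CtxF Goal γ) : Bad Goal γ [] P888 :=
  c.toCtx.cent (B := B888) (D := D888) (I := [6, 7, 0, 2, 1, 3]) (z := [.a2, .a3, .a8]) (by decide +kernel) (by decide +kernel)

def P889 : List Ent := [⟨1, [.a0], [.a0]⟩,
  ⟨8, [.a3], [.a3]⟩,
  ⟨16, [.a4, .a7], [.a4, .a5, .a6, .a7, .a8]⟩,
  ⟨32, [.a5], [.a5]⟩,
  ⟨64, [.a6], [.a6]⟩,
  ⟨256, [.a8], [.a8]⟩]
def B889 : List Gv := [⟨[.a0], [.a0]⟩, ⟨[.a4, .a7], [.a4, .a5, .a6, .a7, .a8]⟩, ⟨[.a6], [.a6]⟩]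
def D889 : List Dv := [⟨[.a3], [1, 0], [0, 1]⟩,
  ⟨[.a5, .a6, .a8], [2, 2], []⟩,
  ⟨[.a8], [4, 0, 1, 3], [3, 1]⟩,
  ⟨[.a5], [1], [5, 0]⟩]
theorem bad889 (c : CtxF Goal γ) : Bad Goal γ [] P889 :=
  c.toCtx.cent (B := B889) (D := D889) (I := [4, 3, 5, 0, 6, 1]) (z := [.a2]) (by decide +kernel) (by decide +kernel)

def P890 : List Ent := [⟨1, [.a0], [.a0]⟩,
  ⟨4, [.a2, .a9], [.a2, .a5, .a9]⟩,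
  ⟨8, [.a3], [.a3]⟩,
  ⟨32, [.a5], [.a5]⟩,
  ⟨64, [.a6], [.a6]⟩,
  ⟨256, [.a8], [.a8]⟩]
def B890 : List Gv := [⟨[.a0], [.a0]⟩, ⟨[.a2, .a9], [.a2, .a5, .a9]⟩, ⟨[.a3], [.a3]⟩, ⟨[.a8], [.a8]⟩]
def D890 : List Dv := [⟨[.a6], [2, 1, 0], [0, 1]⟩,
  ⟨[.a5], [2, 2], []⟩]
def C890 : List Ch := [⟨P278, 0, [], []⟩,
  ⟨P416, 1, [], []⟩,
  ⟨P417, 0, [], []⟩,
  ⟨P418, 2, [], []⟩,
  ⟨P418, 0, [.a4, .a6, .a7], [.a4, .a5, .a7, .a8]⟩,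
  ⟨P418, 1, [.a1], [.a1, .a2]⟩,
  ⟨P418, 0, [.a1, .a3, .a4, .a5, .a6, .a7], [.a1, .a2, .a4, .a5, .a7, .a8]⟩,
  ⟨P419, 3, [], []⟩,
  ⟨P420, 0, [], []⟩,
  ⟨P419, 1, [.a1], [.a1, .a2]⟩,
  ⟨P420, 0, [.a1], [.a1, .a2]⟩,
  ⟨P421, 2, [], []⟩,
  ⟨P422, 0, [], []⟩,
  ⟨P422, 1, [.a4, .a6, .a7], [.a4, .a5, .a7, .a8]⟩,
  ⟨P421, 0, [.a4, .a6, .a7], [.a4, .a5, .a7, .a8]⟩]
def N890 : List Ent := [⟨1, [.a0], [.a0]⟩,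
  ⟨2, [.a1], [.a1, .a2]⟩,
  ⟨4, [.a2, .a9], [.a2, .a5, .a9]⟩,
  ⟨8, [.a3], [.a3]⟩,
  ⟨16, [.a4, .a7], [.a4, .a5, .a6, .a7, .a8]⟩,
  ⟨32, [.a5], [.a5]⟩,
  ⟨64, [.a6], [.a6]⟩,
  ⟨256, [.a8], [.a8]⟩,
  ⟨512, [.a9], [.a9]⟩]
theorem bad890 (c : CtxF Goal γ) : Bad Goal γ [] P890 :=
  c.toCtx.bnd (B := B890) (D := D890) (I := [2, 3, 4, 0, 1, 5]) (r := 4) (C := C890) (N := N890) (by decide +kernel) (by decide +kernel) (by decide +kernel) (by decide +kernel)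
    (allB_cons (bad278 c) (allB_cons (bad416 c) (allB_cons (bad417 c) (allB_cons (bad418 c) (allB_cons (bad418 c) (allB_cons (bad418 c) (allB_cons (bad418 c) (allB_cons (bad419 c) (allB_cons (bad420 c) (allB_cons (bad419 c) (allB_cons (bad420 c) (allB_cons (bad421 c) (allB_cons (bad422 c) (allB_cons (bad422 c) (allB_cons (bad421 c) (allB_nil))))))))))))))))

def P891 : List Ent := [⟨1, [.a0], [.a0]⟩,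
  ⟨4, [.a2, .a9, .a11], [.a2, .a6, .a8, .a9, .a11]⟩,
  ⟨16, [.a4, .a7, .a11], [.a4, .a5, .a6, .a7, .a8, .a11]⟩,
  ⟨32, [.a5], [.a5]⟩,
  ⟨64, [.a6], [.a6]⟩,
  ⟨256, [.a8], [.a8]⟩]
def B891 : List Gv := [⟨[.a0], [.a0]⟩, ⟨[.a2, .a9, .a11], [.a2, .a6, .a8, .a9, .a11]⟩]
def D891 : List Dv := [⟨[.a4, .a5, .a7, .a8, .a11], [1, 1, 0], [0, 1]⟩,
  ⟨[.a6, .a8], [2, 2], []⟩,
  ⟨[.a5, .a8], [1, 3, 1, 2], [2, 1]⟩,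
  ⟨[.a8], [1, 0, 2, 2], []⟩,
  ⟨[.a6], [2], [0]⟩,
  ⟨[.a5], [2], [1]⟩,
  ⟨[.a4, .a7, .a11], [5], [0, 2]⟩]
def C891 : List Ch := [⟨P371, 0, [], []⟩,
  ⟨P414, 1, [.a1], [.a1, .a2]⟩,
  ⟨P415, 0, [.a1, .a3, .a4], [.a1, .a2, .a4, .a5]⟩]
def N891 : List Ent := [⟨1, [.a0], [.a0]⟩,
  ⟨4, [.a2, .a9, .a11], [.a2, .a6, .a8, .a9, .a11]⟩,
  ⟨8, [.a3], [.a3]⟩,
  ⟨16, [.a4, .a7, .a11], [.a4, .a5, .a6, .a7, .a8, .a11]⟩,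
  ⟨32, [.a5], [.a5]⟩,
  ⟨64, [.a6], [.a6]⟩,
  ⟨256, [.a8], [.a8]⟩,
  ⟨512, [.a9, .a11], [.a9, .a11]⟩]
theorem bad891 (c : CtxF Goal γ) : Bad Goal γ [] P891 :=
  c.toCtx.bnd (B := B891) (D := D891) (I := [7, 8, 0, 1, 2, 3]) (r := 2) (C := C891) (N := N891) (by decide +kernel) (by decide +kernel) (by decide +kernel) (by decide +kernel)
    (allB_cons (bad371 c) (allB_cons (bad414 c) (allB_cons (bad415 c) (allB_nil))))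

def P892 : List Ent := [⟨1, [.a0], [.a0]⟩,
  ⟨4, [.a2, .a4, .a7, .a9], [.a2, .a4, .a6, .a7, .a9]⟩,
  ⟨8, [.a3, .a4, .a7, .a11], [.a3, .a4, .a6, .a7, .a11]⟩,
  ⟨32, [.a5], [.a5]⟩,
  ⟨64, [.a6], [.a6]⟩,
  ⟨256, [.a8], [.a8]⟩]
def B892 : List Gv := [⟨[.a0], [.a0]⟩, ⟨[.a2, .a4, .a7, .a9], [.a2, .a4, .a6, .a7, .a9]⟩, ⟨[.a3, .a4, .a7, .a11], [.a3, .a4, .a6, .a7, .a11]⟩]
def D892 : List Dv := [⟨[.a5, .a6], [1, 0], [0, 1]⟩,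
  ⟨[.a6], [2, 2], []⟩,
  ⟨[.a8], [1, 3, 4, 2], [2, 4]⟩,
  ⟨[.a5], [2], [1]⟩]
def C892 : List Ch := [⟨P369, 0, [.a0, .a1, .a3, .a5, .a6, .a7, .a8, .a9, .a10], [.a0, .a10, .a11]⟩,
  ⟨P423, 1, [], []⟩,
  ⟨P424, 0, [], []⟩,
  ⟨P414, 2, [.a1], [.a1, .a2]⟩,
  ⟨P415, 0, [.a1, .a7], [.a1, .a2, .a7, .a8]⟩,
  ⟨P423, 1, [.a3], [.a3]⟩,
  ⟨P424, 0, [.a3], [.a3]⟩]
def N892 : List Ent := [⟨1, [.a0], [.a0]⟩,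
  ⟨4, [.a2, .a4, .a7, .a9], [.a2, .a4, .a6, .a7, .a9]⟩,
  ⟨8, [.a3, .a4, .a7, .a11], [.a3, .a4, .a6, .a7, .a11]⟩,
  ⟨16, [.a4, .a7, .a11], [.a4, .a5, .a6, .a7, .a8, .a11]⟩,
  ⟨32, [.a5], [.a5]⟩,
  ⟨64, [.a6], [.a6]⟩,
  ⟨256, [.a8], [.a8]⟩,
  ⟨512, [.a9, .a11], [.a9, .a11]⟩]
theorem bad892 (c : CtxF Goal γ) : Bad Goal γ [] P892 :=
  c.toCtx.bnd (B := B892) (D := D892) (I := [4, 5, 6, 0, 2, 1]) (r := 3) (C := C892) (N := N892) (by decide +kernel) (by decide +kernel) (by decide +kernel) (by decide +kernel)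
    (allB_cons (bad369 c) (allB_cons (bad423 c) (allB_cons (bad424 c) (allB_cons (bad414 c) (allB_cons (bad415 c) (allB_cons (bad423 c) (allB_cons (bad424 c) (allB_nil))))))))

def P893 : List Ent := [⟨1, [.a0], [.a0]⟩,
  ⟨4, [.a2], [.a2]⟩,
  ⟨8, [.a3, .a4, .a7, .a9], [.a3, .a4, .a6, .a7, .a9]⟩,
  ⟨32, [.a5], [.a5]⟩,
  ⟨64, [.a6], [.a6]⟩,
  ⟨256, [.a8], [.a8]⟩]
def B893 : List Gv := [⟨[.a0], [.a0]⟩, ⟨[.a2], [.a2]⟩, ⟨[.a3, .a4, .a7, .a9], [.a3, .a4, .a6, .a7, .a9]⟩, ⟨[.a8], [.a8]⟩]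
def D893 : List Dv := [⟨[.a5, .a6], [2, 0], [0, 2]⟩,
  ⟨[.a6], [0, 3, 2], [2, 3]⟩,
  ⟨[.a5], [1], [0]⟩]
theorem bad893 (c : CtxF Goal γ) : Bad Goal γ [] P893 :=
  c.toCtx.cent (B := B893) (D := D893) (I := [3, 4, 5, 0, 1, 6]) (z := [.a2, .a3]) (by decide +kernel) (by decide +kernel)

def P894 : List Ent := [⟨1, [.a0, .a11], [.a0, .a2, .a3, .a4, .a5, .a6, .a7, .a9, .a11]⟩,
  ⟨4, [.a2], [.a2]⟩,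
  ⟨8, [.a3, .a4, .a7, .a9], [.a3, .a4, .a6, .a7, .a9]⟩,
  ⟨32, [.a5], [.a5]⟩,
  ⟨64, [.a6], [.a6]⟩,
  ⟨256, [.a8], [.a8]⟩]
def B894 : List Gv := [⟨[.a0, .a11], [.a0, .a2, .a3, .a4, .a5, .a6, .a7, .a9, .a11]⟩, ⟨[.a2], [.a2]⟩]
def D894 : List Dv := [⟨[.a3, .a4, .a5, .a6, .a7, .a9], [1, 0, 0], []⟩,
  ⟨[.a6, .a8], [2, 1], [1, 2]⟩,
  ⟨[.a5], [1, 3], [3, 1]⟩,
  ⟨[.a8], [1, 2, 2], []⟩,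
  ⟨[.a6], [2], [0]⟩,
  ⟨[.a3, .a4, .a7, .a9], [4], [2, 0]⟩]
def C894 : List Ch := [⟨P372, 0, [.a1], [.a1, .a2]⟩,
  ⟨P415, 1, [], []⟩,
  ⟨P415, 0, [.a4], [.a4, .a5]⟩]
def N894 : List Ent := [⟨1, [.a0, .a11], [.a0, .a2, .a3, .a4, .a5, .a6, .a7, .a9, .a11]⟩,
  ⟨4, [.a2], [.a2]⟩,
  ⟨8, [.a3, .a4, .a7, .a9], [.a3, .a4, .a6, .a7, .a9]⟩,
  ⟨16, [.a4], [.a4, .a5]⟩,
  ⟨32, [.a5], [.a5]⟩,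
  ⟨64, [.a6], [.a6]⟩,
  ⟨128, [.a7, .a9], [.a7, .a8, .a9]⟩,
  ⟨256, [.a8], [.a8]⟩,
  ⟨2048, [.a11], [.a11]⟩]
theorem bad894 (c : CtxF Goal γ) : Bad Goal γ [] P894 :=
  c.toCtx.bnd (B := B894) (D := D894) (I := [6, 7, 0, 3, 1, 2]) (r := 2) (C := C894) (N := N894) (by decide +kernel) (by decide +kernel) (by decide +kernel) (by decide +kernel)
    (allB_cons (bad372 c) (allB_cons (bad415 c) (allB_cons (bad415 c) (allB_nil))))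

def P895 : List Ent := [⟨1, [.a0], [.a0]⟩,
  ⟨4, [.a2, .a3], [.a2, .a3]⟩,
  ⟨16, [.a4, .a7, .a9], [.a4, .a5, .a6, .a7, .a9]⟩,
  ⟨32, [.a5], [.a5]⟩,
  ⟨64, [.a6], [.a6]⟩,
  ⟨2048, [.a11], [.a11]⟩]
def B895 : List Gv := [⟨[.a0], [.a0]⟩, ⟨[.a2, .a3], [.a2, .a3]⟩, ⟨[.a5], [.a5]⟩, ⟨[.a11], [.a11]⟩]
def D895 : List Dv := [⟨[.a4, .a7, .a9], [1, 3, 0], [0, 3]⟩,
  ⟨[.a6], [3, 4, 2], [2, 4]⟩]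
def C895 : List Ch := [⟨P367, 0, [.a10], [.a10, .a11]⟩,
  ⟨P412, 1, [], []⟩,
  ⟨P412, 0, [.a7], [.a7, .a8]⟩,
  ⟨P425, 2, [], []⟩,
  ⟨P425, 0, [.a8], [.a8]⟩,
  ⟨P425, 1, [.a4, .a9], [.a4, .a5, .a8, .a9]⟩,
  ⟨P425, 0, [.a7], [.a7, .a8]⟩,
  ⟨P426, 3, [], []⟩,
  ⟨P427, 0, [], []⟩,
  ⟨P423, 1, [.a1], [.a1, .a2]⟩,
  ⟨P423, 0, [.a1, .a7], [.a1, .a2, .a7, .a8]⟩,
  ⟨P428, 2, [], []⟩,
  ⟨P428, 0, [.a8], [.a8]⟩,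
  ⟨P428, 1, [.a4, .a9], [.a4, .a5, .a8, .a9]⟩,
  ⟨P428, 0, [.a7], [.a7, .a8]⟩]
def S895 : List St := [.cent 1 1 0 [⟨32, [.a5], [.a5]⟩,
  ⟨64, [.a6], [.a6]⟩]]
theorem bad895 (c : CtxF Goal γ) : Bad Goal γ [] P895 :=
  c.toCtx.chn (B := B895) (D := D895) (I := [2, 3, 1, 4, 0, 5]) (r := 4) (C := C895) (l := S895) (x := ⟨[.a8], [.a8]⟩) (ix := [0]) (by decide +kernel) (by decide +kernel) (by decide +kernel) (by decide +kernel)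
    (allB_cons (bad367 c) (allB_cons (bad412 c) (allB_cons (bad412 c) (allB_cons (bad425 c) (allB_cons (bad425 c) (allB_cons (bad425 c) (allB_cons (bad425 c) (allB_cons (bad426 c) (allB_cons (bad427 c) (allB_cons (bad423 c) (allB_cons (bad423 c) (allB_cons (bad428 c) (allB_cons (bad428 c) (allB_cons (bad428 c) (allB_cons (bad428 c) (allB_nil))))))))))))))))

def P896 : List Ent := [⟨1, [.a0, .a8], [.a0, .a5, .a8]⟩,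
  ⟨4, [.a2, .a3], [.a2, .a3]⟩,
  ⟨16, [.a4, .a7, .a9], [.a4, .a5, .a6, .a7, .a9]⟩,
  ⟨32, [.a5], [.a5]⟩,
  ⟨64, [.a6], [.a6]⟩,
  ⟨2048, [.a11], [.a11]⟩]
def B896 : List Gv := [⟨[.a0, .a8], [.a0, .a5, .a8]⟩, ⟨[.a2, .a3], [.a2, .a3]⟩, ⟨[.a11], [.a11]⟩]
def D896 : List Dv := [⟨[.a5], [0, 0], []⟩,
  ⟨[.a4, .a7, .a9], [2, 3, 1], [1, 3]⟩,
  ⟨[.a6], [1, 4, 3], [3, 4]⟩]
def C896 : List Ch := [⟨P367, 0, [.a10], [.a10, .a11]⟩,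
  ⟨P413, 1, [], []⟩,
  ⟨P413, 0, [.a7], [.a7, .a8]⟩,
  ⟨P429, 2, [], []⟩,
  ⟨P427, 0, [.a3], [.a3]⟩,
  ⟨P424, 1, [.a1], [.a1, .a2]⟩,
  ⟨P424, 0, [.a1, .a7], [.a1, .a2, .a7, .a8]⟩]
def N896 : List Ent := [⟨1, [.a0, .a8], [.a0, .a5, .a8]⟩,
  ⟨4, [.a2, .a3], [.a2, .a3]⟩,
  ⟨16, [.a4, .a7, .a9], [.a4, .a5, .a6, .a7, .a9]⟩,
  ⟨32, [.a5], [.a5]⟩,
  ⟨64, [.a6], [.a6]⟩,
  ⟨128, [.a7], [.a7, .a8]⟩,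
  ⟨256, [.a8], [.a8]⟩,
  ⟨2048, [.a11], [.a11]⟩]
theorem bad896 (c : CtxF Goal γ) : Bad Goal γ [] P896 :=
  c.toCtx.bnd (B := B896) (D := D896) (I := [3, 4, 1, 2, 0, 5]) (r := 3) (C := C896) (N := N896) (by decide +kernel) (by decide +kernel) (by decide +kernel) (by decide +kernel)
    (allB_cons (bad367 c) (allB_cons (bad413 c) (allB_cons (bad413 c) (allB_cons (bad429 c) (allB_cons (bad427 c) (allB_cons (bad424 c) (allB_cons (bad424 c) (allB_nil))))))))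

def P897 : List Ent := [⟨1, [.a0], [.a0]⟩,
  ⟨4, [.a2, .a3, .a8], [.a2, .a3, .a8]⟩,
  ⟨16, [.a4, .a7, .a8, .a9], [.a4, .a5, .a6, .a7, .a8, .a9]⟩,
  ⟨32, [.a5], [.a5]⟩,
  ⟨64, [.a6], [.a6]⟩,
  ⟨2048, [.a11], [.a11]⟩]
def B897 : List Gv := [⟨[.a0], [.a0]⟩, ⟨[.a2, .a3, .a8], [.a2, .a3, .a8]⟩, ⟨[.a11], [.a11]⟩]
def D897 : List Dv := [⟨[.a5], [1, 0], [0, 1]⟩,
  ⟨[.a4, .a7, .a8, .a9], [2, 3, 1], [1, 3]⟩,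
  ⟨[.a6], [1, 4, 3], [3, 4]⟩]
def C897 : List Ch := [⟨P366, 0, [.a4, .a10], [.a4, .a5, .a10, .a11]⟩,
  ⟨P412, 1, [], []⟩,
  ⟨P413, 0, [.a7], [.a7, .a8]⟩,
  ⟨P430, 2, [], []⟩,
  ⟨P431, 0, [], []⟩,
  ⟨P423, 1, [.a1, .a3], [.a1, .a2, .a3]⟩,
  ⟨P424, 0, [.a0, .a1, .a3, .a5, .a6, .a7, .a8, .a9, .a11], [.a0, .a1, .a2, .a3, .a4, .a6, .a8, .a9, .a11]⟩]
def S897 : List St := [.cent 1 1 0 [⟨32, [.a5], [.a5]⟩,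
  ⟨64, [.a6], [.a6]⟩]]
theorem bad897 (c : CtxF Goal γ) : Bad Goal γ [] P897 :=
  c.toCtx.chn (B := B897) (D := D897) (I := [3, 4, 1, 2, 0, 5]) (r := 3) (C := C897) (l := S897) (x := ⟨[.a8], [.a8]⟩) (ix := [0]) (by decide +kernel) (by decide +kernel) (by decide +kernel) (by decide +kernel)
    (allB_cons (bad366 c) (allB_cons (bad412 c) (allB_cons (bad413 c) (allB_cons (bad430 c) (allB_cons (bad431 c) (allB_cons (bad423 c) (allB_cons (bad424 c) (allB_nil))))))))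

def P898 : List Ent := [⟨1, [.a0], [.a0]⟩,
  ⟨4, [.a2, .a3], [.a2, .a3]⟩,
  ⟨16, [.a4, .a7, .a9], [.a4, .a5, .a6, .a7, .a9]⟩,
  ⟨32, [.a5], [.a5]⟩,
  ⟨64, [.a6], [.a6]⟩,
  ⟨256, [.a8], [.a8]⟩]
def B898 : List Gv := [⟨[.a0], [.a0]⟩, ⟨[.a2, .a3], [.a2, .a3]⟩, ⟨[.a4, .a7, .a9], [.a4, .a5, .a6, .a7, .a9]⟩, ⟨[.a8], [.a8]⟩]
def D898 : List Dv := [⟨[.a5, .a6], [2, 0], [0, 2]⟩,
  ⟨[.a6], [0, 4, 1], [1, 4]⟩,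
  ⟨[.a5], [1], [0]⟩]
def C898 : List Ch := [⟨P368, 0, [.a10], [.a10, .a11]⟩,
  ⟨P432, 1, [], []⟩,
  ⟨P432, 0, [.a7], [.a7, .a8]⟩,
  ⟨P433, 2, [], []⟩,
  ⟨P433, 0, [.a11], [.a11]⟩,
  ⟨P414, 1, [], []⟩,
  ⟨P414, 0, [.a7], [.a7, .a8]⟩,
  ⟨P426, 3, [], []⟩,
  ⟨P429, 0, [], []⟩,
  ⟨P434, 1, [], []⟩,
  ⟨P434, 0, [.a7], [.a7, .a8]⟩,
  ⟨P435, 2, [], []⟩,
  ⟨P435, 0, [.a11], [.a11]⟩,
  ⟨P430, 1, [], []⟩,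
  ⟨P430, 0, [.a7], [.a7, .a8]⟩]
def N898 : List Ent := [⟨1, [.a0], [.a0]⟩,
  ⟨4, [.a2, .a3], [.a2, .a3]⟩,
  ⟨8, [.a3], [.a3]⟩,
  ⟨16, [.a4, .a7, .a9], [.a4, .a5, .a6, .a7, .a9]⟩,
  ⟨32, [.a5], [.a5]⟩,
  ⟨64, [.a6], [.a6]⟩,
  ⟨128, [.a7], [.a7, .a8]⟩,
  ⟨256, [.a8], [.a8]⟩,
  ⟨2048, [.a11], [.a11]⟩]
theorem bad898 (c : CtxF Goal γ) : Bad Goal γ [] P898 :=
  c.toCtx.bnd (B := B898) (D := D898) (I := [3, 4, 5, 0, 1, 6]) (r := 4) (C := C898) (N := N898) (by decide +kernel) (by decide +kernel) (by decide +kernel) (by decide +kernel)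
    (allB_cons (bad368 c) (allB_cons (bad432 c) (allB_cons (bad432 c) (allB_cons (bad433 c) (allB_cons (bad433 c) (allB_cons (bad414 c) (allB_cons (bad414 c) (allB_cons (bad426 c) (allB_cons (bad429 c) (allB_cons (bad434 c) (allB_cons (bad434 c) (allB_cons (bad435 c) (allB_cons (bad435 c) (allB_cons (bad430 c) (allB_cons (bad430 c) (allB_nil))))))))))))))))

def P899 : List Ent := [⟨1, [.a0, .a11], [.a0, .a2, .a3, .a4, .a5, .a6, .a7, .a9, .a11]⟩,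
  ⟨4, [.a2, .a3], [.a2, .a3]⟩,
  ⟨16, [.a4, .a7, .a9], [.a4, .a5, .a6, .a7, .a9]⟩,
  ⟨32, [.a5], [.a5]⟩,
  ⟨64, [.a6], [.a6]⟩,
  ⟨256, [.a8], [.a8]⟩]
def B899 : List Gv := [⟨[.a0, .a11], [.a0, .a2, .a3, .a4, .a5, .a6, .a7, .a9, .a11]⟩, ⟨[.a2, .a3], [.a2, .a3]⟩, ⟨[.a8], [.a8]⟩]
def D899 : List Dv := [⟨[.a4, .a5, .a6, .a7, .a9], [1, 0, 0], []⟩,
  ⟨[.a5, .a6], [2, 1], [1, 2]⟩,
  ⟨[.a6], [0, 4, 2], [2, 4]⟩,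
  ⟨[.a5], [1], [0]⟩,
  ⟨[.a4, .a7, .a9], [3], [0, 1]⟩]
def C899 : List Ch := [⟨P368, 0, [.a10], [.a10, .a11]⟩,
  ⟨P415, 1, [], []⟩,
  ⟨P415, 0, [.a7], [.a7, .a8]⟩,
  ⟨P427, 2, [], []⟩,
  ⟨P427, 0, [.a3], [.a3]⟩,
  ⟨P431, 1, [], []⟩,
  ⟨P431, 0, [.a7], [.a7, .a8]⟩]
def N899 : List Ent := [⟨1, [.a0, .a11], [.a0, .a2, .a3, .a4, .a5, .a6, .a7, .a9, .a11]⟩,
  ⟨4, [.a2, .a3], [.a2, .a3]⟩,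
  ⟨8, [.a3], [.a3]⟩,
  ⟨16, [.a4, .a7, .a9], [.a4, .a5, .a6, .a7, .a9]⟩,
  ⟨32, [.a5], [.a5]⟩,
  ⟨64, [.a6], [.a6]⟩,
  ⟨128, [.a7], [.a7, .a8]⟩,
  ⟨256, [.a8], [.a8]⟩,
  ⟨2048, [.a11], [.a11]⟩]
theorem bad899 (c : CtxF Goal γ) : Bad Goal γ [] P899 :=
  c.toCtx.bnd (B := B899) (D := D899) (I := [5, 6, 0, 1, 2, 7]) (r := 3) (C := C899) (N := N899) (by decide +kernel) (by decide +kernel) (by decide +kernel) (by decide +kernel)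
    (allB_cons (bad368 c) (allB_cons (bad415 c) (allB_cons (bad415 c) (allB_cons (bad427 c) (allB_cons (bad427 c) (allB_cons (bad431 c) (allB_cons (bad431 c) (allB_nil))))))))

def P900 : List Ent := [⟨1, [.a0], [.a0]⟩,
  ⟨8, [.a3], [.a3]⟩,
  ⟨16, [.a4, .a7, .a9], [.a4, .a5, .a6, .a7, .a9]⟩,
  ⟨32, [.a5], [.a5]⟩,
  ⟨64, [.a6], [.a6]⟩,
  ⟨256, [.a8], [.a8]⟩]
def B900 : List Gv := [⟨[.a0], [.a0]⟩, ⟨[.a3], [.a3]⟩, ⟨[.a4, .a7, .a9], [.a4, .a5, .a6, .a7, .a9]⟩, ⟨[.a8], [.a8]⟩]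
def D900 : List Dv := [⟨[.a5, .a6], [2, 0], [0, 2]⟩,
  ⟨[.a6], [0, 3, 2], [2, 3]⟩,
  ⟨[.a5], [1], [0]⟩]
theorem bad900 (c : CtxF Goal γ) : Bad Goal γ [] P900 :=
  c.toCtx.cent (B := B900) (D := D900) (I := [3, 4, 5, 0, 1, 6]) (z := [.a2, .a3]) (by decide +kernel) (by decide +kernel)

def P901 : List Ent := [⟨1, [.a0], [.a0]⟩,
  ⟨4, [.a2], [.a2]⟩,
  ⟨8, [.a3], [.a3]⟩,
  ⟨32, [.a5], [.a5]⟩,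
  ⟨64, [.a6], [.a6]⟩,
  ⟨256, [.a8], [.a8]⟩]
def B901 : List Gv := [⟨[.a0], [.a0]⟩, ⟨[.a2], [.a2]⟩, ⟨[.a3], [.a3]⟩, ⟨[.a6], [.a6]⟩, ⟨[.a8], [.a8]⟩]
def D901 : List Dv := [⟨[.a5], [4, 0], [0, 4]⟩]
def C901 : List Ch := [⟨P286, 0, [], []⟩,
  ⟨P416, 1, [], []⟩,
  ⟨P416, 0, [.a4], [.a4, .a5]⟩,
  ⟨P436, 2, [], []⟩,
  ⟨P436, 0, [.a7], [.a7, .a8]⟩,
  ⟨P433, 1, [], []⟩,
  ⟨P433, 0, [.a4], [.a4, .a5]⟩,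
  ⟨P437, 3, [], []⟩,
  ⟨P437, 0, [.a9], [.a9]⟩,
  ⟨P438, 1, [], []⟩,
  ⟨P438, 0, [.a4], [.a4, .a5]⟩,
  ⟨P439, 2, [], []⟩,
  ⟨P439, 0, [.a7], [.a7, .a8]⟩,
  ⟨P440, 1, [], []⟩,
  ⟨P440, 0, [.a4], [.a4, .a5]⟩,
  ⟨P441, 4, [], []⟩,
  ⟨P442, 0, [], []⟩,
  ⟨P443, 1, [], []⟩,
  ⟨P443, 0, [.a4], [.a4, .a5]⟩,
  ⟨P444, 2, [], []⟩,
  ⟨P444, 0, [.a7], [.a7, .a8]⟩,
  ⟨P445, 1, [], []⟩,
  ⟨P445, 0, [.a4], [.a4, .a5]⟩,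
  ⟨P446, 3, [], []⟩,
  ⟨P446, 0, [.a9], [.a9]⟩,
  ⟨P447, 1, [], []⟩,
  ⟨P447, 0, [.a4], [.a4, .a5]⟩,
  ⟨P448, 2, [], []⟩,
  ⟨P448, 0, [.a7], [.a7, .a8]⟩,
  ⟨P449, 1, [], []⟩,
  ⟨P449, 0, [.a4], [.a4, .a5]⟩]
def N901 : List Ent := [⟨1, [.a0], [.a0]⟩,
  ⟨2, [.a1], [.a1, .a2]⟩,
  ⟨4, [.a2], [.a2]⟩,
  ⟨8, [.a3], [.a3]⟩,
  ⟨16, [.a4], [.a4, .a5]⟩,
  ⟨32, [.a5], [.a5]⟩,
  ⟨64, [.a6], [.a6]⟩,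
  ⟨128, [.a7], [.a7, .a8]⟩,
  ⟨256, [.a8], [.a8]⟩,
  ⟨512, [.a9], [.a9]⟩]
theorem bad901 (c : CtxF Goal γ) : Bad Goal γ [] P901 :=
  c.toCtx.bnd (B := B901) (D := D901) (I := [1, 2, 3, 0, 4, 5]) (r := 5) (C := C901) (N := N901) (by decide +kernel) (by decide +kernel) (by decide +kernel) (by decide +kernel)
    (allB_cons (bad286 c) (allB_cons (bad416 c) (allB_cons (bad416 c) (allB_cons (bad436 c) (allB_cons (bad436 c) (allB_cons (bad433 c) (allB_cons (bad433 c) (allB_cons (bad437 c) (allB_cons (bad437 c) (allB_cons (bad438 c) (allB_cons (bad438 c) (allB_cons (bad439 c) (allB_cons (bad439 c) (allB_cons (bad440 c) (allB_cons (bad440 c) (allB_cons (bad441 c) (allB_cons (bad442 c) (allB_cons (bad443 c) (allB_cons (bad443 c) (allB_cons (bad444 c) (allB_cons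 (bad444 c) (allB_cons (bad445 c) (allB_cons (bad445 c) (allB_cons (bad446 c) (allB_cons (bad446 c) (allB_cons (bad447 c) (allB_cons (bad447 c) (allB_cons (bad448 c) (allB_cons (bad448 c) (allB_cons (bad449 c) (allB_cons (bad449 c) (allB_nil))))))))))))))))))))))))))))))))

def P902 : List Ent := [⟨1, [.a0], [.a0]⟩,
  ⟨4, [.a2], [.a2]⟩,
  ⟨8, [.a3], [.a3]⟩,
  ⟨16, [.a4, .a7, .a9], [.a4, .a5, .a6, .a7, .a9]⟩,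
  ⟨32, [.a5], [.a5]⟩,
  ⟨64, [.a6], [.a6]⟩]
def B902 : List Gv := [⟨[.a0], [.a0]⟩, ⟨[.a2], [.a2]⟩, ⟨[.a3], [.a3]⟩, ⟨[.a4, .a7, .a9], [.a4, .a5, .a6, .a7, .a9]⟩]
def D902 : List Dv := [⟨[.a5, .a6], [3, 0], [0, 3]⟩,
  ⟨[.a6], [0, 4, 2], [2, 4]⟩,
  ⟨[.a5], [1], [0]⟩]
def C902 : List Ch := [⟨P375, 0, [.a10], [.a10, .a11]⟩,
  ⟨P450, 1, [], []⟩,
  ⟨P450, 0, [.a7], [.a7, .a8]⟩,
  ⟨P451, 2, [], []⟩,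
  ⟨P451, 0, [.a7], [.a7, .a8]⟩,
  ⟨P426, 1, [], []⟩,
  ⟨P435, 0, [.a4], [.a4, .a5]⟩,
  ⟨P441, 3, [], []⟩,
  ⟨P445, 0, [.a11], [.a11]⟩,
  ⟨P452, 1, [], []⟩,
  ⟨P452, 0, [.a7], [.a7, .a8]⟩,
  ⟨P451, 2, [.a1, .a3, .a4], [.a1, .a2, .a4, .a5]⟩,
  ⟨P451, 0, [.a1, .a5, .a6, .a8, .a9], [.a1, .a2, .a9]⟩,
  ⟨P435, 1, [.a1], [.a1, .a2]⟩,
  ⟨P426, 0, [.a1, .a3, .a4], [.a1, .a2, .a4, .a5]⟩]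
def N902 : List Ent := [⟨1, [.a0], [.a0]⟩,
  ⟨2, [.a1, .a9], [.a1, .a2, .a6, .a8, .a9]⟩,
  ⟨4, [.a2], [.a2]⟩,
  ⟨8, [.a3], [.a3]⟩,
  ⟨16, [.a4, .a7, .a9], [.a4, .a5, .a6, .a7, .a9]⟩,
  ⟨32, [.a5], [.a5]⟩,
  ⟨64, [.a6], [.a6]⟩,
  ⟨128, [.a7], [.a7, .a8]⟩,
  ⟨256, [.a8], [.a8]⟩]
theorem bad902 (c : CtxF Goal γ) : Bad Goal γ [] P902 :=
  c.toCtx.bnd (B := B902) (D := D902) (I := [3, 4, 5, 6, 0, 1]) (r := 4) (C := C902) (N := N902) (by decide +kernel) (by decide +kernel) (by decide +kernel) (by decide +kernel)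
    (allB_cons (bad375 c) (allB_cons (bad450 c) (allB_cons (bad450 c) (allB_cons (bad451 c) (allB_cons (bad451 c) (allB_cons (bad426 c) (allB_cons (bad435 c) (allB_cons (bad441 c) (allB_cons (bad445 c) (allB_cons (bad452 c) (allB_cons (bad452 c) (allB_cons (bad451 c) (allB_cons (bad451 c) (allB_cons (bad435 c) (allB_cons (bad426 c) (allB_nil))))))))))))))))

def P903 : List Ent := [⟨1, [.a0, .a8], [.a0, .a5, .a8]⟩,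
  ⟨4, [.a2], [.a2]⟩,
  ⟨8, [.a3], [.a3]⟩,
  ⟨16, [.a4, .a7, .a9], [.a4, .a5, .a6, .a7, .a9]⟩,
  ⟨32, [.a5], [.a5]⟩,
  ⟨64, [.a6], [.a6]⟩]
def B903 : List Gv := [⟨[.a0, .a8], [.a0, .a5, .a8]⟩, ⟨[.a2], [.a2]⟩, ⟨[.a3], [.a3]⟩, ⟨[.a4, .a7, .a9], [.a4, .a5, .a6, .a7, .a9]⟩]
def D903 : List Dv := [⟨[.a5], [0, 0], []⟩,
  ⟨[.a6], [0, 4, 1], [1, 4]⟩]
def C903 : List Ch := [⟨P375, 0, [.a10], [.a10, .a11]⟩,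
  ⟨P453, 1, [], []⟩,
  ⟨P453, 0, [.a7], [.a7, .a8]⟩,
  ⟨P454, 2, [], []⟩,
  ⟨P454, 0, [.a7], [.a7, .a8]⟩,
  ⟨P429, 1, [], []⟩,
  ⟨P435, 0, [.a4, .a11], [.a4, .a5, .a11]⟩,
  ⟨P442, 3, [], []⟩,
  ⟨P445, 0, [.a1, .a11], [.a1, .a2, .a5, .a6, .a9, .a11]⟩,
  ⟨P455, 1, [], []⟩,
  ⟨P455, 0, [.a7], [.a7, .a8]⟩,
  ⟨P454, 2, [.a1, .a3, .a4], [.a1, .a2, .a4, .a5]⟩,
  ⟨P454, 0, [.a1, .a5, .a6, .a8, .a9], [.a1, .a2, .a9]⟩,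
  ⟨P435, 1, [.a1, .a11], [.a1, .a2, .a5, .a6, .a9, .a11]⟩,
  ⟨P429, 0, [.a1, .a3, .a4], [.a1, .a2, .a4, .a5]⟩]
def N903 : List Ent := [⟨1, [.a0, .a8], [.a0, .a5, .a8]⟩,
  ⟨2, [.a1, .a9], [.a1, .a2, .a6, .a8, .a9]⟩,
  ⟨4, [.a2], [.a2]⟩,
  ⟨8, [.a3], [.a3]⟩,
  ⟨16, [.a4, .a7, .a9], [.a4, .a5, .a6, .a7, .a9]⟩,
  ⟨32, [.a5], [.a5]⟩,
  ⟨64, [.a6], [.a6]⟩,
  ⟨128, [.a7], [.a7, .a8]⟩,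
  ⟨256, [.a8], [.a8]⟩]
theorem bad903 (c : CtxF Goal γ) : Bad Goal γ [] P903 :=
  c.toCtx.bnd (B := B903) (D := D903) (I := [2, 3, 4, 5, 1, 0]) (r := 4) (C := C903) (N := N903) (by decide +kernel) (by decide +kernel) (by decide +kernel) (by decide +kernel)
    (allB_cons (bad375 c) (allB_cons (bad453 c) (allB_cons (bad453 c) (allB_cons (bad454 c) (allB_cons (bad454 c) (allB_cons (bad429 c) (allB_cons (bad435 c) (allB_cons (bad442 c) (allB_cons (bad445 c) (allB_cons (bad455 c) (allB_cons (bad455 c) (allB_cons (bad454 c) (allB_cons (bad454 c) (allB_cons (bad435 c) (allB_cons (bad429 c) (allB_nil))))))))))))))))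

def P904 : List Ent := [⟨1, [.a0], [.a0]⟩,
  ⟨4, [.a2, .a8], [.a2, .a8]⟩,
  ⟨8, [.a3], [.a3]⟩,
  ⟨16, [.a4, .a7, .a9], [.a4, .a5, .a6, .a7, .a9]⟩,
  ⟨32, [.a5], [.a5]⟩,
  ⟨64, [.a6], [.a6]⟩]
def B904 : List Gv := [⟨[.a0], [.a0]⟩, ⟨[.a2, .a8], [.a2, .a8]⟩, ⟨[.a3], [.a3]⟩, ⟨[.a4, .a7, .a9], [.a4, .a5, .a6, .a7, .a9]⟩]
def D904 : List Dv := [⟨[.a5], [1, 0], [0, 1]⟩,
  ⟨[.a6], [0, 4, 1], [1, 4]⟩]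
theorem bad904 (c : CtxF Goal γ) : Bad Goal γ [] P904 :=
  c.toCtx.cent (B := B904) (D := D904) (I := [2, 3, 4, 5, 1, 0]) (z := [.a2, .a3]) (by decide +kernel) (by decide +kernel)

def P905 : List Ent := [⟨1, [.a0, .a9], [.a0, .a3, .a6, .a9]⟩,
  ⟨8, [.a3], [.a3]⟩,
  ⟨16, [.a4, .a7, .a9], [.a4, .a5, .a6, .a7, .a9]⟩,
  ⟨32, [.a5], [.a5]⟩,
  ⟨64, [.a6], [.a6]⟩,
  ⟨256, [.a8], [.a8]⟩]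
def B905 : List Gv := [⟨[.a0, .a9], [.a0, .a3, .a6, .a9]⟩, ⟨[.a4, .a7, .a9], [.a4, .a5, .a6, .a7, .a9]⟩]
def D905 : List Dv := [⟨[.a3, .a6], [0, 0], []⟩,
  ⟨[.a6, .a8], [2, 1], [1, 2]⟩,
  ⟨[.a5, .a6], [3, 3], []⟩,
  ⟨[.a8], [1, 0, 2, 4], [4, 2]⟩,
  ⟨[.a6], [2], [0]⟩,
  ⟨[.a5], [2], [0]⟩,
  ⟨[.a3], [5], [1]⟩]
theorem bad905 (c : CtxF Goal γ) : Bad Goal γ [] P905 :=
  c.toCtx.cent (B := B905) (D := D905) (I := [7, 0, 8, 1, 2, 3]) (z := [.a2, .a3, .a8]) (by decide +kernel) (by decide +kernel)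

def P906 : List Ent := [⟨1, [.a0, .a9], [.a0, .a3, .a6, .a9]⟩,
  ⟨4, [.a2], [.a2]⟩,
  ⟨8, [.a3], [.a3]⟩,
  ⟨32, [.a5], [.a5]⟩,
  ⟨64, [.a6], [.a6]⟩,
  ⟨256, [.a8], [.a8]⟩]
def B906 : List Gv := [⟨[.a0, .a9], [.a0, .a3, .a6, .a9]⟩, ⟨[.a2], [.a2]⟩, ⟨[.a3], [.a3]⟩, ⟨[.a8], [.a8]⟩]
def D906 : List Dv := [⟨[.a6], [2, 0, 0], []⟩,
  ⟨[.a5], [2, 1], [1, 2]⟩]
def C906 : List Ch := [⟨P286, 0, [], []⟩,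
  ⟨P417, 1, [.a4], [.a4, .a5]⟩,
  ⟨P417, 0, [], []⟩,
  ⟨P456, 2, [], []⟩,
  ⟨P456, 0, [.a1], [.a1, .a2]⟩,
  ⟨P457, 1, [], []⟩,
  ⟨P457, 0, [.a1], [.a1, .a2]⟩,
  ⟨P458, 3, [], []⟩,
  ⟨P458, 0, [.a1], [.a1, .a2]⟩,
  ⟨P459, 1, [], []⟩,
  ⟨P459, 0, [.a1], [.a1, .a2]⟩,
  ⟨P460, 2, [], []⟩,
  ⟨P460, 0, [.a4], [.a4, .a5]⟩,
  ⟨P461, 1, [], []⟩,
  ⟨P462, 0, [], []⟩]
def N906 : List Ent := [⟨1, [.a0, .a9], [.a0, .a3, .a6, .a9]⟩,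
  ⟨2, [.a1], [.a1, .a2]⟩,
  ⟨4, [.a2], [.a2]⟩,
  ⟨8, [.a3], [.a3]⟩,
  ⟨16, [.a4], [.a4, .a5]⟩,
  ⟨32, [.a5], [.a5]⟩,
  ⟨64, [.a6], [.a6]⟩,
  ⟨128, [.a7], [.a7, .a8]⟩,
  ⟨256, [.a8], [.a8]⟩,
  ⟨512, [.a9], [.a9]⟩]
theorem bad906 (c : CtxF Goal γ) : Bad Goal γ [] P906 :=
  c.toCtx.bnd (B := B906) (D := D906) (I := [2, 3, 4, 0, 1, 5]) (r := 4) (C := C906) (N := N906) (by decide +kernel) (by decide +kernel) (by decide +kernel) (by decide +kernel)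
    (allB_cons (bad286 c) (allB_cons (bad417 c) (allB_cons (bad417 c) (allB_cons (bad456 c) (allB_cons (bad456 c) (allB_cons (bad457 c) (allB_cons (bad457 c) (allB_cons (bad458 c) (allB_cons (bad458 c) (allB_cons (bad459 c) (allB_cons (bad459 c) (allB_cons (bad460 c) (allB_cons (bad460 c) (allB_cons (bad461 c) (allB_cons (bad462 c) (allB_nil))))))))))))))))

def P907 : List Ent := [⟨1, [.a0], [.a0]⟩,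
  ⟨8, [.a3], [.a3]⟩,
  ⟨32, [.a5], [.a5]⟩,
  ⟨64, [.a6], [.a6]⟩,
  ⟨256, [.a8], [.a8]⟩,
  ⟨512, [.a9], [.a9]⟩]
def B907 : List Gv := [⟨[.a0], [.a0]⟩, ⟨[.a3], [.a3]⟩, ⟨[.a8], [.a8]⟩, ⟨[.a9], [.a9]⟩]
def D907 : List Dv := [⟨[.a5], [2, 0], [0, 2]⟩,
  ⟨[.a6], [2, 4, 1], [1, 4]⟩]
def C907 : List Ch := [⟨P236, 0, [], []⟩,
  ⟨P463, 1, [], []⟩,
  ⟨P463, 0, [.a4, .a6, .a7], [.a4, .a5, .a7, .a8]⟩,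
  ⟨P464, 2, [], []⟩,
  ⟨P465, 0, [], []⟩,
  ⟨P466, 1, [], []⟩,
  ⟨P467, 0, [], []⟩,
  ⟨P416, 3, [], []⟩,
  ⟨P417, 0, [.a4], [.a4, .a5]⟩,
  ⟨P463, 1, [.a1], [.a1, .a2]⟩,
  ⟨P463, 0, [.a1, .a3, .a4, .a5, .a6, .a7], [.a1, .a2, .a4, .a5, .a7, .a8]⟩,
  ⟨P464, 2, [.a1], [.a1, .a2]⟩,
  ⟨P465, 0, [.a1], [.a1, .a2]⟩,
  ⟨P467, 1, [.a4, .a6, .a7], [.a4, .a5, .a7, .a8]⟩,
  ⟨P466, 0, [.a4, .a6, .a7], [.a4, .a5, .a7, .a8]⟩]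
def N907 : List Ent := [⟨1, [.a0], [.a0]⟩,
  ⟨2, [.a1], [.a1, .a2]⟩,
  ⟨4, [.a2], [.a2]⟩,
  ⟨8, [.a3], [.a3]⟩,
  ⟨16, [.a4, .a7], [.a4, .a5, .a6, .a7, .a8]⟩,
  ⟨32, [.a5], [.a5]⟩,
  ⟨64, [.a6], [.a6]⟩,
  ⟨256, [.a8], [.a8]⟩,
  ⟨512, [.a9], [.a9]⟩]
theorem bad907 (c : CtxF Goal γ) : Bad Goal γ [] P907 :=
  c.toCtx.bnd (B := B907) (D := D907) (I := [2, 3, 1, 0, 4, 5]) (r := 4) (C := C907) (N := N907) (by decide +kernel) (by decide +kernel) (by decide +kernel) (by decide +kernel)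
    (allB_cons (bad236 c) (allB_cons (bad463 c) (allB_cons (bad463 c) (allB_cons (bad464 c) (allB_cons (bad465 c) (allB_cons (bad466 c) (allB_cons (bad467 c) (allB_cons (bad416 c) (allB_cons (bad417 c) (allB_cons (bad463 c) (allB_cons (bad463 c) (allB_cons (bad464 c) (allB_cons (bad465 c) (allB_cons (bad467 c) (allB_cons (bad466 c) (allB_nil))))))))))))))))

def P908 : List Ent := [⟨1, [.a0], [.a0]⟩,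
  ⟨4, [.a2, .a4, .a7], [.a2, .a4, .a5, .a6, .a7, .a8]⟩,
  ⟨8, [.a3], [.a3]⟩,
  ⟨32, [.a5], [.a5]⟩,
  ⟨64, [.a6], [.a6]⟩,
  ⟨256, [.a8], [.a8]⟩]
def B908 : List Gv := [⟨[.a0], [.a0]⟩, ⟨[.a2, .a4, .a7], [.a2, .a4, .a5, .a6, .a7, .a8]⟩, ⟨[.a6], [.a6]⟩]
def D908 : List Dv := [⟨[.a3], [1, 0], [0, 1]⟩,
  ⟨[.a5, .a6, .a8], [2, 2], []⟩,
  ⟨[.a8], [4, 0, 1, 3], [3, 1]⟩,
  ⟨[.a5], [1], [5, 0]⟩]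
theorem bad908 (c : CtxF Goal γ) : Bad Goal γ [] P908 :=
  c.toCtx.cent (B := B908) (D := D908) (I := [4, 5, 3, 0, 6, 1]) (z := [.a2]) (by decide +kernel) (by decide +kernel)

def P909 : List Ent := [⟨1, [.a0], [.a0]⟩,
  ⟨4, [.a2], [.a2]⟩,
  ⟨8, [.a3, .a6], [.a3, .a6]⟩,
  ⟨32, [.a5], [.a5]⟩,
  ⟨256, [.a8], [.a8]⟩,
  ⟨512, [.a9], [.a9]⟩]
def B909 : List Gv := [⟨[.a0], [.a0]⟩, ⟨[.a2], [.a2]⟩, ⟨[.a8], [.a8]⟩, ⟨[.a9], [.a9]⟩]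
def D909 : List Dv := [⟨[.a5], [2, 0], [0, 2]⟩,
  ⟨[.a3, .a6], [4, 1], [1, 4]⟩]
theorem bad909 (c : CtxF Goal γ) : Bad Goal γ [] P909 :=
  c.toCtx.cent (B := B909) (D := D909) (I := [2, 3, 0, 1, 4, 5]) (z := [.a3]) (by decide +kernel) (by decide +kernel)

def P910 : List Ent := [⟨1, [.a0], [.a0]⟩,
  ⟨4, [.a2, .a6], [.a2, .a6]⟩,
  ⟨8, [.a3, .a6], [.a3, .a6]⟩,
  ⟨32, [.a5], [.a5]⟩,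
  ⟨256, [.a8], [.a8]⟩,
  ⟨512, [.a9], [.a9]⟩]
def B910 : List Gv := [⟨[.a0], [.a0]⟩, ⟨[.a2, .a6], [.a2, .a6]⟩, ⟨[.a8], [.a8]⟩, ⟨[.a9], [.a9]⟩]
def D910 : List Dv := [⟨[.a5], [2, 0], [0, 2]⟩,
  ⟨[.a3, .a6], [4, 1], [1, 4]⟩]
theorem bad910 (c : CtxF Goal γ) : Bad Goal γ [] P910 :=
  c.toCtx.cent (B := B910) (D := D910) (I := [2, 3, 0, 1, 4, 5]) (z := [.a3]) (by decide +kernel) (by decide +kernel)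

def P911 : List Ent := [⟨1, [.a0], [.a0]⟩,
  ⟨4, [.a2], [.a2]⟩,
  ⟨8, [.a3], [.a3]⟩,
  ⟨32, [.a5], [.a5]⟩,
  ⟨64, [.a6], [.a6]⟩,
  ⟨512, [.a9], [.a9]⟩]
def B911 : List Gv := [⟨[.a0], [.a0]⟩, ⟨[.a2], [.a2]⟩, ⟨[.a3], [.a3]⟩, ⟨[.a9], [.a9]⟩]
def D911 : List Dv := [⟨[.a6], [2, 3, 0], [0, 3]⟩,
  ⟨[.a5], [4, 2], [2, 4]⟩]
def C911 : List Ch := [⟨P284, 0, [], []⟩,
  ⟨P464, 1, [], []⟩,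
  ⟨P464, 0, [.a7], [.a7, .a8]⟩,
  ⟨P468, 2, [], []⟩,
  ⟨P468, 0, [.a7], [.a7, .a8]⟩,
  ⟨P469, 1, [], []⟩,
  ⟨P470, 0, [], []⟩,
  ⟨P441, 3, [], []⟩,
  ⟨P458, 0, [], []⟩,
  ⟨P419, 1, [], []⟩,
  ⟨P419, 0, [.a7], [.a7, .a8]⟩,
  ⟨P468, 2, [.a1, .a3, .a4], [.a1, .a2, .a4, .a5]⟩,
  ⟨P468, 0, [.a1, .a3, .a4, .a5, .a6, .a7], [.a1, .a2, .a4, .a5, .a7, .a8]⟩,
  ⟨P470, 1, [.a1, .a3, .a4], [.a1, .a2, .a4, .a5]⟩,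
  ⟨P469, 0, [.a1, .a3, .a4], [.a1, .a2, .a4, .a5]⟩]
def N911 : List Ent := [⟨1, [.a0], [.a0]⟩,
  ⟨2, [.a1, .a4], [.a1, .a2, .a3, .a4, .a5]⟩,
  ⟨4, [.a2], [.a2]⟩,
  ⟨8, [.a3], [.a3]⟩,
  ⟨32, [.a5], [.a5]⟩,
  ⟨64, [.a6], [.a6]⟩,
  ⟨128, [.a7], [.a7, .a8]⟩,
  ⟨256, [.a8], [.a8]⟩,
  ⟨512, [.a9], [.a9]⟩]
theorem bad911 (c : CtxF Goal γ) : Bad Goal γ [] P911 :=
  c.toCtx.bnd (B := B911) (D := D911) (I := [2, 3, 4, 0, 1, 5]) (r := 4) (C := C911) (N := N911) (by decide +kernel) (by decide +kernel) (by decide +kernel) (by decide +kernel)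
    (allB_cons (bad284 c) (allB_cons (bad464 c) (allB_cons (bad464 c) (allB_cons (bad468 c) (allB_cons (bad468 c) (allB_cons (bad469 c) (allB_cons (bad470 c) (allB_cons (bad441 c) (allB_cons (bad458 c) (allB_cons (bad419 c) (allB_cons (bad419 c) (allB_cons (bad468 c) (allB_cons (bad468 c) (allB_cons (bad470 c) (allB_cons (bad469 c) (allB_nil))))))))))))))))

def P912 : List Ent := [⟨1, [.a0, .a8], [.a0, .a5, .a8]⟩,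
  ⟨4, [.a2], [.a2]⟩,
  ⟨8, [.a3], [.a3]⟩,
  ⟨32, [.a5], [.a5]⟩,
  ⟨64, [.a6], [.a6]⟩,
  ⟨512, [.a9], [.a9]⟩]
def B912 : List Gv := [⟨[.a0, .a8], [.a0, .a5, .a8]⟩, ⟨[.a2], [.a2]⟩, ⟨[.a3], [.a3]⟩, ⟨[.a9], [.a9]⟩]
def D912 : List Dv := [⟨[.a5], [0, 0], []⟩,
  ⟨[.a6], [3, 4, 1], [1, 4]⟩]
def C912 : List Ch := [⟨P284, 0, [], []⟩,
  ⟨P465, 1, [], []⟩,
  ⟨P465, 0, [.a7], [.a7, .a8]⟩,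
  ⟨P471, 2, [], []⟩,
  ⟨P471, 0, [.a7], [.a7, .a8]⟩,
  ⟨P472, 1, [], []⟩,
  ⟨P473, 0, [], []⟩,
  ⟨P442, 3, [], []⟩,
  ⟨P458, 0, [.a1], [.a1, .a2]⟩,
  ⟨P420, 1, [], []⟩,
  ⟨P420, 0, [.a7], [.a7, .a8]⟩,
  ⟨P471, 2, [.a1, .a3, .a4], [.a1, .a2, .a4, .a5]⟩,
  ⟨P471, 0, [.a1, .a3, .a4, .a5, .a6, .a7], [.a1, .a2, .a4, .a5, .a7, .a8]⟩,
  ⟨P473, 1, [.a1, .a3, .a4], [.a1, .a2, .a4, .a5]⟩,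
  ⟨P472, 0, [.a1, .a3, .a4], [.a1, .a2, .a4, .a5]⟩]
def N912 : List Ent := [⟨1, [.a0, .a8], [.a0, .a5, .a8]⟩,
  ⟨2, [.a1, .a4], [.a1, .a2, .a3, .a4, .a5]⟩,
  ⟨4, [.a2], [.a2]⟩,
  ⟨8, [.a3], [.a3]⟩,
  ⟨32, [.a5], [.a5]⟩,
  ⟨64, [.a6], [.a6]⟩,
  ⟨128, [.a7], [.a7, .a8]⟩,
  ⟨256, [.a8], [.a8]⟩,
  ⟨512, [.a9], [.a9]⟩]
theorem bad912 (c : CtxF Goal γ) : Bad Goal γ [] P912 :=
  c.toCtx.bnd (B := B912) (D := D912) (I := [2, 3, 4, 1, 0, 5]) (r := 4) (C := C912) (N := N912) (by decide +kernel) (by decide +kernel) (by decide +kernel) (by decide +kernel)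
    (allB_cons (bad284 c) (allB_cons (bad465 c) (allB_cons (bad465 c) (allB_cons (bad471 c) (allB_cons (bad471 c) (allB_cons (bad472 c) (allB_cons (bad473 c) (allB_cons (bad442 c) (allB_cons (bad458 c) (allB_cons (bad420 c) (allB_cons (bad420 c) (allB_cons (bad471 c) (allB_cons (bad471 c) (allB_cons (bad473 c) (allB_cons (bad472 c) (allB_nil))))))))))))))))

def P913 : List Ent := [⟨1, [.a0], [.a0]⟩,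
  ⟨4, [.a2, .a8], [.a2, .a8]⟩,
  ⟨8, [.a3], [.a3]⟩,
  ⟨32, [.a5], [.a5]⟩,
  ⟨64, [.a6], [.a6]⟩,
  ⟨512, [.a9], [.a9]⟩]
def B913 : List Gv := [⟨[.a0], [.a0]⟩, ⟨[.a2, .a8], [.a2, .a8]⟩, ⟨[.a3], [.a3]⟩, ⟨[.a9], [.a9]⟩]
def D913 : List Dv := [⟨[.a5], [1, 0], [0, 1]⟩,
  ⟨[.a6], [3, 4, 1], [1, 4]⟩]
def C913 : List Ch := [⟨P285, 0, [], []⟩,
  ⟨P464, 1, [], []⟩,
  ⟨P465, 0, [.a7], [.a7, .a8]⟩,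
  ⟨P474, 2, [], []⟩,
  ⟨P475, 0, [], []⟩,
  ⟨P476, 1, [], []⟩,
  ⟨P477, 0, [], []⟩,
  ⟨P443, 3, [], []⟩,
  ⟨P459, 0, [], []⟩,
  ⟨P419, 1, [.a1], [.a1, .a2]⟩,
  ⟨P420, 0, [.a4], [.a4, .a5]⟩,
  ⟨P475, 2, [.a1, .a3, .a4, .a5, .a6, .a7], [.a1, .a2, .a4, .a5, .a7, .a8]⟩,
  ⟨P474, 0, [.a1, .a3, .a4, .a5, .a6, .a7], [.a1, .a2, .a4, .a5, .a7, .a8]⟩,
  ⟨P477, 1, [.a1, .a3, .a4, .a5, .a6, .a7], [.a1, .a2, .a4, .a5, .a7, .a8]⟩,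
  ⟨P476, 0, [.a1, .a3, .a4, .a5, .a6, .a7], [.a1, .a2, .a4, .a5, .a7, .a8]⟩]
def S913 : List St := [.phi 1 [⟨8, [.a3, .a6], [.a3, .a6]⟩,
  ⟨32, [.a5], [.a5]⟩] [[[.a0, .a9]], [[.a0, .a2, .a8]]]]
theorem bad913 (c : CtxF Goal γ) : Bad Goal γ [] P913 :=
  c.toCtx.chn (B := B913) (D := D913) (I := [2, 3, 4, 1, 0, 5]) (r := 4) (C := C913) (l := S913) (x := ⟨[.a8], [.a8]⟩) (ix := [0]) (by decide +kernel) (by decide +kernel) (by decide +kernel) (by decide +kernel)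
    (allB_cons (bad285 c) (allB_cons (bad464 c) (allB_cons (bad465 c) (allB_cons (bad474 c) (allB_cons (bad475 c) (allB_cons (bad476 c) (allB_cons (bad477 c) (allB_cons (bad443 c) (allB_cons (bad459 c) (allB_cons (bad419 c) (allB_cons (bad420 c) (allB_cons (bad475 c) (allB_cons (bad474 c) (allB_cons (bad477 c) (allB_cons (bad476 c) (allB_nil))))))))))))))))

def P914 : List Ent := [⟨1, [.a0], [.a0]⟩,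
  ⟨4, [.a2], [.a2]⟩,
  ⟨8, [.a3, .a8], [.a3, .a8]⟩,
  ⟨32, [.a5], [.a5]⟩,
  ⟨64, [.a6, .a8], [.a6, .a8]⟩,
  ⟨512, [.a9], [.a9]⟩]
def B914 : List Gv := [⟨[.a0], [.a0]⟩, ⟨[.a2], [.a2]⟩, ⟨[.a3, .a8], [.a3, .a8]⟩, ⟨[.a9], [.a9]⟩]
def D914 : List Dv := [⟨[.a5], [2, 0], [0, 2]⟩,
  ⟨[.a6, .a8], [3, 4, 1], [1, 4]⟩]
theorem bad914 (c : CtxF Goal γ) : Bad Goal γ [] P914 :=
  c.toCtx.cent (B := B914) (D := D914) (I := [2, 3, 4, 1, 0, 5]) (z := [.a3]) (by decide +kernel) (by decide +kernel)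

def P915 : List Ent := [⟨1, [.a0], [.a0]⟩,
  ⟨4, [.a2, .a8], [.a2, .a8]⟩,
  ⟨8, [.a3, .a8], [.a3, .a8]⟩,
  ⟨32, [.a5], [.a5]⟩,
  ⟨64, [.a6, .a8], [.a6, .a8]⟩,
  ⟨512, [.a9], [.a9]⟩]
def B915 : List Gv := [⟨[.a0], [.a0]⟩, ⟨[.a2, .a8], [.a2, .a8]⟩, ⟨[.a3, .a8], [.a3, .a8]⟩, ⟨[.a9], [.a9]⟩]
def D915 : List Dv := [⟨[.a5], [1, 0], [0, 1]⟩,
  ⟨[.a6, .a8], [3, 4, 1], [1, 4]⟩]
theorem bad915 (c : CtxF Goal γ) : Bad Goal γ [] P915 :=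
  c.toCtx.cent (B := B915) (D := D915) (I := [2, 3, 4, 1, 0, 5]) (z := [.a3]) (by decide +kernel) (by decide +kernel)

def P916 : List Ent := [⟨1, [.a0, .a8], [.a0, .a5, .a8]⟩,
  ⟨4, [.a2, .a8], [.a2, .a8]⟩,
  ⟨8, [.a3, .a8], [.a3, .a8]⟩,
  ⟨32, [.a5], [.a5]⟩,
  ⟨64, [.a6, .a8], [.a6, .a8]⟩,
  ⟨512, [.a9], [.a9]⟩]
def B916 : List Gv := [⟨[.a0, .a8], [.a0, .a5, .a8]⟩, ⟨[.a2, .a8], [.a2, .a8]⟩, ⟨[.a3, .a8], [.a3, .a8]⟩, ⟨[.a9], [.a9]⟩]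
def D916 : List Dv := [⟨[.a5], [0, 0], []⟩,
  ⟨[.a6, .a8], [3, 4, 1], [1, 4]⟩]
theorem bad916 (c : CtxF Goal γ) : Bad Goal γ [] P916 :=
  c.toCtx.cent (B := B916) (D := D916) (I := [2, 3, 4, 1, 0, 5]) (z := [.a3]) (by decide +kernel) (by decide +kernel)

def P917 : List Ent := [⟨1, [.a0], [.a0]⟩,
  ⟨4, [.a2], [.a2]⟩,
  ⟨8, [.a3], [.a3]⟩,
  ⟨16, [.a4, .a7], [.a4, .a5, .a6, .a7, .a8]⟩,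
  ⟨32, [.a5], [.a5]⟩,
  ⟨64, [.a6, .a8], [.a6, .a8]⟩]
def B917 : List Gv := [⟨[.a0], [.a0]⟩, ⟨[.a2], [.a2]⟩, ⟨[.a4, .a7], [.a4, .a5, .a6, .a7, .a8]⟩]
def D917 : List Dv := [⟨[.a3], [2, 0], [0, 2]⟩,
  ⟨[.a5, .a6, .a8], [3, 3], []⟩,
  ⟨[.a6, .a8], [0, 1, 4], [4, 1]⟩,
  ⟨[.a5], [1], [0]⟩]
theorem bad917 (c : CtxF Goal γ) : Bad Goal γ [] P917 :=
  c.toCtx.cent (B := B917) (D := D917) (I := [4, 5, 3, 6, 0, 1]) (z := [.a0, .a1]) (by decide +kernel) (by decide +kernel)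

def P918 : List Ent := [⟨1, [.a0], [.a0]⟩,
  ⟨4, [.a2, .a8], [.a2, .a8]⟩,
  ⟨8, [.a3], [.a3]⟩,
  ⟨16, [.a4, .a7], [.a4, .a5, .a6, .a7, .a8]⟩,
  ⟨32, [.a5], [.a5]⟩,
  ⟨64, [.a6, .a8], [.a6, .a8]⟩]
def B918 : List Gv := [⟨[.a0], [.a0]⟩, ⟨[.a2, .a8], [.a2, .a8]⟩, ⟨[.a4, .a7], [.a4, .a5, .a6, .a7, .a8]⟩]
def D918 : List Dv := [⟨[.a5], [1, 0], [0, 1]⟩,
  ⟨[.a3], [3, 1], [1, 3]⟩,
  ⟨[.a6, .a8], [1, 4, 4], []⟩]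
theorem bad918 (c : CtxF Goal γ) : Bad Goal γ [] P918 :=
  c.toCtx.cent (B := B918) (D := D918) (I := [3, 4, 1, 5, 2, 0]) (z := [.a2]) (by decide +kernel) (by decide +kernel)

def P919 : List Ent := [⟨1, [.a0, .a8], [.a0, .a5, .a8]⟩,
  ⟨4, [.a2, .a8], [.a2, .a8]⟩,
  ⟨8, [.a3], [.a3]⟩,
  ⟨16, [.a4, .a7], [.a4, .a5, .a6, .a7, .a8]⟩,
  ⟨32, [.a5], [.a5]⟩,
  ⟨64, [.a6, .a8], [.a6, .a8]⟩]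
def B919 : List Gv := [⟨[.a0, .a8], [.a0, .a5, .a8]⟩, ⟨[.a2, .a8], [.a2, .a8]⟩, ⟨[.a4, .a7], [.a4, .a5, .a6, .a7, .a8]⟩]
def D919 : List Dv := [⟨[.a5], [0, 0], []⟩,
  ⟨[.a3], [3, 1], [1, 3]⟩,
  ⟨[.a6, .a8], [1, 4, 4], []⟩]
theorem bad919 (c : CtxF Goal γ) : Bad Goal γ [] P919 :=
  c.toCtx.cent (B := B919) (D := D919) (I := [3, 4, 1, 5, 2, 0]) (z := [.a2]) (by decide +kernel) (by decide +kernel)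

def P920 : List Ent := [⟨1, [.a0], [.a0]⟩,
  ⟨2, [.a1, .a7], [.a1, .a2, .a7, .a8]⟩,
  ⟨4, [.a2, .a8], [.a2, .a8]⟩,
  ⟨8, [.a3, .a8], [.a3, .a8]⟩,
  ⟨32, [.a5], [.a5]⟩,
  ⟨64, [.a6, .a8], [.a6, .a8]⟩]
def B920 : List Gv := [⟨[.a0], [.a0]⟩, ⟨[.a1, .a7], [.a1, .a2, .a7, .a8]⟩, ⟨[.a6, .a8], [.a6, .a8]⟩]
def D920 : List Dv := [⟨[.a2, .a3], [1, 0], [0, 1]⟩,
  ⟨[.a3, .a8], [0, 2, 2], []⟩,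
  ⟨[.a5], [4, 2], [2, 4]⟩,
  ⟨[.a2, .a8], [2], [1]⟩]
theorem bad920 (c : CtxF Goal γ) : Bad Goal γ [] P920 :=
  c.toCtx.cent (B := B920) (D := D920) (I := [4, 5, 0, 2, 1, 6]) (z := [.a2]) (by decide +kernel) (by decide +kernel)

def P921 : List Ent := [⟨1, [.a0, .a9], [.a0, .a3, .a6, .a9]⟩,
  ⟨2, [.a1, .a7], [.a1, .a2, .a7, .a8]⟩,
  ⟨4, [.a2, .a8], [.a2, .a8]⟩,
  ⟨8, [.a3, .a8], [.a3, .a8]⟩,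
  ⟨32, [.a5], [.a5]⟩,
  ⟨64, [.a6, .a8], [.a6, .a8]⟩]
def B921 : List Gv := [⟨[.a0, .a9], [.a0, .a3, .a6, .a9]⟩, ⟨[.a1, .a7], [.a1, .a2, .a7, .a8]⟩, ⟨[.a3, .a8], [.a3, .a8]⟩]
def D921 : List Dv := [⟨[.a6, .a8], [2, 0, 0], []⟩,
  ⟨[.a2, .a3, .a5, .a6, .a8], [2, 1], [1, 2]⟩,
  ⟨[.a5, .a6, .a8], [4, 0, 3, 3], []⟩,
  ⟨[.a5], [0], [2]⟩,
  ⟨[.a2, .a8], [2], [6, 0, 3]⟩]
def C921 : List Ch := [⟨P399, 0, [], []⟩,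
  ⟨P461, 1, [], []⟩,
  ⟨P442, 0, [.a10], [.a10, .a11]⟩,
  ⟨P478, 2, [], []⟩,
  ⟨P478, 0, [.a1], [.a1, .a2]⟩,
  ⟨P478, 1, [.a0], [.a0]⟩,
  ⟨P478, 0, [.a0, .a1], [.a0, .a1, .a2]⟩]
def N921 : List Ent := [⟨1, [.a0, .a9], [.a0, .a3, .a6, .a9]⟩,
  ⟨2, [.a1, .a7], [.a1, .a2, .a7, .a8]⟩,
  ⟨4, [.a2, .a8], [.a2, .a8]⟩,
  ⟨8, [.a3, .a8], [.a3, .a8]⟩,
  ⟨16, [.a4], [.a4, .a5]⟩,
  ⟨32, [.a5], [.a5]⟩,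
  ⟨64, [.a6, .a8], [.a6, .a8]⟩,
  ⟨128, [.a7], [.a7, .a8]⟩,
  ⟨256, [.a8], [.a8]⟩,
  ⟨512, [.a9], [.a9]⟩]
theorem bad921 (c : CtxF Goal γ) : Bad Goal γ [] P921 :=
  c.toCtx.bnd (B := B921) (D := D921) (I := [5, 6, 0, 7, 1, 4]) (r := 3) (C := C921) (N := N921) (by decide +kernel) (by decide +kernel) (by decide +kernel) (by decide +kernel)
    (allB_cons (bad399 c) (allB_cons (bad461 c) (allB_cons (bad442 c) (allB_cons (bad478 c) (allB_cons (bad478 c) (allB_cons (bad478 c) (allB_cons (bad478 c) (allB_nil))))))))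

def P922 : List Ent := [⟨1, [.a0], [.a0]⟩,
  ⟨2, [.a1, .a7, .a9], [.a1, .a2, .a6, .a7, .a9]⟩,
  ⟨4, [.a2, .a8], [.a2, .a8]⟩,
  ⟨8, [.a3, .a8], [.a3, .a8]⟩,
  ⟨32, [.a5], [.a5]⟩,
  ⟨64, [.a6, .a8], [.a6, .a8]⟩]
def B922 : List Gv := [⟨[.a0], [.a0]⟩, ⟨[.a1, .a7, .a9], [.a1, .a2, .a6, .a7, .a9]⟩, ⟨[.a2, .a8], [.a2, .a8]⟩, ⟨[.a3, .a8], [.a3, .a8]⟩]
def D922 : List Dv := [⟨[.a6, .a8], [2, 1, 0], [0, 1]⟩,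
  ⟨[.a5, .a6, .a8], [3, 2, 2], []⟩,
  ⟨[.a5], [0], [1]⟩]
def C922 : List Ch := [⟨P397, 0, [.a0, .a2, .a3, .a4, .a5, .a6, .a7, .a9, .a11], [.a0, .a11]⟩,
  ⟨P449, 1, [], []⟩,
  ⟨P442, 0, [.a10], [.a10, .a11]⟩,
  ⟨P479, 2, [], []⟩,
  ⟨P479, 0, [.a7], [.a7, .a8]⟩,
  ⟨P479, 1, [.a1], [.a1, .a2]⟩,
  ⟨P479, 0, [.a9], [.a9]⟩,
  ⟨P480, 3, [], []⟩,
  ⟨P480, 0, [.a7], [.a7, .a8]⟩,
  ⟨P481, 1, [], []⟩,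
  ⟨P481, 0, [.a7], [.a7, .a8]⟩,
  ⟨P482, 2, [], []⟩,
  ⟨P483, 0, [], []⟩,
  ⟨P482, 1, [.a1], [.a1, .a2]⟩,
  ⟨P483, 0, [.a1], [.a1, .a2]⟩]
def N922 : List Ent := [⟨1, [.a0], [.a0]⟩,
  ⟨2, [.a1, .a7, .a9], [.a1, .a2, .a6, .a7, .a9]⟩,
  ⟨4, [.a2, .a8], [.a2, .a8]⟩,
  ⟨8, [.a3, .a8], [.a3, .a8]⟩,
  ⟨32, [.a5], [.a5]⟩,
  ⟨64, [.a6, .a8], [.a6, .a8]⟩,
  ⟨128, [.a7], [.a7, .a8]⟩,
  ⟨256, [.a8], [.a8]⟩,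
  ⟨512, [.a9], [.a9]⟩]
theorem bad922 (c : CtxF Goal γ) : Bad Goal γ [] P922 :=
  c.toCtx.bnd (B := B922) (D := D922) (I := [3, 4, 5, 6, 0, 2]) (r := 4) (C := C922) (N := N922) (by decide +kernel) (by decide +kernel) (by decide +kernel) (by decide +kernel)
    (allB_cons (bad397 c) (allB_cons (bad449 c) (allB_cons (bad442 c) (allB_cons (bad479 c) (allB_cons (bad479 c) (allB_cons (bad479 c) (allB_cons (bad479 c) (allB_cons (bad480 c) (allB_cons (bad480 c) (allB_cons (bad481 c) (allB_cons (bad481 c) (allB_cons (bad482 c) (allB_cons (bad483 c) (allB_cons (bad482 c) (allB_cons (bad483 c) (allB_nil))))))))))))))))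

def P923 : List Ent := [⟨1, [.a0, .a9], [.a0, .a3, .a6, .a9]⟩,
  ⟨2, [.a1, .a7, .a9], [.a1, .a2, .a6, .a7, .a9]⟩,
  ⟨4, [.a2, .a8], [.a2, .a8]⟩,
  ⟨8, [.a3, .a8], [.a3, .a8]⟩,
  ⟨32, [.a5], [.a5]⟩,
  ⟨64, [.a6, .a8], [.a6, .a8]⟩]
def B923 : List Gv := [⟨[.a0, .a9], [.a0, .a3, .a6, .a9]⟩, ⟨[.a1, .a7, .a9], [.a1, .a2, .a6, .a7, .a9]⟩]
def D923 : List Dv := [⟨[.a3, .a6], [0, 0], []⟩,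
  ⟨[.a2, .a5, .a8], [2, 1], [1, 2]⟩,
  ⟨[.a6, .a8], [0, 3, 3], []⟩,
  ⟨[.a5], [1, 4], [4, 1]⟩,
  ⟨[.a3, .a8], [3], [1]⟩,
  ⟨[.a2, .a8], [3], [1]⟩]
theorem bad923 (c : CtxF Goal γ) : Bad Goal γ [] P923 :=
  c.toCtx.cent (B := B923) (D := D923) (I := [6, 7, 0, 1, 2, 3]) (z := [.a2, .a3, .a8]) (by decide +kernel) (by decide +kernel)

def P924 : List Ent := [⟨1, [.a0, .a8, .a9], [.a0, .a3, .a5, .a6, .a8, .a9]⟩,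
  ⟨2, [.a1, .a7], [.a1, .a2, .a7, .a8]⟩,
  ⟨4, [.a2, .a8], [.a2, .a8]⟩,
  ⟨8, [.a3, .a8], [.a3, .a8]⟩,
  ⟨32, [.a5], [.a5]⟩,
  ⟨64, [.a6, .a8], [.a6, .a8]⟩]
def B924 : List Gv := [⟨[.a0, .a8, .a9], [.a0, .a3, .a5, .a6, .a8, .a9]⟩, ⟨[.a1, .a7], [.a1, .a2, .a7, .a8]⟩, ⟨[.a3, .a8], [.a3, .a8]⟩]
def D924 : List Dv := [⟨[.a5, .a6, .a8], [2, 0, 0], []⟩,
  ⟨[.a2, .a3, .a5, .a6, .a8], [2, 1], [1, 2]⟩,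
  ⟨[.a6, .a8], [1, 4, 2], [2, 4]⟩,
  ⟨[.a5], [2], [0]⟩,
  ⟨[.a2, .a8], [2], [6, 0, 1]⟩]
def C924 : List Ch := [⟨P399, 0, [], []⟩,
  ⟨P462, 1, [], []⟩,
  ⟨P441, 0, [.a10], [.a10, .a11]⟩,
  ⟨P484, 2, [], []⟩,
  ⟨P484, 0, [.a1], [.a1, .a2]⟩,
  ⟨P484, 1, [.a0], [.a0]⟩,
  ⟨P484, 0, [.a0, .a1], [.a0, .a1, .a2]⟩]
def N924 : List Ent := [⟨1, [.a0, .a8, .a9], [.a0, .a3, .a5, .a6, .a8, .a9]⟩,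
  ⟨2, [.a1, .a7], [.a1, .a2, .a7, .a8]⟩,
  ⟨4, [.a2, .a8], [.a2, .a8]⟩,
  ⟨8, [.a3, .a8], [.a3, .a8]⟩,
  ⟨16, [.a4], [.a4, .a5]⟩,
  ⟨32, [.a5], [.a5]⟩,
  ⟨64, [.a6, .a8], [.a6, .a8]⟩,
  ⟨128, [.a7], [.a7, .a8]⟩,
  ⟨256, [.a8], [.a8]⟩,
  ⟨512, [.a9], [.a9]⟩]
theorem bad924 (c : CtxF Goal γ) : Bad Goal γ [] P924 :=
  c.toCtx.bnd (B := B924) (D := D924) (I := [5, 6, 0, 7, 1, 2]) (r := 3) (C := C924) (N := N924) (by decide +kernel) (by decide +kernel) (by decide +kernel) (by decide +kernel)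
    (allB_cons (bad399 c) (allB_cons (bad462 c) (allB_cons (bad441 c) (allB_cons (bad484 c) (allB_cons (bad484 c) (allB_cons (bad484 c) (allB_cons (bad484 c) (allB_nil))))))))

def P925 : List Ent := [⟨1, [.a0, .a8], [.a0, .a5, .a8]⟩,
  ⟨2, [.a1, .a7, .a9], [.a1, .a2, .a6, .a7, .a9]⟩,
  ⟨4, [.a2, .a8], [.a2, .a8]⟩,
  ⟨8, [.a3, .a8], [.a3, .a8]⟩,
  ⟨32, [.a5], [.a5]⟩,
  ⟨64, [.a6, .a8], [.a6, .a8]⟩]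
def B925 : List Gv := [⟨[.a0, .a8], [.a0, .a5, .a8]⟩, ⟨[.a1, .a7, .a9], [.a1, .a2, .a6, .a7, .a9]⟩, ⟨[.a2, .a8], [.a2, .a8]⟩, ⟨[.a3, .a8], [.a3, .a8]⟩]
def D925 : List Dv := [⟨[.a5], [0, 0], []⟩,
  ⟨[.a6, .a8], [3, 2, 1], [1, 2]⟩]
def C925 : List Ch := [⟨P397, 0, [.a0, .a2, .a3, .a4, .a5, .a6, .a7, .a9, .a11], [.a0, .a11]⟩,
  ⟨P449, 1, [.a4], [.a4, .a5]⟩,
  ⟨P441, 0, [.a10], [.a10, .a11]⟩,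
  ⟨P485, 2, [], []⟩,
  ⟨P485, 0, [.a7], [.a7, .a8]⟩,
  ⟨P485, 1, [.a1], [.a1, .a2]⟩,
  ⟨P485, 0, [.a9], [.a9]⟩,
  ⟨P486, 3, [], []⟩,
  ⟨P486, 0, [.a7], [.a7, .a8]⟩,
  ⟨P487, 1, [], []⟩,
  ⟨P487, 0, [.a7], [.a7, .a8]⟩,
  ⟨P488, 2, [], []⟩,
  ⟨P489, 0, [], []⟩,
  ⟨P488, 1, [.a1], [.a1, .a2]⟩,
  ⟨P489, 0, [.a1], [.a1, .a2]⟩]
def N925 : List Ent := [⟨1, [.a0, .a8], [.a0, .a5, .a8]⟩,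
  ⟨2, [.a1, .a7, .a9], [.a1, .a2, .a6, .a7, .a9]⟩,
  ⟨4, [.a2, .a8], [.a2, .a8]⟩,
  ⟨8, [.a3, .a8], [.a3, .a8]⟩,
  ⟨32, [.a5], [.a5]⟩,
  ⟨64, [.a6, .a8], [.a6, .a8]⟩,
  ⟨128, [.a7], [.a7, .a8]⟩,
  ⟨256, [.a8], [.a8]⟩,
  ⟨512, [.a9], [.a9]⟩]
theorem bad925 (c : CtxF Goal γ) : Bad Goal γ [] P925 :=
  c.toCtx.bnd (B := B925) (D := D925) (I := [2, 3, 4, 5, 1, 0]) (r := 4) (C := C925) (N := N925) (by decide +kernel) (by decide +kernel) (by decide +kernel) (by decide +kernel)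
    (allB_cons (bad397 c) (allB_cons (bad449 c) (allB_cons (bad441 c) (allB_cons (bad485 c) (allB_cons (bad485 c) (allB_cons (bad485 c) (allB_cons (bad485 c) (allB_cons (bad486 c) (allB_cons (bad486 c) (allB_cons (bad487 c) (allB_cons (bad487 c) (allB_cons (bad488 c) (allB_cons (bad489 c) (allB_cons (bad488 c) (allB_cons (bad489 c) (allB_nil))))))))))))))))

def P926 : List Ent := [⟨1, [.a0, .a8, .a9], [.a0, .a3, .a5, .a6, .a8, .a9]⟩,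
  ⟨2, [.a1, .a7, .a9], [.a1, .a2, .a6, .a7, .a9]⟩,
  ⟨4, [.a2, .a8], [.a2, .a8]⟩,
  ⟨8, [.a3, .a8], [.a3, .a8]⟩,
  ⟨32, [.a5], [.a5]⟩,
  ⟨64, [.a6, .a8], [.a6, .a8]⟩]
def B926 : List Gv := [⟨[.a0, .a8, .a9], [.a0, .a3, .a5, .a6, .a8, .a9]⟩, ⟨[.a1, .a7, .a9], [.a1, .a2, .a6, .a7, .a9]⟩]
def D926 : List Dv := [⟨[.a3, .a5, .a6], [0, 0], []⟩,
  ⟨[.a2, .a5, .a8], [2, 1], [1, 2]⟩,
  ⟨[.a6, .a8], [0, 3, 3], []⟩,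
  ⟨[.a5], [1, 4], [4, 1]⟩,
  ⟨[.a3, .a8], [3], [0, 1]⟩,
  ⟨[.a2, .a8], [3], [1]⟩]
theorem bad926 (c : CtxF Goal γ) : Bad Goal γ [] P926 :=
  c.toCtx.cent (B := B926) (D := D926) (I := [6, 7, 0, 1, 2, 3]) (z := [.a2, .a3, .a8]) (by decide +kernel) (by decide +kernel)

def P927 : List Ent := [⟨1, [.a0], [.a0]⟩,
  ⟨2, [.a1, .a7, .a8], [.a1, .a2, .a7]⟩,
  ⟨4, [.a2, .a8], [.a2, .a8]⟩,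
  ⟨8, [.a3, .a8], [.a3, .a8]⟩,
  ⟨32, [.a5], [.a5]⟩,
  ⟨64, [.a6, .a8], [.a6, .a8]⟩]
def B927 : List Gv := [⟨[.a0], [.a0]⟩, ⟨[.a1, .a7, .a8], [.a1, .a2, .a7]⟩, ⟨[.a6, .a8], [.a6, .a8]⟩]
def D927 : List Dv := [⟨[.a2, .a3, .a5], [1, 0], [0, 1]⟩,
  ⟨[.a3, .a5, .a8], [0, 2, 2], []⟩,
  ⟨[.a5], [4, 2], [2, 4]⟩,
  ⟨[.a3, .a8], [1], [0]⟩,
  ⟨[.a2, .a8], [3], [0, 1]⟩]
theorem bad927 (c : CtxF Goal γ) : Bad Goal γ [] P927 :=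
  c.toCtx.cent (B := B927) (D := D927) (I := [5, 6, 0, 1, 2, 7]) (z := [.a2]) (by decide +kernel) (by decide +kernel)

def P928 : List Ent := [⟨1, [.a0, .a9], [.a0, .a3, .a6, .a9]⟩,
  ⟨2, [.a1, .a7, .a8], [.a1, .a2, .a7]⟩,
  ⟨4, [.a2, .a8], [.a2, .a8]⟩,
  ⟨8, [.a3, .a8], [.a3, .a8]⟩,
  ⟨32, [.a5], [.a5]⟩,
  ⟨64, [.a6, .a8], [.a6, .a8]⟩]
def B928 : List Gv := [⟨[.a0, .a9], [.a0, .a3, .a6, .a9]⟩, ⟨[.a1, .a7, .a8], [.a1, .a2, .a7]⟩, ⟨[.a3, .a8], [.a3, .a8]⟩]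
def D928 : List Dv := [⟨[.a6, .a8], [2, 0, 0], []⟩,
  ⟨[.a2, .a3, .a6, .a8], [2, 1], [1, 2]⟩,
  ⟨[.a5], [4, 2], [2, 4]⟩,
  ⟨[.a2, .a8], [1], [5, 2]⟩]
def C928 : List Ch := [⟨P400, 0, [], []⟩,
  ⟨P461, 1, [], []⟩,
  ⟨P441, 0, [.a10], [.a10, .a11]⟩,
  ⟨P490, 2, [], []⟩,
  ⟨P490, 0, [.a1], [.a1, .a2]⟩,
  ⟨P490, 1, [.a0], [.a0]⟩,
  ⟨P490, 0, [.a0, .a1], [.a0, .a1, .a2]⟩]
def N928 : List Ent := [⟨1, [.a0, .a9], [.a0, .a3, .a6, .a9]⟩,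
  ⟨2, [.a1, .a7, .a8], [.a1, .a2, .a7]⟩,
  ⟨4, [.a2, .a8], [.a2, .a8]⟩,
  ⟨8, [.a3, .a8], [.a3, .a8]⟩,
  ⟨16, [.a4], [.a4, .a5]⟩,
  ⟨32, [.a5], [.a5]⟩,
  ⟨64, [.a6, .a8], [.a6, .a8]⟩,
  ⟨128, [.a7], [.a7, .a8]⟩,
  ⟨256, [.a8], [.a8]⟩,
  ⟨512, [.a9], [.a9]⟩]
theorem bad928 (c : CtxF Goal γ) : Bad Goal γ [] P928 :=
  c.toCtx.bnd (B := B928) (D := D928) (I := [4, 5, 0, 6, 1, 3]) (r := 3) (C := C928) (N := N928) (by decide +kernel) (by decide +kernel) (by decide +kernel) (by decide +kernel)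
    (allB_cons (bad400 c) (allB_cons (bad461 c) (allB_cons (bad441 c) (allB_cons (bad490 c) (allB_cons (bad490 c) (allB_cons (bad490 c) (allB_cons (bad490 c) (allB_nil))))))))

def P929 : List Ent := [⟨1, [.a0, .a8, .a9], [.a0, .a3, .a5, .a6, .a8, .a9]⟩,
  ⟨2, [.a1, .a7, .a8], [.a1, .a2, .a7]⟩,
  ⟨4, [.a2, .a8], [.a2, .a8]⟩,
  ⟨8, [.a3, .a8], [.a3, .a8]⟩,
  ⟨32, [.a5], [.a5]⟩,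
  ⟨64, [.a6, .a8], [.a6, .a8]⟩]
def B929 : List Gv := [⟨[.a0, .a8, .a9], [.a0, .a3, .a5, .a6, .a8, .a9]⟩, ⟨[.a1, .a7, .a8], [.a1, .a2, .a7]⟩, ⟨[.a3, .a8], [.a3, .a8]⟩]
def D929 : List Dv := [⟨[.a5, .a6, .a8], [2, 0, 0], []⟩,
  ⟨[.a2, .a3, .a6, .a8], [2, 1], [1, 2]⟩,
  ⟨[.a6, .a8], [4, 0, 3, 3], []⟩,
  ⟨[.a5], [2], [0]⟩,
  ⟨[.a2, .a8], [2], [6, 1]⟩]
def C929 : List Ch := [⟨P400, 0, [], []⟩,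
  ⟨P462, 1, [], []⟩,
  ⟨P442, 0, [.a10], [.a10, .a11]⟩,
  ⟨P491, 2, [], []⟩,
  ⟨P491, 0, [.a1], [.a1, .a2]⟩,
  ⟨P491, 1, [.a0], [.a0]⟩,
  ⟨P491, 0, [.a0, .a1], [.a0, .a1, .a2]⟩]
def N929 : List Ent := [⟨1, [.a0, .a8, .a9], [.a0, .a3, .a5, .a6, .a8, .a9]⟩,
  ⟨2, [.a1, .a7, .a8], [.a1, .a2, .a7]⟩,
  ⟨4, [.a2, .a8], [.a2, .a8]⟩,
  ⟨8, [.a3, .a8], [.a3, .a8]⟩,
  ⟨16, [.a4], [.a4, .a5]⟩,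
  ⟨32, [.a5], [.a5]⟩,
  ⟨64, [.a6, .a8], [.a6, .a8]⟩,
  ⟨128, [.a7], [.a7, .a8]⟩,
  ⟨256, [.a8], [.a8]⟩,
  ⟨512, [.a9], [.a9]⟩]
theorem bad929 (c : CtxF Goal γ) : Bad Goal γ [] P929 :=
  c.toCtx.bnd (B := B929) (D := D929) (I := [5, 6, 0, 7, 1, 2]) (r := 3) (C := C929) (N := N929) (by decide +kernel) (by decide +kernel) (by decide +kernel) (by decide +kernel)
    (allB_cons (bad400 c) (allB_cons (bad462 c) (allB_cons (bad442 c) (allB_cons (bad491 c) (allB_cons (bad491 c) (allB_cons (bad491 c) (allB_cons (bad491 c) (allB_nil))))))))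

def P930 : List Ent := [⟨1, [.a0], [.a0]⟩,
  ⟨2, [.a1, .a7], [.a1, .a2, .a7, .a8]⟩,
  ⟨4, [.a2, .a8], [.a2, .a8]⟩,
  ⟨8, [.a3, .a8], [.a3, .a8]⟩,
  ⟨32, [.a5], [.a5]⟩,
  ⟨64, [.a6], [.a6]⟩]
def B930 : List Gv := [⟨[.a0], [.a0]⟩, ⟨[.a1, .a7], [.a1, .a2, .a7, .a8]⟩, ⟨[.a6], [.a6]⟩]
def D930 : List Dv := [⟨[.a2, .a3], [1, 0], [0, 1]⟩,
  ⟨[.a3, .a8], [0, 2, 2], []⟩,
  ⟨[.a5], [4, 3], [3, 4]⟩,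
  ⟨[.a2, .a8], [2], [1]⟩]
theorem bad930 (c : CtxF Goal γ) : Bad Goal γ [] P930 :=
  c.toCtx.cent (B := B930) (D := D930) (I := [4, 5, 0, 2, 1, 6]) (z := [.a2]) (by decide +kernel) (by decide +kernel)

def P931 : List Ent := [⟨1, [.a0, .a8], [.a0, .a5, .a8]⟩,
  ⟨2, [.a1, .a7], [.a1, .a2, .a7, .a8]⟩,
  ⟨4, [.a2, .a8], [.a2, .a8]⟩,
  ⟨8, [.a3, .a8], [.a3, .a8]⟩,
  ⟨32, [.a5], [.a5]⟩,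
  ⟨64, [.a6], [.a6]⟩]
def B931 : List Gv := [⟨[.a0, .a8], [.a0, .a5, .a8]⟩, ⟨[.a1, .a7], [.a1, .a2, .a7, .a8]⟩, ⟨[.a6], [.a6]⟩]
def D931 : List Dv := [⟨[.a5], [0, 0], []⟩,
  ⟨[.a2, .a3], [2, 1], [1, 2]⟩,
  ⟨[.a3, .a8], [0, 3, 3], []⟩,
  ⟨[.a2, .a8], [1], [0]⟩]
theorem bad931 (c : CtxF Goal γ) : Bad Goal γ [] P931 :=
  c.toCtx.cent (B := B931) (D := D931) (I := [4, 5, 0, 1, 3, 6]) (z := [.a2]) (by decide +kernel) (by decide +kernel)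

def P932 : List Ent := [⟨1, [.a0], [.a0]⟩,
  ⟨2, [.a1, .a7], [.a1, .a2, .a7, .a8]⟩,
  ⟨4, [.a2], [.a2]⟩,
  ⟨8, [.a3], [.a3]⟩,
  ⟨32, [.a5], [.a5]⟩,
  ⟨256, [.a8], [.a8]⟩]
def B932 : List Gv := [⟨[.a0], [.a0]⟩, ⟨[.a1, .a7], [.a1, .a2, .a7, .a8]⟩, ⟨[.a2], [.a2]⟩]
def D932 : List Dv := [⟨[.a3], [2, 1, 0], [0, 1]⟩,
  ⟨[.a8], [3, 2, 2], []⟩,
  ⟨[.a5], [1, 3], [3, 1]⟩]
theorem bad932 (c : CtxF Goal γ) : Bad Goal γ [] P932 :=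
  c.toCtx.cent (B := B932) (D := D932) (I := [3, 4, 5, 2, 0, 1]) (z := [.a1]) (by decide +kernel) (by decide +kernel)

def P933 : List Ent := [⟨1, [.a0, .a9], [.a0, .a3, .a6, .a9]⟩,
  ⟨2, [.a1, .a7], [.a1, .a2, .a7, .a8]⟩,
  ⟨4, [.a2, .a8], [.a2, .a8]⟩,
  ⟨8, [.a3], [.a3]⟩,
  ⟨32, [.a5], [.a5]⟩,
  ⟨64, [.a6], [.a6]⟩]
def B933 : List Gv := [⟨[.a0, .a9], [.a0, .a3, .a6, .a9]⟩, ⟨[.a1, .a7], [.a1, .a2, .a7, .a8]⟩, ⟨[.a3], [.a3]⟩]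
def D933 : List Dv := [⟨[.a6], [2, 0, 0], []⟩,
  ⟨[.a2, .a3, .a5, .a6, .a8], [2, 1], [1, 2]⟩,
  ⟨[.a5, .a6], [4, 0, 3, 3], []⟩,
  ⟨[.a5], [0], [2]⟩,
  ⟨[.a2, .a8], [2], [6, 0, 3]⟩]
def C933 : List Ch := [⟨P393, 0, [], []⟩,
  ⟨P459, 1, [], []⟩,
  ⟨P446, 0, [.a10], [.a10, .a11]⟩,
  ⟨P478, 2, [], []⟩,
  ⟨P484, 0, [.a1], [.a1, .a2]⟩,
  ⟨P490, 1, [.a0], [.a0]⟩,
  ⟨P491, 0, [.a0, .a1], [.a0, .a1, .a2]⟩]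
def N933 : List Ent := [⟨1, [.a0, .a9], [.a0, .a3, .a6, .a9]⟩,
  ⟨2, [.a1, .a7], [.a1, .a2, .a7, .a8]⟩,
  ⟨4, [.a2, .a8], [.a2, .a8]⟩,
  ⟨8, [.a3], [.a3]⟩,
  ⟨16, [.a4], [.a4, .a5]⟩,
  ⟨32, [.a5], [.a5]⟩,
  ⟨64, [.a6], [.a6]⟩,
  ⟨256, [.a8], [.a8]⟩]
theorem bad933 (c : CtxF Goal γ) : Bad Goal γ [] P933 :=
  c.toCtx.bnd (B := B933) (D := D933) (I := [5, 6, 0, 7, 1, 4]) (r := 3) (C := C933) (N := N933) (by decide +kernel) (by decide +kernel) (by decide +kernel) (by decide +kernel)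
    (allB_cons (bad393 c) (allB_cons (bad459 c) (allB_cons (bad446 c) (allB_cons (bad478 c) (allB_cons (bad484 c) (allB_cons (bad490 c) (allB_cons (bad491 c) (allB_nil))))))))

def P934 : List Ent := [⟨1, [.a0, .a9], [.a0, .a3, .a6, .a9]⟩,
  ⟨2, [.a1, .a7], [.a1, .a2, .a7, .a8]⟩,
  ⟨4, [.a2], [.a2]⟩,
  ⟨8, [.a3, .a6], [.a3, .a6]⟩,
  ⟨32, [.a5], [.a5]⟩,
  ⟨256, [.a8], [.a8]⟩]
def B934 : List Gv := [⟨[.a0, .a9], [.a0, .a3, .a6, .a9]⟩, ⟨[.a1, .a7], [.a1, .a2, .a7, .a8]⟩, ⟨[.a2], [.a2]⟩]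
def D934 : List Dv := [⟨[.a3, .a6], [0, 0], []⟩,
  ⟨[.a5, .a8], [0, 3, 2, 1], [1, 2]⟩,
  ⟨[.a8], [4, 3, 3], []⟩,
  ⟨[.a5], [1], [0]⟩]
def C934 : List Ch := [⟨P398, 0, [], []⟩,
  ⟨P456, 1, [], []⟩,
  ⟨P437, 0, [.a0, .a10], [.a0, .a1, .a2, .a3, .a4, .a6, .a8, .a9, .a10, .a11]⟩,
  ⟨P478, 2, [], []⟩,
  ⟨P484, 0, [], []⟩,
  ⟨P490, 1, [], []⟩,
  ⟨P491, 0, [], []⟩]
def N934 : List Ent := [⟨1, [.a0, .a9], [.a0, .a3, .a6, .a9]⟩,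
  ⟨2, [.a1, .a7], [.a1, .a2, .a7, .a8]⟩,
  ⟨4, [.a2], [.a2]⟩,
  ⟨8, [.a3, .a6], [.a3, .a6]⟩,
  ⟨16, [.a4], [.a4, .a5]⟩,
  ⟨32, [.a5], [.a5]⟩,
  ⟨64, [.a6], [.a6]⟩,
  ⟨256, [.a8], [.a8]⟩]
theorem bad934 (c : CtxF Goal γ) : Bad Goal γ [] P934 :=
  c.toCtx.bnd (B := B934) (D := D934) (I := [4, 5, 6, 3, 0, 1]) (r := 3) (C := C934) (N := N934) (by decide +kernel) (by decide +kernel) (by decide +kernel) (by decide +kernel)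
    (allB_cons (bad398 c) (allB_cons (bad456 c) (allB_cons (bad437 c) (allB_cons (bad478 c) (allB_cons (bad484 c) (allB_cons (bad490 c) (allB_cons (bad491 c) (allB_nil))))))))

def P935 : List Ent := [⟨1, [.a0], [.a0]⟩,
  ⟨2, [.a1, .a7, .a9], [.a1, .a2, .a6, .a7, .a9]⟩,
  ⟨4, [.a2, .a6], [.a2, .a6]⟩,
  ⟨8, [.a3], [.a3]⟩,
  ⟨32, [.a5], [.a5]⟩,
  ⟨256, [.a8], [.a8]⟩]
def B935 : List Gv := [⟨[.a0], [.a0]⟩, ⟨[.a1, .a7, .a9], [.a1, .a2, .a6, .a7, .a9]⟩, ⟨[.a3], [.a3]⟩, ⟨[.a8], [.a8]⟩]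
def D935 : List Dv := [⟨[.a2, .a6], [1, 0], [0, 1]⟩,
  ⟨[.a5], [0, 2, 2], []⟩]
theorem bad935 (c : CtxF Goal γ) : Bad Goal γ [] P935 :=
  c.toCtx.cent (B := B935) (D := D935) (I := [2, 3, 1, 4, 0, 5]) (z := [.a2, .a3]) (by decide +kernel) (by decide +kernel)

def P936 : List Ent := [⟨1, [.a0], [.a0]⟩,
  ⟨2, [.a1, .a7, .a9], [.a1, .a2, .a6, .a7, .a9]⟩,
  ⟨4, [.a2], [.a2]⟩,
  ⟨32, [.a5], [.a5]⟩,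
  ⟨64, [.a6], [.a6]⟩,
  ⟨256, [.a8], [.a8]⟩]
def B936 : List Gv := [⟨[.a0], [.a0]⟩, ⟨[.a1, .a7, .a9], [.a1, .a2, .a6, .a7, .a9]⟩, ⟨[.a2], [.a2]⟩, ⟨[.a8], [.a8]⟩]
def D936 : List Dv := [⟨[.a6], [2, 1, 0], [0, 1]⟩,
  ⟨[.a5, .a6], [3, 2, 2], []⟩,
  ⟨[.a5], [0], [1]⟩]
theorem bad936 (c : CtxF Goal γ) : Bad Goal γ [] P936 :=
  c.toCtx.cent (B := B936) (D := D936) (I := [3, 4, 5, 0, 2, 6]) (z := [.a2, .a3]) (by decide +kernel) (by decide +kernel)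

def P937 : List Ent := [⟨1, [.a0], [.a0]⟩,
  ⟨2, [.a1, .a7, .a9], [.a1, .a2, .a6, .a7, .a9]⟩,
  ⟨4, [.a2, .a6], [.a2, .a6]⟩,
  ⟨8, [.a3, .a6], [.a3, .a6]⟩,
  ⟨32, [.a5], [.a5]⟩,
  ⟨256, [.a8], [.a8]⟩]
def B937 : List Gv := [⟨[.a0], [.a0]⟩, ⟨[.a1, .a7, .a9], [.a1, .a2, .a6, .a7, .a9]⟩, ⟨[.a3, .a6], [.a3, .a6]⟩, ⟨[.a8], [.a8]⟩]
def D937 : List Dv := [⟨[.a2, .a6], [1, 0], [0, 1]⟩,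
  ⟨[.a5], [0, 2, 2], []⟩]
def C937 : List Ch := [⟨P398, 0, [.a11], [.a11]⟩,
  ⟨P440, 1, [], []⟩,
  ⟨P438, 0, [.a10], [.a10, .a11]⟩,
  ⟨P492, 2, [], []⟩,
  ⟨P492, 0, [.a7], [.a7, .a8]⟩,
  ⟨P493, 1, [], []⟩,
  ⟨P493, 0, [.a7], [.a7, .a8]⟩,
  ⟨P482, 3, [], []⟩,
  ⟨P488, 0, [], []⟩,
  ⟨P489, 1, [.a4], [.a4, .a5]⟩,
  ⟨P483, 0, [.a4], [.a4, .a5]⟩,
  ⟨P494, 2, [], []⟩,
  ⟨P494, 0, [.a7], [.a7, .a8]⟩,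
  ⟨P495, 1, [], []⟩,
  ⟨P495, 0, [.a7], [.a7, .a8]⟩]
def S937 : List St := [.phi 1 [⟨4, [.a2, .a6], [.a2, .a6]⟩,
  ⟨32, [.a5], [.a5]⟩] [[[.a0, .a8], [.a1, .a7, .a9]], [[.a0, .a8]]]]
theorem bad937 (c : CtxF Goal γ) : Bad Goal γ [] P937 :=
  c.toCtx.chn (B := B937) (D := D937) (I := [2, 3, 1, 4, 0, 5]) (r := 4) (C := C937) (l := S937) (x := ⟨[.a6], [.a6]⟩) (ix := [0]) (by decide +kernel) (by decide +kernel) (by decide +kernel) (by decide +kernel)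
    (allB_cons (bad398 c) (allB_cons (bad440 c) (allB_cons (bad438 c) (allB_cons (bad492 c) (allB_cons (bad492 c) (allB_cons (bad493 c) (allB_cons (bad493 c) (allB_cons (bad482 c) (allB_cons (bad488 c) (allB_cons (bad489 c) (allB_cons (bad483 c) (allB_cons (bad494 c) (allB_cons (bad494 c) (allB_cons (bad495 c) (allB_cons (bad495 c) (allB_nil))))))))))))))))

def P938 : List Ent := [⟨1, [.a0], [.a0]⟩,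
  ⟨2, [.a1, .a7, .a9], [.a1, .a2, .a6, .a7, .a9]⟩,
  ⟨4, [.a2], [.a2]⟩,
  ⟨8, [.a3], [.a3]⟩,
  ⟨32, [.a5], [.a5]⟩,
  ⟨64, [.a6], [.a6]⟩]
def B938 : List Gv := [⟨[.a0], [.a0]⟩, ⟨[.a1, .a7, .a9], [.a1, .a2, .a6, .a7, .a9]⟩, ⟨[.a2], [.a2]⟩, ⟨[.a3], [.a3]⟩]
def D938 : List Dv := [⟨[.a6], [2, 1, 0], [0, 1]⟩,
  ⟨[.a5, .a6], [3, 2, 2], []⟩,
  ⟨[.a5], [0], [1]⟩]
def C938 : List Ch := [⟨P395, 0, [.a1, .a11], [.a1, .a2, .a5, .a6, .a9, .a11]⟩,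
  ⟨P441, 1, [], []⟩,
  ⟨P447, 0, [.a1, .a10], [.a1, .a2, .a4, .a5, .a7, .a9, .a10, .a11]⟩,
  ⟨P496, 2, [], []⟩,
  ⟨P496, 0, [.a7], [.a7, .a8]⟩,
  ⟨P497, 1, [], []⟩,
  ⟨P497, 0, [.a7], [.a7, .a8]⟩,
  ⟨P498, 3, [], []⟩,
  ⟨P498, 0, [.a7], [.a7, .a8]⟩,
  ⟨P498, 1, [.a1, .a3, .a4], [.a1, .a2, .a4, .a5]⟩,
  ⟨P498, 0, [.a4, .a8, .a9], [.a4, .a5, .a9]⟩,
  ⟨P482, 2, [], []⟩,
  ⟨P489, 0, [], []⟩,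
  ⟨P489, 1, [.a1, .a3, .a4], [.a1, .a2, .a4, .a5]⟩,
  ⟨P482, 0, [.a1, .a3, .a4], [.a1, .a2, .a4, .a5]⟩]
def N938 : List Ent := [⟨1, [.a0], [.a0]⟩,
  ⟨2, [.a1, .a7, .a9], [.a1, .a2, .a6, .a7, .a9]⟩,
  ⟨4, [.a2], [.a2]⟩,
  ⟨8, [.a3], [.a3]⟩,
  ⟨16, [.a4, .a9], [.a4, .a5, .a8, .a9]⟩,
  ⟨32, [.a5], [.a5]⟩,
  ⟨64, [.a6], [.a6]⟩,
  ⟨128, [.a7], [.a7, .a8]⟩,
  ⟨256, [.a8], [.a8]⟩]
theorem bad938 (c : CtxF Goal γ) : Bad Goal γ [] P938 :=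
  c.toCtx.bnd (B := B938) (D := D938) (I := [3, 4, 5, 6, 0, 2]) (r := 4) (C := C938) (N := N938) (by decide +kernel) (by decide +kernel) (by decide +kernel) (by decide +kernel)
    (allB_cons (bad395 c) (allB_cons (bad441 c) (allB_cons (bad447 c) (allB_cons (bad496 c) (allB_cons (bad496 c) (allB_cons (bad497 c) (allB_cons (bad497 c) (allB_cons (bad498 c) (allB_cons (bad498 c) (allB_cons (bad498 c) (allB_cons (bad498 c) (allB_cons (bad482 c) (allB_cons (bad489 c) (allB_cons (bad489 c) (allB_cons (bad482 c) (allB_nil))))))))))))))))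

def P939 : List Ent := [⟨1, [.a0, .a8], [.a0, .a5, .a8]⟩,
  ⟨2, [.a1, .a7, .a9], [.a1, .a2, .a6, .a7, .a9]⟩,
  ⟨4, [.a2], [.a2]⟩,
  ⟨8, [.a3], [.a3]⟩,
  ⟨32, [.a5], [.a5]⟩,
  ⟨64, [.a6], [.a6]⟩]
def B939 : List Gv := [⟨[.a0, .a8], [.a0, .a5, .a8]⟩, ⟨[.a1, .a7, .a9], [.a1, .a2, .a6, .a7, .a9]⟩, ⟨[.a2], [.a2]⟩, ⟨[.a3], [.a3]⟩]
def D939 : List Dv := [⟨[.a5], [0, 0], []⟩,
  ⟨[.a6], [3, 2, 1], [1, 2]⟩]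
def C939 : List Ch := [⟨P395, 0, [.a1, .a11], [.a1, .a2, .a5, .a6, .a9, .a11]⟩,
  ⟨P442, 1, [], []⟩,
  ⟨P447, 0, [.a10], [.a10, .a11]⟩,
  ⟨P499, 2, [], []⟩,
  ⟨P499, 0, [.a7], [.a7, .a8]⟩,
  ⟨P500, 1, [], []⟩,
  ⟨P500, 0, [.a7], [.a7, .a8]⟩,
  ⟨P501, 3, [], []⟩,
  ⟨P501, 0, [.a7], [.a7, .a8]⟩,
  ⟨P501, 1, [.a1, .a3, .a4], [.a1, .a2, .a4, .a5]⟩,
  ⟨P501, 0, [.a4, .a8, .a9], [.a4, .a5, .a9]⟩,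
  ⟨P488, 2, [], []⟩,
  ⟨P483, 0, [], []⟩,
  ⟨P483, 1, [.a1, .a3, .a4], [.a1, .a2, .a4, .a5]⟩,
  ⟨P488, 0, [.a1, .a3, .a4], [.a1, .a2, .a4, .a5]⟩]
def N939 : List Ent := [⟨1, [.a0, .a8], [.a0, .a5, .a8]⟩,
  ⟨2, [.a1, .a7, .a9], [.a1, .a2, .a6, .a7, .a9]⟩,
  ⟨4, [.a2], [.a2]⟩,
  ⟨8, [.a3], [.a3]⟩,
  ⟨16, [.a4, .a9], [.a4, .a5, .a8, .a9]⟩,
  ⟨32, [.a5], [.a5]⟩,
  ⟨64, [.a6], [.a6]⟩,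
  ⟨128, [.a7], [.a7, .a8]⟩,
  ⟨256, [.a8], [.a8]⟩]
theorem bad939 (c : CtxF Goal γ) : Bad Goal γ [] P939 :=
  c.toCtx.bnd (B := B939) (D := D939) (I := [2, 3, 4, 5, 1, 0]) (r := 4) (C := C939) (N := N939) (by decide +kernel) (by decide +kernel) (by decide +kernel) (by decide +kernel)
    (allB_cons (bad395 c) (allB_cons (bad442 c) (allB_cons (bad447 c) (allB_cons (bad499 c) (allB_cons (bad499 c) (allB_cons (bad500 c) (allB_cons (bad500 c) (allB_cons (bad501 c) (allB_cons (bad501 c) (allB_cons (bad501 c) (allB_cons (bad501 c) (allB_cons (bad488 c) (allB_cons (bad483 c) (allB_cons (bad483 c) (allB_cons (bad488 c) (allB_nil))))))))))))))))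

def P940 : List Ent := [⟨1, [.a0], [.a0]⟩,
  ⟨2, [.a1, .a7, .a9], [.a1, .a2, .a6, .a7, .a9]⟩,
  ⟨4, [.a2, .a8], [.a2, .a8]⟩,
  ⟨8, [.a3], [.a3]⟩,
  ⟨32, [.a5], [.a5]⟩,
  ⟨64, [.a6, .a8], [.a6, .a8]⟩]
def B940 : List Gv := [⟨[.a0], [.a0]⟩, ⟨[.a1, .a7, .a9], [.a1, .a2, .a6, .a7, .a9]⟩, ⟨[.a2, .a8], [.a2, .a8]⟩, ⟨[.a3], [.a3]⟩]
def D940 : List Dv := [⟨[.a6, .a8], [2, 1, 0], [0, 1]⟩,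
  ⟨[.a5, .a6, .a8], [3, 2, 2], []⟩,
  ⟨[.a5], [0], [1]⟩]
theorem bad940 (c : CtxF Goal γ) : Bad Goal γ [] P940 :=
  c.toCtx.cent (B := B940) (D := D940) (I := [3, 4, 5, 6, 0, 2]) (z := [.a2, .a3]) (by decide +kernel) (by decide +kernel)

def P941 : List Ent := [⟨1, [.a0], [.a0]⟩,
  ⟨2, [.a1, .a7, .a8, .a9], [.a1, .a2, .a6, .a7, .a8, .a9]⟩,
  ⟨4, [.a2, .a8], [.a2, .a8]⟩,
  ⟨8, [.a3], [.a3]⟩,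
  ⟨32, [.a5], [.a5]⟩,
  ⟨64, [.a6, .a8], [.a6, .a8]⟩]
def B941 : List Gv := [⟨[.a0], [.a0]⟩, ⟨[.a1, .a7, .a8, .a9], [.a1, .a2, .a6, .a7, .a8, .a9]⟩, ⟨[.a2, .a8], [.a2, .a8]⟩, ⟨[.a3], [.a3]⟩]
def D941 : List Dv := [⟨[.a5, .a6, .a8], [2, 1, 0], [0, 1]⟩,
  ⟨[.a6, .a8], [0, 3, 1], [1, 3]⟩,
  ⟨[.a5], [1], [0]⟩]
theorem bad941 (c : CtxF Goal γ) : Bad Goal γ [] P941 :=
  c.toCtx.cent (B := B941) (D := D941) (I := [3, 4, 5, 6, 0, 1]) (z := [.a2, .a3]) (by decide +kernel) (by decide +kernel)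

def P942 : List Ent := [⟨1, [.a0], [.a0]⟩,
  ⟨2, [.a1, .a7, .a9], [.a1, .a2, .a6, .a7, .a9]⟩,
  ⟨4, [.a2], [.a2]⟩,
  ⟨8, [.a3, .a8], [.a3, .a8]⟩,
  ⟨32, [.a5], [.a5]⟩,
  ⟨64, [.a6], [.a6]⟩]
def B942 : List Gv := [⟨[.a0], [.a0]⟩, ⟨[.a1, .a7, .a9], [.a1, .a2, .a6, .a7, .a9]⟩, ⟨[.a2], [.a2]⟩, ⟨[.a3, .a8], [.a3, .a8]⟩]
def D942 : List Dv := [⟨[.a6], [2, 1, 0], [0, 1]⟩,
  ⟨[.a5, .a6], [3, 2, 2], []⟩,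
  ⟨[.a5], [0], [1]⟩]
theorem bad942 (c : CtxF Goal γ) : Bad Goal γ [] P942 :=
  c.toCtx.cent (B := B942) (D := D942) (I := [3, 4, 5, 6, 0, 2]) (z := [.a2, .a3]) (by decide +kernel) (by decide +kernel)

def P943 : List Ent := [⟨1, [.a0, .a10], [.a0, .a1, .a2, .a3, .a4, .a6, .a8, .a9, .a10, .a11]⟩,
  ⟨2, [.a1, .a3, .a7, .a9, .a11], [.a1, .a2, .a3, .a7, .a8, .a11]⟩,
  ⟨4, [.a2, .a9], [.a2, .a5, .a9]⟩,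
  ⟨32, [.a5], [.a5]⟩,
  ⟨64, [.a6], [.a6]⟩,
  ⟨256, [.a8], [.a8]⟩]
def B943 : List Gv := [⟨[.a0, .a10], [.a0, .a1, .a2, .a3, .a4, .a6, .a8, .a9, .a10, .a11]⟩, ⟨[.a1, .a3, .a7, .a9, .a11], [.a1, .a2, .a3, .a7, .a8, .a11]⟩]
def D943 : List Dv := [⟨[.a2, .a8, .a9], [1, 0, 0], []⟩,
  ⟨[.a8], [2, 1], [1, 2]⟩,
  ⟨[.a6, .a8], [1, 3, 3], []⟩,
  ⟨[.a5], [2, 4], [4, 2]⟩,
  ⟨[.a6], [1], [2]⟩,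
  ⟨[.a2, .a9], [4], [3]⟩]
def C943 : List Ch := [⟨P401, 0, [.a0, .a1, .a3, .a5, .a6, .a7, .a8, .a9, .a10], [.a0, .a10, .a11]⟩,
  ⟨P502, 1, [], []⟩,
  ⟨P502, 0, [.a3], [.a3]⟩]
def N943 : List Ent := [⟨1, [.a0, .a10], [.a0, .a1, .a2, .a3, .a4, .a6, .a8, .a9, .a10, .a11]⟩,
  ⟨2, [.a1, .a3, .a7, .a9, .a11], [.a1, .a2, .a3, .a7, .a8, .a11]⟩,
  ⟨4, [.a2, .a9], [.a2, .a5, .a9]⟩,
  ⟨8, [.a3], [.a3]⟩,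
  ⟨32, [.a5], [.a5]⟩,
  ⟨64, [.a6], [.a6]⟩,
  ⟨128, [.a7], [.a7, .a8]⟩,
  ⟨256, [.a8], [.a8]⟩]
theorem bad943 (c : CtxF Goal γ) : Bad Goal γ [] P943 :=
  c.toCtx.bnd (B := B943) (D := D943) (I := [6, 7, 0, 2, 1, 4]) (r := 2) (C := C943) (N := N943) (by decide +kernel) (by decide +kernel) (by decide +kernel) (by decide +kernel)
    (allB_cons (bad401 c) (allB_cons (bad502 c) (allB_cons (bad502 c) (allB_nil))))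

def P944 : List Ent := [⟨1, [.a0, .a7], [.a0, .a2, .a3, .a5, .a7, .a8]⟩,
  ⟨4, [.a2, .a3, .a8], [.a2, .a3, .a8]⟩,
  ⟨16, [.a4, .a7, .a8, .a9], [.a4, .a5, .a6, .a7, .a8, .a9]⟩,
  ⟨32, [.a5], [.a5]⟩,
  ⟨64, [.a6], [.a6]⟩,
  ⟨2048, [.a11], [.a11]⟩]
def B944 : List Gv := [⟨[.a0, .a7], [.a0, .a2, .a3, .a5, .a7, .a8]⟩, ⟨[.a5], [.a5]⟩, ⟨[.a11], [.a11]⟩]
def D944 : List Dv := [⟨[.a2, .a3, .a8], [0, 0], []⟩,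
  ⟨[.a4, .a7, .a8, .a9], [0, 3, 1], [1, 3]⟩,
  ⟨[.a6], [3, 1, 4], [4, 1]⟩]
def C944 : List Ch := [⟨P366, 0, [.a4, .a10], [.a4, .a5, .a10, .a11]⟩,
  ⟨P503, 1, [], []⟩,
  ⟨P503, 0, [.a0, .a2, .a3, .a7], [.a0, .a7, .a8]⟩,
  ⟨P504, 2, [], []⟩,
  ⟨P505, 0, [], []⟩,
  ⟨P506, 1, [], []⟩,
  ⟨P506, 0, [.a0, .a2, .a3, .a7], [.a0, .a7, .a8]⟩]
def S944 : List St := [.cent 1 1 0 [⟨16, [.a4, .a7, .a8, .a9], [.a4, .a5, .a6, .a7, .a8, .a9]⟩,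
  ⟨32, [.a5], [.a5]⟩,
  ⟨64, [.a6], [.a6]⟩]]
theorem bad944 (c : CtxF Goal γ) : Bad Goal γ [] P944 :=
  c.toCtx.chn (B := B944) (D := D944) (I := [3, 2, 1, 4, 0, 5]) (r := 3) (C := C944) (l := S944) (x := ⟨[.a8], [.a8]⟩) (ix := [0]) (by decide +kernel) (by decide +kernel) (by decide +kernel) (by decide +kernel)
    (allB_cons (bad366 c) (allB_cons (bad503 c) (allB_cons (bad503 c) (allB_cons (bad504 c) (allB_cons (bad505 c) (allB_cons (bad506 c) (allB_cons (bad506 c) (allB_nil))))))))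

def P945 : List Ent := [⟨1, [.a0, .a7], [.a0, .a2, .a3, .a5, .a7, .a8]⟩,
  ⟨4, [.a2, .a3], [.a2, .a3]⟩,
  ⟨16, [.a4, .a7, .a9], [.a4, .a5, .a6, .a7, .a9]⟩,
  ⟨32, [.a5], [.a5]⟩,
  ⟨64, [.a6], [.a6]⟩,
  ⟨256, [.a8], [.a8]⟩]
def B945 : List Gv := [⟨[.a0, .a7], [.a0, .a2, .a3, .a5, .a7, .a8]⟩, ⟨[.a2, .a3], [.a2, .a3]⟩, ⟨[.a4, .a7, .a9], [.a4, .a5, .a6, .a7, .a9]⟩]
def D945 : List Dv := [⟨[.a8], [1, 0, 0], []⟩,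
  ⟨[.a5], [2, 1], [1, 2]⟩,
  ⟨[.a6], [0, 4, 4], []⟩]
def C945 : List Ch := [⟨P368, 0, [.a10], [.a10, .a11]⟩,
  ⟨P507, 1, [], []⟩,
  ⟨P507, 0, [.a0], [.a0]⟩,
  ⟨P508, 2, [], []⟩,
  ⟨P508, 0, [.a11], [.a11]⟩,
  ⟨P504, 1, [], []⟩,
  ⟨P504, 0, [.a0], [.a0]⟩]
def N945 : List Ent := [⟨1, [.a0, .a7], [.a0, .a2, .a3, .a5, .a7, .a8]⟩,
  ⟨4, [.a2, .a3], [.a2, .a3]⟩,
  ⟨8, [.a3], [.a3]⟩,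
  ⟨16, [.a4, .a7, .a9], [.a4, .a5, .a6, .a7, .a9]⟩,
  ⟨32, [.a5], [.a5]⟩,
  ⟨64, [.a6], [.a6]⟩,
  ⟨128, [.a7], [.a7, .a8]⟩,
  ⟨256, [.a8], [.a8]⟩,
  ⟨2048, [.a11], [.a11]⟩]
theorem bad945 (c : CtxF Goal γ) : Bad Goal γ [] P945 :=
  c.toCtx.bnd (B := B945) (D := D945) (I := [3, 4, 5, 1, 0, 2]) (r := 3) (C := C945) (N := N945) (by decide +kernel) (by decide +kernel) (by decide +kernel) (by decide +kernel)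
    (allB_cons (bad368 c) (allB_cons (bad507 c) (allB_cons (bad507 c) (allB_cons (bad508 c) (allB_cons (bad508 c) (allB_cons (bad504 c) (allB_cons (bad504 c) (allB_nil))))))))

def P946 : List Ent := [⟨1, [.a0, .a7, .a11], [.a0, .a4, .a5, .a9, .a11]⟩,
  ⟨4, [.a2, .a3], [.a2, .a3]⟩,
  ⟨16, [.a4, .a7, .a9], [.a4, .a5, .a6, .a7, .a9]⟩,
  ⟨32, [.a5], [.a5]⟩,
  ⟨64, [.a6], [.a6]⟩,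
  ⟨256, [.a8], [.a8]⟩]
def B946 : List Gv := [⟨[.a0, .a7, .a11], [.a0, .a4, .a5, .a9, .a11]⟩, ⟨[.a2, .a3], [.a2, .a3]⟩, ⟨[.a4, .a7, .a9], [.a4, .a5, .a6, .a7, .a9]⟩]
def D946 : List Dv := [⟨[.a5, .a6, .a8], [2, 0, 0], []⟩,
  ⟨[.a6], [2, 1], [1, 2]⟩,
  ⟨[.a8], [0, 1, 4, 2], [2, 4]⟩,
  ⟨[.a5], [2], [1, 0]⟩]
def C946 : List Ch := [⟨P368, 0, [.a10], [.a10, .a11]⟩,
  ⟨P509, 1, [], []⟩,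
  ⟨P509, 0, [.a7], [.a7, .a8]⟩,
  ⟨P510, 2, [], []⟩,
  ⟨P510, 0, [.a0], [.a0]⟩,
  ⟨P505, 1, [], []⟩,
  ⟨P505, 0, [.a0], [.a0]⟩]
def N946 : List Ent := [⟨1, [.a0, .a7, .a11], [.a0, .a4, .a5, .a9, .a11]⟩,
  ⟨4, [.a2, .a3], [.a2, .a3]⟩,
  ⟨8, [.a3], [.a3]⟩,
  ⟨16, [.a4, .a7, .a9], [.a4, .a5, .a6, .a7, .a9]⟩,
  ⟨32, [.a5], [.a5]⟩,
  ⟨64, [.a6], [.a6]⟩,
  ⟨128, [.a7], [.a7, .a8]⟩,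
  ⟨256, [.a8], [.a8]⟩,
  ⟨2048, [.a11], [.a11]⟩]
theorem bad946 (c : CtxF Goal γ) : Bad Goal γ [] P946 :=
  c.toCtx.bnd (B := B946) (D := D946) (I := [4, 5, 6, 0, 2, 1]) (r := 3) (C := C946) (N := N946) (by decide +kernel) (by decide +kernel) (by decide +kernel) (by decide +kernel)
    (allB_cons (bad368 c) (allB_cons (bad509 c) (allB_cons (bad509 c) (allB_cons (bad510 c) (allB_cons (bad510 c) (allB_cons (bad505 c) (allB_cons (bad505 c) (allB_nil))))))))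

def P947 : List Ent := [⟨1, [.a0, .a7], [.a0, .a2, .a3, .a5, .a7, .a8]⟩,
  ⟨4, [.a2, .a8], [.a2, .a8]⟩,
  ⟨8, [.a3], [.a3]⟩,
  ⟨16, [.a4, .a7, .a9], [.a4, .a5, .a6, .a7, .a9]⟩,
  ⟨32, [.a5], [.a5]⟩,
  ⟨64, [.a6], [.a6]⟩]
def B947 : List Gv := [⟨[.a0, .a7], [.a0, .a2, .a3, .a5, .a7, .a8]⟩, ⟨[.a2, .a8], [.a2, .a8]⟩, ⟨[.a4, .a7, .a9], [.a4, .a5, .a6, .a7, .a9]⟩]
def D947 : List Dv := [⟨[.a3], [1, 0, 0], []⟩,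
  ⟨[.a5], [2, 1], [1, 2]⟩,
  ⟨[.a6], [0, 4, 4], []⟩]
def C947 : List Ch := [⟨P374, 0, [.a10], [.a10, .a11]⟩,
  ⟨P507, 1, [], []⟩,
  ⟨P504, 0, [.a9], [.a9]⟩,
  ⟨P511, 2, [], []⟩,
  ⟨P512, 0, [], []⟩,
  ⟨P504, 1, [.a1], [.a1, .a2]⟩,
  ⟨P507, 0, [.a1, .a5, .a6, .a8, .a9], [.a1, .a2, .a9]⟩]
def N947 : List Ent := [⟨1, [.a0, .a7], [.a0, .a2, .a3, .a5, .a7, .a8]⟩,
  ⟨2, [.a1, .a9], [.a1, .a2, .a6, .a8, .a9]⟩,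
  ⟨4, [.a2, .a8], [.a2, .a8]⟩,
  ⟨8, [.a3], [.a3]⟩,
  ⟨16, [.a4, .a7, .a9], [.a4, .a5, .a6, .a7, .a9]⟩,
  ⟨32, [.a5], [.a5]⟩,
  ⟨64, [.a6], [.a6]⟩,
  ⟨256, [.a8], [.a8]⟩]
theorem bad947 (c : CtxF Goal γ) : Bad Goal γ [] P947 :=
  c.toCtx.bnd (B := B947) (D := D947) (I := [3, 4, 2, 5, 1, 0]) (r := 3) (C := C947) (N := N947) (by decide +kernel) (by decide +kernel) (by decide +kernel) (by decide +kernel)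
    (allB_cons (bad374 c) (allB_cons (bad507 c) (allB_cons (bad504 c) (allB_cons (bad511 c) (allB_cons (bad512 c) (allB_cons (bad504 c) (allB_cons (bad507 c) (allB_nil))))))))

def P948 : List Ent := [⟨1, [.a0, .a7], [.a0, .a2, .a3, .a5, .a7, .a8]⟩,
  ⟨4, [.a2], [.a2]⟩,
  ⟨8, [.a3], [.a3]⟩,
  ⟨32, [.a5], [.a5]⟩,
  ⟨64, [.a6], [.a6]⟩,
  ⟨256, [.a8], [.a8]⟩]
def B948 : List Gv := [⟨[.a0, .a7], [.a0, .a2, .a3, .a5, .a7, .a8]⟩, ⟨[.a2], [.a2]⟩, ⟨[.a3], [.a3]⟩, ⟨[.a6], [.a6]⟩]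
def D948 : List Dv := [⟨[.a8], [2, 1, 0, 0], []⟩,
  ⟨[.a5], [3, 1], [1, 3]⟩]
def C948 : List Ch := [⟨P286, 0, [], []⟩,
  ⟨P511, 1, [], []⟩,
  ⟨P511, 0, [.a0], [.a0]⟩,
  ⟨P512, 2, [.a0, .a2, .a3, .a4, .a5, .a6, .a7, .a9, .a11], [.a0, .a11]⟩,
  ⟨P512, 0, [.a11], [.a11]⟩,
  ⟨P508, 1, [], []⟩,
  ⟨P508, 0, [.a4], [.a4, .a5]⟩,
  ⟨P513, 3, [], []⟩,
  ⟨P513, 0, [.a4], [.a4, .a5]⟩,
  ⟨P514, 1, [], []⟩,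
  ⟨P514, 0, [.a0], [.a0]⟩,
  ⟨P515, 2, [], []⟩,
  ⟨P515, 0, [.a0], [.a0]⟩,
  ⟨P516, 1, [], []⟩,
  ⟨P517, 0, [], []⟩]
def N948 : List Ent := [⟨1, [.a0, .a7], [.a0, .a2, .a3, .a5, .a7, .a8]⟩,
  ⟨2, [.a1], [.a1, .a2]⟩,
  ⟨4, [.a2], [.a2]⟩,
  ⟨8, [.a3], [.a3]⟩,
  ⟨16, [.a4], [.a4, .a5]⟩,
  ⟨32, [.a5], [.a5]⟩,
  ⟨64, [.a6], [.a6]⟩,
  ⟨128, [.a7], [.a7, .a8]⟩,
  ⟨256, [.a8], [.a8]⟩,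
  ⟨512, [.a9], [.a9]⟩]
theorem bad948 (c : CtxF Goal γ) : Bad Goal γ [] P948 :=
  c.toCtx.bnd (B := B948) (D := D948) (I := [2, 3, 4, 0, 5, 1]) (r := 4) (C := C948) (N := N948) (by decide +kernel) (by decide +kernel) (by decide +kernel) (by decide +kernel)
    (allB_cons (bad286 c) (allB_cons (bad511 c) (allB_cons (bad511 c) (allB_cons (bad512 c) (allB_cons (bad512 c) (allB_cons (bad508 c) (allB_cons (bad508 c) (allB_cons (bad513 c) (allB_cons (bad513 c) (allB_cons (bad514 c) (allB_cons (bad514 c) (allB_cons (bad515 c) (allB_cons (bad515 c) (allB_cons (bad516 c) (allB_cons (bad517 c) (allB_nil))))))))))))))))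

def P949 : List Ent := [⟨1, [.a0, .a7, .a11], [.a0, .a4, .a5, .a9, .a11]⟩,
  ⟨8, [.a3], [.a3]⟩,
  ⟨16, [.a4, .a7, .a9], [.a4, .a5, .a6, .a7, .a9]⟩,
  ⟨32, [.a5], [.a5]⟩,
  ⟨64, [.a6], [.a6]⟩,
  ⟨256, [.a8], [.a8]⟩]
def B949 : List Gv := [⟨[.a0, .a7, .a11], [.a0, .a4, .a5, .a9, .a11]⟩, ⟨[.a3], [.a3]⟩]
def D949 : List Dv := [⟨[.a4, .a7, .a8, .a9], [0, 0], []⟩,
  ⟨[.a8], [2, 1], [1, 2]⟩,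
  ⟨[.a5], [1, 3], [3, 1]⟩,
  ⟨[.a6], [0, 2, 2], []⟩,
  ⟨[.a4, .a7, .a9], [3], [2]⟩]
def C949 : List Ch := [⟨P272, 0, [.a10], [.a10, .a11]⟩,
  ⟨P509, 1, [], []⟩,
  ⟨P509, 0, [.a9], [.a9]⟩]
def N949 : List Ent := [⟨1, [.a0, .a7, .a11], [.a0, .a4, .a5, .a9, .a11]⟩,
  ⟨4, [.a2], [.a2]⟩,
  ⟨8, [.a3], [.a3]⟩,
  ⟨16, [.a4, .a7, .a9], [.a4, .a5, .a6, .a7, .a9]⟩,
  ⟨32, [.a5], [.a5]⟩,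
  ⟨64, [.a6], [.a6]⟩,
  ⟨128, [.a7, .a11], [.a7, .a8, .a11]⟩,
  ⟨256, [.a8], [.a8]⟩,
  ⟨512, [.a9], [.a9]⟩]
theorem bad949 (c : CtxF Goal γ) : Bad Goal γ [] P949 :=
  c.toCtx.bnd (B := B949) (D := D949) (I := [5, 6, 0, 2, 1, 3]) (r := 2) (C := C949) (N := N949) (by decide +kernel) (by decide +kernel) (by decide +kernel) (by decide +kernel)
    (allB_cons (bad272 c) (allB_cons (bad509 c) (allB_cons (bad509 c) (allB_nil))))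

def P950 : List Ent := [⟨1, [.a0, .a7, .a11], [.a0, .a4, .a5, .a9, .a11]⟩,
  ⟨4, [.a2], [.a2]⟩,
  ⟨16, [.a4, .a7, .a9], [.a4, .a5, .a6, .a7, .a9]⟩,
  ⟨32, [.a5], [.a5]⟩,
  ⟨64, [.a6], [.a6]⟩,
  ⟨256, [.a8], [.a8]⟩]
def B950 : List Gv := [⟨[.a0, .a7, .a11], [.a0, .a4, .a5, .a9, .a11]⟩, ⟨[.a2], [.a2]⟩]
def D950 : List Dv := [⟨[.a4, .a7, .a8, .a9], [0, 0], []⟩,
  ⟨[.a6, .a8], [2, 1], [1, 2]⟩,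
  ⟨[.a5], [1, 3], [3, 1]⟩,
  ⟨[.a8], [1, 0, 2, 2], []⟩,
  ⟨[.a6], [2], [0]⟩,
  ⟨[.a4, .a7, .a9], [4], [1]⟩]
def C950 : List Ch := [⟨P372, 0, [], []⟩,
  ⟨P509, 1, [], []⟩,
  ⟨P509, 0, [.a4], [.a4, .a5]⟩]
def N950 : List Ent := [⟨1, [.a0, .a7, .a11], [.a0, .a4, .a5, .a9, .a11]⟩,
  ⟨4, [.a2], [.a2]⟩,
  ⟨8, [.a3], [.a3]⟩,
  ⟨16, [.a4, .a7, .a9], [.a4, .a5, .a6, .a7, .a9]⟩,
  ⟨32, [.a5], [.a5]⟩,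
  ⟨64, [.a6], [.a6]⟩,
  ⟨128, [.a7, .a11], [.a7, .a8, .a11]⟩,
  ⟨256, [.a8], [.a8]⟩,
  ⟨512, [.a9, .a11], [.a9, .a11]⟩]
theorem bad950 (c : CtxF Goal γ) : Bad Goal γ [] P950 :=
  c.toCtx.bnd (B := B950) (D := D950) (I := [6, 7, 0, 3, 1, 2]) (r := 2) (C := C950) (N := N950) (by decide +kernel) (by decide +kernel) (by decide +kernel) (by decide +kernel)
    (allB_cons (bad372 c) (allB_cons (bad509 c) (allB_cons (bad509 c) (allB_nil))))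

def P951 : List Ent := [⟨1, [.a0, .a7, .a9], [.a0, .a2, .a6, .a7, .a8, .a9]⟩,
  ⟨4, [.a2], [.a2]⟩,
  ⟨8, [.a3, .a4, .a7, .a9], [.a3, .a4, .a6, .a7, .a9]⟩,
  ⟨32, [.a5], [.a5]⟩,
  ⟨64, [.a6], [.a6]⟩,
  ⟨256, [.a8], [.a8]⟩]
def B951 : List Gv := [⟨[.a0, .a7, .a9], [.a0, .a2, .a6, .a7, .a8, .a9]⟩, ⟨[.a3, .a4, .a7, .a9], [.a3, .a4, .a6, .a7, .a9]⟩]
def D951 : List Dv := [⟨[.a2, .a5, .a6, .a8], [0, 0], []⟩,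
  ⟨[.a5, .a8], [2, 1], [1, 2]⟩,
  ⟨[.a6], [3, 3], []⟩,
  ⟨[.a8], [1, 2, 4], [4, 2]⟩,
  ⟨[.a5], [2], [0]⟩,
  ⟨[.a2], [4], [0, 2, 1]⟩]
theorem bad951 (c : CtxF Goal γ) : Bad Goal γ [] P951 :=
  c.toCtx.cent (B := B951) (D := D951) (I := [6, 0, 7, 1, 3, 2]) (z := [.a2, .a3]) (by decide +kernel) (by decide +kernel)

def P952 : List Ent := [⟨1, [.a0, .a7, .a9], [.a0, .a2, .a6, .a7, .a8, .a9]⟩,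
  ⟨4, [.a2], [.a2]⟩,
  ⟨8, [.a3], [.a3]⟩,
  ⟨32, [.a5], [.a5]⟩,
  ⟨64, [.a6], [.a6]⟩,
  ⟨256, [.a8], [.a8]⟩]
def B952 : List Gv := [⟨[.a0, .a7, .a9], [.a0, .a2, .a6, .a7, .a8, .a9]⟩, ⟨[.a2], [.a2]⟩, ⟨[.a3], [.a3]⟩, ⟨[.a6], [.a6]⟩]
def D952 : List Dv := [⟨[.a5, .a6, .a8], [1, 0, 0], []⟩,
  ⟨[.a8], [4, 0, 2, 1], [1, 2]⟩,
  ⟨[.a5], [1], [5, 0]⟩]
def C952 : List Ch := [⟨P286, 0, [], []⟩,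
  ⟨P518, 1, [], []⟩,
  ⟨P518, 0, [.a0], [.a0]⟩,
  ⟨P519, 2, [], []⟩,
  ⟨P519, 0, [.a7], [.a7, .a8]⟩,
  ⟨P520, 1, [], []⟩,
  ⟨P520, 0, [.a0], [.a0]⟩,
  ⟨P521, 3, [], []⟩,
  ⟨P521, 0, [.a0], [.a0]⟩,
  ⟨P522, 1, [], []⟩,
  ⟨P522, 0, [.a1], [.a1, .a2]⟩,
  ⟨P523, 2, [], []⟩,
  ⟨P523, 0, [.a0], [.a0]⟩,
  ⟨P524, 1, [], []⟩,
  ⟨P524, 0, [.a1], [.a1, .a2]⟩]
def N952 : List Ent := [⟨1, [.a0, .a7, .a9], [.a0, .a2, .a6, .a7, .a8, .a9]⟩,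
  ⟨2, [.a1], [.a1, .a2]⟩,
  ⟨4, [.a2], [.a2]⟩,
  ⟨8, [.a3], [.a3]⟩,
  ⟨16, [.a4], [.a4, .a5]⟩,
  ⟨32, [.a5], [.a5]⟩,
  ⟨64, [.a6], [.a6]⟩,
  ⟨128, [.a7], [.a7, .a8]⟩,
  ⟨256, [.a8], [.a8]⟩,
  ⟨512, [.a9], [.a9]⟩]
theorem bad952 (c : CtxF Goal γ) : Bad Goal γ [] P952 :=
  c.toCtx.bnd (B := B952) (D := D952) (I := [3, 4, 5, 0, 6, 1]) (r := 4) (C := C952) (N := N952) (by decide +kernel) (by decide +kernel) (by decide +kernel) (by decide +kernel)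
    (allB_cons (bad286 c) (allB_cons (bad518 c) (allB_cons (bad518 c) (allB_cons (bad519 c) (allB_cons (bad519 c) (allB_cons (bad520 c) (allB_cons (bad520 c) (allB_cons (bad521 c) (allB_cons (bad521 c) (allB_cons (bad522 c) (allB_cons (bad522 c) (allB_cons (bad523 c) (allB_cons (bad523 c) (allB_cons (bad524 c) (allB_cons (bad524 c) (allB_nil))))))))))))))))

def P953 : List Ent := [⟨1, [.a0, .a7], [.a0, .a2, .a3, .a5, .a7, .a8]⟩,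
  ⟨4, [.a2, .a8], [.a2, .a8]⟩,
  ⟨8, [.a3], [.a3]⟩,
  ⟨32, [.a5], [.a5]⟩,
  ⟨64, [.a6], [.a6]⟩,
  ⟨512, [.a9], [.a9]⟩]
def B953 : List Gv := [⟨[.a0, .a7], [.a0, .a2, .a3, .a5, .a7, .a8]⟩, ⟨[.a2, .a8], [.a2, .a8]⟩, ⟨[.a9], [.a9]⟩]
def D953 : List Dv := [⟨[.a3], [1, 0, 0], []⟩,
  ⟨[.a5], [2, 1], [1, 2]⟩,
  ⟨[.a6], [1, 4, 2], [2, 4]⟩]
theorem bad953 (c : CtxF Goal γ) : Bad Goal γ [] P953 :=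
  c.toCtx.cent (B := B953) (D := D953) (I := [3, 4, 2, 1, 0, 5]) (z := [.a3, .a8]) (by decide +kernel) (by decide +kernel)

def P954 : List Ent := [⟨1, [.a0, .a7], [.a0, .a2, .a3, .a5, .a7, .a8]⟩,
  ⟨4, [.a2], [.a2]⟩,
  ⟨8, [.a3, .a8], [.a3, .a8]⟩,
  ⟨32, [.a5], [.a5]⟩,
  ⟨64, [.a6, .a8], [.a6, .a8]⟩,
  ⟨512, [.a9], [.a9]⟩]
def B954 : List Gv := [⟨[.a0, .a7], [.a0, .a2, .a3, .a5, .a7, .a8]⟩, ⟨[.a2], [.a2]⟩, ⟨[.a9], [.a9]⟩]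
def D954 : List Dv := [⟨[.a3, .a8], [1, 0, 0], []⟩,
  ⟨[.a6, .a8], [0, 3, 1], [1, 3]⟩,
  ⟨[.a5], [4, 3], [3, 4]⟩]
theorem bad954 (c : CtxF Goal γ) : Bad Goal γ [] P954 :=
  c.toCtx.cent (B := B954) (D := D954) (I := [3, 4, 2, 0, 1, 5]) (z := [.a6]) (by decide +kernel) (by decide +kernel)

def P955 : List Ent := [⟨1, [.a0, .a7], [.a0, .a2, .a3, .a5, .a7, .a8]⟩,
  ⟨4, [.a2, .a6], [.a2, .a6]⟩,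
  ⟨8, [.a3, .a6], [.a3, .a6]⟩,
  ⟨32, [.a5], [.a5]⟩,
  ⟨256, [.a8], [.a8]⟩,
  ⟨512, [.a9], [.a9]⟩]
def B955 : List Gv := [⟨[.a0, .a7], [.a0, .a2, .a3, .a5, .a7, .a8]⟩, ⟨[.a2, .a6], [.a2, .a6]⟩, ⟨[.a9], [.a9]⟩]
def D955 : List Dv := [⟨[.a3, .a6, .a8], [1, 0, 0], []⟩,
  ⟨[.a8], [0, 3, 1], [1, 3]⟩,
  ⟨[.a5], [4, 3], [3, 4]⟩,
  ⟨[.a3, .a6], [2], [1]⟩]
theorem bad955 (c : CtxF Goal γ) : Bad Goal γ [] P955 :=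
  c.toCtx.cent (B := B955) (D := D955) (I := [4, 5, 0, 1, 2, 6]) (z := [.a6]) (by decide +kernel) (by decide +kernel)

def P956 : List Ent := [⟨1, [.a0, .a6, .a7], [.a0, .a2, .a3, .a5, .a6, .a7, .a8]⟩,
  ⟨4, [.a2, .a6], [.a2, .a6]⟩,
  ⟨8, [.a3, .a6], [.a3, .a6]⟩,
  ⟨32, [.a5], [.a5]⟩,
  ⟨256, [.a8], [.a8]⟩,
  ⟨512, [.a9], [.a9]⟩]
def B956 : List Gv := [⟨[.a0, .a6, .a7], [.a0, .a2, .a3, .a5, .a6, .a7, .a8]⟩, ⟨[.a2, .a6], [.a2, .a6]⟩, ⟨[.a9], [.a9]⟩]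
def D956 : List Dv := [⟨[.a3, .a6, .a8], [1, 0, 0], []⟩,
  ⟨[.a8], [0, 3, 1], [1, 3]⟩,
  ⟨[.a5], [4, 3], [3, 4]⟩,
  ⟨[.a3, .a6], [2], [1]⟩]
theorem bad956 (c : CtxF Goal γ) : Bad Goal γ [] P956 :=
  c.toCtx.cent (B := B956) (D := D956) (I := [4, 5, 0, 1, 2, 6]) (z := [.a6]) (by decide +kernel) (by decide +kernel)

def P957 : List Ent := [⟨1, [.a0, .a7], [.a0, .a2, .a3, .a5, .a7, .a8]⟩,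
  ⟨4, [.a2], [.a2]⟩,
  ⟨8, [.a3, .a8], [.a3, .a8]⟩,
  ⟨16, [.a4, .a7], [.a4, .a5, .a6, .a7, .a8]⟩,
  ⟨32, [.a5], [.a5]⟩,
  ⟨64, [.a6, .a8], [.a6, .a8]⟩]
def B957 : List Gv := [⟨[.a0, .a7], [.a0, .a2, .a3, .a5, .a7, .a8]⟩, ⟨[.a4, .a7], [.a4, .a5, .a6, .a7, .a8]⟩]
def D957 : List Dv := [⟨[.a2, .a3, .a8], [0, 0], []⟩,
  ⟨[.a3, .a6], [2, 1], [1, 2]⟩,
  ⟨[.a5, .a6, .a8], [3, 3], []⟩,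
  ⟨[.a6, .a8], [0, 2, 4], [4, 2]⟩,
  ⟨[.a5], [1], [0]⟩,
  ⟨[.a3, .a8], [3], [1]⟩,
  ⟨[.a2], [5], [0]⟩]
theorem bad957 (c : CtxF Goal γ) : Bad Goal γ [] P957 :=
  c.toCtx.cent (B := B957) (D := D957) (I := [7, 0, 1, 8, 2, 3]) (z := [.a6]) (by decide +kernel) (by decide +kernel)

def P958 : List Ent := [⟨1, [.a0, .a7], [.a0, .a2, .a3, .a5, .a7, .a8]⟩,
  ⟨2, [.a1, .a7], [.a1, .a2, .a7, .a8]⟩,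
  ⟨4, [.a2], [.a2]⟩,
  ⟨8, [.a3], [.a3]⟩,
  ⟨32, [.a5], [.a5]⟩,
  ⟨256, [.a8], [.a8]⟩]
def B958 : List Gv := [⟨[.a0, .a7], [.a0, .a2, .a3, .a5, .a7, .a8]⟩, ⟨[.a1, .a7], [.a1, .a2, .a7, .a8]⟩]
def D958 : List Dv := [⟨[.a2, .a3, .a8], [0, 0], []⟩,
  ⟨[.a8], [0, 2, 1], [1, 2]⟩,
  ⟨[.a3], [1, 3, 3], []⟩,
  ⟨[.a5], [2, 4], [4, 2]⟩,
  ⟨[.a2], [3], [1, 2]⟩]
theorem bad958 (c : CtxF Goal γ) : Bad Goal γ [] P958 :=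
  c.toCtx.cent (B := B958) (D := D958) (I := [5, 6, 0, 2, 1, 3]) (z := [.a1]) (by decide +kernel) (by decide +kernel)

def P959 : List Ent := [⟨1, [.a0, .a6, .a7], [.a0, .a2, .a3, .a5, .a6, .a7, .a8]⟩,
  ⟨2, [.a1, .a7], [.a1, .a2, .a7, .a8]⟩,
  ⟨4, [.a2], [.a2]⟩,
  ⟨8, [.a3], [.a3]⟩,
  ⟨32, [.a5], [.a5]⟩,
  ⟨256, [.a8], [.a8]⟩]
def B959 : List Gv := [⟨[.a0, .a6, .a7], [.a0, .a2, .a3, .a5, .a6, .a7, .a8]⟩, ⟨[.a1, .a7], [.a1, .a2, .a7, .a8]⟩]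
def D959 : List Dv := [⟨[.a2, .a3, .a8], [0, 0], []⟩,
  ⟨[.a5, .a8], [0, 2, 1], [1, 2]⟩,
  ⟨[.a3], [1, 3, 3], []⟩,
  ⟨[.a8], [1, 2, 4], [4, 2]⟩,
  ⟨[.a5], [2], [0]⟩,
  ⟨[.a2], [4], [2, 1]⟩]
theorem bad959 (c : CtxF Goal γ) : Bad Goal γ [] P959 :=
  c.toCtx.cent (B := B959) (D := D959) (I := [6, 7, 0, 3, 1, 2]) (z := [.a1, .a3, .a6]) (by decide +kernel) (by decide +kernel)

def P960 : List Ent := [⟨1, [.a0, .a7, .a9], [.a0, .a2, .a6, .a7, .a8, .a9]⟩,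
  ⟨2, [.a1, .a7], [.a1, .a2, .a7, .a8]⟩,
  ⟨4, [.a2, .a8], [.a2, .a8]⟩,
  ⟨8, [.a3], [.a3]⟩,
  ⟨32, [.a5], [.a5]⟩,
  ⟨64, [.a6], [.a6]⟩]
def B960 : List Gv := [⟨[.a0, .a7, .a9], [.a0, .a2, .a6, .a7, .a8, .a9]⟩, ⟨[.a1, .a7], [.a1, .a2, .a7, .a8]⟩]
def D960 : List Dv := [⟨[.a2, .a5, .a6, .a8], [0, 0], []⟩,
  ⟨[.a3], [0, 2, 1], [1, 2]⟩,
  ⟨[.a5, .a6], [1, 3, 3], []⟩,
  ⟨[.a6], [0, 2, 4], [4, 2]⟩,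
  ⟨[.a5], [1], [0]⟩,
  ⟨[.a2, .a8], [4], [0, 1]⟩]
theorem bad960 (c : CtxF Goal γ) : Bad Goal γ [] P960 :=
  c.toCtx.cent (B := B960) (D := D960) (I := [6, 7, 0, 4, 1, 2]) (z := [.a2, .a3, .a6]) (by decide +kernel) (by decide +kernel)

def P961 : List Ent := [⟨1, [.a0, .a7], [.a0, .a2, .a3, .a5, .a7, .a8]⟩,
  ⟨2, [.a1, .a7, .a9], [.a1, .a2, .a6, .a7, .a9]⟩,
  ⟨4, [.a2, .a8], [.a2, .a8]⟩,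
  ⟨8, [.a3], [.a3]⟩,
  ⟨32, [.a5], [.a5]⟩,
  ⟨64, [.a6, .a8], [.a6, .a8]⟩]
def B961 : List Gv := [⟨[.a0, .a7], [.a0, .a2, .a3, .a5, .a7, .a8]⟩, ⟨[.a1, .a7, .a9], [.a1, .a2, .a6, .a7, .a9]⟩, ⟨[.a2, .a8], [.a2, .a8]⟩]
def D961 : List Dv := [⟨[.a3], [2, 0, 0], []⟩,
  ⟨[.a6, .a8], [3, 2, 1], [1, 2]⟩,
  ⟨[.a5, .a6, .a8], [4, 3, 3], []⟩,
  ⟨[.a5], [0], [1]⟩]
def C961 : List Ch := [⟨P400, 0, [.a11], [.a11]⟩,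
  ⟨P514, 1, [], []⟩,
  ⟨P520, 0, [.a10], [.a10, .a11]⟩,
  ⟨P525, 2, [], []⟩,
  ⟨P526, 0, [], []⟩,
  ⟨P525, 1, [.a1], [.a1, .a2]⟩,
  ⟨P526, 0, [.a1], [.a1, .a2]⟩]
def N961 : List Ent := [⟨1, [.a0, .a7], [.a0, .a2, .a3, .a5, .a7, .a8]⟩,
  ⟨2, [.a1, .a7, .a9], [.a1, .a2, .a6, .a7, .a9]⟩,
  ⟨4, [.a2, .a8], [.a2, .a8]⟩,
  ⟨8, [.a3], [.a3]⟩,
  ⟨16, [.a4], [.a4, .a5]⟩,
  ⟨32, [.a5], [.a5]⟩,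
  ⟨64, [.a6, .a8], [.a6, .a8]⟩,
  ⟨128, [.a7, .a9], [.a7, .a8, .a9]⟩,
  ⟨256, [.a8], [.a8]⟩]
theorem bad961 (c : CtxF Goal γ) : Bad Goal γ [] P961 :=
  c.toCtx.bnd (B := B961) (D := D961) (I := [4, 5, 6, 3, 0, 2]) (r := 3) (C := C961) (N := N961) (by decide +kernel) (by decide +kernel) (by decide +kernel) (by decide +kernel)
    (allB_cons (bad400 c) (allB_cons (bad514 c) (allB_cons (bad520 c) (allB_cons (bad525 c) (allB_cons (bad526 c) (allB_cons (bad525 c) (allB_cons (bad526 c) (allB_nil))))))))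

def P962 : List Ent := [⟨1, [.a0, .a7], [.a0, .a2, .a3, .a5, .a7, .a8]⟩,
  ⟨2, [.a1, .a7, .a8, .a9], [.a1, .a2, .a6, .a7, .a8, .a9]⟩,
  ⟨4, [.a2, .a8], [.a2, .a8]⟩,
  ⟨8, [.a3], [.a3]⟩,
  ⟨32, [.a5], [.a5]⟩,
  ⟨64, [.a6, .a8], [.a6, .a8]⟩]
def B962 : List Gv := [⟨[.a0, .a7], [.a0, .a2, .a3, .a5, .a7, .a8]⟩, ⟨[.a1, .a7, .a8, .a9], [.a1, .a2, .a6, .a7, .a8, .a9]⟩, ⟨[.a2, .a8], [.a2, .a8]⟩]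
def D962 : List Dv := [⟨[.a3], [2, 0, 0], []⟩,
  ⟨[.a5, .a6, .a8], [3, 2, 1], [1, 2]⟩,
  ⟨[.a6, .a8], [0, 4, 2], [2, 4]⟩,
  ⟨[.a5], [1], [0]⟩]
def C962 : List Ch := [⟨P399, 0, [.a11], [.a11]⟩,
  ⟨P514, 1, [], []⟩,
  ⟨P520, 0, [.a0, .a1, .a3, .a5, .a6, .a7, .a8, .a9, .a10], [.a0, .a10, .a11]⟩,
  ⟨P527, 2, [], []⟩,
  ⟨P528, 0, [], []⟩,
  ⟨P527, 1, [.a1], [.a1, .a2]⟩,
  ⟨P528, 0, [.a1], [.a1, .a2]⟩]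
def N962 : List Ent := [⟨1, [.a0, .a7], [.a0, .a2, .a3, .a5, .a7, .a8]⟩,
  ⟨2, [.a1, .a7, .a8, .a9], [.a1, .a2, .a6, .a7, .a8, .a9]⟩,
  ⟨4, [.a2, .a8], [.a2, .a8]⟩,
  ⟨8, [.a3], [.a3]⟩,
  ⟨16, [.a4], [.a4, .a5]⟩,
  ⟨32, [.a5], [.a5]⟩,
  ⟨64, [.a6, .a8], [.a6, .a8]⟩,
  ⟨128, [.a7, .a9], [.a7, .a8, .a9]⟩,
  ⟨256, [.a8], [.a8]⟩]
theorem bad962 (c : CtxF Goal γ) : Bad Goal γ [] P962 :=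
  c.toCtx.bnd (B := B962) (D := D962) (I := [4, 5, 6, 3, 0, 1]) (r := 3) (C := C962) (N := N962) (by decide +kernel) (by decide +kernel) (by decide +kernel) (by decide +kernel)
    (allB_cons (bad399 c) (allB_cons (bad514 c) (allB_cons (bad520 c) (allB_cons (bad527 c) (allB_cons (bad528 c) (allB_cons (bad527 c) (allB_cons (bad528 c) (allB_nil))))))))

def P963 : List Ent := [⟨1, [.a0, .a7], [.a0, .a2, .a3, .a5, .a7, .a8]⟩,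
  ⟨2, [.a1, .a7, .a9], [.a1, .a2, .a6, .a7, .a9]⟩,
  ⟨4, [.a2], [.a2]⟩,
  ⟨8, [.a3, .a8], [.a3, .a8]⟩,
  ⟨32, [.a5], [.a5]⟩,
  ⟨64, [.a6], [.a6]⟩]
def B963 : List Gv := [⟨[.a0, .a7], [.a0, .a2, .a3, .a5, .a7, .a8]⟩, ⟨[.a1, .a7, .a9], [.a1, .a2, .a6, .a7, .a9]⟩, ⟨[.a2], [.a2]⟩]
def D963 : List Dv := [⟨[.a3, .a8], [2, 0, 0], []⟩,
  ⟨[.a6], [3, 2, 1], [1, 2]⟩,
  ⟨[.a5, .a6], [4, 3, 3], []⟩,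
  ⟨[.a5], [0], [1]⟩]
def C963 : List Ch := [⟨P393, 0, [.a0, .a2, .a3, .a4, .a5, .a6, .a7, .a9, .a11], [.a0, .a11]⟩,
  ⟨P512, 1, [.a0, .a2, .a3, .a4, .a5, .a6, .a7, .a9, .a11], [.a0, .a11]⟩,
  ⟨P523, 0, [.a10], [.a10, .a11]⟩,
  ⟨P525, 2, [], []⟩,
  ⟨P526, 0, [.a0], [.a0]⟩,
  ⟨P527, 1, [.a1], [.a1, .a2]⟩,
  ⟨P528, 0, [.a9], [.a9]⟩]
def N963 : List Ent := [⟨1, [.a0, .a7], [.a0, .a2, .a3, .a5, .a7, .a8]⟩,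
  ⟨2, [.a1, .a7, .a9], [.a1, .a2, .a6, .a7, .a9]⟩,
  ⟨4, [.a2], [.a2]⟩,
  ⟨8, [.a3, .a8], [.a3, .a8]⟩,
  ⟨16, [.a4], [.a4, .a5]⟩,
  ⟨32, [.a5], [.a5]⟩,
  ⟨64, [.a6], [.a6]⟩,
  ⟨256, [.a8], [.a8]⟩]
theorem bad963 (c : CtxF Goal γ) : Bad Goal γ [] P963 :=
  c.toCtx.bnd (B := B963) (D := D963) (I := [4, 5, 6, 3, 0, 2]) (r := 3) (C := C963) (N := N963) (by decide +kernel) (by decide +kernel) (by decide +kernel) (by decide +kernel)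
    (allB_cons (bad393 c) (allB_cons (bad512 c) (allB_cons (bad523 c) (allB_cons (bad525 c) (allB_cons (bad526 c) (allB_cons (bad527 c) (allB_cons (bad528 c) (allB_nil))))))))

def P964 : List Ent := [⟨1, [.a0, .a7], [.a0, .a2, .a3, .a5, .a7, .a8]⟩,
  ⟨2, [.a1, .a7, .a9], [.a1, .a2, .a6, .a7, .a9]⟩,
  ⟨4, [.a2, .a6], [.a2, .a6]⟩,
  ⟨8, [.a3, .a6], [.a3, .a6]⟩,
  ⟨32, [.a5], [.a5]⟩,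
  ⟨256, [.a8], [.a8]⟩]
def B964 : List Gv := [⟨[.a0, .a7], [.a0, .a2, .a3, .a5, .a7, .a8]⟩, ⟨[.a1, .a7, .a9], [.a1, .a2, .a6, .a7, .a9]⟩, ⟨[.a3, .a6], [.a3, .a6]⟩]
def D964 : List Dv := [⟨[.a2, .a3, .a8], [0, 0], []⟩,
  ⟨[.a8], [3, 0, 2, 1], [1, 2]⟩,
  ⟨[.a5, .a8], [4, 1, 3, 3], []⟩,
  ⟨[.a5], [0], [1]⟩,
  ⟨[.a2, .a6], [3], [6, 2]⟩]
def C964 : List Ch := [⟨P398, 0, [.a11], [.a11]⟩,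
  ⟨P516, 1, [], []⟩,
  ⟨P522, 0, [.a10], [.a10, .a11]⟩,
  ⟨P525, 2, [], []⟩,
  ⟨P525, 0, [.a0], [.a0]⟩,
  ⟨P527, 1, [], []⟩,
  ⟨P527, 0, [.a0], [.a0]⟩]
def N964 : List Ent := [⟨1, [.a0, .a7], [.a0, .a2, .a3, .a5, .a7, .a8]⟩,
  ⟨2, [.a1, .a7, .a9], [.a1, .a2, .a6, .a7, .a9]⟩,
  ⟨4, [.a2, .a6], [.a2, .a6]⟩,
  ⟨8, [.a3, .a6], [.a3, .a6]⟩,
  ⟨16, [.a4], [.a4, .a5]⟩,
  ⟨32, [.a5], [.a5]⟩,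
  ⟨64, [.a6], [.a6]⟩,
  ⟨128, [.a7], [.a7, .a8]⟩,
  ⟨256, [.a8], [.a8]⟩]
theorem bad964 (c : CtxF Goal γ) : Bad Goal γ [] P964 :=
  c.toCtx.bnd (B := B964) (D := D964) (I := [5, 6, 0, 7, 1, 3]) (r := 3) (C := C964) (N := N964) (by decide +kernel) (by decide +kernel) (by decide +kernel) (by decide +kernel)
    (allB_cons (bad398 c) (allB_cons (bad516 c) (allB_cons (bad522 c) (allB_cons (bad525 c) (allB_cons (bad525 c) (allB_cons (bad527 c) (allB_cons (bad527 c) (allB_nil))))))))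

def P965 : List Ent := [⟨1, [.a0, .a6, .a7], [.a0, .a2, .a3, .a5, .a6, .a7, .a8]⟩,
  ⟨2, [.a1, .a7, .a9], [.a1, .a2, .a6, .a7, .a9]⟩,
  ⟨4, [.a2, .a6], [.a2, .a6]⟩,
  ⟨8, [.a3, .a6], [.a3, .a6]⟩,
  ⟨32, [.a5], [.a5]⟩,
  ⟨256, [.a8], [.a8]⟩]
def B965 : List Gv := [⟨[.a0, .a6, .a7], [.a0, .a2, .a3, .a5, .a6, .a7, .a8]⟩, ⟨[.a1, .a7, .a9], [.a1, .a2, .a6, .a7, .a9]⟩, ⟨[.a3, .a6], [.a3, .a6]⟩]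
def D965 : List Dv := [⟨[.a2, .a3, .a8], [0, 0], []⟩,
  ⟨[.a5, .a8], [3, 0, 2, 1], [1, 2]⟩,
  ⟨[.a8], [0, 4, 2], [2, 4]⟩,
  ⟨[.a5], [1], [0]⟩,
  ⟨[.a2, .a6], [3], [6, 1]⟩]
def C965 : List Ch := [⟨P398, 0, [.a11], [.a11]⟩,
  ⟨P517, 1, [], []⟩,
  ⟨P522, 0, [.a1, .a10], [.a1, .a2, .a4, .a5, .a7, .a9, .a10, .a11]⟩,
  ⟨P526, 2, [.a0], [.a0]⟩,
  ⟨P526, 0, [], []⟩,
  ⟨P528, 1, [.a0], [.a0]⟩,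
  ⟨P528, 0, [], []⟩]
def N965 : List Ent := [⟨1, [.a0, .a6, .a7], [.a0, .a2, .a3, .a5, .a6, .a7, .a8]⟩,
  ⟨2, [.a1, .a7, .a9], [.a1, .a2, .a6, .a7, .a9]⟩,
  ⟨4, [.a2, .a6], [.a2, .a6]⟩,
  ⟨8, [.a3, .a6], [.a3, .a6]⟩,
  ⟨16, [.a4], [.a4, .a5]⟩,
  ⟨32, [.a5], [.a5]⟩,
  ⟨64, [.a6], [.a6]⟩,
  ⟨128, [.a7], [.a7, .a8]⟩,
  ⟨256, [.a8], [.a8]⟩]
theorem bad965 (c : CtxF Goal γ) : Bad Goal γ [] P965 :=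
  c.toCtx.bnd (B := B965) (D := D965) (I := [5, 6, 0, 7, 1, 2]) (r := 3) (C := C965) (N := N965) (by decide +kernel) (by decide +kernel) (by decide +kernel) (by decide +kernel)
    (allB_cons (bad398 c) (allB_cons (bad517 c) (allB_cons (bad522 c) (allB_cons (bad526 c) (allB_cons (bad526 c) (allB_cons (bad528 c) (allB_cons (bad528 c) (allB_nil))))))))

def P966 : List Ent := [⟨1, [.a0, .a7, .a9], [.a0, .a2, .a6, .a7, .a8, .a9]⟩,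
  ⟨2, [.a1, .a7, .a9], [.a1, .a2, .a6, .a7, .a9]⟩,
  ⟨4, [.a2], [.a2]⟩,
  ⟨32, [.a5], [.a5]⟩,
  ⟨64, [.a6], [.a6]⟩,
  ⟨256, [.a8], [.a8]⟩]
def B966 : List Gv := [⟨[.a0, .a7, .a9], [.a0, .a2, .a6, .a7, .a8, .a9]⟩, ⟨[.a1, .a7, .a9], [.a1, .a2, .a6, .a7, .a9]⟩]
def D966 : List Dv := [⟨[.a2, .a5, .a6, .a8], [0, 0], []⟩,
  ⟨[.a6], [0, 2, 1], [1, 2]⟩,
  ⟨[.a8], [1, 3, 3], []⟩,
  ⟨[.a5], [1, 4], [4, 1]⟩,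
  ⟨[.a2], [3], [0, 2, 1]⟩]
theorem bad966 (c : CtxF Goal γ) : Bad Goal γ [] P966 :=
  c.toCtx.cent (B := B966) (D := D966) (I := [5, 6, 0, 1, 3, 2]) (z := [.a2, .a3]) (by decide +kernel) (by decide +kernel)

def P967 : List Ent := [⟨1, [.a0, .a7, .a10], [.a0, .a1, .a3, .a4, .a7, .a10, .a11]⟩,
  ⟨2, [.a1, .a7, .a9, .a11], [.a1, .a2, .a5, .a7, .a11]⟩,
  ⟨4, [.a2, .a9], [.a2, .a5, .a9]⟩,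
  ⟨32, [.a5], [.a5]⟩,
  ⟨64, [.a6], [.a6]⟩,
  ⟨256, [.a8], [.a8]⟩]
def B967 : List Gv := [⟨[.a0, .a7, .a10], [.a0, .a1, .a3, .a4, .a7, .a10, .a11]⟩, ⟨[.a1, .a7, .a9, .a11], [.a1, .a2, .a5, .a7, .a11]⟩]
def D967 : List Dv := [⟨[.a5, .a6], [1, 0, 0], []⟩,
  ⟨[.a6, .a8], [0, 2, 1], [1, 2]⟩,
  ⟨[.a2, .a6, .a8, .a9], [3, 3], []⟩,
  ⟨[.a8], [1, 2, 2, 4], [4, 2]⟩,
  ⟨[.a6], [2], [0]⟩,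
  ⟨[.a5], [4], [0]⟩,
  ⟨[.a2, .a9], [3], [1, 2]⟩]
def C967 : List Ch := [⟨P401, 0, [.a1], [.a1, .a2]⟩,
  ⟨P529, 1, [], []⟩,
  ⟨P529, 0, [.a3], [.a3]⟩]
def N967 : List Ent := [⟨1, [.a0, .a7, .a10], [.a0, .a1, .a3, .a4, .a7, .a10, .a11]⟩,
  ⟨2, [.a1, .a7, .a9, .a11], [.a1, .a2, .a5, .a7, .a11]⟩,
  ⟨4, [.a2, .a9], [.a2, .a5, .a9]⟩,
  ⟨8, [.a3], [.a3]⟩,
  ⟨32, [.a5], [.a5]⟩,
  ⟨64, [.a6], [.a6]⟩,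
  ⟨128, [.a7], [.a7, .a8]⟩,
  ⟨256, [.a8], [.a8]⟩]
theorem bad967 (c : CtxF Goal γ) : Bad Goal γ [] P967 :=
  c.toCtx.bnd (B := B967) (D := D967) (I := [7, 8, 0, 1, 2, 3]) (r := 2) (C := C967) (N := N967) (by decide +kernel) (by decide +kernel) (by decide +kernel) (by decide +kernel)
    (allB_cons (bad401 c) (allB_cons (bad529 c) (allB_cons (bad529 c) (allB_nil))))

def P968 : List Ent := [⟨1, [.a0], [.a0]⟩,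
  ⟨4, [.a2, .a3], [.a2, .a3]⟩,
  ⟨32, [.a5], [.a5]⟩,
  ⟨64, [.a6], [.a6]⟩,
  ⟨128, [.a7], [.a7, .a8]⟩,
  ⟨256, [.a8], [.a8]⟩]
def B968 : List Gv := [⟨[.a0], [.a0]⟩, ⟨[.a6], [.a6]⟩, ⟨[.a7], [.a7, .a8]⟩]
def D968 : List Dv := [⟨[.a2, .a3], [2, 0], [0, 2]⟩,
  ⟨[.a8], [3, 3], []⟩,
  ⟨[.a5], [1, 4], [4, 1]⟩]
theorem bad968 (c : CtxF Goal γ) : Bad Goal γ [] P968 :=
  c.toCtx.cent (B := B968) (D := D968) (I := [3, 2, 0, 4, 5, 1]) (z := [.a2]) (by decide +kernel) (by decide +kernel)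

def P969 : List Ent := [⟨1, [.a0], [.a0]⟩,
  ⟨4, [.a2, .a3], [.a2, .a3]⟩,
  ⟨16, [.a4, .a9], [.a4, .a5, .a8, .a9]⟩,
  ⟨32, [.a5], [.a5]⟩,
  ⟨64, [.a6], [.a6]⟩,
  ⟨256, [.a8], [.a8]⟩]
def B969 : List Gv := [⟨[.a0], [.a0]⟩, ⟨[.a2, .a3], [.a2, .a3]⟩, ⟨[.a4, .a9], [.a4, .a5, .a8, .a9]⟩]
def D969 : List Dv := [⟨[.a6], [1, 2, 0], [0, 2]⟩,
  ⟨[.a5], [3, 2], [2, 3]⟩,
  ⟨[.a8], [0, 4, 4], []⟩]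
theorem bad969 (c : CtxF Goal γ) : Bad Goal γ [] P969 :=
  c.toCtx.cent (B := B969) (D := D969) (I := [3, 4, 5, 1, 2, 0]) (z := [.a3]) (by decide +kernel) (by decide +kernel)

def P970 : List Ent := [⟨1, [.a0], [.a0]⟩,
  ⟨16, [.a4, .a9, .a11], [.a4, .a5, .a8, .a9, .a11]⟩,
  ⟨32, [.a5], [.a5]⟩,
  ⟨64, [.a6], [.a6]⟩,
  ⟨128, [.a7, .a11], [.a7, .a8, .a11]⟩,
  ⟨256, [.a8], [.a8]⟩]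
def B970 : List Gv := [⟨[.a0], [.a0]⟩, ⟨[.a4, .a9, .a11], [.a4, .a5, .a8, .a9, .a11]⟩]
def D970 : List Dv := [⟨[.a7, .a8, .a11], [1, 1, 0], [0, 1]⟩,
  ⟨[.a5, .a8], [2, 2], []⟩,
  ⟨[.a6, .a7, .a11], [0, 3, 1, 2], [2, 1]⟩,
  ⟨[.a8], [2, 2], []⟩,
  ⟨[.a7, .a11], [3], [0]⟩,
  ⟨[.a6], [2], [0]⟩,
  ⟨[.a5], [4], [2]⟩]
def C970 : List Ch := [⟨P230, 0, [], []⟩,
  ⟨P432, 1, [], []⟩,
  ⟨P509, 0, [], []⟩]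
def N970 : List Ent := [⟨1, [.a0], [.a0]⟩,
  ⟨4, [.a2], [.a2]⟩,
  ⟨8, [.a3], [.a3]⟩,
  ⟨16, [.a4, .a9, .a11], [.a4, .a5, .a8, .a9, .a11]⟩,
  ⟨32, [.a5], [.a5]⟩,
  ⟨64, [.a6], [.a6]⟩,
  ⟨128, [.a7, .a11], [.a7, .a8, .a11]⟩,
  ⟨256, [.a8], [.a8]⟩]
theorem bad970 (c : CtxF Goal γ) : Bad Goal γ [] P970 :=
  c.toCtx.bnd (B := B970) (D := D970) (I := [7, 8, 0, 1, 2, 3]) (r := 2) (C := C970) (N := N970) (by decide +kernel) (by decide +kernel) (by decide +kernel) (by decide +kernel)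
    (allB_cons (bad230 c) (allB_cons (bad432 c) (allB_cons (bad509 c) (allB_nil))))

def P971 : List Ent := [⟨1, [.a0], [.a0]⟩,
  ⟨4, [.a2, .a3, .a7, .a11], [.a2, .a3, .a6, .a7, .a8, .a11]⟩,
  ⟨16, [.a4, .a7, .a9], [.a4, .a5, .a6, .a7, .a9]⟩,
  ⟨32, [.a5], [.a5]⟩,
  ⟨64, [.a6], [.a6]⟩,
  ⟨256, [.a8], [.a8]⟩]
def B971 : List Gv := [⟨[.a0], [.a0]⟩, ⟨[.a2, .a3, .a7, .a11], [.a2, .a3, .a6, .a7, .a8, .a11]⟩]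
def D971 : List Dv := [⟨[.a4, .a5, .a6, .a7, .a9], [1, 0], [0, 1]⟩,
  ⟨[.a6, .a8], [2, 2], []⟩,
  ⟨[.a5, .a6], [1, 2], [2, 1]⟩,
  ⟨[.a8], [1, 2, 4], [4, 2]⟩,
  ⟨[.a6], [2], [0]⟩,
  ⟨[.a5], [2], [0]⟩,
  ⟨[.a4, .a7, .a9], [5], [0, 1]⟩]
def C971 : List Ch := [⟨P377, 0, [.a10], [.a10, .a11]⟩,
  ⟨P432, 1, [], []⟩,
  ⟨P509, 0, [.a7], [.a7, .a8]⟩]
def N971 : List Ent := [⟨1, [.a0], [.a0]⟩,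
  ⟨4, [.a2, .a3, .a7, .a11], [.a2, .a3, .a6, .a7, .a8, .a11]⟩,
  ⟨8, [.a3], [.a3]⟩,
  ⟨16, [.a4, .a7, .a9], [.a4, .a5, .a6, .a7, .a9]⟩,
  ⟨32, [.a5], [.a5]⟩,
  ⟨64, [.a6], [.a6]⟩,
  ⟨128, [.a7, .a11], [.a7, .a8, .a11]⟩,
  ⟨256, [.a8], [.a8]⟩]
theorem bad971 (c : CtxF Goal γ) : Bad Goal γ [] P971 :=
  c.toCtx.bnd (B := B971) (D := D971) (I := [7, 8, 0, 1, 2, 3]) (r := 2) (C := C971) (N := N971) (by decide +kernel) (by decide +kernel) (by decide +kernel) (by decide +kernel)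
    (allB_cons (bad377 c) (allB_cons (bad432 c) (allB_cons (bad509 c) (allB_nil))))

def P972 : List Ent := [⟨1, [.a0], [.a0]⟩,
  ⟨4, [.a2, .a7], [.a2, .a7, .a8]⟩,
  ⟨8, [.a3, .a7], [.a3, .a5, .a7, .a8]⟩,
  ⟨32, [.a5], [.a5]⟩,
  ⟨64, [.a6], [.a6]⟩,
  ⟨256, [.a8], [.a8]⟩]
def B972 : List Gv := [⟨[.a0], [.a0]⟩, ⟨[.a2, .a7], [.a2, .a7, .a8]⟩, ⟨[.a6], [.a6]⟩]
def D972 : List Dv := [⟨[.a3, .a5, .a7], [1, 1, 0], [0, 1]⟩,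
  ⟨[.a8], [2, 2], []⟩,
  ⟨[.a5, .a8], [1, 3, 1, 2], [2, 1]⟩,
  ⟨[.a5], [0], [1]⟩,
  ⟨[.a3, .a7], [3], [0]⟩]
theorem bad972 (c : CtxF Goal γ) : Bad Goal γ [] P972 :=
  c.toCtx.cent (B := B972) (D := D972) (I := [5, 6, 0, 1, 7, 3]) (z := [.a2]) (by decide +kernel) (by decide +kernel)

def P973 : List Ent := [⟨1, [.a0], [.a0]⟩,
  ⟨8, [.a3, .a7, .a11], [.a3, .a5, .a7, .a11]⟩,
  ⟨16, [.a4, .a7, .a9], [.a4, .a5, .a6, .a7, .a9]⟩,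
  ⟨32, [.a5], [.a5]⟩,
  ⟨64, [.a6], [.a6]⟩,
  ⟨256, [.a8], [.a8]⟩]
def B973 : List Gv := [⟨[.a0], [.a0]⟩, ⟨[.a3, .a7, .a11], [.a3, .a5, .a7, .a11]⟩, ⟨[.a8], [.a8]⟩]
def D973 : List Dv := [⟨[.a4, .a6, .a7, .a9], [1, 0], [0, 1]⟩,
  ⟨[.a5], [2, 2], []⟩,
  ⟨[.a6], [0, 1, 2], [2, 1]⟩,
  ⟨[.a4, .a7, .a9], [2], [0]⟩]
def C973 : List Ch := [⟨P268, 0, [.a0, .a1, .a3, .a5, .a6, .a7, .a8, .a9, .a10], [.a0, .a10, .a11]⟩,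
  ⟨P432, 1, [], []⟩,
  ⟨P509, 0, [.a9], [.a9]⟩,
  ⟨P530, 2, [], []⟩,
  ⟨P531, 0, [], []⟩,
  ⟨P530, 1, [.a3], [.a3]⟩,
  ⟨P531, 0, [.a3], [.a3]⟩]
def N973 : List Ent := [⟨1, [.a0], [.a0]⟩,
  ⟨4, [.a2], [.a2]⟩,
  ⟨8, [.a3, .a7, .a11], [.a3, .a5, .a7, .a11]⟩,
  ⟨16, [.a4, .a7, .a9], [.a4, .a5, .a6, .a7, .a9]⟩,
  ⟨32, [.a5], [.a5]⟩,
  ⟨64, [.a6], [.a6]⟩,
  ⟨128, [.a7, .a11], [.a7, .a8, .a11]⟩,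
  ⟨256, [.a8], [.a8]⟩]
theorem bad973 (c : CtxF Goal γ) : Bad Goal γ [] P973 :=
  c.toCtx.bnd (B := B973) (D := D973) (I := [4, 5, 0, 2, 1, 6]) (r := 3) (C := C973) (N := N973) (by decide +kernel) (by decide +kernel) (by decide +kernel) (by decide +kernel)
    (allB_cons (bad268 c) (allB_cons (bad432 c) (allB_cons (bad509 c) (allB_cons (bad530 c) (allB_cons (bad531 c) (allB_cons (bad530 c) (allB_cons (bad531 c) (allB_nil))))))))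

def P974 : List Ent := [⟨1, [.a0], [.a0]⟩,
  ⟨4, [.a2, .a7, .a11], [.a2, .a5, .a6, .a7, .a11]⟩,
  ⟨16, [.a4, .a7, .a9], [.a4, .a5, .a6, .a7, .a9]⟩,
  ⟨32, [.a5], [.a5]⟩,
  ⟨64, [.a6], [.a6]⟩,
  ⟨256, [.a8], [.a8]⟩]
def B974 : List Gv := [⟨[.a0], [.a0]⟩, ⟨[.a2, .a7, .a11], [.a2, .a5, .a6, .a7, .a11]⟩, ⟨[.a8], [.a8]⟩]
def D974 : List Dv := [⟨[.a4, .a6, .a7, .a9], [1, 0], [0, 1]⟩,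
  ⟨[.a5, .a6], [2, 2], []⟩,
  ⟨[.a6], [0, 4, 2], [2, 4]⟩,
  ⟨[.a5], [1], [0]⟩,
  ⟨[.a4, .a7, .a9], [3], [1]⟩]
def C974 : List Ch := [⟨P379, 0, [], []⟩,
  ⟨P432, 1, [], []⟩,
  ⟨P509, 0, [.a4], [.a4, .a5]⟩,
  ⟨P532, 2, [], []⟩,
  ⟨P533, 0, [], []⟩,
  ⟨P532, 1, [.a3], [.a3]⟩,
  ⟨P533, 0, [.a3], [.a3]⟩]
def N974 : List Ent := [⟨1, [.a0], [.a0]⟩,
  ⟨4, [.a2, .a7, .a11], [.a2, .a5, .a6, .a7, .a11]⟩,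
  ⟨8, [.a3], [.a3]⟩,
  ⟨16, [.a4, .a7, .a9], [.a4, .a5, .a6, .a7, .a9]⟩,
  ⟨32, [.a5], [.a5]⟩,
  ⟨64, [.a6], [.a6]⟩,
  ⟨128, [.a7, .a11], [.a7, .a8, .a11]⟩,
  ⟨256, [.a8], [.a8]⟩]
theorem bad974 (c : CtxF Goal γ) : Bad Goal γ [] P974 :=
  c.toCtx.bnd (B := B974) (D := D974) (I := [5, 6, 0, 1, 2, 7]) (r := 3) (C := C974) (N := N974) (by decide +kernel) (by decide +kernel) (by decide +kernel) (by decide +kernel)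
    (allB_cons (bad379 c) (allB_cons (bad432 c) (allB_cons (bad509 c) (allB_cons (bad532 c) (allB_cons (bad533 c) (allB_cons (bad532 c) (allB_cons (bad533 c) (allB_nil))))))))

def P975 : List Ent := [⟨1, [.a0], [.a0]⟩,
  ⟨4, [.a2, .a7, .a11], [.a2, .a5, .a6, .a7, .a11]⟩,
  ⟨8, [.a3, .a7, .a11], [.a3, .a5, .a7, .a11]⟩,
  ⟨16, [.a4, .a7, .a9], [.a4, .a5, .a6, .a7, .a9]⟩,
  ⟨32, [.a5], [.a5]⟩,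
  ⟨64, [.a6], [.a6]⟩]
def B975 : List Gv := [⟨[.a0], [.a0]⟩, ⟨[.a2, .a7, .a11], [.a2, .a5, .a6, .a7, .a11]⟩, ⟨[.a3, .a7, .a11], [.a3, .a5, .a7, .a11]⟩]
def D975 : List Dv := [⟨[.a4, .a6, .a7, .a9], [1, 0], [0, 1]⟩,
  ⟨[.a5, .a6], [2, 2], []⟩,
  ⟨[.a6], [4, 3], [3, 4]⟩,
  ⟨[.a5], [1], [0]⟩,
  ⟨[.a4, .a7, .a9], [3], [1]⟩]
def C975 : List Ch := [⟨P382, 0, [.a1, .a3, .a10], [.a1, .a2, .a3, .a4, .a5, .a6, .a7, .a8, .a9, .a10, .a11]⟩,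
  ⟨P530, 1, [], []⟩,
  ⟨P530, 0, [.a7], [.a7, .a8]⟩,
  ⟨P532, 2, [], []⟩,
  ⟨P532, 0, [.a7], [.a7, .a8]⟩,
  ⟨P426, 1, [], []⟩,
  ⟨P510, 0, [.a4], [.a4, .a5]⟩]
def N975 : List Ent := [⟨1, [.a0], [.a0]⟩,
  ⟨4, [.a2, .a7, .a11], [.a2, .a5, .a6, .a7, .a11]⟩,
  ⟨8, [.a3, .a7, .a11], [.a3, .a5, .a7, .a11]⟩,
  ⟨16, [.a4, .a7, .a9], [.a4, .a5, .a6, .a7, .a9]⟩,
  ⟨32, [.a5], [.a5]⟩,
  ⟨64, [.a6], [.a6]⟩,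
  ⟨128, [.a7], [.a7, .a8]⟩,
  ⟨256, [.a8], [.a8]⟩]
theorem bad975 (c : CtxF Goal γ) : Bad Goal γ [] P975 :=
  c.toCtx.bnd (B := B975) (D := D975) (I := [5, 6, 7, 0, 1, 2]) (r := 3) (C := C975) (N := N975) (by decide +kernel) (by decide +kernel) (by decide +kernel) (by decide +kernel)
    (allB_cons (bad382 c) (allB_cons (bad530 c) (allB_cons (bad530 c) (allB_cons (bad532 c) (allB_cons (bad532 c) (allB_cons (bad426 c) (allB_cons (bad510 c) (allB_nil))))))))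

def P976 : List Ent := [⟨1, [.a0, .a8], [.a0, .a5, .a8]⟩,
  ⟨4, [.a2, .a7, .a11], [.a2, .a5, .a6, .a7, .a11]⟩,
  ⟨8, [.a3, .a7, .a11], [.a3, .a5, .a7, .a11]⟩,
  ⟨16, [.a4, .a7, .a9], [.a4, .a5, .a6, .a7, .a9]⟩,
  ⟨32, [.a5], [.a5]⟩,
  ⟨64, [.a6], [.a6]⟩]
def B976 : List Gv := [⟨[.a0, .a8], [.a0, .a5, .a8]⟩, ⟨[.a2, .a7, .a11], [.a2, .a5, .a6, .a7, .a11]⟩, ⟨[.a3, .a7, .a11], [.a3, .a5, .a7, .a11]⟩]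
def D976 : List Dv := [⟨[.a5], [0, 0], []⟩,
  ⟨[.a4, .a6, .a7, .a9], [2, 1], [1, 2]⟩,
  ⟨[.a6], [1, 3, 3], []⟩,
  ⟨[.a4, .a7, .a9], [1], [0]⟩]
def C976 : List Ch := [⟨P382, 0, [.a1, .a3, .a10], [.a1, .a2, .a3, .a4, .a5, .a6, .a7, .a8, .a9, .a10, .a11]⟩,
  ⟨P531, 1, [], []⟩,
  ⟨P531, 0, [.a7], [.a7, .a8]⟩,
  ⟨P533, 2, [], []⟩,
  ⟨P533, 0, [.a7], [.a7, .a8]⟩,
  ⟨P429, 1, [], []⟩,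
  ⟨P510, 0, [.a0, .a2, .a4], [.a0, .a4, .a5]⟩]
def N976 : List Ent := [⟨1, [.a0, .a8], [.a0, .a5, .a8]⟩,
  ⟨4, [.a2, .a7, .a11], [.a2, .a5, .a6, .a7, .a11]⟩,
  ⟨8, [.a3, .a7, .a11], [.a3, .a5, .a7, .a11]⟩,
  ⟨16, [.a4, .a7, .a9], [.a4, .a5, .a6, .a7, .a9]⟩,
  ⟨32, [.a5], [.a5]⟩,
  ⟨64, [.a6], [.a6]⟩,
  ⟨128, [.a7], [.a7, .a8]⟩,
  ⟨256, [.a8], [.a8]⟩]
theorem bad976 (c : CtxF Goal γ) : Bad Goal γ [] P976 :=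
  c.toCtx.bnd (B := B976) (D := D976) (I := [4, 5, 6, 0, 3, 1]) (r := 3) (C := C976) (N := N976) (by decide +kernel) (by decide +kernel) (by decide +kernel) (by decide +kernel)
    (allB_cons (bad382 c) (allB_cons (bad531 c) (allB_cons (bad531 c) (allB_cons (bad533 c) (allB_cons (bad533 c) (allB_cons (bad429 c) (allB_cons (bad510 c) (allB_nil))))))))

def P977 : List Ent := [⟨1, [.a0], [.a0]⟩,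
  ⟨4, [.a2, .a7, .a8, .a11], [.a2, .a5, .a6, .a7, .a8, .a11]⟩,
  ⟨8, [.a3, .a7, .a11], [.a3, .a5, .a7, .a11]⟩,
  ⟨16, [.a4, .a7, .a9], [.a4, .a5, .a6, .a7, .a9]⟩,
  ⟨32, [.a5], [.a5]⟩,
  ⟨64, [.a6], [.a6]⟩]
def B977 : List Gv := [⟨[.a0], [.a0]⟩, ⟨[.a2, .a7, .a8, .a11], [.a2, .a5, .a6, .a7, .a8, .a11]⟩, ⟨[.a3, .a7, .a11], [.a3, .a5, .a7, .a11]⟩]
def D977 : List Dv := [⟨[.a4, .a5, .a6, .a7, .a9], [1, 0], [0, 1]⟩,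
  ⟨[.a5, .a6], [2, 2], []⟩,
  ⟨[.a6], [1, 4, 2], [2, 4]⟩,
  ⟨[.a5], [1], [0]⟩,
  ⟨[.a4, .a7, .a9], [3], [0, 1]⟩]
def C977 : List Ch := [⟨P381, 0, [.a1, .a3, .a10], [.a1, .a2, .a3, .a4, .a5, .a6, .a7, .a8, .a9, .a10, .a11]⟩,
  ⟨P530, 1, [], []⟩,
  ⟨P531, 0, [.a7], [.a7, .a8]⟩,
  ⟨P532, 2, [.a3], [.a3]⟩,
  ⟨P533, 0, [.a11], [.a11]⟩,
  ⟨P434, 1, [], []⟩,
  ⟨P505, 0, [.a9], [.a9]⟩]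
def S977 : List St := [.cent 1 1 0 [⟨32, [.a5], [.a5]⟩,
  ⟨64, [.a6], [.a6]⟩]]
theorem bad977 (c : CtxF Goal γ) : Bad Goal γ [] P977 :=
  c.toCtx.chn (B := B977) (D := D977) (I := [5, 6, 7, 0, 1, 2]) (r := 3) (C := C977) (l := S977) (x := ⟨[.a8], [.a8]⟩) (ix := [0]) (by decide +kernel) (by decide +kernel) (by decide +kernel) (by decide +kernel)
    (allB_cons (bad381 c) (allB_cons (bad530 c) (allB_cons (bad531 c) (allB_cons (bad532 c) (allB_cons (bad533 c) (allB_cons (bad434 c) (allB_cons (bad505 c) (allB_nil))))))))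

def P978 : List Ent := [⟨1, [.a0, .a11], [.a0, .a2, .a3, .a4, .a5, .a6, .a7, .a9, .a11]⟩,
  ⟨4, [.a2, .a7, .a8, .a11], [.a2, .a5, .a6, .a7, .a8, .a11]⟩,
  ⟨8, [.a3, .a7, .a11], [.a3, .a5, .a7, .a11]⟩,
  ⟨16, [.a4, .a7, .a8, .a9], [.a4, .a5, .a6, .a7, .a8, .a9]⟩,
  ⟨32, [.a5], [.a5]⟩,
  ⟨64, [.a6], [.a6]⟩]
def B978 : List Gv := [⟨[.a0, .a11], [.a0, .a2, .a3, .a4, .a5, .a6, .a7, .a9, .a11]⟩, ⟨[.a2, .a7, .a8, .a11], [.a2, .a5, .a6, .a7, .a8, .a11]⟩]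
def D978 : List Dv := [⟨[.a3, .a4, .a5, .a6, .a9, .a11], [1, 0, 0], []⟩,
  ⟨[.a4, .a5, .a7, .a8, .a9], [2, 1], [1, 2]⟩,
  ⟨[.a5, .a6], [3, 3], []⟩,
  ⟨[.a6], [0, 2, 4], [4, 2]⟩,
  ⟨[.a5], [1], [0]⟩,
  ⟨[.a4, .a7, .a8, .a9], [3], [0]⟩,
  ⟨[.a3, .a7, .a11], [5], [0, 1]⟩]
def C978 : List Ch := [⟨P381, 0, [.a1, .a3, .a5, .a6, .a7, .a8, .a9, .a10], [.a1, .a2, .a3, .a4, .a6, .a8, .a9, .a10, .a11]⟩,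
  ⟨P431, 1, [], []⟩,
  ⟨P507, 0, [.a4], [.a4, .a5]⟩]
def S978 : List St := [.cent 1 1 0 [⟨32, [.a5], [.a5]⟩,
  ⟨64, [.a6], [.a6]⟩]]
theorem bad978 (c : CtxF Goal γ) : Bad Goal γ [] P978 :=
  c.toCtx.chn (B := B978) (D := D978) (I := [7, 8, 0, 1, 2, 3]) (r := 2) (C := C978) (l := S978) (x := ⟨[.a8], [.a8]⟩) (ix := [0]) (by decide +kernel) (by decide +kernel) (by decide +kernel) (by decide +kernel)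
    (allB_cons (bad381 c) (allB_cons (bad431 c) (allB_cons (bad507 c) (allB_nil))))

def P979 : List Ent := [⟨1, [.a0], [.a0]⟩,
  ⟨4, [.a2], [.a2]⟩,
  ⟨8, [.a3], [.a3]⟩,
  ⟨32, [.a5], [.a5]⟩,
  ⟨128, [.a7], [.a7, .a8]⟩,
  ⟨256, [.a8], [.a8]⟩]
def B979 : List Gv := [⟨[.a0], [.a0]⟩, ⟨[.a2], [.a2]⟩, ⟨[.a7], [.a7, .a8]⟩]
def D979 : List Dv := [⟨[.a3], [1, 2, 0], [0, 2]⟩,
  ⟨[.a8], [3, 3], []⟩,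
  ⟨[.a5], [1, 4], [4, 1]⟩]
theorem bad979 (c : CtxF Goal γ) : Bad Goal γ [] P979 :=
  c.toCtx.cent (B := B979) (D := D979) (I := [3, 4, 2, 0, 5, 1]) (z := [.a1]) (by decide +kernel) (by decide +kernel)

def P980 : List Ent := [⟨1, [.a0], [.a0]⟩,
  ⟨4, [.a2, .a6], [.a2, .a6]⟩,
  ⟨8, [.a3, .a6], [.a3, .a6]⟩,
  ⟨32, [.a5], [.a5]⟩,
  ⟨128, [.a7], [.a7, .a8]⟩,
  ⟨256, [.a8], [.a8]⟩]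
def B980 : List Gv := [⟨[.a0], [.a0]⟩, ⟨[.a2, .a6], [.a2, .a6]⟩, ⟨[.a7], [.a7, .a8]⟩]
def D980 : List Dv := [⟨[.a3, .a6], [1, 2, 0], [0, 2]⟩,
  ⟨[.a8], [3, 3], []⟩,
  ⟨[.a5], [1, 4], [4, 1]⟩]
theorem bad980 (c : CtxF Goal γ) : Bad Goal γ [] P980 :=
  c.toCtx.cent (B := B980) (D := D980) (I := [3, 4, 2, 0, 5, 1]) (z := [.a2]) (by decide +kernel) (by decide +kernel)

def P981 : List Ent := [⟨1, [.a0, .a6], [.a0, .a6]⟩,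
  ⟨4, [.a2, .a6], [.a2, .a6]⟩,
  ⟨8, [.a3, .a6], [.a3, .a6]⟩,
  ⟨32, [.a5], [.a5]⟩,
  ⟨128, [.a7], [.a7, .a8]⟩,
  ⟨256, [.a8], [.a8]⟩]
def B981 : List Gv := [⟨[.a0, .a6], [.a0, .a6]⟩, ⟨[.a2, .a6], [.a2, .a6]⟩, ⟨[.a7], [.a7, .a8]⟩]
def D981 : List Dv := [⟨[.a3, .a6], [1, 2, 0], [0, 2]⟩,
  ⟨[.a8], [3, 3], []⟩,
  ⟨[.a5], [1, 4], [4, 1]⟩]
theorem bad981 (c : CtxF Goal γ) : Bad Goal γ [] P981 :=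
  c.toCtx.cent (B := B981) (D := D981) (I := [3, 4, 2, 0, 5, 1]) (z := [.a2]) (by decide +kernel) (by decide +kernel)

def P982 : List Ent := [⟨1, [.a0], [.a0]⟩,
  ⟨4, [.a2, .a6], [.a2, .a6]⟩,
  ⟨8, [.a3], [.a3]⟩,
  ⟨16, [.a4, .a9], [.a4, .a5, .a8, .a9]⟩,
  ⟨32, [.a5], [.a5]⟩,
  ⟨256, [.a8], [.a8]⟩]
def B982 : List Gv := [⟨[.a0], [.a0]⟩, ⟨[.a2, .a6], [.a2, .a6]⟩, ⟨[.a4, .a9], [.a4, .a5, .a8, .a9]⟩]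
def D982 : List Dv := [⟨[.a3], [1, 2, 0], [0, 2]⟩,
  ⟨[.a5], [3, 2], [2, 3]⟩,
  ⟨[.a8], [0, 4, 4], []⟩]
theorem bad982 (c : CtxF Goal γ) : Bad Goal γ [] P982 :=
  c.toCtx.cent (B := B982) (D := D982) (I := [3, 4, 2, 5, 1, 0]) (z := [.a6]) (by decide +kernel) (by decide +kernel)

def P983 : List Ent := [⟨1, [.a0], [.a0]⟩,
  ⟨4, [.a2], [.a2]⟩,
  ⟨8, [.a3, .a6], [.a3, .a6]⟩,
  ⟨16, [.a4, .a9], [.a4, .a5, .a8, .a9]⟩,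
  ⟨32, [.a5], [.a5]⟩,
  ⟨256, [.a8], [.a8]⟩]
def B983 : List Gv := [⟨[.a0], [.a0]⟩, ⟨[.a2], [.a2]⟩, ⟨[.a4, .a9], [.a4, .a5, .a8, .a9]⟩]
def D983 : List Dv := [⟨[.a3, .a6], [1, 2, 0], [0, 2]⟩,
  ⟨[.a5], [3, 2], [2, 3]⟩,
  ⟨[.a8], [0, 4, 4], []⟩]
theorem bad983 (c : CtxF Goal γ) : Bad Goal γ [] P983 :=
  c.toCtx.cent (B := B983) (D := D983) (I := [3, 4, 2, 5, 1, 0]) (z := [.a3]) (by decide +kernel) (by decide +kernel)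

def P984 : List Ent := [⟨1, [.a0, .a6], [.a0, .a6]⟩,
  ⟨4, [.a2], [.a2]⟩,
  ⟨8, [.a3, .a6], [.a3, .a6]⟩,
  ⟨16, [.a4, .a9], [.a4, .a5, .a8, .a9]⟩,
  ⟨32, [.a5], [.a5]⟩,
  ⟨256, [.a8], [.a8]⟩]
def B984 : List Gv := [⟨[.a0, .a6], [.a0, .a6]⟩, ⟨[.a2], [.a2]⟩, ⟨[.a4, .a9], [.a4, .a5, .a8, .a9]⟩]
def D984 : List Dv := [⟨[.a3, .a6], [1, 2, 0], [0, 2]⟩,
  ⟨[.a5], [3, 2], [2, 3]⟩,
  ⟨[.a8], [0, 4, 4], []⟩]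
theorem bad984 (c : CtxF Goal γ) : Bad Goal γ [] P984 :=
  c.toCtx.cent (B := B984) (D := D984) (I := [3, 4, 2, 5, 1, 0]) (z := [.a3]) (by decide +kernel) (by decide +kernel)

def P985 : List Ent := [⟨1, [.a0, .a9], [.a0, .a3, .a6, .a9]⟩,
  ⟨4, [.a2, .a6], [.a2, .a6]⟩,
  ⟨8, [.a3, .a6], [.a3, .a6]⟩,
  ⟨32, [.a5], [.a5]⟩,
  ⟨128, [.a7], [.a7, .a8]⟩,
  ⟨256, [.a8], [.a8]⟩]
def B985 : List Gv := [⟨[.a0, .a9], [.a0, .a3, .a6, .a9]⟩, ⟨[.a7], [.a7, .a8]⟩]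
def D985 : List Dv := [⟨[.a3, .a6], [0, 0], []⟩,
  ⟨[.a2, .a3], [2, 1], [1, 2]⟩,
  ⟨[.a8], [3, 3], []⟩,
  ⟨[.a5], [2, 4], [4, 2]⟩,
  ⟨[.a2, .a6], [2], [3]⟩]
theorem bad985 (c : CtxF Goal γ) : Bad Goal γ [] P985 :=
  c.toCtx.cent (B := B985) (D := D985) (I := [5, 0, 4, 1, 6, 2]) (z := [.a6]) (by decide +kernel) (by decide +kernel)

def P986 : List Ent := [⟨1, [.a0, .a9], [.a0, .a3, .a6, .a9]⟩,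
  ⟨4, [.a2], [.a2]⟩,
  ⟨8, [.a3, .a6], [.a3, .a6]⟩,
  ⟨16, [.a4, .a9], [.a4, .a5, .a8, .a9]⟩,
  ⟨32, [.a5], [.a5]⟩,
  ⟨256, [.a8], [.a8]⟩]
def B986 : List Gv := [⟨[.a0, .a9], [.a0, .a3, .a6, .a9]⟩, ⟨[.a4, .a9], [.a4, .a5, .a8, .a9]⟩]
def D986 : List Dv := [⟨[.a3, .a6], [0, 0], []⟩,
  ⟨[.a2, .a3, .a5, .a6, .a8], [2, 1], [1, 2]⟩,
  ⟨[.a5, .a8], [3, 3], []⟩,
  ⟨[.a8], [0, 1, 4], [4, 1]⟩,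
  ⟨[.a5], [1], [0]⟩,
  ⟨[.a2], [3], [4, 0, 1]⟩]
theorem bad986 (c : CtxF Goal γ) : Bad Goal γ [] P986 :=
  c.toCtx.cent (B := B986) (D := D986) (I := [6, 0, 5, 7, 1, 2]) (z := [.a3]) (by decide +kernel) (by decide +kernel)

def P987 : List Ent := [⟨1, [.a0], [.a0]⟩,
  ⟨4, [.a2, .a6], [.a2, .a6]⟩,
  ⟨8, [.a3], [.a3]⟩,
  ⟨32, [.a5], [.a5]⟩,
  ⟨128, [.a7, .a9], [.a7, .a8, .a9]⟩,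
  ⟨256, [.a8], [.a8]⟩]
def B987 : List Gv := [⟨[.a0], [.a0]⟩, ⟨[.a3], [.a3]⟩, ⟨[.a7, .a9], [.a7, .a8, .a9]⟩]
def D987 : List Dv := [⟨[.a2, .a5, .a6], [2, 0], [0, 2]⟩,
  ⟨[.a5], [3, 2], [2, 3]⟩,
  ⟨[.a8], [4, 4], []⟩,
  ⟨[.a2, .a6], [2], [1]⟩]
theorem bad987 (c : CtxF Goal γ) : Bad Goal γ [] P987 :=
  c.toCtx.cent (B := B987) (D := D987) (I := [4, 0, 5, 2, 6, 1]) (z := [.a2, .a3]) (by decide +kernel) (by decide +kernel)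

def P988 : List Ent := [⟨1, [.a0], [.a0]⟩,
  ⟨4, [.a2], [.a2]⟩,
  ⟨32, [.a5], [.a5]⟩,
  ⟨64, [.a6], [.a6]⟩,
  ⟨128, [.a7, .a9], [.a7, .a8, .a9]⟩,
  ⟨256, [.a8], [.a8]⟩]
def B988 : List Gv := [⟨[.a0], [.a0]⟩, ⟨[.a2], [.a2]⟩, ⟨[.a7, .a9], [.a7, .a8, .a9]⟩]
def D988 : List Dv := [⟨[.a5, .a6], [1, 2, 0], [0, 2]⟩,
  ⟨[.a6], [0, 3, 2], [2, 3]⟩,
  ⟨[.a8], [4, 4], []⟩,
  ⟨[.a5], [2], [1]⟩]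
theorem bad988 (c : CtxF Goal γ) : Bad Goal γ [] P988 :=
  c.toCtx.cent (B := B988) (D := D988) (I := [4, 5, 0, 2, 6, 1]) (z := [.a2, .a3]) (by decide +kernel) (by decide +kernel)

def P989 : List Ent := [⟨1, [.a0], [.a0]⟩,
  ⟨4, [.a2, .a6], [.a2, .a6]⟩,
  ⟨8, [.a3, .a6], [.a3, .a6]⟩,
  ⟨32, [.a5], [.a5]⟩,
  ⟨128, [.a7, .a9], [.a7, .a8, .a9]⟩,
  ⟨256, [.a8], [.a8]⟩]
def B989 : List Gv := [⟨[.a0], [.a0]⟩, ⟨[.a3, .a6], [.a3, .a6]⟩, ⟨[.a7, .a9], [.a7, .a8, .a9]⟩]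
def D989 : List Dv := [⟨[.a2, .a5, .a6], [2, 0], [0, 2]⟩,
  ⟨[.a5], [3, 2], [2, 3]⟩,
  ⟨[.a8], [4, 4], []⟩,
  ⟨[.a2, .a6], [2], [1]⟩]
theorem bad989 (c : CtxF Goal γ) : Bad Goal γ [] P989 :=
  c.toCtx.cent (B := B989) (D := D989) (I := [4, 0, 5, 2, 6, 1]) (z := [.a6]) (by decide +kernel) (by decide +kernel)

def P990 : List Ent := [⟨1, [.a0], [.a0]⟩,
  ⟨4, [.a2], [.a2]⟩,
  ⟨8, [.a3, .a7, .a9], [.a3, .a5, .a7, .a8, .a9]⟩,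
  ⟨32, [.a5], [.a5]⟩,
  ⟨64, [.a6], [.a6]⟩,
  ⟨256, [.a8], [.a8]⟩]
def B990 : List Gv := [⟨[.a0], [.a0]⟩, ⟨[.a2], [.a2]⟩, ⟨[.a3, .a7, .a9], [.a3, .a5, .a7, .a8, .a9]⟩]
def D990 : List Dv := [⟨[.a5, .a6], [1, 2, 0], [0, 2]⟩,
  ⟨[.a6], [0, 3, 2], [2, 3]⟩,
  ⟨[.a8], [0, 1, 4, 4], []⟩,
  ⟨[.a5], [2], [1]⟩]
theorem bad990 (c : CtxF Goal γ) : Bad Goal γ [] P990 :=
  c.toCtx.cent (B := B990) (D := D990) (I := [4, 5, 6, 0, 2, 1]) (z := [.a2, .a3]) (by decide +kernel) (by decide +kernel)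

def P991 : List Ent := [⟨1, [.a0], [.a0]⟩,
  ⟨4, [.a2], [.a2]⟩,
  ⟨16, [.a4], [.a4, .a5]⟩,
  ⟨32, [.a5], [.a5]⟩,
  ⟨64, [.a6], [.a6]⟩,
  ⟨256, [.a8], [.a8]⟩]
def B991 : List Gv := [⟨[.a0], [.a0]⟩, ⟨[.a4], [.a4, .a5]⟩, ⟨[.a6], [.a6]⟩, ⟨[.a8], [.a8]⟩]
def D991 : List Dv := [⟨[.a2], [1, 0], [0, 1]⟩,
  ⟨[.a5], [2, 2], []⟩]
theorem bad991 (c : CtxF Goal γ) : Bad Goal γ [] P991 :=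
  c.toCtx.cent (B := B991) (D := D991) (I := [2, 1, 3, 0, 4, 5]) (z := [.a3]) (by decide +kernel) (by decide +kernel)

def P992 : List Ent := [⟨1, [.a0], [.a0]⟩,
  ⟨4, [.a2], [.a2]⟩,
  ⟨8, [.a3], [.a3]⟩,
  ⟨16, [.a4], [.a4, .a5]⟩,
  ⟨32, [.a5], [.a5]⟩,
  ⟨256, [.a8], [.a8]⟩]
def B992 : List Gv := [⟨[.a0], [.a0]⟩, ⟨[.a3], [.a3]⟩, ⟨[.a4], [.a4, .a5]⟩, ⟨[.a8], [.a8]⟩]
def D992 : List Dv := [⟨[.a2], [2, 0], [0, 2]⟩,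
  ⟨[.a5], [3, 3], []⟩]
theorem bad992 (c : CtxF Goal γ) : Bad Goal γ [] P992 :=
  c.toCtx.cent (B := B992) (D := D992) (I := [2, 1, 3, 4, 0, 5]) (z := [.a6]) (by decide +kernel) (by decide +kernel)

def P993 : List Ent := [⟨1, [.a0], [.a0]⟩,
  ⟨4, [.a2], [.a2]⟩,
  ⟨8, [.a3, .a6], [.a3, .a6]⟩,
  ⟨16, [.a4], [.a4, .a5]⟩,
  ⟨32, [.a5], [.a5]⟩,
  ⟨256, [.a8], [.a8]⟩]
def B993 : List Gv := [⟨[.a0], [.a0]⟩, ⟨[.a3, .a6], [.a3, .a6]⟩, ⟨[.a4], [.a4, .a5]⟩, ⟨[.a8], [.a8]⟩]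
def D993 : List Dv := [⟨[.a2], [2, 0], [0, 2]⟩,
  ⟨[.a5], [3, 3], []⟩]
theorem bad993 (c : CtxF Goal γ) : Bad Goal γ [] P993 :=
  c.toCtx.cent (B := B993) (D := D993) (I := [2, 1, 3, 4, 0, 5]) (z := [.a3]) (by decide +kernel) (by decide +kernel)

def P994 : List Ent := [⟨1, [.a0], [.a0]⟩,
  ⟨4, [.a2], [.a2]⟩,
  ⟨8, [.a3], [.a3]⟩,
  ⟨16, [.a4], [.a4, .a5]⟩,
  ⟨32, [.a5], [.a5]⟩,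
  ⟨64, [.a6], [.a6]⟩]
def B994 : List Gv := [⟨[.a0], [.a0]⟩, ⟨[.a3], [.a3]⟩, ⟨[.a4], [.a4, .a5]⟩, ⟨[.a6], [.a6]⟩]
def D994 : List Dv := [⟨[.a2], [2, 0], [0, 2]⟩,
  ⟨[.a5], [3, 3], []⟩]
def C994 : List Ch := [⟨P351, 0, [], []⟩,
  ⟨P534, 1, [], []⟩,
  ⟨P534, 0, [.a7], [.a7, .a8]⟩,
  ⟨P441, 2, [], []⟩,
  ⟨P520, 0, [.a0, .a2, .a3, .a4, .a5, .a6, .a7, .a9, .a11], [.a0, .a11]⟩,
  ⟨P534, 1, [.a1], [.a1, .a2]⟩,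
  ⟨P534, 0, [.a1, .a7], [.a1, .a2, .a7, .a8]⟩,
  ⟨P535, 3, [], []⟩,
  ⟨P536, 0, [], []⟩,
  ⟨P537, 1, [], []⟩,
  ⟨P537, 0, [.a1, .a7], [.a1, .a2, .a7, .a8]⟩,
  ⟨P535, 2, [.a7], [.a7, .a8]⟩,
  ⟨P536, 0, [.a7], [.a7, .a8]⟩,
  ⟨P537, 1, [.a1], [.a1, .a2]⟩,
  ⟨P537, 0, [.a7], [.a7, .a8]⟩]
def N994 : List Ent := [⟨1, [.a0], [.a0]⟩,
  ⟨2, [.a1], [.a1, .a2]⟩,
  ⟨4, [.a2], [.a2]⟩,
  ⟨8, [.a3], [.a3]⟩,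
  ⟨16, [.a4], [.a4, .a5]⟩,
  ⟨32, [.a5], [.a5]⟩,
  ⟨64, [.a6], [.a6]⟩,
  ⟨128, [.a7], [.a7, .a8]⟩,
  ⟨256, [.a8], [.a8]⟩]
theorem bad994 (c : CtxF Goal γ) : Bad Goal γ [] P994 :=
  c.toCtx.bnd (B := B994) (D := D994) (I := [2, 1, 3, 4, 0, 5]) (r := 4) (C := C994) (N := N994) (by decide +kernel) (by decide +kernel) (by decide +kernel) (by decide +kernel)
    (allB_cons (bad351 c) (allB_cons (bad534 c) (allB_cons (bad534 c) (allB_cons (bad441 c) (allB_cons (bad520 c) (allB_cons (bad534 c) (allB_cons (bad534 c) (allB_cons (bad535 c) (allB_cons (bad536 c) (allB_cons (bad537 c) (allB_cons (bad537 c) (allB_cons (bad535 c) (allB_cons (bad536 c) (allB_cons (bad537 c) (allB_cons (bad537 c) (allB_nil))))))))))))))))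

def P995 : List Ent := [⟨1, [.a0, .a8], [.a0, .a5, .a8]⟩,
  ⟨4, [.a2], [.a2]⟩,
  ⟨8, [.a3], [.a3]⟩,
  ⟨16, [.a4], [.a4, .a5]⟩,
  ⟨32, [.a5], [.a5]⟩,
  ⟨64, [.a6], [.a6]⟩]
def B995 : List Gv := [⟨[.a0, .a8], [.a0, .a5, .a8]⟩, ⟨[.a3], [.a3]⟩, ⟨[.a4], [.a4, .a5]⟩, ⟨[.a6], [.a6]⟩]
def D995 : List Dv := [⟨[.a5], [0, 0], []⟩,
  ⟨[.a2], [3, 1], [1, 3]⟩]
def C995 : List Ch := [⟨P351, 0, [], []⟩,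
  ⟨P538, 1, [], []⟩,
  ⟨P538, 0, [.a7], [.a7, .a8]⟩,
  ⟨P442, 2, [], []⟩,
  ⟨P520, 0, [.a11], [.a11]⟩,
  ⟨P538, 1, [.a1], [.a1, .a2]⟩,
  ⟨P538, 0, [.a1, .a7], [.a1, .a2, .a7, .a8]⟩,
  ⟨P539, 3, [], []⟩,
  ⟨P540, 0, [], []⟩,
  ⟨P541, 1, [], []⟩,
  ⟨P541, 0, [.a1, .a7], [.a1, .a2, .a7, .a8]⟩,
  ⟨P539, 2, [.a7], [.a7, .a8]⟩,
  ⟨P540, 0, [.a7], [.a7, .a8]⟩,
  ⟨P541, 1, [.a1], [.a1, .a2]⟩,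
  ⟨P541, 0, [.a7], [.a7, .a8]⟩]
def N995 : List Ent := [⟨1, [.a0, .a8], [.a0, .a5, .a8]⟩,
  ⟨2, [.a1], [.a1, .a2]⟩,
  ⟨4, [.a2], [.a2]⟩,
  ⟨8, [.a3], [.a3]⟩,
  ⟨16, [.a4], [.a4, .a5]⟩,
  ⟨32, [.a5], [.a5]⟩,
  ⟨64, [.a6], [.a6]⟩,
  ⟨128, [.a7], [.a7, .a8]⟩,
  ⟨256, [.a8], [.a8]⟩]
theorem bad995 (c : CtxF Goal γ) : Bad Goal γ [] P995 :=
  c.toCtx.bnd (B := B995) (D := D995) (I := [2, 0, 3, 4, 1, 5]) (r := 4) (C := C995) (N := N995) (by decide +kernel) (by decide +kernel) (by decide +kernel) (by decide +kernel)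
    (allB_cons (bad351 c) (allB_cons (bad538 c) (allB_cons (bad538 c) (allB_cons (bad442 c) (allB_cons (bad520 c) (allB_cons (bad538 c) (allB_cons (bad538 c) (allB_cons (bad539 c) (allB_cons (bad540 c) (allB_cons (bad541 c) (allB_cons (bad541 c) (allB_cons (bad539 c) (allB_cons (bad540 c) (allB_cons (bad541 c) (allB_cons (bad541 c) (allB_nil))))))))))))))))

def P996 : List Ent := [⟨1, [.a0], [.a0]⟩,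
  ⟨4, [.a2], [.a2]⟩,
  ⟨8, [.a3, .a8], [.a3, .a8]⟩,
  ⟨16, [.a4], [.a4, .a5]⟩,
  ⟨32, [.a5], [.a5]⟩,
  ⟨64, [.a6], [.a6]⟩]
def B996 : List Gv := [⟨[.a0], [.a0]⟩, ⟨[.a3, .a8], [.a3, .a8]⟩, ⟨[.a4], [.a4, .a5]⟩, ⟨[.a6], [.a6]⟩]
def D996 : List Dv := [⟨[.a5], [1, 0], [0, 1]⟩,
  ⟨[.a2], [3, 1], [1, 3]⟩]
theorem bad996 (c : CtxF Goal γ) : Bad Goal γ [] P996 :=
  c.toCtx.cent (B := B996) (D := D996) (I := [2, 0, 3, 4, 1, 5]) (z := [.a3]) (by decide +kernel) (by decide +kernel)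

def P997 : List Ent := [⟨1, [.a0], [.a0]⟩,
  ⟨4, [.a2], [.a2]⟩,
  ⟨8, [.a3], [.a3]⟩,
  ⟨16, [.a4], [.a4, .a5]⟩,
  ⟨32, [.a5], [.a5]⟩,
  ⟨64, [.a6, .a8], [.a6, .a8]⟩]
def B997 : List Gv := [⟨[.a0], [.a0]⟩, ⟨[.a3], [.a3]⟩, ⟨[.a4], [.a4, .a5]⟩, ⟨[.a6, .a8], [.a6, .a8]⟩]
def D997 : List Dv := [⟨[.a2], [2, 0], [0, 2]⟩,
  ⟨[.a5], [3, 3], []⟩]
theorem bad997 (c : CtxF Goal γ) : Bad Goal γ [] P997 :=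
  c.toCtx.cent (B := B997) (D := D997) (I := [2, 1, 3, 4, 0, 5]) (z := [.a6]) (by decide +kernel) (by decide +kernel)

def P998 : List Ent := [⟨1, [.a0], [.a0]⟩,
  ⟨4, [.a2], [.a2]⟩,
  ⟨8, [.a3, .a8], [.a3, .a8]⟩,
  ⟨16, [.a4], [.a4, .a5]⟩,
  ⟨32, [.a5], [.a5]⟩,
  ⟨64, [.a6, .a8], [.a6, .a8]⟩]
def B998 : List Gv := [⟨[.a0], [.a0]⟩, ⟨[.a3, .a8], [.a3, .a8]⟩, ⟨[.a4], [.a4, .a5]⟩, ⟨[.a6, .a8], [.a6, .a8]⟩]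
def D998 : List Dv := [⟨[.a5], [1, 0], [0, 1]⟩,
  ⟨[.a2], [3, 1], [1, 3]⟩]
theorem bad998 (c : CtxF Goal γ) : Bad Goal γ [] P998 :=
  c.toCtx.cent (B := B998) (D := D998) (I := [2, 0, 3, 4, 1, 5]) (z := [.a3]) (by decide +kernel) (by decide +kernel)

def P999 : List Ent := [⟨1, [.a0, .a9], [.a0, .a3, .a6, .a9]⟩,
  ⟨4, [.a2, .a6], [.a2, .a6]⟩,
  ⟨8, [.a3, .a6], [.a3, .a6]⟩,
  ⟨32, [.a5], [.a5]⟩,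
  ⟨128, [.a7, .a9], [.a7, .a8, .a9]⟩,
  ⟨256, [.a8], [.a8]⟩]
def B999 : List Gv := [⟨[.a0, .a9], [.a0, .a3, .a6, .a9]⟩, ⟨[.a7, .a9], [.a7, .a8, .a9]⟩]
def D999 : List Dv := [⟨[.a3, .a6], [0, 0], []⟩,
  ⟨[.a2, .a5, .a6], [2, 1], [1, 2]⟩,
  ⟨[.a8], [3, 3], []⟩,
  ⟨[.a5], [2, 4], [4, 2]⟩,
  ⟨[.a2, .a6], [2], [0]⟩]
theorem bad999 (c : CtxF Goal γ) : Bad Goal γ [] P999 :=
  c.toCtx.cent (B := B999) (D := D999) (I := [5, 0, 4, 1, 6, 2]) (z := [.a6]) (by decide +kernel) (by decide +kernel)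

end Cfsg.Agent.H782.TF.Full
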