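import Cfsg.Agent.H782.TF.Full5

/-!
# S5262, q = 2: certificate of the subgroup tree, part 6 (generated; helper782)
-/

set_option autoImplicit false
set_option maxRecDepth 100000

namespace Cfsg.Agent.H782.TF.Full

open Cfsg.Agent.H782.TF

universe u

variable {U : Type u} [Group U] {Goal : Subgroup U → Prop} {γ : ℕ → U}

def P1000 : List Ent := [⟨1, [.a0, .a6, .a9], [.a0, .a3, .a9]⟩,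
  ⟨4, [.a2, .a6], [.a2, .a6]⟩,
  ⟨8, [.a3, .a6], [.a3, .a6]⟩,
  ⟨32, [.a5], [.a5]⟩,
  ⟨128, [.a7, .a9], [.a7, .a8, .a9]⟩,
  ⟨256, [.a8], [.a8]⟩]
def B1000 : List Gv := [⟨[.a0, .a6, .a9], [.a0, .a3, .a9]⟩, ⟨[.a7, .a9], [.a7, .a8, .a9]⟩]
def D1000 : List Dv := [⟨[.a3, .a6], [0, 0], []⟩,
  ⟨[.a2, .a5, .a6], [2, 1], [1, 2]⟩,
  ⟨[.a8], [3, 3], []⟩,
  ⟨[.a5], [2, 4], [4, 2]⟩,
  ⟨[.a2, .a6], [2], [0]⟩]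
theorem bad1000 (c : CtxF Goal γ) : Bad Goal γ [] P1000 :=
  c.toCtx.cent (B := B1000) (D := D1000) (I := [5, 0, 4, 1, 6, 2]) (z := [.a6]) (by decide +kernel) (by decide +kernel)

def P1001 : List Ent := [⟨1, [.a0, .a9], [.a0, .a3, .a6, .a9]⟩,
  ⟨4, [.a2, .a8], [.a2, .a8]⟩,
  ⟨8, [.a3], [.a3]⟩,
  ⟨16, [.a4], [.a4, .a5]⟩,
  ⟨32, [.a5], [.a5]⟩,
  ⟨64, [.a6], [.a6]⟩]
def B1001 : List Gv := [⟨[.a0, .a9], [.a0, .a3, .a6, .a9]⟩, ⟨[.a3], [.a3]⟩, ⟨[.a4], [.a4, .a5]⟩]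
def D1001 : List Dv := [⟨[.a6], [1, 0, 0], []⟩,
  ⟨[.a2, .a5, .a8], [3, 1], [1, 3]⟩,
  ⟨[.a5], [4, 4], []⟩,
  ⟨[.a2, .a8], [1], [0]⟩]
def C1001 : List Ch := [⟨P352, 0, [], []⟩,
  ⟨P542, 1, [], []⟩,
  ⟨P543, 0, [], []⟩,
  ⟨P459, 2, [], []⟩,
  ⟨P512, 0, [], []⟩,
  ⟨P544, 1, [], []⟩,
  ⟨P545, 0, [], []⟩]
def N1001 : List Ent := [⟨1, [.a0, .a9], [.a0, .a3, .a6, .a9]⟩,
  ⟨2, [.a1, .a7], [.a1, .a2, .a7, .a8]⟩,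
  ⟨4, [.a2, .a8], [.a2, .a8]⟩,
  ⟨8, [.a3], [.a3]⟩,
  ⟨16, [.a4], [.a4, .a5]⟩,
  ⟨32, [.a5], [.a5]⟩,
  ⟨64, [.a6], [.a6]⟩,
  ⟨256, [.a8], [.a8]⟩]
theorem bad1001 (c : CtxF Goal γ) : Bad Goal γ [] P1001 :=
  c.toCtx.bnd (B := B1001) (D := D1001) (I := [4, 0, 5, 6, 1, 3]) (r := 3) (C := C1001) (N := N1001) (by decide +kernel) (by decide +kernel) (by decide +kernel) (by decide +kernel)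
    (allB_cons (bad352 c) (allB_cons (bad542 c) (allB_cons (bad543 c) (allB_cons (bad459 c) (allB_cons (bad512 c) (allB_cons (bad544 c) (allB_cons (bad545 c) (allB_nil))))))))

def P1002 : List Ent := [⟨1, [.a0, .a9], [.a0, .a3, .a6, .a9]⟩,
  ⟨4, [.a2], [.a2]⟩,
  ⟨8, [.a3, .a6], [.a3, .a6]⟩,
  ⟨16, [.a4], [.a4, .a5]⟩,
  ⟨32, [.a5], [.a5]⟩,
  ⟨256, [.a8], [.a8]⟩]
def B1002 : List Gv := [⟨[.a0, .a9], [.a0, .a3, .a6, .a9]⟩, ⟨[.a2], [.a2]⟩, ⟨[.a4], [.a4, .a5]⟩]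
def D1002 : List Dv := [⟨[.a3, .a6], [0, 0], []⟩,
  ⟨[.a5], [2, 1], [1, 2]⟩,
  ⟨[.a8], [0, 3, 4, 2], [2, 4]⟩]
theorem bad1002 (c : CtxF Goal γ) : Bad Goal γ [] P1002 :=
  c.toCtx.cent (B := B1002) (D := D1002) (I := [3, 4, 2, 5, 1, 0]) (z := [.a3]) (by decide +kernel) (by decide +kernel)

def P1003 : List Ent := [⟨1, [.a0, .a6, .a9], [.a0, .a3, .a9]⟩,
  ⟨4, [.a2], [.a2]⟩,
  ⟨8, [.a3, .a6], [.a3, .a6]⟩,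
  ⟨16, [.a4], [.a4, .a5]⟩,
  ⟨32, [.a5], [.a5]⟩,
  ⟨256, [.a8], [.a8]⟩]
def B1003 : List Gv := [⟨[.a0, .a6, .a9], [.a0, .a3, .a9]⟩, ⟨[.a2], [.a2]⟩, ⟨[.a4], [.a4, .a5]⟩]
def D1003 : List Dv := [⟨[.a3, .a6], [0, 0], []⟩,
  ⟨[.a5], [2, 1], [1, 2]⟩,
  ⟨[.a8], [0, 3, 4, 2], [2, 4]⟩]
theorem bad1003 (c : CtxF Goal γ) : Bad Goal γ [] P1003 :=
  c.toCtx.cent (B := B1003) (D := D1003) (I := [3, 4, 2, 5, 1, 0]) (z := [.a3]) (by decide +kernel) (by decide +kernel)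

def P1004 : List Ent := [⟨1, [.a0, .a9], [.a0, .a3, .a6, .a9]⟩,
  ⟨4, [.a2, .a8], [.a2, .a8]⟩,
  ⟨8, [.a3, .a8], [.a3, .a8]⟩,
  ⟨16, [.a4], [.a4, .a5]⟩,
  ⟨32, [.a5], [.a5]⟩,
  ⟨64, [.a6, .a8], [.a6, .a8]⟩]
def B1004 : List Gv := [⟨[.a0, .a9], [.a0, .a3, .a6, .a9]⟩, ⟨[.a3, .a8], [.a3, .a8]⟩, ⟨[.a4], [.a4, .a5]⟩]
def D1004 : List Dv := [⟨[.a6, .a8], [1, 0, 0], []⟩,
  ⟨[.a5], [2, 1], [1, 2]⟩,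
  ⟨[.a2, .a5, .a8], [4, 2], [2, 4]⟩,
  ⟨[.a2, .a8], [0], [1]⟩]
theorem bad1004 (c : CtxF Goal γ) : Bad Goal γ [] P1004 :=
  c.toCtx.cent (B := B1004) (D := D1004) (I := [4, 0, 5, 6, 2, 3]) (z := [.a3]) (by decide +kernel) (by decide +kernel)

def P1005 : List Ent := [⟨1, [.a0, .a8, .a9], [.a0, .a3, .a5, .a6, .a8, .a9]⟩,
  ⟨4, [.a2, .a8], [.a2, .a8]⟩,
  ⟨8, [.a3, .a8], [.a3, .a8]⟩,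
  ⟨16, [.a4], [.a4, .a5]⟩,
  ⟨32, [.a5], [.a5]⟩,
  ⟨64, [.a6, .a8], [.a6, .a8]⟩]
def B1005 : List Gv := [⟨[.a0, .a8, .a9], [.a0, .a3, .a5, .a6, .a8, .a9]⟩, ⟨[.a3, .a8], [.a3, .a8]⟩, ⟨[.a4], [.a4, .a5]⟩]
def D1005 : List Dv := [⟨[.a5, .a6, .a8], [1, 0, 0], []⟩,
  ⟨[.a6, .a8], [0, 2, 1], [1, 2]⟩,
  ⟨[.a2, .a5, .a8], [4, 2], [2, 4]⟩,
  ⟨[.a5], [2], [1]⟩,
  ⟨[.a2, .a8], [1], [0]⟩]
theorem bad1005 (c : CtxF Goal γ) : Bad Goal γ [] P1005 :=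
  c.toCtx.cent (B := B1005) (D := D1005) (I := [5, 0, 6, 7, 1, 3]) (z := [.a3]) (by decide +kernel) (by decide +kernel)

def P1006 : List Ent := [⟨1, [.a0], [.a0]⟩,
  ⟨2, [.a1], [.a1, .a2]⟩,
  ⟨4, [.a2], [.a2]⟩,
  ⟨32, [.a5], [.a5]⟩,
  ⟨64, [.a6], [.a6]⟩,
  ⟨256, [.a8], [.a8]⟩]
def B1006 : List Gv := [⟨[.a0], [.a0]⟩, ⟨[.a1], [.a1, .a2]⟩, ⟨[.a6], [.a6]⟩, ⟨[.a8], [.a8]⟩]
def D1006 : List Dv := [⟨[.a2], [1, 1], []⟩,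
  ⟨[.a5], [3, 2], [2, 3]⟩]
theorem bad1006 (c : CtxF Goal γ) : Bad Goal γ [] P1006 :=
  c.toCtx.cent (B := B1006) (D := D1006) (I := [2, 3, 1, 0, 4, 5]) (z := [.a3]) (by decide +kernel) (by decide +kernel)

def P1007 : List Ent := [⟨1, [.a0], [.a0]⟩,
  ⟨2, [.a1], [.a1, .a2]⟩,
  ⟨4, [.a2], [.a2]⟩,
  ⟨8, [.a3], [.a3]⟩,
  ⟨32, [.a5], [.a5]⟩,
  ⟨256, [.a8], [.a8]⟩]
def B1007 : List Gv := [⟨[.a0], [.a0]⟩, ⟨[.a1], [.a1, .a2]⟩, ⟨[.a3], [.a3]⟩, ⟨[.a8], [.a8]⟩]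
def D1007 : List Dv := [⟨[.a2], [1, 1], []⟩,
  ⟨[.a5], [4, 1], [1, 4]⟩]
def C1007 : List Ch := [⟨P384, 0, [], []⟩,
  ⟨P437, 1, [], []⟩,
  ⟨P517, 0, [.a10], [.a10, .a11]⟩,
  ⟨P546, 2, [], []⟩,
  ⟨P546, 0, [.a7], [.a7, .a8]⟩,
  ⟨P546, 1, [.a4], [.a4, .a5]⟩,
  ⟨P546, 0, [.a4, .a6, .a7], [.a4, .a5, .a7, .a8]⟩,
  ⟨P547, 3, [], []⟩,
  ⟨P548, 0, [], []⟩,
  ⟨P549, 1, [], []⟩,
  ⟨P550, 0, [], []⟩,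
  ⟨P551, 2, [], []⟩,
  ⟨P551, 0, [.a7], [.a7, .a8]⟩,
  ⟨P551, 1, [.a4], [.a4, .a5]⟩,
  ⟨P551, 0, [.a4, .a6, .a7], [.a4, .a5, .a7, .a8]⟩]
def N1007 : List Ent := [⟨1, [.a0], [.a0]⟩,
  ⟨2, [.a1], [.a1, .a2]⟩,
  ⟨4, [.a2], [.a2]⟩,
  ⟨8, [.a3], [.a3]⟩,
  ⟨16, [.a4], [.a4, .a5]⟩,
  ⟨32, [.a5], [.a5]⟩,
  ⟨64, [.a6], [.a6]⟩,
  ⟨128, [.a7], [.a7, .a8]⟩,
  ⟨256, [.a8], [.a8]⟩]
theorem bad1007 (c : CtxF Goal γ) : Bad Goal γ [] P1007 :=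
  c.toCtx.bnd (B := B1007) (D := D1007) (I := [2, 3, 1, 4, 0, 5]) (r := 4) (C := C1007) (N := N1007) (by decide +kernel) (by decide +kernel) (by decide +kernel) (by decide +kernel)
    (allB_cons (bad384 c) (allB_cons (bad437 c) (allB_cons (bad517 c) (allB_cons (bad546 c) (allB_cons (bad546 c) (allB_cons (bad546 c) (allB_cons (bad546 c) (allB_cons (bad547 c) (allB_cons (bad548 c) (allB_cons (bad549 c) (allB_cons (bad550 c) (allB_cons (bad551 c) (allB_cons (bad551 c) (allB_cons (bad551 c) (allB_cons (bad551 c) (allB_nil))))))))))))))))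

def P1008 : List Ent := [⟨1, [.a0, .a6], [.a0, .a6]⟩,
  ⟨2, [.a1], [.a1, .a2]⟩,
  ⟨4, [.a2], [.a2]⟩,
  ⟨8, [.a3], [.a3]⟩,
  ⟨32, [.a5], [.a5]⟩,
  ⟨256, [.a8], [.a8]⟩]
def B1008 : List Gv := [⟨[.a0, .a6], [.a0, .a6]⟩, ⟨[.a1], [.a1, .a2]⟩, ⟨[.a3], [.a3]⟩, ⟨[.a8], [.a8]⟩]
def D1008 : List Dv := [⟨[.a5], [1, 0], [0, 1]⟩,
  ⟨[.a2], [2, 2], []⟩]
def C1008 : List Ch := [⟨P384, 0, [], []⟩,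
  ⟨P437, 1, [.a9], [.a9]⟩,
  ⟨P516, 0, [.a10], [.a10, .a11]⟩,
  ⟨P552, 2, [], []⟩,
  ⟨P552, 0, [.a7], [.a7, .a8]⟩,
  ⟨P552, 1, [.a4], [.a4, .a5]⟩,
  ⟨P552, 0, [.a4, .a6, .a7], [.a4, .a5, .a7, .a8]⟩,
  ⟨P553, 3, [], []⟩,
  ⟨P554, 0, [], []⟩,
  ⟨P555, 1, [], []⟩,
  ⟨P556, 0, [], []⟩,
  ⟨P557, 2, [], []⟩,
  ⟨P557, 0, [.a7], [.a7, .a8]⟩,
  ⟨P557, 1, [.a4], [.a4, .a5]⟩,
  ⟨P557, 0, [.a4, .a6, .a7], [.a4, .a5, .a7, .a8]⟩]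
def N1008 : List Ent := [⟨1, [.a0, .a6], [.a0, .a6]⟩,
  ⟨2, [.a1], [.a1, .a2]⟩,
  ⟨4, [.a2], [.a2]⟩,
  ⟨8, [.a3], [.a3]⟩,
  ⟨16, [.a4], [.a4, .a5]⟩,
  ⟨32, [.a5], [.a5]⟩,
  ⟨64, [.a6], [.a6]⟩,
  ⟨128, [.a7], [.a7, .a8]⟩,
  ⟨256, [.a8], [.a8]⟩]
theorem bad1008 (c : CtxF Goal γ) : Bad Goal γ [] P1008 :=
  c.toCtx.bnd (B := B1008) (D := D1008) (I := [2, 3, 0, 4, 1, 5]) (r := 4) (C := C1008) (N := N1008) (by decide +kernel) (by decide +kernel) (by decide +kernel) (by decide +kernel)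
    (allB_cons (bad384 c) (allB_cons (bad437 c) (allB_cons (bad516 c) (allB_cons (bad552 c) (allB_cons (bad552 c) (allB_cons (bad552 c) (allB_cons (bad552 c) (allB_cons (bad553 c) (allB_cons (bad554 c) (allB_cons (bad555 c) (allB_cons (bad556 c) (allB_cons (bad557 c) (allB_cons (bad557 c) (allB_cons (bad557 c) (allB_cons (bad557 c) (allB_nil))))))))))))))))

def P1009 : List Ent := [⟨1, [.a0], [.a0]⟩,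
  ⟨2, [.a1], [.a1, .a2]⟩,
  ⟨4, [.a2], [.a2]⟩,
  ⟨8, [.a3, .a6], [.a3, .a6]⟩,
  ⟨32, [.a5], [.a5]⟩,
  ⟨256, [.a8], [.a8]⟩]
def B1009 : List Gv := [⟨[.a0], [.a0]⟩, ⟨[.a1], [.a1, .a2]⟩, ⟨[.a3, .a6], [.a3, .a6]⟩, ⟨[.a8], [.a8]⟩]
def D1009 : List Dv := [⟨[.a2], [1, 1], []⟩,
  ⟨[.a5], [3, 2], [2, 3]⟩]
theorem bad1009 (c : CtxF Goal γ) : Bad Goal γ [] P1009 :=
  c.toCtx.cent (B := B1009) (D := D1009) (I := [2, 3, 1, 4, 0, 5]) (z := [.a3]) (by decide +kernel) (by decide +kernel)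

def P1010 : List Ent := [⟨1, [.a0], [.a0]⟩,
  ⟨2, [.a1], [.a1, .a2]⟩,
  ⟨4, [.a2], [.a2]⟩,
  ⟨8, [.a3], [.a3]⟩,
  ⟨32, [.a5], [.a5]⟩,
  ⟨64, [.a6], [.a6]⟩]
def B1010 : List Gv := [⟨[.a0], [.a0]⟩, ⟨[.a1], [.a1, .a2]⟩, ⟨[.a3], [.a3]⟩, ⟨[.a6], [.a6]⟩]
def D1010 : List Dv := [⟨[.a2], [1, 1], []⟩,
  ⟨[.a5], [4, 2], [2, 4]⟩]
def C1010 : List Ch := [⟨P386, 0, [], []⟩,
  ⟨P441, 1, [], []⟩,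
  ⟨P514, 0, [.a10], [.a10, .a11]⟩,
  ⟨P558, 2, [], []⟩,
  ⟨P558, 0, [.a7], [.a7, .a8]⟩,
  ⟨P558, 1, [.a4], [.a4, .a5]⟩,
  ⟨P558, 0, [.a4, .a6, .a7], [.a4, .a5, .a7, .a8]⟩,
  ⟨P547, 3, [], []⟩,
  ⟨P553, 0, [], []⟩,
  ⟨P555, 1, [.a9], [.a9]⟩,
  ⟨P549, 0, [.a9], [.a9]⟩,
  ⟨P559, 2, [], []⟩,
  ⟨P559, 0, [.a7], [.a7, .a8]⟩,
  ⟨P559, 1, [.a4], [.a4, .a5]⟩,
  ⟨P559, 0, [.a4, .a6, .a7], [.a4, .a5, .a7, .a8]⟩]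
def N1010 : List Ent := [⟨1, [.a0], [.a0]⟩,
  ⟨2, [.a1], [.a1, .a2]⟩,
  ⟨4, [.a2], [.a2]⟩,
  ⟨8, [.a3], [.a3]⟩,
  ⟨16, [.a4], [.a4, .a5]⟩,
  ⟨32, [.a5], [.a5]⟩,
  ⟨64, [.a6], [.a6]⟩,
  ⟨128, [.a7], [.a7, .a8]⟩,
  ⟨256, [.a8], [.a8]⟩]
theorem bad1010 (c : CtxF Goal γ) : Bad Goal γ [] P1010 :=
  c.toCtx.bnd (B := B1010) (D := D1010) (I := [2, 3, 1, 4, 0, 5]) (r := 4) (C := C1010) (N := N1010) (by decide +kernel) (by decide +kernel) (by decide +kernel) (by decide +kernel)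
    (allB_cons (bad386 c) (allB_cons (bad441 c) (allB_cons (bad514 c) (allB_cons (bad558 c) (allB_cons (bad558 c) (allB_cons (bad558 c) (allB_cons (bad558 c) (allB_cons (bad547 c) (allB_cons (bad553 c) (allB_cons (bad555 c) (allB_cons (bad549 c) (allB_cons (bad559 c) (allB_cons (bad559 c) (allB_cons (bad559 c) (allB_cons (bad559 c) (allB_nil))))))))))))))))

def P1011 : List Ent := [⟨1, [.a0, .a8], [.a0, .a5, .a8]⟩,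
  ⟨2, [.a1], [.a1, .a2]⟩,
  ⟨4, [.a2], [.a2]⟩,
  ⟨8, [.a3], [.a3]⟩,
  ⟨32, [.a5], [.a5]⟩,
  ⟨64, [.a6], [.a6]⟩]
def B1011 : List Gv := [⟨[.a0, .a8], [.a0, .a5, .a8]⟩, ⟨[.a1], [.a1, .a2]⟩, ⟨[.a3], [.a3]⟩, ⟨[.a6], [.a6]⟩]
def D1011 : List Dv := [⟨[.a5], [0, 0], []⟩,
  ⟨[.a2], [2, 2], []⟩]
def C1011 : List Ch := [⟨P386, 0, [], []⟩,
  ⟨P442, 1, [], []⟩,
  ⟨P514, 0, [.a0, .a1, .a3, .a5, .a6, .a7, .a8, .a9, .a10], [.a0, .a10, .a11]⟩,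
  ⟨P560, 2, [], []⟩,
  ⟨P560, 0, [.a7], [.a7, .a8]⟩,
  ⟨P560, 1, [.a4], [.a4, .a5]⟩,
  ⟨P560, 0, [.a4, .a6, .a7], [.a4, .a5, .a7, .a8]⟩,
  ⟨P548, 3, [], []⟩,
  ⟨P554, 0, [], []⟩,
  ⟨P556, 1, [.a9], [.a9]⟩,
  ⟨P550, 0, [.a9], [.a9]⟩,
  ⟨P561, 2, [], []⟩,
  ⟨P561, 0, [.a7], [.a7, .a8]⟩,
  ⟨P561, 1, [.a4], [.a4, .a5]⟩,
  ⟨P561, 0, [.a4, .a6, .a7], [.a4, .a5, .a7, .a8]⟩]
def N1011 : List Ent := [⟨1, [.a0, .a8], [.a0, .a5, .a8]⟩,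
  ⟨2, [.a1], [.a1, .a2]⟩,
  ⟨4, [.a2], [.a2]⟩,
  ⟨8, [.a3], [.a3]⟩,
  ⟨16, [.a4], [.a4, .a5]⟩,
  ⟨32, [.a5], [.a5]⟩,
  ⟨64, [.a6], [.a6]⟩,
  ⟨128, [.a7], [.a7, .a8]⟩,
  ⟨256, [.a8], [.a8]⟩]
theorem bad1011 (c : CtxF Goal γ) : Bad Goal γ [] P1011 :=
  c.toCtx.bnd (B := B1011) (D := D1011) (I := [2, 3, 0, 4, 1, 5]) (r := 4) (C := C1011) (N := N1011) (by decide +kernel) (by decide +kernel) (by decide +kernel) (by decide +kernel)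
    (allB_cons (bad386 c) (allB_cons (bad442 c) (allB_cons (bad514 c) (allB_cons (bad560 c) (allB_cons (bad560 c) (allB_cons (bad560 c) (allB_cons (bad560 c) (allB_cons (bad548 c) (allB_cons (bad554 c) (allB_cons (bad556 c) (allB_cons (bad550 c) (allB_cons (bad561 c) (allB_cons (bad561 c) (allB_cons (bad561 c) (allB_cons (bad561 c) (allB_nil))))))))))))))))

def P1012 : List Ent := [⟨1, [.a0], [.a0]⟩,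
  ⟨2, [.a1], [.a1, .a2]⟩,
  ⟨4, [.a2], [.a2]⟩,
  ⟨8, [.a3, .a8], [.a3, .a8]⟩,
  ⟨32, [.a5], [.a5]⟩,
  ⟨64, [.a6], [.a6]⟩]
def B1012 : List Gv := [⟨[.a0], [.a0]⟩, ⟨[.a1], [.a1, .a2]⟩, ⟨[.a3, .a8], [.a3, .a8]⟩, ⟨[.a6], [.a6]⟩]
def D1012 : List Dv := [⟨[.a2], [1, 1], []⟩,
  ⟨[.a5], [3, 1], [1, 3]⟩]
theorem bad1012 (c : CtxF Goal γ) : Bad Goal γ [] P1012 :=
  c.toCtx.cent (B := B1012) (D := D1012) (I := [2, 3, 1, 4, 0, 5]) (z := [.a3]) (by decide +kernel) (by decide +kernel)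

def P1013 : List Ent := [⟨1, [.a0], [.a0]⟩,
  ⟨2, [.a1], [.a1, .a2]⟩,
  ⟨4, [.a2], [.a2]⟩,
  ⟨8, [.a3], [.a3]⟩,
  ⟨32, [.a5], [.a5]⟩,
  ⟨64, [.a6, .a8], [.a6, .a8]⟩]
def B1013 : List Gv := [⟨[.a0], [.a0]⟩, ⟨[.a1], [.a1, .a2]⟩, ⟨[.a3], [.a3]⟩, ⟨[.a6, .a8], [.a6, .a8]⟩]
def D1013 : List Dv := [⟨[.a2], [1, 1], []⟩,
  ⟨[.a5], [4, 1], [1, 4]⟩]
def C1013 : List Ch := [⟨P388, 0, [], []⟩,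
  ⟨P446, 1, [], []⟩,
  ⟨P512, 0, [.a10, .a11], [.a10]⟩,
  ⟨P562, 2, [], []⟩,
  ⟨P562, 0, [.a7], [.a7, .a8]⟩,
  ⟨P562, 1, [.a4], [.a4, .a5]⟩,
  ⟨P562, 0, [.a4, .a6, .a7], [.a4, .a5, .a7, .a8]⟩,
  ⟨P547, 3, [], []⟩,
  ⟨P554, 0, [], []⟩,
  ⟨P553, 1, [.a9], [.a9]⟩,
  ⟨P548, 0, [.a9], [.a9]⟩,
  ⟨P563, 2, [], []⟩,
  ⟨P563, 0, [.a7], [.a7, .a8]⟩,
  ⟨P563, 1, [.a4], [.a4, .a5]⟩,
  ⟨P563, 0, [.a4, .a6, .a7], [.a4, .a5, .a7, .a8]⟩]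
def N1013 : List Ent := [⟨1, [.a0], [.a0]⟩,
  ⟨2, [.a1], [.a1, .a2]⟩,
  ⟨4, [.a2], [.a2]⟩,
  ⟨8, [.a3], [.a3]⟩,
  ⟨16, [.a4], [.a4, .a5]⟩,
  ⟨32, [.a5], [.a5]⟩,
  ⟨64, [.a6, .a8], [.a6, .a8]⟩,
  ⟨128, [.a7], [.a7, .a8]⟩,
  ⟨256, [.a8], [.a8]⟩]
theorem bad1013 (c : CtxF Goal γ) : Bad Goal γ [] P1013 :=
  c.toCtx.bnd (B := B1013) (D := D1013) (I := [2, 3, 1, 4, 0, 5]) (r := 4) (C := C1013) (N := N1013) (by decide +kernel) (by decide +kernel) (by decide +kernel) (by decide +kernel)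
    (allB_cons (bad388 c) (allB_cons (bad446 c) (allB_cons (bad512 c) (allB_cons (bad562 c) (allB_cons (bad562 c) (allB_cons (bad562 c) (allB_cons (bad562 c) (allB_cons (bad547 c) (allB_cons (bad554 c) (allB_cons (bad553 c) (allB_cons (bad548 c) (allB_cons (bad563 c) (allB_cons (bad563 c) (allB_cons (bad563 c) (allB_cons (bad563 c) (allB_nil))))))))))))))))

def P1014 : List Ent := [⟨1, [.a0], [.a0]⟩,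
  ⟨2, [.a1, .a8], [.a1, .a2, .a8]⟩,
  ⟨4, [.a2], [.a2]⟩,
  ⟨8, [.a3], [.a3]⟩,
  ⟨32, [.a5], [.a5]⟩,
  ⟨64, [.a6, .a8], [.a6, .a8]⟩]
def B1014 : List Gv := [⟨[.a0], [.a0]⟩, ⟨[.a1, .a8], [.a1, .a2, .a8]⟩, ⟨[.a3], [.a3]⟩, ⟨[.a6, .a8], [.a6, .a8]⟩]
def D1014 : List Dv := [⟨[.a5], [1, 0], [0, 1]⟩,
  ⟨[.a2], [2, 2], []⟩]
def C1014 : List Ch := [⟨P389, 0, [], []⟩,
  ⟨P446, 1, [], []⟩,
  ⟨P512, 0, [.a0, .a1, .a2, .a3, .a4, .a6, .a8, .a9, .a10, .a11], [.a0, .a10]⟩,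
  ⟨P564, 2, [], []⟩,
  ⟨P564, 0, [.a7], [.a7, .a8]⟩,
  ⟨P564, 1, [.a4], [.a4, .a5]⟩,
  ⟨P564, 0, [.a4, .a6, .a7], [.a4, .a5, .a7, .a8]⟩,
  ⟨P549, 3, [], []⟩,
  ⟨P556, 0, [], []⟩,
  ⟨P555, 1, [.a9], [.a9]⟩,
  ⟨P550, 0, [.a9], [.a9]⟩,
  ⟨P565, 2, [], []⟩,
  ⟨P565, 0, [.a7], [.a7, .a8]⟩,
  ⟨P565, 1, [.a4], [.a4, .a5]⟩,
  ⟨P565, 0, [.a4, .a6, .a7], [.a4, .a5, .a7, .a8]⟩]
def N1014 : List Ent := [⟨1, [.a0], [.a0]⟩,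
  ⟨2, [.a1, .a8], [.a1, .a2, .a8]⟩,
  ⟨4, [.a2], [.a2]⟩,
  ⟨8, [.a3], [.a3]⟩,
  ⟨16, [.a4], [.a4, .a5]⟩,
  ⟨32, [.a5], [.a5]⟩,
  ⟨64, [.a6, .a8], [.a6, .a8]⟩,
  ⟨128, [.a7], [.a7, .a8]⟩,
  ⟨256, [.a8], [.a8]⟩]
theorem bad1014 (c : CtxF Goal γ) : Bad Goal γ [] P1014 :=
  c.toCtx.bnd (B := B1014) (D := D1014) (I := [2, 3, 0, 4, 1, 5]) (r := 4) (C := C1014) (N := N1014) (by decide +kernel) (by decide +kernel) (by decide +kernel) (by decide +kernel)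
    (allB_cons (bad389 c) (allB_cons (bad446 c) (allB_cons (bad512 c) (allB_cons (bad564 c) (allB_cons (bad564 c) (allB_cons (bad564 c) (allB_cons (bad564 c) (allB_cons (bad549 c) (allB_cons (bad556 c) (allB_cons (bad555 c) (allB_cons (bad550 c) (allB_cons (bad565 c) (allB_cons (bad565 c) (allB_cons (bad565 c) (allB_cons (bad565 c) (allB_nil))))))))))))))))

def P1015 : List Ent := [⟨1, [.a0], [.a0]⟩,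
  ⟨2, [.a1], [.a1, .a2]⟩,
  ⟨4, [.a2], [.a2]⟩,
  ⟨8, [.a3, .a8], [.a3, .a8]⟩,
  ⟨32, [.a5], [.a5]⟩,
  ⟨64, [.a6, .a8], [.a6, .a8]⟩]
def B1015 : List Gv := [⟨[.a0], [.a0]⟩, ⟨[.a1], [.a1, .a2]⟩, ⟨[.a3, .a8], [.a3, .a8]⟩, ⟨[.a6, .a8], [.a6, .a8]⟩]
def D1015 : List Dv := [⟨[.a2], [1, 1], []⟩,
  ⟨[.a5], [3, 1], [1, 3]⟩]
theorem bad1015 (c : CtxF Goal γ) : Bad Goal γ [] P1015 :=
  c.toCtx.cent (B := B1015) (D := D1015) (I := [2, 3, 1, 4, 0, 5]) (z := [.a3]) (by decide +kernel) (by decide +kernel)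

def P1016 : List Ent := [⟨1, [.a0, .a9], [.a0, .a3, .a6, .a9]⟩,
  ⟨2, [.a1], [.a1, .a2]⟩,
  ⟨4, [.a2], [.a2]⟩,
  ⟨8, [.a3, .a8], [.a3, .a8]⟩,
  ⟨32, [.a5], [.a5]⟩,
  ⟨64, [.a6, .a8], [.a6, .a8]⟩]
def B1016 : List Gv := [⟨[.a0, .a9], [.a0, .a3, .a6, .a9]⟩, ⟨[.a1], [.a1, .a2]⟩]
def D1016 : List Dv := [⟨[.a3, .a6], [0, 0], []⟩,
  ⟨[.a5, .a6, .a8], [2, 1], [1, 2]⟩,
  ⟨[.a2], [3, 3], []⟩,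
  ⟨[.a6, .a8], [1, 2, 4], [4, 2]⟩,
  ⟨[.a5], [2], [0]⟩,
  ⟨[.a3, .a8], [4], [1]⟩]
theorem bad1016 (c : CtxF Goal γ) : Bad Goal γ [] P1016 :=
  c.toCtx.cent (B := B1016) (D := D1016) (I := [6, 7, 3, 0, 1, 2]) (z := [.a3]) (by decide +kernel) (by decide +kernel)

def P1017 : List Ent := [⟨1, [.a0], [.a0]⟩,
  ⟨2, [.a1, .a9], [.a1, .a2, .a6, .a8, .a9]⟩,
  ⟨4, [.a2, .a8], [.a2, .a8]⟩,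
  ⟨8, [.a3], [.a3]⟩,
  ⟨32, [.a5], [.a5]⟩,
  ⟨64, [.a6], [.a6]⟩]
def B1017 : List Gv := [⟨[.a0], [.a0]⟩, ⟨[.a1, .a9], [.a1, .a2, .a6, .a8, .a9]⟩, ⟨[.a2, .a8], [.a2, .a8]⟩]
def D1017 : List Dv := [⟨[.a3, .a5, .a6], [1, 0], [0, 1]⟩,
  ⟨[.a5, .a6], [3, 2, 2], []⟩,
  ⟨[.a6], [0, 4, 2], [2, 4]⟩,
  ⟨[.a5], [1], [0]⟩,
  ⟨[.a3], [3], [0, 1]⟩]
theorem bad1017 (c : CtxF Goal γ) : Bad Goal γ [] P1017 :=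
  c.toCtx.cent (B := B1017) (D := D1017) (I := [5, 6, 7, 0, 1, 2]) (z := [.a2, .a6]) (by decide +kernel) (by decide +kernel)

def P1018 : List Ent := [⟨1, [.a0], [.a0]⟩,
  ⟨2, [.a1, .a9], [.a1, .a2, .a6, .a8, .a9]⟩,
  ⟨4, [.a2], [.a2]⟩,
  ⟨8, [.a3, .a8], [.a3, .a8]⟩,
  ⟨32, [.a5], [.a5]⟩,
  ⟨64, [.a6, .a8], [.a6, .a8]⟩]
def B1018 : List Gv := [⟨[.a0], [.a0]⟩, ⟨[.a1, .a9], [.a1, .a2, .a6, .a8, .a9]⟩, ⟨[.a2], [.a2]⟩]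
def D1018 : List Dv := [⟨[.a3, .a5, .a6], [1, 0], [0, 1]⟩,
  ⟨[.a5, .a6, .a8], [3, 2, 2], []⟩,
  ⟨[.a6, .a8], [0, 4, 3], [3, 4]⟩,
  ⟨[.a5], [1], [0]⟩,
  ⟨[.a3, .a8], [3], [0, 1]⟩]
theorem bad1018 (c : CtxF Goal γ) : Bad Goal γ [] P1018 :=
  c.toCtx.cent (B := B1018) (D := D1018) (I := [5, 6, 7, 0, 1, 2]) (z := [.a3]) (by decide +kernel) (by decide +kernel)

def P1019 : List Ent := [⟨1, [.a0], [.a0]⟩,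
  ⟨2, [.a1, .a8, .a9], [.a1, .a2, .a6, .a9]⟩,
  ⟨4, [.a2], [.a2]⟩,
  ⟨8, [.a3, .a8], [.a3, .a8]⟩,
  ⟨32, [.a5], [.a5]⟩,
  ⟨64, [.a6, .a8], [.a6, .a8]⟩]
def B1019 : List Gv := [⟨[.a0], [.a0]⟩, ⟨[.a1, .a8, .a9], [.a1, .a2, .a6, .a9]⟩, ⟨[.a2], [.a2]⟩]
def D1019 : List Dv := [⟨[.a3, .a6], [1, 0], [0, 1]⟩,
  ⟨[.a5, .a6, .a8], [3, 2, 2], []⟩,
  ⟨[.a6, .a8], [0, 4, 3], [3, 4]⟩,
  ⟨[.a5], [1], [0]⟩,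
  ⟨[.a3, .a8], [3], [1]⟩]
theorem bad1019 (c : CtxF Goal γ) : Bad Goal γ [] P1019 :=
  c.toCtx.cent (B := B1019) (D := D1019) (I := [5, 6, 7, 0, 1, 2]) (z := [.a3]) (by decide +kernel) (by decide +kernel)

def P1020 : List Ent := [⟨1, [.a0], [.a0]⟩,
  ⟨2, [.a1, .a9], [.a1, .a2, .a6, .a8, .a9]⟩,
  ⟨4, [.a2, .a6], [.a2, .a6]⟩,
  ⟨8, [.a3, .a6], [.a3, .a6]⟩,
  ⟨32, [.a5], [.a5]⟩,
  ⟨256, [.a8], [.a8]⟩]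
def B1020 : List Gv := [⟨[.a0], [.a0]⟩, ⟨[.a1, .a9], [.a1, .a2, .a6, .a8, .a9]⟩, ⟨[.a2, .a6], [.a2, .a6]⟩]
def D1020 : List Dv := [⟨[.a3, .a5, .a6], [1, 0], [0, 1]⟩,
  ⟨[.a5, .a8], [3, 2, 2], []⟩,
  ⟨[.a8], [0, 1, 3], [3, 1]⟩,
  ⟨[.a5], [1], [0]⟩,
  ⟨[.a3, .a6], [3], [0]⟩]
theorem bad1020 (c : CtxF Goal γ) : Bad Goal γ [] P1020 :=
  c.toCtx.cent (B := B1020) (D := D1020) (I := [5, 6, 7, 0, 1, 2]) (z := [.a3]) (by decide +kernel) (by decide +kernel)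

def P1021 : List Ent := [⟨1, [.a0, .a9], [.a0, .a3, .a6, .a9]⟩,
  ⟨2, [.a1, .a9], [.a1, .a2, .a6, .a8, .a9]⟩,
  ⟨4, [.a2], [.a2]⟩,
  ⟨8, [.a3, .a8], [.a3, .a8]⟩,
  ⟨32, [.a5], [.a5]⟩,
  ⟨64, [.a6, .a8], [.a6, .a8]⟩]
def B1021 : List Gv := [⟨[.a0, .a9], [.a0, .a3, .a6, .a9]⟩, ⟨[.a1, .a9], [.a1, .a2, .a6, .a8, .a9]⟩]
def D1021 : List Dv := [⟨[.a3, .a6], [0, 0], []⟩,
  ⟨[.a6, .a8], [0, 2, 1], [1, 2]⟩,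
  ⟨[.a2, .a5, .a6, .a8], [3, 3], []⟩,
  ⟨[.a5], [2, 4], [4, 2]⟩,
  ⟨[.a3, .a8], [3], [2]⟩,
  ⟨[.a2], [2], [1, 3]⟩]
theorem bad1021 (c : CtxF Goal γ) : Bad Goal γ [] P1021 :=
  c.toCtx.cent (B := B1021) (D := D1021) (I := [6, 7, 0, 1, 2, 4]) (z := [.a3]) (by decide +kernel) (by decide +kernel)

def P1022 : List Ent := [⟨1, [.a0, .a9], [.a0, .a3, .a6, .a9]⟩,
  ⟨2, [.a1, .a8, .a9], [.a1, .a2, .a6, .a9]⟩,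
  ⟨4, [.a2], [.a2]⟩,
  ⟨8, [.a3, .a8], [.a3, .a8]⟩,
  ⟨32, [.a5], [.a5]⟩,
  ⟨64, [.a6, .a8], [.a6, .a8]⟩]
def B1022 : List Gv := [⟨[.a0, .a9], [.a0, .a3, .a6, .a9]⟩, ⟨[.a1, .a8, .a9], [.a1, .a2, .a6, .a9]⟩]
def D1022 : List Dv := [⟨[.a3, .a6], [0, 0], []⟩,
  ⟨[.a5, .a6, .a8], [0, 2, 1], [1, 2]⟩,
  ⟨[.a2, .a5, .a6, .a8], [3, 3], []⟩,
  ⟨[.a6, .a8], [1, 2, 4], [4, 2]⟩,
  ⟨[.a5], [2], [0]⟩,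
  ⟨[.a3, .a8], [4], [1]⟩,
  ⟨[.a2], [3], [1, 2]⟩]
theorem bad1022 (c : CtxF Goal γ) : Bad Goal γ [] P1022 :=
  c.toCtx.cent (B := B1022) (D := D1022) (I := [7, 8, 0, 1, 2, 3]) (z := [.a3]) (by decide +kernel) (by decide +kernel)

def P1023 : List Ent := [⟨1, [.a0], [.a0]⟩,
  ⟨2, [.a1, .a4, .a7], [.a1, .a2, .a3, .a4, .a6, .a7, .a8]⟩,
  ⟨4, [.a2, .a8], [.a2, .a8]⟩,
  ⟨8, [.a3], [.a3]⟩,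
  ⟨32, [.a5], [.a5]⟩,
  ⟨64, [.a6], [.a6]⟩]
def B1023 : List Gv := [⟨[.a0], [.a0]⟩, ⟨[.a1, .a4, .a7], [.a1, .a2, .a3, .a4, .a6, .a7, .a8]⟩, ⟨[.a2, .a8], [.a2, .a8]⟩]
def D1023 : List Dv := [⟨[.a3], [1, 0], [0, 1]⟩,
  ⟨[.a5, .a6], [0, 3, 2, 2], []⟩,
  ⟨[.a6], [0, 4, 2], [2, 4]⟩,
  ⟨[.a5], [1], [0]⟩]
theorem bad1023 (c : CtxF Goal γ) : Bad Goal γ [] P1023 :=
  c.toCtx.cent (B := B1023) (D := D1023) (I := [4, 5, 6, 3, 0, 1]) (z := [.a2]) (by decide +kernel) (by decide +kernel)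

def P1024 : List Ent := [⟨1, [.a0, .a9], [.a0, .a3, .a6, .a9]⟩,
  ⟨2, [.a1, .a4, .a7], [.a1, .a2, .a3, .a4, .a6, .a7, .a8]⟩,
  ⟨4, [.a2, .a8], [.a2, .a8]⟩,
  ⟨8, [.a3], [.a3]⟩,
  ⟨32, [.a5], [.a5]⟩,
  ⟨64, [.a6], [.a6]⟩]
def B1024 : List Gv := [⟨[.a0, .a9], [.a0, .a3, .a6, .a9]⟩, ⟨[.a1, .a4, .a7], [.a1, .a2, .a3, .a4, .a6, .a7, .a8]⟩, ⟨[.a3], [.a3]⟩]
def D1024 : List Dv := [⟨[.a6], [2, 0, 0], []⟩,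
  ⟨[.a2, .a3, .a5, .a6, .a8], [2, 2], []⟩,
  ⟨[.a5], [4, 3], [3, 4]⟩,
  ⟨[.a2, .a8], [1], [5, 0, 2]⟩]
def C1024 : List Ch := [⟨P388, 0, [.a10], [.a10, .a11]⟩,
  ⟨P459, 1, [], []⟩,
  ⟨P523, 0, [.a10, .a11], [.a10]⟩,
  ⟨P566, 2, [], []⟩,
  ⟨P567, 0, [], []⟩,
  ⟨P566, 1, [.a0], [.a0]⟩,
  ⟨P567, 0, [.a0], [.a0]⟩]
def N1024 : List Ent := [⟨1, [.a0, .a9], [.a0, .a3, .a6, .a9]⟩,
  ⟨2, [.a1, .a4, .a7], [.a1, .a2, .a3, .a4, .a6, .a7, .a8]⟩,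
  ⟨4, [.a2, .a8], [.a2, .a8]⟩,
  ⟨8, [.a3], [.a3]⟩,
  ⟨16, [.a4], [.a4, .a5]⟩,
  ⟨32, [.a5], [.a5]⟩,
  ⟨64, [.a6], [.a6]⟩,
  ⟨256, [.a8], [.a8]⟩,
  ⟨512, [.a9], [.a9]⟩]
theorem bad1024 (c : CtxF Goal γ) : Bad Goal γ [] P1024 :=
  c.toCtx.bnd (B := B1024) (D := D1024) (I := [4, 5, 0, 6, 1, 3]) (r := 3) (C := C1024) (N := N1024) (by decide +kernel) (by decide +kernel) (by decide +kernel) (by decide +kernel)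
    (allB_cons (bad388 c) (allB_cons (bad459 c) (allB_cons (bad523 c) (allB_cons (bad566 c) (allB_cons (bad567 c) (allB_cons (bad566 c) (allB_cons (bad567 c) (allB_nil))))))))

def P1025 : List Ent := [⟨1, [.a0], [.a0]⟩,
  ⟨2, [.a1, .a4, .a7, .a9], [.a1, .a2, .a3, .a4, .a7, .a8, .a9]⟩,
  ⟨4, [.a2, .a8], [.a2, .a8]⟩,
  ⟨8, [.a3], [.a3]⟩,
  ⟨32, [.a5], [.a5]⟩,
  ⟨64, [.a6], [.a6]⟩]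
def B1025 : List Gv := [⟨[.a0], [.a0]⟩, ⟨[.a1, .a4, .a7, .a9], [.a1, .a2, .a3, .a4, .a7, .a8, .a9]⟩, ⟨[.a2, .a8], [.a2, .a8]⟩]
def D1025 : List Dv := [⟨[.a6], [1, 0], [0, 1]⟩,
  ⟨[.a3], [3, 2, 2], []⟩,
  ⟨[.a5], [4, 2], [2, 4]⟩]
theorem bad1025 (c : CtxF Goal γ) : Bad Goal γ [] P1025 :=
  c.toCtx.cent (B := B1025) (D := D1025) (I := [3, 4, 5, 1, 0, 2]) (z := [.a2, .a3]) (by decide +kernel) (by decide +kernel)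

def P1026 : List Ent := [⟨1, [.a0, .a9], [.a0, .a3, .a6, .a9]⟩,
  ⟨2, [.a1, .a4, .a7, .a9], [.a1, .a2, .a3, .a4, .a7, .a8, .a9]⟩,
  ⟨4, [.a2, .a8], [.a2, .a8]⟩,
  ⟨8, [.a3], [.a3]⟩,
  ⟨32, [.a5], [.a5]⟩,
  ⟨64, [.a6], [.a6]⟩]
def B1026 : List Gv := [⟨[.a0, .a9], [.a0, .a3, .a6, .a9]⟩, ⟨[.a1, .a4, .a7, .a9], [.a1, .a2, .a3, .a4, .a7, .a8, .a9]⟩, ⟨[.a2, .a8], [.a2, .a8]⟩]
def D1026 : List Dv := [⟨[.a3, .a6], [0, 0], []⟩,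
  ⟨[.a6], [0, 3, 2, 2], []⟩,
  ⟨[.a5], [4, 3], [3, 4]⟩,
  ⟨[.a3], [2], [1]⟩]
def C1026 : List Ch := [⟨P390, 0, [.a0, .a2, .a3, .a4, .a5, .a6, .a7, .a9, .a10, .a11], [.a0, .a1, .a2, .a3, .a4, .a6, .a8, .a9, .a10]⟩,
  ⟨P459, 1, [], []⟩,
  ⟨P515, 0, [.a10, .a11], [.a10]⟩,
  ⟨P568, 2, [], []⟩,
  ⟨P569, 0, [], []⟩,
  ⟨P568, 1, [.a0], [.a0]⟩,
  ⟨P569, 0, [.a0], [.a0]⟩]
def N1026 : List Ent := [⟨1, [.a0, .a9], [.a0, .a3, .a6, .a9]⟩,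
  ⟨2, [.a1, .a4, .a7, .a9], [.a1, .a2, .a3, .a4, .a7, .a8, .a9]⟩,
  ⟨4, [.a2, .a8], [.a2, .a8]⟩,
  ⟨8, [.a3], [.a3]⟩,
  ⟨32, [.a5], [.a5]⟩,
  ⟨64, [.a6], [.a6]⟩,
  ⟨256, [.a8], [.a8]⟩,
  ⟨512, [.a9], [.a9]⟩]
theorem bad1026 (c : CtxF Goal γ) : Bad Goal γ [] P1026 :=
  c.toCtx.bnd (B := B1026) (D := D1026) (I := [4, 5, 6, 0, 1, 2]) (r := 3) (C := C1026) (N := N1026) (by decide +kernel) (by decide +kernel) (by decide +kernel) (by decide +kernel)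
    (allB_cons (bad390 c) (allB_cons (bad459 c) (allB_cons (bad515 c) (allB_cons (bad568 c) (allB_cons (bad569 c) (allB_cons (bad568 c) (allB_cons (bad569 c) (allB_nil))))))))

def P1027 : List Ent := [⟨1, [.a0], [.a0]⟩,
  ⟨2, [.a1, .a4, .a7, .a8], [.a1, .a2, .a3, .a4, .a6, .a7]⟩,
  ⟨4, [.a2, .a8], [.a2, .a8]⟩,
  ⟨8, [.a3], [.a3]⟩,
  ⟨32, [.a5], [.a5]⟩,
  ⟨64, [.a6], [.a6]⟩]
def B1027 : List Gv := [⟨[.a0], [.a0]⟩, ⟨[.a1, .a4, .a7, .a8], [.a1, .a2, .a3, .a4, .a6, .a7]⟩, ⟨[.a2, .a8], [.a2, .a8]⟩]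
def D1027 : List Dv := [⟨[.a3, .a5], [1, 0], [0, 1]⟩,
  ⟨[.a6], [0, 3, 2, 2], []⟩,
  ⟨[.a5], [4, 2], [2, 4]⟩,
  ⟨[.a3], [2], [0]⟩]
theorem bad1027 (c : CtxF Goal γ) : Bad Goal γ [] P1027 :=
  c.toCtx.cent (B := B1027) (D := D1027) (I := [4, 5, 6, 0, 1, 2]) (z := [.a2]) (by decide +kernel) (by decide +kernel)

def P1028 : List Ent := [⟨1, [.a0, .a9], [.a0, .a3, .a6, .a9]⟩,
  ⟨2, [.a1, .a4, .a7, .a8], [.a1, .a2, .a3, .a4, .a6, .a7]⟩,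
  ⟨4, [.a2, .a8], [.a2, .a8]⟩,
  ⟨8, [.a3], [.a3]⟩,
  ⟨32, [.a5], [.a5]⟩,
  ⟨64, [.a6], [.a6]⟩]
def B1028 : List Gv := [⟨[.a0, .a9], [.a0, .a3, .a6, .a9]⟩, ⟨[.a1, .a4, .a7, .a8], [.a1, .a2, .a3, .a4, .a6, .a7]⟩, ⟨[.a3], [.a3]⟩]
def D1028 : List Dv := [⟨[.a6], [2, 0, 0], []⟩,
  ⟨[.a5, .a6], [3, 2, 1], [1, 2]⟩,
  ⟨[.a2, .a3, .a5, .a6, .a8], [3, 3], []⟩,
  ⟨[.a5], [1], [2]⟩,
  ⟨[.a2, .a8], [1], [6, 0, 3]⟩]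
def C1028 : List Ch := [⟨P389, 0, [.a10], [.a10, .a11]⟩,
  ⟨P459, 1, [], []⟩,
  ⟨P523, 0, [.a0, .a1, .a2, .a3, .a4, .a6, .a8, .a9, .a10, .a11], [.a0, .a10]⟩,
  ⟨P570, 2, [], []⟩,
  ⟨P571, 0, [], []⟩,
  ⟨P570, 1, [.a0], [.a0]⟩,
  ⟨P571, 0, [.a0], [.a0]⟩]
def N1028 : List Ent := [⟨1, [.a0, .a9], [.a0, .a3, .a6, .a9]⟩,
  ⟨2, [.a1, .a4, .a7, .a8], [.a1, .a2, .a3, .a4, .a6, .a7]⟩,
  ⟨4, [.a2, .a8], [.a2, .a8]⟩,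
  ⟨8, [.a3], [.a3]⟩,
  ⟨16, [.a4], [.a4, .a5]⟩,
  ⟨32, [.a5], [.a5]⟩,
  ⟨64, [.a6], [.a6]⟩,
  ⟨256, [.a8], [.a8]⟩,
  ⟨512, [.a9], [.a9]⟩]
theorem bad1028 (c : CtxF Goal γ) : Bad Goal γ [] P1028 :=
  c.toCtx.bnd (B := B1028) (D := D1028) (I := [5, 6, 0, 7, 1, 4]) (r := 3) (C := C1028) (N := N1028) (by decide +kernel) (by decide +kernel) (by decide +kernel) (by decide +kernel)
    (allB_cons (bad389 c) (allB_cons (bad459 c) (allB_cons (bad523 c) (allB_cons (bad570 c) (allB_cons (bad571 c) (allB_cons (bad570 c) (allB_cons (bad571 c) (allB_nil))))))))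

def P1029 : List Ent := [⟨1, [.a0], [.a0]⟩,
  ⟨2, [.a1, .a4, .a7], [.a1, .a2, .a3, .a4, .a6, .a7, .a8]⟩,
  ⟨4, [.a2], [.a2]⟩,
  ⟨8, [.a3], [.a3]⟩,
  ⟨32, [.a5], [.a5]⟩,
  ⟨64, [.a6, .a8], [.a6, .a8]⟩]
def B1029 : List Gv := [⟨[.a0], [.a0]⟩, ⟨[.a1, .a4, .a7], [.a1, .a2, .a3, .a4, .a6, .a7, .a8]⟩, ⟨[.a2], [.a2]⟩]
def D1029 : List Dv := [⟨[.a3], [1, 0], [0, 1]⟩,
  ⟨[.a5, .a6, .a8], [0, 3, 2, 2], []⟩,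
  ⟨[.a6, .a8], [0, 1, 3], [3, 1]⟩,
  ⟨[.a5], [1], [0]⟩]
theorem bad1029 (c : CtxF Goal γ) : Bad Goal γ [] P1029 :=
  c.toCtx.cent (B := B1029) (D := D1029) (I := [4, 5, 6, 3, 0, 1]) (z := [.a0, .a1]) (by decide +kernel) (by decide +kernel)

def P1030 : List Ent := [⟨1, [.a0], [.a0]⟩,
  ⟨2, [.a1, .a4, .a7], [.a1, .a2, .a3, .a4, .a6, .a7, .a8]⟩,
  ⟨4, [.a2, .a6], [.a2, .a6]⟩,
  ⟨8, [.a3], [.a3]⟩,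
  ⟨32, [.a5], [.a5]⟩,
  ⟨256, [.a8], [.a8]⟩]
def B1030 : List Gv := [⟨[.a0], [.a0]⟩, ⟨[.a1, .a4, .a7], [.a1, .a2, .a3, .a4, .a6, .a7, .a8]⟩, ⟨[.a2, .a6], [.a2, .a6]⟩]
def D1030 : List Dv := [⟨[.a3], [1, 0], [0, 1]⟩,
  ⟨[.a5, .a8], [0, 3, 2, 2], []⟩,
  ⟨[.a8], [0, 4, 3], [3, 4]⟩,
  ⟨[.a5], [1], [0]⟩]
theorem bad1030 (c : CtxF Goal γ) : Bad Goal γ [] P1030 :=
  c.toCtx.cent (B := B1030) (D := D1030) (I := [4, 5, 6, 3, 0, 1]) (z := [.a2]) (by decide +kernel) (by decide +kernel)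

def P1031 : List Ent := [⟨1, [.a0, .a6], [.a0, .a6]⟩,
  ⟨2, [.a1, .a4, .a7], [.a1, .a2, .a3, .a4, .a6, .a7, .a8]⟩,
  ⟨4, [.a2, .a6], [.a2, .a6]⟩,
  ⟨8, [.a3], [.a3]⟩,
  ⟨32, [.a5], [.a5]⟩,
  ⟨256, [.a8], [.a8]⟩]
def B1031 : List Gv := [⟨[.a0, .a6], [.a0, .a6]⟩, ⟨[.a1, .a4, .a7], [.a1, .a2, .a3, .a4, .a6, .a7, .a8]⟩, ⟨[.a2, .a6], [.a2, .a6]⟩]
def D1031 : List Dv := [⟨[.a3, .a5], [1, 0], [0, 1]⟩,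
  ⟨[.a8], [0, 3, 2, 2], []⟩,
  ⟨[.a5], [4, 3], [3, 4]⟩,
  ⟨[.a3], [2], [0]⟩]
theorem bad1031 (c : CtxF Goal γ) : Bad Goal γ [] P1031 :=
  c.toCtx.cent (B := B1031) (D := D1031) (I := [4, 5, 6, 0, 1, 2]) (z := [.a2]) (by decide +kernel) (by decide +kernel)

def P1032 : List Ent := [⟨1, [.a0, .a9], [.a0, .a3, .a6, .a9]⟩,
  ⟨2, [.a1, .a4, .a7], [.a1, .a2, .a3, .a4, .a6, .a7, .a8]⟩,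
  ⟨4, [.a2], [.a2]⟩,
  ⟨8, [.a3, .a6], [.a3, .a6]⟩,
  ⟨32, [.a5], [.a5]⟩,
  ⟨256, [.a8], [.a8]⟩]
def B1032 : List Gv := [⟨[.a0, .a9], [.a0, .a3, .a6, .a9]⟩, ⟨[.a1, .a4, .a7], [.a1, .a2, .a3, .a4, .a6, .a7, .a8]⟩, ⟨[.a2], [.a2]⟩]
def D1032 : List Dv := [⟨[.a3, .a6], [0, 0], []⟩,
  ⟨[.a5, .a8], [0, 3, 2, 2], []⟩,
  ⟨[.a8], [0, 4, 2], [2, 4]⟩,
  ⟨[.a5], [1], [0]⟩]
def C1032 : List Ch := [⟨P384, 0, [.a0, .a10], [.a0, .a1, .a2, .a3, .a4, .a6, .a8, .a9, .a10, .a11]⟩,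
  ⟨P456, 1, [], []⟩,
  ⟨P522, 0, [.a0, .a10, .a11], [.a0, .a1, .a3, .a5, .a6, .a7, .a8, .a9, .a10]⟩,
  ⟨P566, 2, [], []⟩,
  ⟨P567, 0, [.a0, .a1], [.a0, .a1, .a2]⟩,
  ⟨P570, 1, [], []⟩,
  ⟨P571, 0, [.a0, .a1], [.a0, .a1, .a2]⟩]
def N1032 : List Ent := [⟨1, [.a0, .a9], [.a0, .a3, .a6, .a9]⟩,
  ⟨2, [.a1, .a4, .a7], [.a1, .a2, .a3, .a4, .a6, .a7, .a8]⟩,
  ⟨4, [.a2], [.a2]⟩,
  ⟨8, [.a3, .a6], [.a3, .a6]⟩,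
  ⟨16, [.a4], [.a4, .a5]⟩,
  ⟨32, [.a5], [.a5]⟩,
  ⟨64, [.a6], [.a6]⟩,
  ⟨256, [.a8], [.a8]⟩]
theorem bad1032 (c : CtxF Goal γ) : Bad Goal γ [] P1032 :=
  c.toCtx.bnd (B := B1032) (D := D1032) (I := [4, 5, 6, 3, 0, 1]) (r := 3) (C := C1032) (N := N1032) (by decide +kernel) (by decide +kernel) (by decide +kernel) (by decide +kernel)
    (allB_cons (bad384 c) (allB_cons (bad456 c) (allB_cons (bad522 c) (allB_cons (bad566 c) (allB_cons (bad567 c) (allB_cons (bad570 c) (allB_cons (bad571 c) (allB_nil))))))))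

def P1033 : List Ent := [⟨1, [.a0, .a9], [.a0, .a3, .a6, .a9]⟩,
  ⟨2, [.a1, .a4, .a7], [.a1, .a2, .a3, .a4, .a6, .a7, .a8]⟩,
  ⟨4, [.a2, .a8], [.a2, .a8]⟩,
  ⟨8, [.a3, .a8], [.a3, .a8]⟩,
  ⟨32, [.a5], [.a5]⟩,
  ⟨64, [.a6, .a8], [.a6, .a8]⟩]
def B1033 : List Gv := [⟨[.a0, .a9], [.a0, .a3, .a6, .a9]⟩, ⟨[.a1, .a4, .a7], [.a1, .a2, .a3, .a4, .a6, .a7, .a8]⟩, ⟨[.a3, .a8], [.a3, .a8]⟩]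
def D1033 : List Dv := [⟨[.a6, .a8], [2, 0, 0], []⟩,
  ⟨[.a2, .a3, .a5, .a6, .a8], [2, 2], []⟩,
  ⟨[.a5], [4, 2], [2, 4]⟩,
  ⟨[.a2, .a8], [1], [5, 0, 2]⟩]
def C1033 : List Ch := [⟨P386, 0, [.a0, .a10], [.a0, .a1, .a2, .a3, .a4, .a6, .a8, .a9, .a10, .a11]⟩,
  ⟨P461, 1, [], []⟩,
  ⟨P520, 0, [.a0, .a1, .a2, .a3, .a4, .a6, .a8, .a9, .a10, .a11], [.a0, .a10]⟩,
  ⟨P566, 2, [], []⟩,
  ⟨P566, 0, [.a0, .a1], [.a0, .a1, .a2]⟩,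
  ⟨P570, 1, [.a0], [.a0]⟩,
  ⟨P570, 0, [.a1], [.a1, .a2]⟩]
def N1033 : List Ent := [⟨1, [.a0, .a9], [.a0, .a3, .a6, .a9]⟩,
  ⟨2, [.a1, .a4, .a7], [.a1, .a2, .a3, .a4, .a6, .a7, .a8]⟩,
  ⟨4, [.a2, .a8], [.a2, .a8]⟩,
  ⟨8, [.a3, .a8], [.a3, .a8]⟩,
  ⟨16, [.a4], [.a4, .a5]⟩,
  ⟨32, [.a5], [.a5]⟩,
  ⟨64, [.a6, .a8], [.a6, .a8]⟩,
  ⟨128, [.a7, .a9], [.a7, .a8, .a9]⟩,
  ⟨256, [.a8], [.a8]⟩]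
theorem bad1033 (c : CtxF Goal γ) : Bad Goal γ [] P1033 :=
  c.toCtx.bnd (B := B1033) (D := D1033) (I := [4, 5, 0, 6, 1, 3]) (r := 3) (C := C1033) (N := N1033) (by decide +kernel) (by decide +kernel) (by decide +kernel) (by decide +kernel)
    (allB_cons (bad386 c) (allB_cons (bad461 c) (allB_cons (bad520 c) (allB_cons (bad566 c) (allB_cons (bad566 c) (allB_cons (bad570 c) (allB_cons (bad570 c) (allB_nil))))))))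

def P1034 : List Ent := [⟨1, [.a0, .a8, .a9], [.a0, .a3, .a5, .a6, .a8, .a9]⟩,
  ⟨2, [.a1, .a4, .a7], [.a1, .a2, .a3, .a4, .a6, .a7, .a8]⟩,
  ⟨4, [.a2, .a8], [.a2, .a8]⟩,
  ⟨8, [.a3, .a8], [.a3, .a8]⟩,
  ⟨32, [.a5], [.a5]⟩,
  ⟨64, [.a6, .a8], [.a6, .a8]⟩]
def B1034 : List Gv := [⟨[.a0, .a8, .a9], [.a0, .a3, .a5, .a6, .a8, .a9]⟩, ⟨[.a1, .a4, .a7], [.a1, .a2, .a3, .a4, .a6, .a7, .a8]⟩, ⟨[.a3, .a8], [.a3, .a8]⟩]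
def D1034 : List Dv := [⟨[.a5, .a6, .a8], [2, 0, 0], []⟩,
  ⟨[.a6, .a8], [3, 2, 1], [1, 2]⟩,
  ⟨[.a2, .a3, .a5, .a6, .a8], [3, 3], []⟩,
  ⟨[.a5], [2], [1]⟩,
  ⟨[.a2, .a8], [1], [6, 0, 2]⟩]
def C1034 : List Ch := [⟨P386, 0, [.a0, .a10], [.a0, .a1, .a2, .a3, .a4, .a6, .a8, .a9, .a10, .a11]⟩,
  ⟨P462, 1, [], []⟩,
  ⟨P520, 0, [.a10, .a11], [.a10]⟩,
  ⟨P567, 2, [.a0, .a1], [.a0, .a1, .a2]⟩,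
  ⟨P567, 0, [], []⟩,
  ⟨P571, 1, [.a1], [.a1, .a2]⟩,
  ⟨P571, 0, [.a0], [.a0]⟩]
def N1034 : List Ent := [⟨1, [.a0, .a8, .a9], [.a0, .a3, .a5, .a6, .a8, .a9]⟩,
  ⟨2, [.a1, .a4, .a7], [.a1, .a2, .a3, .a4, .a6, .a7, .a8]⟩,
  ⟨4, [.a2, .a8], [.a2, .a8]⟩,
  ⟨8, [.a3, .a8], [.a3, .a8]⟩,
  ⟨16, [.a4], [.a4, .a5]⟩,
  ⟨32, [.a5], [.a5]⟩,
  ⟨64, [.a6, .a8], [.a6, .a8]⟩,
  ⟨128, [.a7, .a9], [.a7, .a8, .a9]⟩,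
  ⟨256, [.a8], [.a8]⟩]
theorem bad1034 (c : CtxF Goal γ) : Bad Goal γ [] P1034 :=
  c.toCtx.bnd (B := B1034) (D := D1034) (I := [5, 6, 0, 7, 1, 3]) (r := 3) (C := C1034) (N := N1034) (by decide +kernel) (by decide +kernel) (by decide +kernel) (by decide +kernel)
    (allB_cons (bad386 c) (allB_cons (bad462 c) (allB_cons (bad520 c) (allB_cons (bad567 c) (allB_cons (bad567 c) (allB_cons (bad571 c) (allB_cons (bad571 c) (allB_nil))))))))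

def P1035 : List Ent := [⟨1, [.a0], [.a0]⟩,
  ⟨2, [.a1, .a4, .a7, .a9], [.a1, .a2, .a3, .a4, .a7, .a8, .a9]⟩,
  ⟨4, [.a2], [.a2]⟩,
  ⟨8, [.a3, .a8], [.a3, .a8]⟩,
  ⟨32, [.a5], [.a5]⟩,
  ⟨64, [.a6], [.a6]⟩]
def B1035 : List Gv := [⟨[.a0], [.a0]⟩, ⟨[.a1, .a4, .a7, .a9], [.a1, .a2, .a3, .a4, .a7, .a8, .a9]⟩, ⟨[.a2], [.a2]⟩]
def D1035 : List Dv := [⟨[.a6], [1, 0], [0, 1]⟩,
  ⟨[.a3, .a8], [3, 2, 2], []⟩,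
  ⟨[.a5], [4, 3], [3, 4]⟩]
theorem bad1035 (c : CtxF Goal γ) : Bad Goal γ [] P1035 :=
  c.toCtx.cent (B := B1035) (D := D1035) (I := [3, 4, 5, 1, 0, 2]) (z := [.a2, .a3]) (by decide +kernel) (by decide +kernel)

def P1036 : List Ent := [⟨1, [.a0], [.a0]⟩,
  ⟨2, [.a1, .a4, .a7, .a8, .a9], [.a1, .a2, .a3, .a4, .a7, .a9]⟩,
  ⟨4, [.a2], [.a2]⟩,
  ⟨8, [.a3, .a8], [.a3, .a8]⟩,
  ⟨32, [.a5], [.a5]⟩,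
  ⟨64, [.a6], [.a6]⟩]
def B1036 : List Gv := [⟨[.a0], [.a0]⟩, ⟨[.a1, .a4, .a7, .a8, .a9], [.a1, .a2, .a3, .a4, .a7, .a9]⟩, ⟨[.a2], [.a2]⟩]
def D1036 : List Dv := [⟨[.a5, .a6], [1, 0], [0, 1]⟩,
  ⟨[.a3, .a8], [3, 2, 2], []⟩,
  ⟨[.a6], [1, 4, 3], [3, 4]⟩,
  ⟨[.a5], [2], [0]⟩]
theorem bad1036 (c : CtxF Goal γ) : Bad Goal γ [] P1036 :=
  c.toCtx.cent (B := B1036) (D := D1036) (I := [4, 5, 6, 2, 0, 1]) (z := [.a2, .a3]) (by decide +kernel) (by decide +kernel)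

def P1037 : List Ent := [⟨1, [.a0], [.a0]⟩,
  ⟨2, [.a1, .a4, .a7, .a9], [.a1, .a2, .a3, .a4, .a7, .a8, .a9]⟩,
  ⟨4, [.a2, .a3], [.a2, .a3]⟩,
  ⟨32, [.a5], [.a5]⟩,
  ⟨64, [.a6], [.a6]⟩,
  ⟨256, [.a8], [.a8]⟩]
def B1037 : List Gv := [⟨[.a0], [.a0]⟩, ⟨[.a1, .a4, .a7, .a9], [.a1, .a2, .a3, .a4, .a7, .a8, .a9]⟩, ⟨[.a2, .a3], [.a2, .a3]⟩]
def D1037 : List Dv := [⟨[.a6], [1, 0], [0, 1]⟩,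
  ⟨[.a8], [3, 2, 2], []⟩,
  ⟨[.a5], [1, 3], [3, 1]⟩]
theorem bad1037 (c : CtxF Goal γ) : Bad Goal γ [] P1037 :=
  c.toCtx.cent (B := B1037) (D := D1037) (I := [3, 4, 5, 0, 2, 1]) (z := [.a2, .a6]) (by decide +kernel) (by decide +kernel)

def P1038 : List Ent := [⟨1, [.a0, .a9], [.a0, .a3, .a6, .a9]⟩,
  ⟨2, [.a1, .a4, .a7, .a9], [.a1, .a2, .a3, .a4, .a7, .a8, .a9]⟩,
  ⟨4, [.a2], [.a2]⟩,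
  ⟨8, [.a3, .a8], [.a3, .a8]⟩,
  ⟨32, [.a5], [.a5]⟩,
  ⟨64, [.a6, .a8], [.a6, .a8]⟩]
def B1038 : List Gv := [⟨[.a0, .a9], [.a0, .a3, .a6, .a9]⟩, ⟨[.a1, .a4, .a7, .a9], [.a1, .a2, .a3, .a4, .a7, .a8, .a9]⟩, ⟨[.a2], [.a2]⟩]
def D1038 : List Dv := [⟨[.a3, .a6], [0, 0], []⟩,
  ⟨[.a6, .a8], [0, 3, 2, 2], []⟩,
  ⟨[.a5], [4, 2], [2, 4]⟩,
  ⟨[.a3, .a8], [2], [1]⟩]
def C1038 : List Ch := [⟨P387, 0, [.a10, .a11], [.a10]⟩,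
  ⟨P460, 1, [], []⟩,
  ⟨P512, 0, [.a0, .a1, .a3, .a5, .a6, .a7, .a8, .a9, .a10], [.a0, .a10, .a11]⟩,
  ⟨P568, 2, [], []⟩,
  ⟨P569, 0, [.a0, .a2, .a3, .a7], [.a0, .a7, .a8]⟩,
  ⟨P569, 1, [.a0, .a2, .a4], [.a0, .a4, .a5]⟩,
  ⟨P568, 0, [.a0, .a1], [.a0, .a1, .a2]⟩]
def N1038 : List Ent := [⟨1, [.a0, .a9], [.a0, .a3, .a6, .a9]⟩,
  ⟨2, [.a1, .a4, .a7, .a9], [.a1, .a2, .a3, .a4, .a7, .a8, .a9]⟩,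
  ⟨4, [.a2], [.a2]⟩,
  ⟨8, [.a3, .a8], [.a3, .a8]⟩,
  ⟨16, [.a4, .a7], [.a4, .a5, .a6, .a7, .a8]⟩,
  ⟨32, [.a5], [.a5]⟩,
  ⟨64, [.a6, .a8], [.a6, .a8]⟩,
  ⟨256, [.a8], [.a8]⟩]
theorem bad1038 (c : CtxF Goal γ) : Bad Goal γ [] P1038 :=
  c.toCtx.bnd (B := B1038) (D := D1038) (I := [4, 5, 6, 0, 1, 2]) (r := 3) (C := C1038) (N := N1038) (by decide +kernel) (by decide +kernel) (by decide +kernel) (by decide +kernel)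
    (allB_cons (bad387 c) (allB_cons (bad460 c) (allB_cons (bad512 c) (allB_cons (bad568 c) (allB_cons (bad569 c) (allB_cons (bad569 c) (allB_cons (bad568 c) (allB_nil))))))))

def P1039 : List Ent := [⟨1, [.a0, .a9], [.a0, .a3, .a6, .a9]⟩,
  ⟨2, [.a1, .a4, .a7, .a9], [.a1, .a2, .a3, .a4, .a7, .a8, .a9]⟩,
  ⟨4, [.a2, .a6], [.a2, .a6]⟩,
  ⟨8, [.a3, .a6], [.a3, .a6]⟩,
  ⟨32, [.a5], [.a5]⟩,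
  ⟨256, [.a8], [.a8]⟩]
def B1039 : List Gv := [⟨[.a0, .a9], [.a0, .a3, .a6, .a9]⟩, ⟨[.a1, .a4, .a7, .a9], [.a1, .a2, .a3, .a4, .a7, .a8, .a9]⟩, ⟨[.a2, .a6], [.a2, .a6]⟩]
def D1039 : List Dv := [⟨[.a3, .a6], [0, 0], []⟩,
  ⟨[.a8], [0, 3, 2, 2], []⟩,
  ⟨[.a5], [4, 2], [2, 4]⟩]
def C1039 : List Ch := [⟨P384, 0, [.a0, .a2, .a3, .a4, .a5, .a6, .a7, .a9, .a10, .a11], [.a0, .a1, .a2, .a3, .a4, .a6, .a8, .a9, .a10]⟩,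
  ⟨P457, 1, [], []⟩,
  ⟨P513, 0, [.a10, .a11], [.a10]⟩,
  ⟨P568, 2, [], []⟩,
  ⟨P568, 0, [.a0, .a2, .a3, .a7], [.a0, .a7, .a8]⟩,
  ⟨P569, 1, [.a4], [.a4, .a5]⟩,
  ⟨P569, 0, [.a1], [.a1, .a2]⟩]
def N1039 : List Ent := [⟨1, [.a0, .a9], [.a0, .a3, .a6, .a9]⟩,
  ⟨2, [.a1, .a4, .a7, .a9], [.a1, .a2, .a3, .a4, .a7, .a8, .a9]⟩,
  ⟨4, [.a2, .a6], [.a2, .a6]⟩,
  ⟨8, [.a3, .a6], [.a3, .a6]⟩,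
  ⟨32, [.a5], [.a5]⟩,
  ⟨64, [.a6], [.a6]⟩,
  ⟨128, [.a7, .a9], [.a7, .a8, .a9]⟩,
  ⟨256, [.a8], [.a8]⟩]
theorem bad1039 (c : CtxF Goal γ) : Bad Goal γ [] P1039 :=
  c.toCtx.bnd (B := B1039) (D := D1039) (I := [3, 4, 5, 2, 0, 1]) (r := 3) (C := C1039) (N := N1039) (by decide +kernel) (by decide +kernel) (by decide +kernel) (by decide +kernel)
    (allB_cons (bad384 c) (allB_cons (bad457 c) (allB_cons (bad513 c) (allB_cons (bad568 c) (allB_cons (bad568 c) (allB_cons (bad569 c) (allB_cons (bad569 c) (allB_nil))))))))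

def P1040 : List Ent := [⟨1, [.a0], [.a0]⟩,
  ⟨2, [.a1], [.a1, .a2]⟩,
  ⟨4, [.a2], [.a2]⟩,
  ⟨8, [.a3], [.a3]⟩,
  ⟨16, [.a4], [.a4, .a5]⟩,
  ⟨32, [.a5], [.a5]⟩]
def B1040 : List Gv := [⟨[.a0], [.a0]⟩, ⟨[.a1], [.a1, .a2]⟩, ⟨[.a4], [.a4, .a5]⟩]
def D1040 : List Dv := [⟨[.a2], [1, 1], []⟩,
  ⟨[.a3], [3, 2], [2, 3]⟩,
  ⟨[.a5], [4, 4], []⟩]
def C1040 : List Ch := [⟨P408, 0, [], []⟩,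
  ⟨P535, 1, [], []⟩,
  ⟨P543, 0, [.a10, .a11], [.a10]⟩,
  ⟨P547, 2, [], []⟩,
  ⟨P567, 0, [.a0, .a1, .a2, .a3, .a4, .a6, .a8, .a9, .a10, .a11], [.a0, .a10]⟩,
  ⟨P484, 1, [.a0, .a2, .a3, .a4, .a5, .a6, .a7, .a9, .a10, .a11], [.a0, .a1, .a2, .a3, .a4, .a6, .a8, .a9, .a10]⟩,
  ⟨P528, 0, [.a10], [.a10, .a11]⟩]
def N1040 : List Ent := [⟨1, [.a0], [.a0]⟩,
  ⟨2, [.a1], [.a1, .a2]⟩,
  ⟨4, [.a2], [.a2]⟩,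
  ⟨8, [.a3], [.a3]⟩,
  ⟨16, [.a4], [.a4, .a5]⟩,
  ⟨32, [.a5], [.a5]⟩,
  ⟨64, [.a6], [.a6]⟩,
  ⟨256, [.a8], [.a8]⟩]
theorem bad1040 (c : CtxF Goal γ) : Bad Goal γ [] P1040 :=
  c.toCtx.bnd (B := B1040) (D := D1040) (I := [3, 4, 2, 1, 5, 0]) (r := 3) (C := C1040) (N := N1040) (by decide +kernel) (by decide +kernel) (by decide +kernel) (by decide +kernel)
    (allB_cons (bad408 c) (allB_cons (bad535 c) (allB_cons (bad543 c) (allB_cons (bad547 c) (allB_cons (bad567 c) (allB_cons (bad484 c) (allB_cons (bad528 c) (allB_nil))))))))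

def P1041 : List Ent := [⟨1, [.a0, .a8], [.a0, .a5, .a8]⟩,
  ⟨2, [.a1], [.a1, .a2]⟩,
  ⟨4, [.a2], [.a2]⟩,
  ⟨8, [.a3], [.a3]⟩,
  ⟨16, [.a4], [.a4, .a5]⟩,
  ⟨32, [.a5], [.a5]⟩]
def B1041 : List Gv := [⟨[.a0, .a8], [.a0, .a5, .a8]⟩, ⟨[.a1], [.a1, .a2]⟩, ⟨[.a4], [.a4, .a5]⟩]
def D1041 : List Dv := [⟨[.a5], [0, 0], []⟩,
  ⟨[.a2], [2, 2], []⟩,
  ⟨[.a3], [4, 3], [3, 4]⟩]
def C1041 : List Ch := [⟨P408, 0, [], []⟩,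
  ⟨P539, 1, [], []⟩,
  ⟨P544, 0, [.a0, .a2, .a3, .a4, .a5, .a6, .a7, .a9, .a10, .a11], [.a0, .a1, .a2, .a3, .a4, .a6, .a8, .a9, .a10]⟩,
  ⟨P548, 2, [], []⟩,
  ⟨P566, 0, [.a0, .a2, .a3, .a4, .a5, .a6, .a7, .a9, .a10, .a11], [.a0, .a1, .a2, .a3, .a4, .a6, .a8, .a9, .a10]⟩,
  ⟨P478, 1, [.a0, .a2, .a3, .a4, .a5, .a6, .a7, .a9, .a10, .a11], [.a0, .a1, .a2, .a3, .a4, .a6, .a8, .a9, .a10]⟩,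
  ⟨P528, 0, [.a0, .a1, .a3, .a5, .a6, .a7, .a8, .a9, .a10], [.a0, .a10, .a11]⟩]
def N1041 : List Ent := [⟨1, [.a0, .a8], [.a0, .a5, .a8]⟩,
  ⟨2, [.a1], [.a1, .a2]⟩,
  ⟨4, [.a2], [.a2]⟩,
  ⟨8, [.a3], [.a3]⟩,
  ⟨16, [.a4], [.a4, .a5]⟩,
  ⟨32, [.a5], [.a5]⟩,
  ⟨64, [.a6], [.a6]⟩,
  ⟨256, [.a8], [.a8]⟩]
theorem bad1041 (c : CtxF Goal γ) : Bad Goal γ [] P1041 :=
  c.toCtx.bnd (B := B1041) (D := D1041) (I := [3, 4, 1, 0, 5, 2]) (r := 3) (C := C1041) (N := N1041) (by decide +kernel) (by decide +kernel) (by decide +kernel) (by decide +kernel)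
    (allB_cons (bad408 c) (allB_cons (bad539 c) (allB_cons (bad544 c) (allB_cons (bad548 c) (allB_cons (bad566 c) (allB_cons (bad478 c) (allB_cons (bad528 c) (allB_nil))))))))

def P1042 : List Ent := [⟨1, [.a0], [.a0]⟩,
  ⟨2, [.a1, .a8], [.a1, .a2, .a8]⟩,
  ⟨4, [.a2], [.a2]⟩,
  ⟨8, [.a3], [.a3]⟩,
  ⟨16, [.a4], [.a4, .a5]⟩,
  ⟨32, [.a5], [.a5]⟩]
def B1042 : List Gv := [⟨[.a0], [.a0]⟩, ⟨[.a1, .a8], [.a1, .a2, .a8]⟩, ⟨[.a4], [.a4, .a5]⟩]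
def D1042 : List Dv := [⟨[.a5], [1, 0], [0, 1]⟩,
  ⟨[.a2], [2, 2], []⟩,
  ⟨[.a3], [4, 3], [3, 4]⟩]
def C1042 : List Ch := [⟨P409, 0, [], []⟩,
  ⟨P535, 1, [], []⟩,
  ⟨P544, 0, [.a0, .a2, .a3, .a4, .a5, .a6, .a7, .a9, .a10, .a11], [.a0, .a1, .a2, .a3, .a4, .a6, .a8, .a9, .a10]⟩,
  ⟨P549, 2, [], []⟩,
  ⟨P570, 0, [.a0, .a2, .a3, .a4, .a5, .a6, .a7, .a9, .a10, .a11], [.a0, .a1, .a2, .a3, .a4, .a6, .a8, .a9, .a10]⟩,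
  ⟨P490, 1, [.a0, .a2, .a3, .a4, .a5, .a6, .a7, .a9, .a10, .a11], [.a0, .a1, .a2, .a3, .a4, .a6, .a8, .a9, .a10]⟩,
  ⟨P526, 0, [.a0, .a1, .a3, .a5, .a6, .a7, .a8, .a9, .a10], [.a0, .a10, .a11]⟩]
def N1042 : List Ent := [⟨1, [.a0], [.a0]⟩,
  ⟨2, [.a1, .a8], [.a1, .a2, .a8]⟩,
  ⟨4, [.a2], [.a2]⟩,
  ⟨8, [.a3], [.a3]⟩,
  ⟨16, [.a4], [.a4, .a5]⟩,
  ⟨32, [.a5], [.a5]⟩,
  ⟨64, [.a6], [.a6]⟩,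
  ⟨256, [.a8], [.a8]⟩]
theorem bad1042 (c : CtxF Goal γ) : Bad Goal γ [] P1042 :=
  c.toCtx.bnd (B := B1042) (D := D1042) (I := [3, 4, 1, 0, 5, 2]) (r := 3) (C := C1042) (N := N1042) (by decide +kernel) (by decide +kernel) (by decide +kernel) (by decide +kernel)
    (allB_cons (bad409 c) (allB_cons (bad535 c) (allB_cons (bad544 c) (allB_cons (bad549 c) (allB_cons (bad570 c) (allB_cons (bad490 c) (allB_cons (bad526 c) (allB_nil))))))))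

def P1043 : List Ent := [⟨1, [.a0, .a8], [.a0, .a5, .a8]⟩,
  ⟨2, [.a1, .a8], [.a1, .a2, .a8]⟩,
  ⟨4, [.a2], [.a2]⟩,
  ⟨8, [.a3], [.a3]⟩,
  ⟨16, [.a4], [.a4, .a5]⟩,
  ⟨32, [.a5], [.a5]⟩]
def B1043 : List Gv := [⟨[.a0, .a8], [.a0, .a5, .a8]⟩, ⟨[.a1, .a8], [.a1, .a2, .a8]⟩, ⟨[.a4], [.a4, .a5]⟩]
def D1043 : List Dv := [⟨[.a5], [0, 0], []⟩,
  ⟨[.a2], [2, 2], []⟩,
  ⟨[.a3], [4, 3], [3, 4]⟩]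
def C1043 : List Ch := [⟨P409, 0, [], []⟩,
  ⟨P539, 1, [], []⟩,
  ⟨P543, 0, [.a10, .a11], [.a10]⟩,
  ⟨P550, 2, [], []⟩,
  ⟨P571, 0, [.a0, .a1, .a2, .a3, .a4, .a6, .a8, .a9, .a10, .a11], [.a0, .a10]⟩,
  ⟨P491, 1, [.a0, .a2, .a3, .a4, .a5, .a6, .a7, .a9, .a10, .a11], [.a0, .a1, .a2, .a3, .a4, .a6, .a8, .a9, .a10]⟩,
  ⟨P526, 0, [.a10], [.a10, .a11]⟩]
def N1043 : List Ent := [⟨1, [.a0, .a8], [.a0, .a5, .a8]⟩,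
  ⟨2, [.a1, .a8], [.a1, .a2, .a8]⟩,
  ⟨4, [.a2], [.a2]⟩,
  ⟨8, [.a3], [.a3]⟩,
  ⟨16, [.a4], [.a4, .a5]⟩,
  ⟨32, [.a5], [.a5]⟩,
  ⟨64, [.a6], [.a6]⟩,
  ⟨256, [.a8], [.a8]⟩]
theorem bad1043 (c : CtxF Goal γ) : Bad Goal γ [] P1043 :=
  c.toCtx.bnd (B := B1043) (D := D1043) (I := [3, 4, 1, 0, 5, 2]) (r := 3) (C := C1043) (N := N1043) (by decide +kernel) (by decide +kernel) (by decide +kernel) (by decide +kernel)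
    (allB_cons (bad409 c) (allB_cons (bad539 c) (allB_cons (bad543 c) (allB_cons (bad550 c) (allB_cons (bad571 c) (allB_cons (bad491 c) (allB_cons (bad526 c) (allB_nil))))))))

def P1044 : List Ent := [⟨1, [.a0], [.a0]⟩,
  ⟨2, [.a1], [.a1, .a2]⟩,
  ⟨4, [.a2], [.a2]⟩,
  ⟨8, [.a3], [.a3]⟩,
  ⟨16, [.a4, .a8], [.a4, .a5, .a8]⟩,
  ⟨32, [.a5], [.a5]⟩]
def B1044 : List Gv := [⟨[.a0], [.a0]⟩, ⟨[.a1], [.a1, .a2]⟩, ⟨[.a4, .a8], [.a4, .a5, .a8]⟩]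
def D1044 : List Dv := [⟨[.a2], [1, 1], []⟩,
  ⟨[.a5], [0, 3, 1], [1, 3]⟩,
  ⟨[.a3], [4, 3], [3, 4]⟩]
def C1044 : List Ch := [⟨P410, 0, [], []⟩,
  ⟨P536, 1, [.a9], [.a9]⟩,
  ⟨P544, 0, [.a7, .a10, .a11], [.a7, .a8, .a9, .a10]⟩,
  ⟨P547, 2, [], []⟩,
  ⟨P566, 0, [.a0, .a2, .a3, .a4, .a5, .a6, .a7, .a9, .a10, .a11], [.a0, .a1, .a2, .a3, .a4, .a6, .a8, .a9, .a10]⟩,
  ⟨P490, 1, [.a0, .a2, .a3, .a4, .a5, .a6, .a7, .a9, .a10, .a11], [.a0, .a1, .a2, .a3, .a4, .a6, .a8, .a9, .a10]⟩,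
  ⟨P526, 0, [.a10], [.a10, .a11]⟩]
def N1044 : List Ent := [⟨1, [.a0], [.a0]⟩,
  ⟨2, [.a1], [.a1, .a2]⟩,
  ⟨4, [.a2], [.a2]⟩,
  ⟨8, [.a3], [.a3]⟩,
  ⟨16, [.a4, .a8], [.a4, .a5, .a8]⟩,
  ⟨32, [.a5], [.a5]⟩,
  ⟨64, [.a6], [.a6]⟩,
  ⟨256, [.a8], [.a8]⟩]
theorem bad1044 (c : CtxF Goal γ) : Bad Goal γ [] P1044 :=
  c.toCtx.bnd (B := B1044) (D := D1044) (I := [3, 4, 2, 0, 5, 1]) (r := 3) (C := C1044) (N := N1044) (by decide +kernel) (by decide +kernel) (by decide +kernel) (by decide +kernel)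
    (allB_cons (bad410 c) (allB_cons (bad536 c) (allB_cons (bad544 c) (allB_cons (bad547 c) (allB_cons (bad566 c) (allB_cons (bad490 c) (allB_cons (bad526 c) (allB_nil))))))))

def P1045 : List Ent := [⟨1, [.a0, .a8], [.a0, .a5, .a8]⟩,
  ⟨2, [.a1], [.a1, .a2]⟩,
  ⟨4, [.a2], [.a2]⟩,
  ⟨8, [.a3], [.a3]⟩,
  ⟨16, [.a4, .a8], [.a4, .a5, .a8]⟩,
  ⟨32, [.a5], [.a5]⟩]
def B1045 : List Gv := [⟨[.a0, .a8], [.a0, .a5, .a8]⟩, ⟨[.a1], [.a1, .a2]⟩, ⟨[.a4, .a8], [.a4, .a5, .a8]⟩]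
def D1045 : List Dv := [⟨[.a5], [0, 0], []⟩,
  ⟨[.a2], [2, 2], []⟩,
  ⟨[.a3], [4, 3], [3, 4]⟩]
def C1045 : List Ch := [⟨P410, 0, [], []⟩,
  ⟨P540, 1, [.a9], [.a9]⟩,
  ⟨P543, 0, [.a0, .a1, .a2, .a3, .a4, .a6, .a8, .a9, .a10, .a11], [.a0, .a10]⟩,
  ⟨P548, 2, [], []⟩,
  ⟨P567, 0, [.a0, .a1, .a2, .a3, .a4, .a6, .a8, .a9, .a10, .a11], [.a0, .a10]⟩,
  ⟨P491, 1, [.a0, .a2, .a3, .a4, .a5, .a6, .a7, .a9, .a10, .a11], [.a0, .a1, .a2, .a3, .a4, .a6, .a8, .a9, .a10]⟩,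
  ⟨P526, 0, [.a0, .a1, .a3, .a5, .a6, .a7, .a8, .a9, .a10], [.a0, .a10, .a11]⟩]
def N1045 : List Ent := [⟨1, [.a0, .a8], [.a0, .a5, .a8]⟩,
  ⟨2, [.a1], [.a1, .a2]⟩,
  ⟨4, [.a2], [.a2]⟩,
  ⟨8, [.a3], [.a3]⟩,
  ⟨16, [.a4, .a8], [.a4, .a5, .a8]⟩,
  ⟨32, [.a5], [.a5]⟩,
  ⟨64, [.a6], [.a6]⟩,
  ⟨256, [.a8], [.a8]⟩]
theorem bad1045 (c : CtxF Goal γ) : Bad Goal γ [] P1045 :=
  c.toCtx.bnd (B := B1045) (D := D1045) (I := [3, 4, 1, 0, 5, 2]) (r := 3) (C := C1045) (N := N1045) (by decide +kernel) (by decide +kernel) (by decide +kernel) (by decide +kernel)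
    (allB_cons (bad410 c) (allB_cons (bad540 c) (allB_cons (bad543 c) (allB_cons (bad548 c) (allB_cons (bad567 c) (allB_cons (bad491 c) (allB_cons (bad526 c) (allB_nil))))))))

def P1046 : List Ent := [⟨1, [.a0], [.a0]⟩,
  ⟨2, [.a1, .a8], [.a1, .a2, .a8]⟩,
  ⟨4, [.a2], [.a2]⟩,
  ⟨8, [.a3], [.a3]⟩,
  ⟨16, [.a4, .a8], [.a4, .a5, .a8]⟩,
  ⟨32, [.a5], [.a5]⟩]
def B1046 : List Gv := [⟨[.a0], [.a0]⟩, ⟨[.a1, .a8], [.a1, .a2, .a8]⟩, ⟨[.a4, .a8], [.a4, .a5, .a8]⟩]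
def D1046 : List Dv := [⟨[.a5], [1, 0], [0, 1]⟩,
  ⟨[.a2], [2, 2], []⟩,
  ⟨[.a3], [4, 3], [3, 4]⟩]
def C1046 : List Ch := [⟨P411, 0, [], []⟩,
  ⟨P536, 1, [.a9], [.a9]⟩,
  ⟨P543, 0, [.a0, .a1, .a2, .a3, .a4, .a6, .a8, .a9, .a10, .a11], [.a0, .a10]⟩,
  ⟨P549, 2, [], []⟩,
  ⟨P571, 0, [.a0, .a1, .a2, .a3, .a4, .a6, .a8, .a9, .a10, .a11], [.a0, .a10]⟩,
  ⟨P484, 1, [.a0, .a2, .a3, .a4, .a5, .a6, .a7, .a9, .a10, .a11], [.a0, .a1, .a2, .a3, .a4, .a6, .a8, .a9, .a10]⟩,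
  ⟨P528, 0, [.a0, .a1, .a3, .a5, .a6, .a7, .a8, .a9, .a10], [.a0, .a10, .a11]⟩]
def N1046 : List Ent := [⟨1, [.a0], [.a0]⟩,
  ⟨2, [.a1, .a8], [.a1, .a2, .a8]⟩,
  ⟨4, [.a2], [.a2]⟩,
  ⟨8, [.a3], [.a3]⟩,
  ⟨16, [.a4, .a8], [.a4, .a5, .a8]⟩,
  ⟨32, [.a5], [.a5]⟩,
  ⟨64, [.a6], [.a6]⟩,
  ⟨256, [.a8], [.a8]⟩]
theorem bad1046 (c : CtxF Goal γ) : Bad Goal γ [] P1046 :=
  c.toCtx.bnd (B := B1046) (D := D1046) (I := [3, 4, 1, 0, 5, 2]) (r := 3) (C := C1046) (N := N1046) (by decide +kernel) (by decide +kernel) (by decide +kernel) (by decide +kernel)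
    (allB_cons (bad411 c) (allB_cons (bad536 c) (allB_cons (bad543 c) (allB_cons (bad549 c) (allB_cons (bad571 c) (allB_cons (bad484 c) (allB_cons (bad528 c) (allB_nil))))))))

def P1047 : List Ent := [⟨1, [.a0, .a8], [.a0, .a5, .a8]⟩,
  ⟨2, [.a1, .a8], [.a1, .a2, .a8]⟩,
  ⟨4, [.a2], [.a2]⟩,
  ⟨8, [.a3], [.a3]⟩,
  ⟨16, [.a4, .a8], [.a4, .a5, .a8]⟩,
  ⟨32, [.a5], [.a5]⟩]
def B1047 : List Gv := [⟨[.a0, .a8], [.a0, .a5, .a8]⟩, ⟨[.a1, .a8], [.a1, .a2, .a8]⟩, ⟨[.a4, .a8], [.a4, .a5, .a8]⟩]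
def D1047 : List Dv := [⟨[.a5], [0, 0], []⟩,
  ⟨[.a2], [2, 2], []⟩,
  ⟨[.a3], [4, 3], [3, 4]⟩]
def C1047 : List Ch := [⟨P411, 0, [], []⟩,
  ⟨P540, 1, [.a9], [.a9]⟩,
  ⟨P544, 0, [.a7, .a10, .a11], [.a7, .a8, .a9, .a10]⟩,
  ⟨P550, 2, [], []⟩,
  ⟨P570, 0, [.a0, .a2, .a3, .a4, .a5, .a6, .a7, .a9, .a10, .a11], [.a0, .a1, .a2, .a3, .a4, .a6, .a8, .a9, .a10]⟩,
  ⟨P478, 1, [.a0, .a2, .a3, .a4, .a5, .a6, .a7, .a9, .a10, .a11], [.a0, .a1, .a2, .a3, .a4, .a6, .a8, .a9, .a10]⟩,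
  ⟨P528, 0, [.a10], [.a10, .a11]⟩]
def N1047 : List Ent := [⟨1, [.a0, .a8], [.a0, .a5, .a8]⟩,
  ⟨2, [.a1, .a8], [.a1, .a2, .a8]⟩,
  ⟨4, [.a2], [.a2]⟩,
  ⟨8, [.a3], [.a3]⟩,
  ⟨16, [.a4, .a8], [.a4, .a5, .a8]⟩,
  ⟨32, [.a5], [.a5]⟩,
  ⟨64, [.a6], [.a6]⟩,
  ⟨256, [.a8], [.a8]⟩]
theorem bad1047 (c : CtxF Goal γ) : Bad Goal γ [] P1047 :=
  c.toCtx.bnd (B := B1047) (D := D1047) (I := [3, 4, 1, 0, 5, 2]) (r := 3) (C := C1047) (N := N1047) (by decide +kernel) (by decide +kernel) (by decide +kernel) (by decide +kernel)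
    (allB_cons (bad411 c) (allB_cons (bad540 c) (allB_cons (bad544 c) (allB_cons (bad550 c) (allB_cons (bad570 c) (allB_cons (bad478 c) (allB_cons (bad528 c) (allB_nil))))))))

def P1048 : List Ent := [⟨1, [.a0, .a6], [.a0, .a6]⟩,
  ⟨2, [.a1], [.a1, .a2]⟩,
  ⟨4, [.a2], [.a2]⟩,
  ⟨8, [.a3], [.a3]⟩,
  ⟨16, [.a4], [.a4, .a5]⟩,
  ⟨32, [.a5], [.a5]⟩]
def B1048 : List Gv := [⟨[.a0, .a6], [.a0, .a6]⟩, ⟨[.a1], [.a1, .a2]⟩, ⟨[.a4], [.a4, .a5]⟩]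
def D1048 : List Dv := [⟨[.a5], [1, 0], [0, 1]⟩,
  ⟨[.a2], [2, 2], []⟩,
  ⟨[.a3], [4, 3], [3, 4]⟩]
def C1048 : List Ch := [⟨P408, 0, [], []⟩,
  ⟨P536, 1, [], []⟩,
  ⟨P545, 0, [.a0, .a2, .a3, .a4, .a5, .a6, .a7, .a9, .a10, .a11], [.a0, .a1, .a2, .a3, .a4, .a6, .a8, .a9, .a10]⟩,
  ⟨P553, 2, [], []⟩,
  ⟨P567, 0, [.a0, .a2, .a3, .a4, .a5, .a6, .a7, .a9, .a10, .a11], [.a0, .a1, .a2, .a3, .a4, .a6, .a8, .a9, .a10]⟩,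
  ⟨P484, 1, [.a10, .a11], [.a10]⟩,
  ⟨P527, 0, [.a10], [.a10, .a11]⟩]
def N1048 : List Ent := [⟨1, [.a0, .a6], [.a0, .a6]⟩,
  ⟨2, [.a1], [.a1, .a2]⟩,
  ⟨4, [.a2], [.a2]⟩,
  ⟨8, [.a3], [.a3]⟩,
  ⟨16, [.a4], [.a4, .a5]⟩,
  ⟨32, [.a5], [.a5]⟩,
  ⟨64, [.a6], [.a6]⟩,
  ⟨256, [.a8], [.a8]⟩]
theorem bad1048 (c : CtxF Goal γ) : Bad Goal γ [] P1048 :=
  c.toCtx.bnd (B := B1048) (D := D1048) (I := [3, 4, 1, 0, 5, 2]) (r := 3) (C := C1048) (N := N1048) (by decide +kernel) (by decide +kernel) (by decide +kernel) (by decide +kernel)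
    (allB_cons (bad408 c) (allB_cons (bad536 c) (allB_cons (bad545 c) (allB_cons (bad553 c) (allB_cons (bad567 c) (allB_cons (bad484 c) (allB_cons (bad527 c) (allB_nil))))))))

def P1049 : List Ent := [⟨1, [.a0, .a6, .a8], [.a0, .a5, .a6, .a8]⟩,
  ⟨2, [.a1], [.a1, .a2]⟩,
  ⟨4, [.a2], [.a2]⟩,
  ⟨8, [.a3], [.a3]⟩,
  ⟨16, [.a4], [.a4, .a5]⟩,
  ⟨32, [.a5], [.a5]⟩]
def B1049 : List Gv := [⟨[.a0, .a6, .a8], [.a0, .a5, .a6, .a8]⟩, ⟨[.a1], [.a1, .a2]⟩, ⟨[.a4], [.a4, .a5]⟩]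
def D1049 : List Dv := [⟨[.a5], [0, 0], []⟩,
  ⟨[.a2], [2, 2], []⟩,
  ⟨[.a3], [4, 3], [3, 4]⟩]
def C1049 : List Ch := [⟨P408, 0, [], []⟩,
  ⟨P540, 1, [], []⟩,
  ⟨P542, 0, [.a10, .a11], [.a10]⟩,
  ⟨P554, 2, [], []⟩,
  ⟨P566, 0, [.a0, .a1, .a2, .a3, .a4, .a6, .a8, .a9, .a10, .a11], [.a0, .a10]⟩,
  ⟨P478, 1, [.a10, .a11], [.a10]⟩,
  ⟨P527, 0, [.a0, .a1, .a3, .a5, .a6, .a7, .a8, .a9, .a10], [.a0, .a10, .a11]⟩]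
def N1049 : List Ent := [⟨1, [.a0, .a6, .a8], [.a0, .a5, .a6, .a8]⟩,
  ⟨2, [.a1], [.a1, .a2]⟩,
  ⟨4, [.a2], [.a2]⟩,
  ⟨8, [.a3], [.a3]⟩,
  ⟨16, [.a4], [.a4, .a5]⟩,
  ⟨32, [.a5], [.a5]⟩,
  ⟨64, [.a6], [.a6]⟩,
  ⟨256, [.a8], [.a8]⟩]
theorem bad1049 (c : CtxF Goal γ) : Bad Goal γ [] P1049 :=
  c.toCtx.bnd (B := B1049) (D := D1049) (I := [3, 4, 1, 0, 5, 2]) (r := 3) (C := C1049) (N := N1049) (by decide +kernel) (by decide +kernel) (by decide +kernel) (by decide +kernel)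
    (allB_cons (bad408 c) (allB_cons (bad540 c) (allB_cons (bad542 c) (allB_cons (bad554 c) (allB_cons (bad566 c) (allB_cons (bad478 c) (allB_cons (bad527 c) (allB_nil))))))))

def P1050 : List Ent := [⟨1, [.a0, .a6], [.a0, .a6]⟩,
  ⟨2, [.a1, .a8], [.a1, .a2, .a8]⟩,
  ⟨4, [.a2], [.a2]⟩,
  ⟨8, [.a3], [.a3]⟩,
  ⟨16, [.a4], [.a4, .a5]⟩,
  ⟨32, [.a5], [.a5]⟩]
def B1050 : List Gv := [⟨[.a0, .a6], [.a0, .a6]⟩, ⟨[.a1, .a8], [.a1, .a2, .a8]⟩, ⟨[.a4], [.a4, .a5]⟩]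
def D1050 : List Dv := [⟨[.a2], [1, 1], []⟩,
  ⟨[.a3], [3, 2], [2, 3]⟩,
  ⟨[.a5], [4, 4], []⟩]
def C1050 : List Ch := [⟨P409, 0, [], []⟩,
  ⟨P536, 1, [], []⟩,
  ⟨P542, 0, [.a10, .a11], [.a10]⟩,
  ⟨P555, 2, [], []⟩,
  ⟨P570, 0, [.a0, .a1, .a2, .a3, .a4, .a6, .a8, .a9, .a10, .a11], [.a0, .a10]⟩,
  ⟨P490, 1, [.a10, .a11], [.a10]⟩,
  ⟨P525, 0, [.a0, .a1, .a3, .a5, .a6, .a7, .a8, .a9, .a10], [.a0, .a10, .a11]⟩]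
def N1050 : List Ent := [⟨1, [.a0, .a6], [.a0, .a6]⟩,
  ⟨2, [.a1, .a8], [.a1, .a2, .a8]⟩,
  ⟨4, [.a2], [.a2]⟩,
  ⟨8, [.a3], [.a3]⟩,
  ⟨16, [.a4], [.a4, .a5]⟩,
  ⟨32, [.a5], [.a5]⟩,
  ⟨64, [.a6], [.a6]⟩,
  ⟨256, [.a8], [.a8]⟩]
theorem bad1050 (c : CtxF Goal γ) : Bad Goal γ [] P1050 :=
  c.toCtx.bnd (B := B1050) (D := D1050) (I := [3, 4, 2, 1, 5, 0]) (r := 3) (C := C1050) (N := N1050) (by decide +kernel) (by decide +kernel) (by decide +kernel) (by decide +kernel)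
    (allB_cons (bad409 c) (allB_cons (bad536 c) (allB_cons (bad542 c) (allB_cons (bad555 c) (allB_cons (bad570 c) (allB_cons (bad490 c) (allB_cons (bad525 c) (allB_nil))))))))

def P1051 : List Ent := [⟨1, [.a0, .a6, .a8], [.a0, .a5, .a6, .a8]⟩,
  ⟨2, [.a1, .a8], [.a1, .a2, .a8]⟩,
  ⟨4, [.a2], [.a2]⟩,
  ⟨8, [.a3], [.a3]⟩,
  ⟨16, [.a4], [.a4, .a5]⟩,
  ⟨32, [.a5], [.a5]⟩]
def B1051 : List Gv := [⟨[.a0, .a6, .a8], [.a0, .a5, .a6, .a8]⟩, ⟨[.a1, .a8], [.a1, .a2, .a8]⟩, ⟨[.a4], [.a4, .a5]⟩]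
def D1051 : List Dv := [⟨[.a5], [0, 0], []⟩,
  ⟨[.a2], [2, 2], []⟩,
  ⟨[.a3], [4, 3], [3, 4]⟩]
def C1051 : List Ch := [⟨P409, 0, [], []⟩,
  ⟨P540, 1, [], []⟩,
  ⟨P545, 0, [.a0, .a2, .a3, .a4, .a5, .a6, .a7, .a9, .a10, .a11], [.a0, .a1, .a2, .a3, .a4, .a6, .a8, .a9, .a10]⟩,
  ⟨P556, 2, [], []⟩,
  ⟨P571, 0, [.a0, .a2, .a3, .a4, .a5, .a6, .a7, .a9, .a10, .a11], [.a0, .a1, .a2, .a3, .a4, .a6, .a8, .a9, .a10]⟩,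
  ⟨P491, 1, [.a10, .a11], [.a10]⟩,
  ⟨P525, 0, [.a10], [.a10, .a11]⟩]
def N1051 : List Ent := [⟨1, [.a0, .a6, .a8], [.a0, .a5, .a6, .a8]⟩,
  ⟨2, [.a1, .a8], [.a1, .a2, .a8]⟩,
  ⟨4, [.a2], [.a2]⟩,
  ⟨8, [.a3], [.a3]⟩,
  ⟨16, [.a4], [.a4, .a5]⟩,
  ⟨32, [.a5], [.a5]⟩,
  ⟨64, [.a6], [.a6]⟩,
  ⟨256, [.a8], [.a8]⟩]
theorem bad1051 (c : CtxF Goal γ) : Bad Goal γ [] P1051 :=
  c.toCtx.bnd (B := B1051) (D := D1051) (I := [3, 4, 1, 0, 5, 2]) (r := 3) (C := C1051) (N := N1051) (by decide +kernel) (by decide +kernel) (by decide +kernel) (by decide +kernel)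
    (allB_cons (bad409 c) (allB_cons (bad540 c) (allB_cons (bad545 c) (allB_cons (bad556 c) (allB_cons (bad571 c) (allB_cons (bad491 c) (allB_cons (bad525 c) (allB_nil))))))))

def P1052 : List Ent := [⟨1, [.a0, .a6], [.a0, .a6]⟩,
  ⟨2, [.a1], [.a1, .a2]⟩,
  ⟨4, [.a2], [.a2]⟩,
  ⟨8, [.a3], [.a3]⟩,
  ⟨16, [.a4, .a8], [.a4, .a5, .a8]⟩,
  ⟨32, [.a5], [.a5]⟩]
def B1052 : List Gv := [⟨[.a0, .a6], [.a0, .a6]⟩, ⟨[.a1], [.a1, .a2]⟩, ⟨[.a4, .a8], [.a4, .a5, .a8]⟩]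
def D1052 : List Dv := [⟨[.a5], [1, 0], [0, 1]⟩,
  ⟨[.a2], [2, 2], []⟩,
  ⟨[.a3], [4, 3], [3, 4]⟩]
def C1052 : List Ch := [⟨P410, 0, [], []⟩,
  ⟨P535, 1, [.a9], [.a9]⟩,
  ⟨P542, 0, [.a0, .a1, .a2, .a3, .a4, .a6, .a8, .a9, .a10, .a11], [.a0, .a10]⟩,
  ⟨P553, 2, [], []⟩,
  ⟨P566, 0, [.a0, .a1, .a2, .a3, .a4, .a6, .a8, .a9, .a10, .a11], [.a0, .a10]⟩,
  ⟨P490, 1, [.a10, .a11], [.a10]⟩,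
  ⟨P525, 0, [.a10], [.a10, .a11]⟩]
def N1052 : List Ent := [⟨1, [.a0, .a6], [.a0, .a6]⟩,
  ⟨2, [.a1], [.a1, .a2]⟩,
  ⟨4, [.a2], [.a2]⟩,
  ⟨8, [.a3], [.a3]⟩,
  ⟨16, [.a4, .a8], [.a4, .a5, .a8]⟩,
  ⟨32, [.a5], [.a5]⟩,
  ⟨64, [.a6], [.a6]⟩,
  ⟨256, [.a8], [.a8]⟩]
theorem bad1052 (c : CtxF Goal γ) : Bad Goal γ [] P1052 :=
  c.toCtx.bnd (B := B1052) (D := D1052) (I := [3, 4, 1, 0, 5, 2]) (r := 3) (C := C1052) (N := N1052) (by decide +kernel) (by decide +kernel) (by decide +kernel) (by decide +kernel)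
    (allB_cons (bad410 c) (allB_cons (bad535 c) (allB_cons (bad542 c) (allB_cons (bad553 c) (allB_cons (bad566 c) (allB_cons (bad490 c) (allB_cons (bad525 c) (allB_nil))))))))

def P1053 : List Ent := [⟨1, [.a0, .a6, .a8], [.a0, .a5, .a6, .a8]⟩,
  ⟨2, [.a1], [.a1, .a2]⟩,
  ⟨4, [.a2], [.a2]⟩,
  ⟨8, [.a3], [.a3]⟩,
  ⟨16, [.a4, .a8], [.a4, .a5, .a8]⟩,
  ⟨32, [.a5], [.a5]⟩]
def B1053 : List Gv := [⟨[.a0, .a6, .a8], [.a0, .a5, .a6, .a8]⟩, ⟨[.a1], [.a1, .a2]⟩, ⟨[.a4, .a8], [.a4, .a5, .a8]⟩]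
def D1053 : List Dv := [⟨[.a5], [0, 0], []⟩,
  ⟨[.a2], [2, 2], []⟩,
  ⟨[.a3], [4, 3], [3, 4]⟩]
def C1053 : List Ch := [⟨P410, 0, [], []⟩,
  ⟨P539, 1, [.a9], [.a9]⟩,
  ⟨P545, 0, [.a7, .a10, .a11], [.a7, .a8, .a9, .a10]⟩,
  ⟨P554, 2, [], []⟩,
  ⟨P567, 0, [.a0, .a2, .a3, .a4, .a5, .a6, .a7, .a9, .a10, .a11], [.a0, .a1, .a2, .a3, .a4, .a6, .a8, .a9, .a10]⟩,
  ⟨P491, 1, [.a10, .a11], [.a10]⟩,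
  ⟨P525, 0, [.a0, .a1, .a3, .a5, .a6, .a7, .a8, .a9, .a10], [.a0, .a10, .a11]⟩]
def N1053 : List Ent := [⟨1, [.a0, .a6, .a8], [.a0, .a5, .a6, .a8]⟩,
  ⟨2, [.a1], [.a1, .a2]⟩,
  ⟨4, [.a2], [.a2]⟩,
  ⟨8, [.a3], [.a3]⟩,
  ⟨16, [.a4, .a8], [.a4, .a5, .a8]⟩,
  ⟨32, [.a5], [.a5]⟩,
  ⟨64, [.a6], [.a6]⟩,
  ⟨256, [.a8], [.a8]⟩]
theorem bad1053 (c : CtxF Goal γ) : Bad Goal γ [] P1053 :=
  c.toCtx.bnd (B := B1053) (D := D1053) (I := [3, 4, 1, 0, 5, 2]) (r := 3) (C := C1053) (N := N1053) (by decide +kernel) (by decide +kernel) (by decide +kernel) (by decide +kernel)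
    (allB_cons (bad410 c) (allB_cons (bad539 c) (allB_cons (bad545 c) (allB_cons (bad554 c) (allB_cons (bad567 c) (allB_cons (bad491 c) (allB_cons (bad525 c) (allB_nil))))))))

def P1054 : List Ent := [⟨1, [.a0, .a6], [.a0, .a6]⟩,
  ⟨2, [.a1, .a8], [.a1, .a2, .a8]⟩,
  ⟨4, [.a2], [.a2]⟩,
  ⟨8, [.a3], [.a3]⟩,
  ⟨16, [.a4, .a8], [.a4, .a5, .a8]⟩,
  ⟨32, [.a5], [.a5]⟩]
def B1054 : List Gv := [⟨[.a0, .a6], [.a0, .a6]⟩, ⟨[.a1, .a8], [.a1, .a2, .a8]⟩, ⟨[.a4, .a8], [.a4, .a5, .a8]⟩]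
def D1054 : List Dv := [⟨[.a2], [1, 1], []⟩,
  ⟨[.a5], [0, 3, 1], [1, 3]⟩,
  ⟨[.a3], [4, 3], [3, 4]⟩]
def C1054 : List Ch := [⟨P411, 0, [], []⟩,
  ⟨P535, 1, [.a9], [.a9]⟩,
  ⟨P545, 0, [.a7, .a10, .a11], [.a7, .a8, .a9, .a10]⟩,
  ⟨P555, 2, [], []⟩,
  ⟨P571, 0, [.a0, .a2, .a3, .a4, .a5, .a6, .a7, .a9, .a10, .a11], [.a0, .a1, .a2, .a3, .a4, .a6, .a8, .a9, .a10]⟩,
  ⟨P484, 1, [.a10, .a11], [.a10]⟩,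
  ⟨P527, 0, [.a0, .a1, .a3, .a5, .a6, .a7, .a8, .a9, .a10], [.a0, .a10, .a11]⟩]
def N1054 : List Ent := [⟨1, [.a0, .a6], [.a0, .a6]⟩,
  ⟨2, [.a1, .a8], [.a1, .a2, .a8]⟩,
  ⟨4, [.a2], [.a2]⟩,
  ⟨8, [.a3], [.a3]⟩,
  ⟨16, [.a4, .a8], [.a4, .a5, .a8]⟩,
  ⟨32, [.a5], [.a5]⟩,
  ⟨64, [.a6], [.a6]⟩,
  ⟨256, [.a8], [.a8]⟩]
theorem bad1054 (c : CtxF Goal γ) : Bad Goal γ [] P1054 :=
  c.toCtx.bnd (B := B1054) (D := D1054) (I := [3, 4, 2, 0, 5, 1]) (r := 3) (C := C1054) (N := N1054) (by decide +kernel) (by decide +kernel) (by decide +kernel) (by decide +kernel)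
    (allB_cons (bad411 c) (allB_cons (bad535 c) (allB_cons (bad545 c) (allB_cons (bad555 c) (allB_cons (bad571 c) (allB_cons (bad484 c) (allB_cons (bad527 c) (allB_nil))))))))

def P1055 : List Ent := [⟨1, [.a0, .a6, .a8], [.a0, .a5, .a6, .a8]⟩,
  ⟨2, [.a1, .a8], [.a1, .a2, .a8]⟩,
  ⟨4, [.a2], [.a2]⟩,
  ⟨8, [.a3], [.a3]⟩,
  ⟨16, [.a4, .a8], [.a4, .a5, .a8]⟩,
  ⟨32, [.a5], [.a5]⟩]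
def B1055 : List Gv := [⟨[.a0, .a6, .a8], [.a0, .a5, .a6, .a8]⟩, ⟨[.a1, .a8], [.a1, .a2, .a8]⟩, ⟨[.a4, .a8], [.a4, .a5, .a8]⟩]
def D1055 : List Dv := [⟨[.a5], [0, 0], []⟩,
  ⟨[.a2], [2, 2], []⟩,
  ⟨[.a3], [4, 3], [3, 4]⟩]
def C1055 : List Ch := [⟨P411, 0, [], []⟩,
  ⟨P539, 1, [.a9], [.a9]⟩,
  ⟨P542, 0, [.a0, .a1, .a2, .a3, .a4, .a6, .a8, .a9, .a10, .a11], [.a0, .a10]⟩,
  ⟨P556, 2, [], []⟩,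
  ⟨P570, 0, [.a0, .a1, .a2, .a3, .a4, .a6, .a8, .a9, .a10, .a11], [.a0, .a10]⟩,
  ⟨P478, 1, [.a10, .a11], [.a10]⟩,
  ⟨P527, 0, [.a10], [.a10, .a11]⟩]
def N1055 : List Ent := [⟨1, [.a0, .a6, .a8], [.a0, .a5, .a6, .a8]⟩,
  ⟨2, [.a1, .a8], [.a1, .a2, .a8]⟩,
  ⟨4, [.a2], [.a2]⟩,
  ⟨8, [.a3], [.a3]⟩,
  ⟨16, [.a4, .a8], [.a4, .a5, .a8]⟩,
  ⟨32, [.a5], [.a5]⟩,
  ⟨64, [.a6], [.a6]⟩,
  ⟨256, [.a8], [.a8]⟩]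
theorem bad1055 (c : CtxF Goal γ) : Bad Goal γ [] P1055 :=
  c.toCtx.bnd (B := B1055) (D := D1055) (I := [3, 4, 1, 0, 5, 2]) (r := 3) (C := C1055) (N := N1055) (by decide +kernel) (by decide +kernel) (by decide +kernel) (by decide +kernel)
    (allB_cons (bad411 c) (allB_cons (bad539 c) (allB_cons (bad542 c) (allB_cons (bad556 c) (allB_cons (bad570 c) (allB_cons (bad478 c) (allB_cons (bad527 c) (allB_nil))))))))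

def P1056 : List Ent := [⟨1, [.a0, .a10], [.a0, .a1, .a2, .a3, .a4, .a6, .a8, .a9, .a10, .a11]⟩,
  ⟨2, [.a1, .a3, .a9, .a11], [.a1, .a2, .a3, .a5, .a11]⟩,
  ⟨4, [.a2, .a7, .a9], [.a2, .a5, .a7, .a8, .a9]⟩,
  ⟨32, [.a5], [.a5]⟩,
  ⟨64, [.a6, .a7], [.a6, .a7, .a8]⟩,
  ⟨256, [.a8], [.a8]⟩]
def B1056 : List Gv := [⟨[.a0, .a10], [.a0, .a1, .a2, .a3, .a4, .a6, .a8, .a9, .a10, .a11]⟩, ⟨[.a1, .a3, .a9, .a11], [.a1, .a2, .a3, .a5, .a11]⟩]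
def D1056 : List Dv := [⟨[.a2, .a5, .a7, .a9], [1, 0, 0], []⟩,
  ⟨[.a5, .a6, .a7, .a8], [0, 2, 1], [1, 2]⟩,
  ⟨[.a6, .a7, .a8], [1, 3, 3], []⟩,
  ⟨[.a8], [1, 2, 2, 3], [3, 2]⟩,
  ⟨[.a6, .a7], [1], [0]⟩,
  ⟨[.a5], [3], [0, 1]⟩,
  ⟨[.a2, .a7, .a9], [5], [0]⟩]
def C1056 : List Ch := [⟨P405, 0, [.a0, .a1, .a3, .a5, .a6, .a7, .a8, .a9, .a10], [.a0, .a10, .a11]⟩,
  ⟨P502, 1, [], []⟩,
  ⟨P529, 0, [.a0, .a2, .a4, .a10], [.a0, .a1, .a2, .a3, .a6, .a9, .a10, .a11]⟩]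
def S1056 : List St := [.cent 1 1 0 [⟨2, [.a1, .a3, .a6, .a7, .a8, .a9, .a11], [.a1, .a2, .a3, .a5, .a6, .a7, .a11]⟩,
  ⟨4, [.a2, .a6, .a9], [.a2, .a5, .a6, .a9]⟩,
  ⟨32, [.a5], [.a5]⟩],
  .phi 0 [⟨4, [.a2, .a6, .a9], [.a2, .a5, .a6, .a9]⟩,
  ⟨32, [.a5], [.a5]⟩] [[[.a1, .a3, .a6, .a7, .a8, .a9, .a11]], [[.a2, .a6, .a9]]]]
theorem bad1056 (c : CtxF Goal γ) : Bad Goal γ [] P1056 :=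
  c.toCtx.chn (B := B1056) (D := D1056) (I := [7, 8, 0, 1, 2, 3]) (r := 2) (C := C1056) (l := S1056) (x := ⟨[.a7], [.a7, .a8]⟩) (ix := [0]) (by decide +kernel) (by decide +kernel) (by decide +kernel) (by decide +kernel)
    (allB_cons (bad405 c) (allB_cons (bad502 c) (allB_cons (bad529 c) (allB_nil))))

def P1057 : List Ent := [⟨1, [.a0, .a10], [.a0, .a1, .a2, .a3, .a4, .a6, .a8, .a9, .a10, .a11]⟩,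
  ⟨2, [.a1, .a3, .a6, .a9, .a11], [.a1, .a2, .a3, .a6, .a11]⟩,
  ⟨4, [.a2, .a6, .a9], [.a2, .a5, .a6, .a9]⟩,
  ⟨32, [.a5], [.a5]⟩,
  ⟨128, [.a7], [.a7, .a8]⟩,
  ⟨256, [.a8], [.a8]⟩]
def B1057 : List Gv := [⟨[.a0, .a10], [.a0, .a1, .a2, .a3, .a4, .a6, .a8, .a9, .a10, .a11]⟩, ⟨[.a1, .a3, .a6, .a9, .a11], [.a1, .a2, .a3, .a6, .a11]⟩]
def D1057 : List Dv := [⟨[.a2, .a6, .a7, .a9], [1, 0, 0], []⟩,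
  ⟨[.a5, .a7], [0, 2, 1], [1, 2]⟩,
  ⟨[.a7, .a8], [1, 3, 3], []⟩,
  ⟨[.a8], [1, 2, 2, 3], [3, 2]⟩,
  ⟨[.a7], [1], [0]⟩,
  ⟨[.a5], [3], [0]⟩,
  ⟨[.a2, .a6, .a9], [5], [1]⟩]
def C1057 : List Ch := [⟨P406, 0, [.a1, .a3, .a4], [.a1, .a2, .a4, .a5]⟩,
  ⟨P502, 1, [], []⟩,
  ⟨P529, 0, [.a4, .a8, .a9], [.a4, .a5, .a9]⟩]
def S1057 : List St := [.om 1 [⟨32, [.a5], [.a5]⟩,
  ⟨256, [.a8], [.a8]⟩] [[[.a5]], [[.a8]]]]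
theorem bad1057 (c : CtxF Goal γ) : Bad Goal γ [] P1057 :=
  c.toCtx.chn (B := B1057) (D := D1057) (I := [7, 8, 0, 1, 2, 3]) (r := 2) (C := C1057) (l := S1057) (x := ⟨[.a6], [.a6]⟩) (ix := [0]) (by decide +kernel) (by decide +kernel) (by decide +kernel) (by decide +kernel)
    (allB_cons (bad406 c) (allB_cons (bad502 c) (allB_cons (bad529 c) (allB_nil))))

def P1058 : List Ent := [⟨32, [.a5], [.a5]⟩,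
  ⟨64, [.a6], [.a6]⟩,
  ⟨128, [.a7], [.a7, .a8]⟩,
  ⟨256, [.a8], [.a8]⟩,
  ⟨512, [.a9], [.a9]⟩,
  ⟨1024, [.a10], [.a10, .a11]⟩,
  ⟨2048, [.a11], [.a11]⟩]
def B1058 : List Gv := [⟨[.a5], [.a5]⟩, ⟨[.a6], [.a6]⟩, ⟨[.a7], [.a7, .a8]⟩, ⟨[.a10], [.a10, .a11]⟩]
def D1058 : List Dv := [⟨[.a8], [2, 2], []⟩,
  ⟨[.a9], [4, 3], [3, 4]⟩,
  ⟨[.a11], [5, 5], []⟩]
def C1058 : List Ch := [⟨P572, 0, [], []⟩,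
  ⟨P573, 1, [], []⟩,
  ⟨P574, 0, [], []⟩,
  ⟨P575, 2, [], []⟩,
  ⟨P576, 0, [], []⟩,
  ⟨P573, 1, [.a4], [.a4, .a5]⟩,
  ⟨P574, 0, [.a4], [.a4, .a5]⟩,
  ⟨P577, 3, [], []⟩,
  ⟨P576, 0, [.a3], [.a3]⟩,
  ⟨P573, 1, [.a3], [.a3]⟩,
  ⟨P578, 0, [], []⟩,
  ⟨P579, 2, [], []⟩,
  ⟨P572, 0, [.a3], [.a3]⟩,
  ⟨P573, 1, [.a3, .a4], [.a3, .a4, .a5]⟩,
  ⟨P578, 0, [.a4], [.a4, .a5]⟩]
def S1058 : List St := [.comm 1 1 [⟨256, [.a8], [.a8]⟩,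
  ⟨512, [.a9], [.a9]⟩] [⟨[.a6], [.a10]⟩, ⟨[.a7], [.a10]⟩],
  .om 2 [⟨32, [.a5], [.a5]⟩,
  ⟨64, [.a6], [.a6]⟩,
  ⟨256, [.a8], [.a8]⟩,
  ⟨512, [.a9], [.a9]⟩,
  ⟨2048, [.a11], [.a11]⟩] [[[.a5]], [[.a6]], [[.a8]], [[.a9]], [[.a11]]]]
theorem bad1058 (c : CtxF Goal γ) : Bad Goal γ [] P1058 :=
  c.toCtx.chn (B := B1058) (D := D1058) (I := [3, 4, 5, 2, 1, 6, 0]) (r := 4) (C := C1058) (l := S1058) (x := ⟨[.a3], [.a3]⟩) (ix := [0, 1]) (by decide +kernel) (by decide +kernel) (by decide +kernel) (by decide +kernel)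
    (allB_cons (bad572 c) (allB_cons (bad573 c) (allB_cons (bad574 c) (allB_cons (bad575 c) (allB_cons (bad576 c) (allB_cons (bad573 c) (allB_cons (bad574 c) (allB_cons (bad577 c) (allB_cons (bad576 c) (allB_cons (bad573 c) (allB_cons (bad578 c) (allB_cons (bad579 c) (allB_cons (bad572 c) (allB_cons (bad573 c) (allB_cons (bad578 c) (allB_nil))))))))))))))))

def P1059 : List Ent := [⟨16, [.a4], [.a4, .a5]⟩,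
  ⟨32, [.a5], [.a5]⟩,
  ⟨64, [.a6], [.a6]⟩,
  ⟨256, [.a8], [.a8]⟩,
  ⟨512, [.a9], [.a9]⟩,
  ⟨1024, [.a10], [.a10, .a11]⟩,
  ⟨2048, [.a11], [.a11]⟩]
def B1059 : List Gv := [⟨[.a4], [.a4, .a5]⟩, ⟨[.a6], [.a6]⟩, ⟨[.a9], [.a9]⟩, ⟨[.a10], [.a10, .a11]⟩]
def D1059 : List Dv := [⟨[.a5], [0, 0], []⟩,
  ⟨[.a8], [3, 1], [1, 3]⟩,
  ⟨[.a11], [5, 5], []⟩]
def C1059 : List Ch := [⟨P575, 0, [], []⟩,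
  ⟨P580, 1, [], []⟩,
  ⟨P580, 0, [.a7], [.a7, .a8]⟩,
  ⟨P581, 2, [], []⟩,
  ⟨P582, 0, [], []⟩,
  ⟨P583, 1, [], []⟩,
  ⟨P583, 0, [.a3, .a7], [.a3, .a5, .a7, .a8]⟩,
  ⟨P584, 3, [], []⟩,
  ⟨P579, 0, [.a1], [.a1, .a2]⟩,
  ⟨P580, 1, [.a3], [.a3]⟩,
  ⟨P580, 0, [.a3, .a7], [.a3, .a5, .a7, .a8]⟩,
  ⟨P581, 2, [.a7], [.a7, .a8]⟩,
  ⟨P582, 0, [.a7], [.a7, .a8]⟩,
  ⟨P583, 1, [.a3], [.a3]⟩,
  ⟨P583, 0, [.a7], [.a7, .a8]⟩]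
def S1059 : List St := [.om 1 [⟨32, [.a5], [.a5]⟩,
  ⟨64, [.a6], [.a6]⟩,
  ⟨256, [.a8], [.a8]⟩,
  ⟨512, [.a9], [.a9]⟩,
  ⟨2048, [.a11], [.a11]⟩] [[[.a5]], [[.a6]], [[.a8]], [[.a9]], [[.a11]]]]
theorem bad1059 (c : CtxF Goal γ) : Bad Goal γ [] P1059 :=
  c.toCtx.chn (B := B1059) (D := D1059) (I := [3, 2, 4, 1, 5, 6, 0]) (r := 4) (C := C1059) (l := S1059) (x := ⟨[.a7], [.a7, .a8]⟩) (ix := [0]) (by decide +kernel) (by decide +kernel) (by decide +kernel) (by decide +kernel)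
    (allB_cons (bad575 c) (allB_cons (bad580 c) (allB_cons (bad580 c) (allB_cons (bad581 c) (allB_cons (bad582 c) (allB_cons (bad583 c) (allB_cons (bad583 c) (allB_cons (bad584 c) (allB_cons (bad579 c) (allB_cons (bad580 c) (allB_cons (bad580 c) (allB_cons (bad581 c) (allB_cons (bad582 c) (allB_cons (bad583 c) (allB_cons (bad583 c) (allB_nil))))))))))))))))

def P1060 : List Ent := [⟨16, [.a4, .a7], [.a4, .a5, .a6, .a7, .a8]⟩,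
  ⟨32, [.a5], [.a5]⟩,
  ⟨64, [.a6], [.a6]⟩,
  ⟨256, [.a8], [.a8]⟩,
  ⟨512, [.a9], [.a9]⟩,
  ⟨1024, [.a10], [.a10, .a11]⟩,
  ⟨2048, [.a11], [.a11]⟩]
def B1060 : List Gv := [⟨[.a4, .a7], [.a4, .a5, .a6, .a7, .a8]⟩, ⟨[.a5], [.a5]⟩, ⟨[.a10], [.a10, .a11]⟩]
def D1060 : List Dv := [⟨[.a6, .a8], [1, 0, 0], []⟩,
  ⟨[.a8, .a9], [3, 1], [1, 3]⟩,
  ⟨[.a11], [4, 4], []⟩,
  ⟨[.a9], [1, 2, 5], [5, 2]⟩,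
  ⟨[.a8], [2], [0]⟩,
  ⟨[.a6], [4], [0]⟩]
def C1060 : List Ch := [⟨P575, 0, [], []⟩,
  ⟨P585, 1, [], []⟩,
  ⟨P585, 0, [.a4], [.a4, .a5]⟩,
  ⟨P586, 2, [], []⟩,
  ⟨P575, 0, [.a1], [.a1, .a2]⟩,
  ⟨P587, 1, [], []⟩,
  ⟨P587, 0, [.a4], [.a4, .a5]⟩]
def N1060 : List Ent := [⟨8, [.a3], [.a3]⟩,
  ⟨16, [.a4, .a7], [.a4, .a5, .a6, .a7, .a8]⟩,
  ⟨32, [.a5], [.a5]⟩,
  ⟨64, [.a6], [.a6]⟩,
  ⟨128, [.a7], [.a7, .a8]⟩,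
  ⟨256, [.a8], [.a8]⟩,
  ⟨512, [.a9], [.a9]⟩,
  ⟨1024, [.a10], [.a10, .a11]⟩,
  ⟨2048, [.a11], [.a11]⟩]
theorem bad1060 (c : CtxF Goal γ) : Bad Goal γ [] P1060 :=
  c.toCtx.bnd (B := B1060) (D := D1060) (I := [6, 7, 0, 1, 2, 8, 3]) (r := 3) (C := C1060) (N := N1060) (by decide +kernel) (by decide +kernel) (by decide +kernel) (by decide +kernel)
    (allB_cons (bad575 c) (allB_cons (bad585 c) (allB_cons (bad585 c) (allB_cons (bad586 c) (allB_cons (bad575 c) (allB_cons (bad587 c) (allB_cons (bad587 c) (allB_nil))))))))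

def P1061 : List Ent := [⟨16, [.a4], [.a4, .a5]⟩,
  ⟨32, [.a5], [.a5]⟩,
  ⟨64, [.a6], [.a6]⟩,
  ⟨128, [.a7], [.a7, .a8]⟩,
  ⟨256, [.a8], [.a8]⟩,
  ⟨512, [.a9], [.a9]⟩,
  ⟨2048, [.a11], [.a11]⟩]
def B1061 : List Gv := [⟨[.a4], [.a4, .a5]⟩, ⟨[.a7], [.a7, .a8]⟩, ⟨[.a9], [.a9]⟩, ⟨[.a11], [.a11]⟩]
def D1061 : List Dv := [⟨[.a5], [0, 0], []⟩,
  ⟨[.a6], [2, 1], [1, 2]⟩,
  ⟨[.a8], [3, 3], []⟩]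
def C1061 : List Ch := [⟨P577, 0, [], []⟩,
  ⟨P584, 1, [], []⟩,
  ⟨P586, 0, [], []⟩,
  ⟨P588, 2, [], []⟩,
  ⟨P589, 0, [], []⟩,
  ⟨P588, 1, [.a10], [.a10, .a11]⟩,
  ⟨P589, 0, [.a10], [.a10, .a11]⟩,
  ⟨P590, 3, [], []⟩,
  ⟨P591, 0, [], []⟩,
  ⟨P592, 1, [], []⟩,
  ⟨P593, 0, [], []⟩,
  ⟨P594, 2, [], []⟩,
  ⟨P595, 0, [], []⟩,
  ⟨P594, 1, [.a10], [.a10, .a11]⟩,
  ⟨P595, 0, [.a10], [.a10, .a11]⟩]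
def N1061 : List Ent := [⟨4, [.a2], [.a2]⟩,
  ⟨8, [.a3], [.a3]⟩,
  ⟨16, [.a4], [.a4, .a5]⟩,
  ⟨32, [.a5], [.a5]⟩,
  ⟨64, [.a6], [.a6]⟩,
  ⟨128, [.a7], [.a7, .a8]⟩,
  ⟨256, [.a8], [.a8]⟩,
  ⟨512, [.a9], [.a9]⟩,
  ⟨1024, [.a10], [.a10, .a11]⟩,
  ⟨2048, [.a11], [.a11]⟩]
theorem bad1061 (c : CtxF Goal γ) : Bad Goal γ [] P1061 :=
  c.toCtx.bnd (B := B1061) (D := D1061) (I := [3, 2, 1, 4, 0, 5, 6]) (r := 4) (C := C1061) (N := N1061) (by decide +kernel) (by decide +kernel) (by decide +kernel) (by decide +kernel)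
    (allB_cons (bad577 c) (allB_cons (bad584 c) (allB_cons (bad586 c) (allB_cons (bad588 c) (allB_cons (bad589 c) (allB_cons (bad588 c) (allB_cons (bad589 c) (allB_cons (bad590 c) (allB_cons (bad591 c) (allB_cons (bad592 c) (allB_cons (bad593 c) (allB_cons (bad594 c) (allB_cons (bad595 c) (allB_cons (bad594 c) (allB_cons (bad595 c) (allB_nil))))))))))))))))

def P1062 : List Ent := [⟨16, [.a4], [.a4, .a5]⟩,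
  ⟨32, [.a5], [.a5]⟩,
  ⟨64, [.a6], [.a6]⟩,
  ⟨128, [.a7, .a10], [.a7, .a8, .a9, .a10, .a11]⟩,
  ⟨256, [.a8], [.a8]⟩,
  ⟨512, [.a9], [.a9]⟩,
  ⟨2048, [.a11], [.a11]⟩]
def B1062 : List Gv := [⟨[.a4], [.a4, .a5]⟩, ⟨[.a7, .a10], [.a7, .a8, .a9, .a10, .a11]⟩, ⟨[.a9], [.a9]⟩]
def D1062 : List Dv := [⟨[.a5], [0, 0], []⟩,
  ⟨[.a6], [2, 1], [1, 2]⟩,
  ⟨[.a8, .a9, .a11], [3, 3], []⟩,
  ⟨[.a11], [5, 0, 5, 3], [3, 5]⟩,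
  ⟨[.a8], [1], [6, 0]⟩]
def C1062 : List Ch := [⟨P579, 0, [], []⟩,
  ⟨P584, 1, [], []⟩,
  ⟨P575, 0, [.a1], [.a1, .a2]⟩,
  ⟨P596, 2, [], []⟩,
  ⟨P597, 0, [], []⟩,
  ⟨P596, 1, [.a10], [.a10, .a11]⟩,
  ⟨P597, 0, [.a10], [.a10, .a11]⟩]
def N1062 : List Ent := [⟨8, [.a3], [.a3]⟩,
  ⟨16, [.a4], [.a4, .a5]⟩,
  ⟨32, [.a5], [.a5]⟩,
  ⟨64, [.a6], [.a6]⟩,
  ⟨128, [.a7, .a10], [.a7, .a8, .a9, .a10, .a11]⟩,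
  ⟨256, [.a8], [.a8]⟩,
  ⟨512, [.a9], [.a9]⟩,
  ⟨1024, [.a10], [.a10, .a11]⟩,
  ⟨2048, [.a11], [.a11]⟩]
theorem bad1062 (c : CtxF Goal γ) : Bad Goal γ [] P1062 :=
  c.toCtx.bnd (B := B1062) (D := D1062) (I := [5, 4, 3, 6, 0, 7, 1]) (r := 3) (C := C1062) (N := N1062) (by decide +kernel) (by decide +kernel) (by decide +kernel) (by decide +kernel)
    (allB_cons (bad579 c) (allB_cons (bad584 c) (allB_cons (bad575 c) (allB_cons (bad596 c) (allB_cons (bad597 c) (allB_cons (bad596 c) (allB_cons (bad597 c) (allB_nil))))))))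

def P1063 : List Ent := [⟨16, [.a4, .a10], [.a4, .a5, .a10, .a11]⟩,
  ⟨32, [.a5], [.a5]⟩,
  ⟨64, [.a6], [.a6]⟩,
  ⟨128, [.a7, .a10], [.a7, .a8, .a9, .a10, .a11]⟩,
  ⟨256, [.a8], [.a8]⟩,
  ⟨512, [.a9], [.a9]⟩,
  ⟨2048, [.a11], [.a11]⟩]
def B1063 : List Gv := [⟨[.a4, .a10], [.a4, .a5, .a10, .a11]⟩, ⟨[.a5], [.a5]⟩, ⟨[.a7, .a10], [.a7, .a8, .a9, .a10, .a11]⟩]
def D1063 : List Dv := [⟨[.a11], [1, 0, 0], []⟩,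
  ⟨[.a6, .a8, .a9], [3, 1], [1, 3]⟩,
  ⟨[.a8, .a9, .a11], [4, 4], []⟩,
  ⟨[.a9, .a11], [0, 1, 5], [5, 1]⟩,
  ⟨[.a9], [0], [3]⟩,
  ⟨[.a8], [2], [0, 4]⟩,
  ⟨[.a6], [4], [0, 1]⟩]
def C1063 : List Ch := [⟨P579, 0, [], []⟩,
  ⟨P598, 1, [], []⟩,
  ⟨P599, 0, [], []⟩,
  ⟨P579, 2, [.a1], [.a1, .a2]⟩,
  ⟨P586, 0, [], []⟩,
  ⟨P598, 1, [.a10], [.a10, .a11]⟩,
  ⟨P599, 0, [.a10], [.a10, .a11]⟩]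
def N1063 : List Ent := [⟨8, [.a3], [.a3]⟩,
  ⟨16, [.a4, .a10], [.a4, .a5, .a10, .a11]⟩,
  ⟨32, [.a5], [.a5]⟩,
  ⟨64, [.a6], [.a6]⟩,
  ⟨128, [.a7, .a10], [.a7, .a8, .a9, .a10, .a11]⟩,
  ⟨256, [.a8], [.a8]⟩,
  ⟨512, [.a9], [.a9]⟩,
  ⟨1024, [.a10], [.a10, .a11]⟩,
  ⟨2048, [.a11], [.a11]⟩]
theorem bad1063 (c : CtxF Goal γ) : Bad Goal γ [] P1063 :=
  c.toCtx.bnd (B := B1063) (D := D1063) (I := [7, 8, 0, 9, 1, 2, 6]) (r := 3) (C := C1063) (N := N1063) (by decide +kernel) (by decide +kernel) (by decide +kernel) (by decide +kernel)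
    (allB_cons (bad579 c) (allB_cons (bad598 c) (allB_cons (bad599 c) (allB_cons (bad579 c) (allB_cons (bad586 c) (allB_cons (bad598 c) (allB_cons (bad599 c) (allB_nil))))))))

def P1064 : List Ent := [⟨8, [.a3], [.a3]⟩,
  ⟨32, [.a5], [.a5]⟩,
  ⟨64, [.a6], [.a6]⟩,
  ⟨256, [.a8], [.a8]⟩,
  ⟨512, [.a9], [.a9]⟩,
  ⟨1024, [.a10], [.a10, .a11]⟩,
  ⟨2048, [.a11], [.a11]⟩]
def B1064 : List Gv := [⟨[.a3], [.a3]⟩, ⟨[.a5], [.a5]⟩, ⟨[.a9], [.a9]⟩, ⟨[.a10], [.a10, .a11]⟩]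
def D1064 : List Dv := [⟨[.a6], [1, 3, 0], [0, 3]⟩,
  ⟨[.a11], [4, 4], []⟩,
  ⟨[.a8], [1, 5], [5, 1]⟩]
def C1064 : List Ch := [⟨P575, 0, [], []⟩,
  ⟨P600, 1, [], []⟩,
  ⟨P600, 0, [.a7], [.a7, .a8]⟩,
  ⟨P601, 2, [], []⟩,
  ⟨P602, 0, [], []⟩,
  ⟨P603, 1, [], []⟩,
  ⟨P600, 0, [.a2, .a3, .a7], [.a2, .a3, .a5, .a7, .a8]⟩,
  ⟨P604, 3, [], []⟩,
  ⟨P575, 0, [.a2], [.a2]⟩,
  ⟨P603, 1, [.a2], [.a2]⟩,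
  ⟨P603, 0, [.a2, .a3, .a7], [.a2, .a3, .a5, .a7, .a8]⟩,
  ⟨P601, 2, [.a7], [.a7, .a8]⟩,
  ⟨P602, 0, [.a7], [.a7, .a8]⟩,
  ⟨P600, 1, [.a2], [.a2]⟩,
  ⟨P603, 0, [.a7], [.a7, .a8]⟩]
def N1064 : List Ent := [⟨4, [.a2], [.a2]⟩,
  ⟨8, [.a3], [.a3]⟩,
  ⟨16, [.a4], [.a4, .a5]⟩,
  ⟨32, [.a5], [.a5]⟩,
  ⟨64, [.a6], [.a6]⟩,
  ⟨128, [.a7], [.a7, .a8]⟩,
  ⟨256, [.a8], [.a8]⟩,
  ⟨512, [.a9], [.a9]⟩,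
  ⟨1024, [.a10], [.a10, .a11]⟩,
  ⟨2048, [.a11], [.a11]⟩]
theorem bad1064 (c : CtxF Goal γ) : Bad Goal γ [] P1064 :=
  c.toCtx.bnd (B := B1064) (D := D1064) (I := [3, 4, 2, 0, 5, 6, 1]) (r := 4) (C := C1064) (N := N1064) (by decide +kernel) (by decide +kernel) (by decide +kernel) (by decide +kernel)
    (allB_cons (bad575 c) (allB_cons (bad600 c) (allB_cons (bad600 c) (allB_cons (bad601 c) (allB_cons (bad602 c) (allB_cons (bad603 c) (allB_cons (bad600 c) (allB_cons (bad604 c) (allB_cons (bad575 c) (allB_cons (bad603 c) (allB_cons (bad603 c) (allB_cons (bad601 c) (allB_cons (bad602 c) (allB_cons (bad600 c) (allB_cons (bad603 c) (allB_nil))))))))))))))))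

def P1065 : List Ent := [⟨8, [.a3, .a7], [.a3, .a5, .a7, .a8]⟩,
  ⟨32, [.a5], [.a5]⟩,
  ⟨64, [.a6], [.a6]⟩,
  ⟨256, [.a8], [.a8]⟩,
  ⟨512, [.a9], [.a9]⟩,
  ⟨1024, [.a10], [.a10, .a11]⟩,
  ⟨2048, [.a11], [.a11]⟩]
def B1065 : List Gv := [⟨[.a3, .a7], [.a3, .a5, .a7, .a8]⟩, ⟨[.a6], [.a6]⟩, ⟨[.a10], [.a10, .a11]⟩]
def D1065 : List Dv := [⟨[.a5, .a8], [0, 0], []⟩,
  ⟨[.a8, .a9], [2, 0, 3, 1], [1, 3]⟩,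
  ⟨[.a9], [0, 4, 3], [3, 4]⟩,
  ⟨[.a11], [5, 5], []⟩,
  ⟨[.a8], [2], [1]⟩,
  ⟨[.a5], [4], [0]⟩]
def C1065 : List Ch := [⟨P575, 0, [], []⟩,
  ⟨P605, 1, [], []⟩,
  ⟨P605, 0, [.a4], [.a4, .a5]⟩,
  ⟨P606, 2, [], []⟩,
  ⟨P579, 0, [.a2], [.a2]⟩,
  ⟨P605, 1, [.a7], [.a7, .a8]⟩,
  ⟨P605, 0, [.a4, .a6, .a7], [.a4, .a5, .a7, .a8]⟩]
def N1065 : List Ent := [⟨8, [.a3, .a7], [.a3, .a5, .a7, .a8]⟩,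
  ⟨16, [.a4], [.a4, .a5]⟩,
  ⟨32, [.a5], [.a5]⟩,
  ⟨64, [.a6], [.a6]⟩,
  ⟨128, [.a7], [.a7, .a8]⟩,
  ⟨256, [.a8], [.a8]⟩,
  ⟨512, [.a9], [.a9]⟩,
  ⟨1024, [.a10], [.a10, .a11]⟩,
  ⟨2048, [.a11], [.a11]⟩]
theorem bad1065 (c : CtxF Goal γ) : Bad Goal γ [] P1065 :=
  c.toCtx.bnd (B := B1065) (D := D1065) (I := [6, 0, 7, 1, 3, 8, 2]) (r := 3) (C := C1065) (N := N1065) (by decide +kernel) (by decide +kernel) (by decide +kernel) (by decide +kernel)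
    (allB_cons (bad575 c) (allB_cons (bad605 c) (allB_cons (bad605 c) (allB_cons (bad606 c) (allB_cons (bad579 c) (allB_cons (bad605 c) (allB_cons (bad605 c) (allB_nil))))))))

def P1066 : List Ent := [⟨8, [.a3], [.a3]⟩,
  ⟨32, [.a5], [.a5]⟩,
  ⟨64, [.a6], [.a6]⟩,
  ⟨128, [.a7], [.a7, .a8]⟩,
  ⟨256, [.a8], [.a8]⟩,
  ⟨512, [.a9], [.a9]⟩,
  ⟨2048, [.a11], [.a11]⟩]
def B1066 : List Gv := [⟨[.a3], [.a3]⟩, ⟨[.a6], [.a6]⟩, ⟨[.a7], [.a7, .a8]⟩, ⟨[.a9], [.a9]⟩, ⟨[.a11], [.a11]⟩]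
def D1066 : List Dv := [⟨[.a5], [2, 0], [0, 2]⟩,
  ⟨[.a8], [3, 3], []⟩]
def C1066 : List Ch := [⟨P577, 0, [], []⟩,
  ⟨P607, 1, [], []⟩,
  ⟨P607, 0, [.a10], [.a10, .a11]⟩,
  ⟨P604, 2, [], []⟩,
  ⟨P606, 0, [], []⟩,
  ⟨P607, 1, [.a4], [.a4, .a5]⟩,
  ⟨P607, 0, [.a4, .a10], [.a4, .a5, .a10, .a11]⟩,
  ⟨P608, 3, [], []⟩,
  ⟨P609, 0, [], []⟩,
  ⟨P607, 1, [.a1], [.a1, .a2]⟩,
  ⟨P607, 0, [.a1, .a10], [.a1, .a2, .a4, .a5, .a7, .a9, .a10, .a11]⟩,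
  ⟨P608, 2, [.a10], [.a10, .a11]⟩,
  ⟨P609, 0, [.a10], [.a10, .a11]⟩,
  ⟨P607, 1, [.a1, .a3, .a4], [.a1, .a2, .a4, .a5]⟩,
  ⟨P607, 0, [.a1, .a3, .a4, .a5, .a7, .a10], [.a1, .a2, .a10, .a11]⟩,
  ⟨P610, 4, [], []⟩,
  ⟨P611, 0, [], []⟩,
  ⟨P607, 1, [.a2], [.a2]⟩,
  ⟨P607, 0, [.a2, .a10], [.a2, .a3, .a5, .a8, .a10, .a11]⟩,
  ⟨P612, 2, [], []⟩,
  ⟨P613, 0, [], []⟩,
  ⟨P607, 1, [.a2, .a4], [.a2, .a4, .a5]⟩,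
  ⟨P607, 0, [.a2, .a3, .a4, .a5, .a7, .a10], [.a2, .a4, .a5, .a7, .a9, .a10, .a11]⟩,
  ⟨P608, 3, [.a1], [.a1, .a2]⟩,
  ⟨P609, 0, [.a1], [.a1, .a2]⟩,
  ⟨P607, 1, [.a1, .a2], [.a1]⟩,
  ⟨P607, 0, [.a1, .a2, .a6, .a9, .a10], [.a1, .a3, .a4, .a7, .a10, .a11]⟩,
  ⟨P608, 2, [.a1, .a10], [.a1, .a2, .a4, .a5, .a7, .a9, .a10, .a11]⟩,
  ⟨P609, 0, [.a1, .a10], [.a1, .a2, .a4, .a5, .a7, .a9, .a10, .a11]⟩,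
  ⟨P607, 1, [.a1, .a2, .a3, .a4], [.a1, .a4, .a5]⟩,
  ⟨P607, 0, [.a1, .a2, .a4, .a5, .a6, .a7, .a8, .a9, .a10], [.a1, .a6, .a8, .a9, .a10, .a11]⟩]
def N1066 : List Ent := [⟨2, [.a1], [.a1, .a2]⟩,
  ⟨4, [.a2], [.a2]⟩,
  ⟨8, [.a3], [.a3]⟩,
  ⟨16, [.a4], [.a4, .a5]⟩,
  ⟨32, [.a5], [.a5]⟩,
  ⟨64, [.a6], [.a6]⟩,
  ⟨128, [.a7], [.a7, .a8]⟩,
  ⟨256, [.a8], [.a8]⟩,
  ⟨512, [.a9], [.a9]⟩,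
  ⟨1024, [.a10], [.a10, .a11]⟩,
  ⟨2048, [.a11], [.a11]⟩]
theorem bad1066 (c : CtxF Goal γ) : Bad Goal γ [] P1066 :=
  c.toCtx.bnd (B := B1066) (D := D1066) (I := [2, 1, 3, 4, 0, 5, 6]) (r := 5) (C := C1066) (N := N1066) (by decide +kernel) (by decide +kernel) (by decide +kernel) (by decide +kernel)
    (allB_cons (bad577 c) (allB_cons (bad607 c) (allB_cons (bad607 c) (allB_cons (bad604 c) (allB_cons (bad606 c) (allB_cons (bad607 c) (allB_cons (bad607 c) (allB_cons (bad608 c) (allB_cons (bad609 c) (allB_cons (bad607 c) (allB_cons (bad607 c) (allB_cons (bad608 c) (allB_cons (bad609 c) (allB_cons (bad607 c) (allB_cons (bad607 c) (allB_cons (bad610 c) (allB_cons (bad611 c) (allB_cons (bad607 c) (allB_cons (bad607 c) (allB_cons (bad612 c) (allB_cons (bad613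 c) (allB_cons (bad607 c) (allB_cons (bad607 c) (allB_cons (bad608 c) (allB_cons (bad609 c) (allB_cons (bad607 c) (allB_cons (bad607 c) (allB_cons (bad608 c) (allB_cons (bad609 c) (allB_cons (bad607 c) (allB_cons (bad607 c) (allB_nil))))))))))))))))))))))))))))))))

def P1067 : List Ent := [⟨8, [.a3], [.a3]⟩,
  ⟨32, [.a5], [.a5]⟩,
  ⟨64, [.a6], [.a6]⟩,
  ⟨128, [.a7, .a10], [.a7, .a8, .a9, .a10, .a11]⟩,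
  ⟨256, [.a8], [.a8]⟩,
  ⟨512, [.a9], [.a9]⟩,
  ⟨2048, [.a11], [.a11]⟩]
def B1067 : List Gv := [⟨[.a3], [.a3]⟩, ⟨[.a5], [.a5]⟩, ⟨[.a7, .a10], [.a7, .a8, .a9, .a10, .a11]⟩, ⟨[.a9], [.a9]⟩]
def D1067 : List Dv := [⟨[.a6], [2, 0], [0, 2]⟩,
  ⟨[.a8, .a9, .a11], [3, 3], []⟩,
  ⟨[.a11], [5, 0, 1, 4], [4, 1]⟩,
  ⟨[.a8], [1], [6, 0]⟩]
def C1067 : List Ch := [⟨P579, 0, [], []⟩,
  ⟨P614, 1, [], []⟩,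
  ⟨P614, 0, [.a10], [.a10, .a11]⟩,
  ⟨P604, 2, [], []⟩,
  ⟨P579, 0, [.a2], [.a2]⟩,
  ⟨P615, 1, [], []⟩,
  ⟨P615, 0, [.a10], [.a10, .a11]⟩,
  ⟨P616, 3, [], []⟩,
  ⟨P617, 0, [], []⟩,
  ⟨P615, 1, [.a2], [.a2]⟩,
  ⟨P614, 0, [.a2, .a3, .a7], [.a2, .a3, .a5, .a7, .a8]⟩,
  ⟨P616, 2, [.a10], [.a10, .a11]⟩,
  ⟨P617, 0, [.a10], [.a10, .a11]⟩,
  ⟨P614, 1, [.a2], [.a2]⟩,
  ⟨P615, 0, [.a2, .a3, .a7], [.a2, .a3, .a5, .a7, .a8]⟩]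
def N1067 : List Ent := [⟨4, [.a2], [.a2]⟩,
  ⟨8, [.a3], [.a3]⟩,
  ⟨16, [.a4], [.a4, .a5]⟩,
  ⟨32, [.a5], [.a5]⟩,
  ⟨64, [.a6], [.a6]⟩,
  ⟨128, [.a7, .a10], [.a7, .a8, .a9, .a10, .a11]⟩,
  ⟨256, [.a8], [.a8]⟩,
  ⟨512, [.a9], [.a9]⟩,
  ⟨1024, [.a10], [.a10, .a11]⟩,
  ⟨2048, [.a11], [.a11]⟩]
theorem bad1067 (c : CtxF Goal γ) : Bad Goal γ [] P1067 :=
  c.toCtx.bnd (B := B1067) (D := D1067) (I := [4, 5, 3, 6, 0, 7, 1]) (r := 4) (C := C1067) (N := N1067) (by decide +kernel) (by decide +kernel) (by decide +kernel) (by decide +kernel)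
    (allB_cons (bad579 c) (allB_cons (bad614 c) (allB_cons (bad614 c) (allB_cons (bad604 c) (allB_cons (bad579 c) (allB_cons (bad615 c) (allB_cons (bad615 c) (allB_cons (bad616 c) (allB_cons (bad617 c) (allB_cons (bad615 c) (allB_cons (bad614 c) (allB_cons (bad616 c) (allB_cons (bad617 c) (allB_cons (bad614 c) (allB_cons (bad615 c) (allB_nil))))))))))))))))

def P1068 : List Ent := [⟨8, [.a3], [.a3]⟩,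
  ⟨16, [.a4], [.a4, .a5]⟩,
  ⟨32, [.a5], [.a5]⟩,
  ⟨64, [.a6], [.a6]⟩,
  ⟨256, [.a8], [.a8]⟩,
  ⟨1024, [.a10], [.a10, .a11]⟩,
  ⟨2048, [.a11], [.a11]⟩]
def B1068 : List Gv := [⟨[.a3], [.a3]⟩, ⟨[.a4], [.a4, .a5]⟩, ⟨[.a10], [.a10, .a11]⟩]
def D1068 : List Dv := [⟨[.a5], [1, 1], []⟩,
  ⟨[.a6], [0, 3, 1], [1, 3]⟩,
  ⟨[.a11], [4, 4], []⟩,
  ⟨[.a8], [1, 5], [5, 1]⟩]
def C1068 : List Ch := [⟨P581, 0, [], []⟩,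
  ⟨P601, 1, [], []⟩,
  ⟨P596, 0, [.a1, .a2], [.a1]⟩,
  ⟨P618, 2, [], []⟩,
  ⟨P581, 0, [.a2], [.a2]⟩,
  ⟨P616, 1, [.a1], [.a1, .a2]⟩,
  ⟨P596, 0, [.a1], [.a1, .a2]⟩]
def N1068 : List Ent := [⟨4, [.a2], [.a2]⟩,
  ⟨8, [.a3], [.a3]⟩,
  ⟨16, [.a4], [.a4, .a5]⟩,
  ⟨32, [.a5], [.a5]⟩,
  ⟨64, [.a6], [.a6]⟩,
  ⟨256, [.a8], [.a8]⟩,
  ⟨512, [.a9], [.a9]⟩,
  ⟨1024, [.a10], [.a10, .a11]⟩,
  ⟨2048, [.a11], [.a11]⟩]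
theorem bad1068 (c : CtxF Goal γ) : Bad Goal γ [] P1068 :=
  c.toCtx.bnd (B := B1068) (D := D1068) (I := [4, 5, 3, 2, 0, 6, 1]) (r := 3) (C := C1068) (N := N1068) (by decide +kernel) (by decide +kernel) (by decide +kernel) (by decide +kernel)
    (allB_cons (bad581 c) (allB_cons (bad601 c) (allB_cons (bad596 c) (allB_cons (bad618 c) (allB_cons (bad581 c) (allB_cons (bad616 c) (allB_cons (bad596 c) (allB_nil))))))))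

def P1069 : List Ent := [⟨8, [.a3, .a9], [.a3, .a9]⟩,
  ⟨16, [.a4], [.a4, .a5]⟩,
  ⟨32, [.a5], [.a5]⟩,
  ⟨64, [.a6], [.a6]⟩,
  ⟨256, [.a8], [.a8]⟩,
  ⟨1024, [.a10], [.a10, .a11]⟩,
  ⟨2048, [.a11], [.a11]⟩]
def B1069 : List Gv := [⟨[.a3, .a9], [.a3, .a9]⟩, ⟨[.a4], [.a4, .a5]⟩, ⟨[.a10], [.a10, .a11]⟩]
def D1069 : List Dv := [⟨[.a8], [1, 0], [0, 1]⟩,
  ⟨[.a5], [2, 2], []⟩,
  ⟨[.a6], [0, 4, 2], [2, 4]⟩,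
  ⟨[.a11], [5, 5], []⟩]
def C1069 : List Ch := [⟨P581, 0, [], []⟩,
  ⟨P602, 1, [], []⟩,
  ⟨P597, 0, [.a1, .a2, .a6, .a9, .a10], [.a1, .a3, .a4, .a7, .a10, .a11]⟩,
  ⟨P619, 2, [], []⟩,
  ⟨P581, 0, [.a2, .a3, .a7], [.a2, .a3, .a5, .a7, .a8]⟩,
  ⟨P617, 1, [.a1], [.a1, .a2]⟩,
  ⟨P597, 0, [.a1], [.a1, .a2]⟩]
def N1069 : List Ent := [⟨4, [.a2, .a7], [.a2, .a7, .a8]⟩,
  ⟨8, [.a3, .a9], [.a3, .a9]⟩,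
  ⟨16, [.a4], [.a4, .a5]⟩,
  ⟨32, [.a5], [.a5]⟩,
  ⟨64, [.a6], [.a6]⟩,
  ⟨256, [.a8], [.a8]⟩,
  ⟨512, [.a9], [.a9]⟩,
  ⟨1024, [.a10], [.a10, .a11]⟩,
  ⟨2048, [.a11], [.a11]⟩]
theorem bad1069 (c : CtxF Goal γ) : Bad Goal γ [] P1069 :=
  c.toCtx.bnd (B := B1069) (D := D1069) (I := [4, 5, 2, 1, 3, 6, 0]) (r := 3) (C := C1069) (N := N1069) (by decide +kernel) (by decide +kernel) (by decide +kernel) (by decide +kernel)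
    (allB_cons (bad581 c) (allB_cons (bad602 c) (allB_cons (bad597 c) (allB_cons (bad619 c) (allB_cons (bad581 c) (allB_cons (bad617 c) (allB_cons (bad597 c) (allB_nil))))))))

def P1070 : List Ent := [⟨8, [.a3], [.a3]⟩,
  ⟨16, [.a4, .a9], [.a4, .a5, .a8, .a9]⟩,
  ⟨32, [.a5], [.a5]⟩,
  ⟨64, [.a6], [.a6]⟩,
  ⟨256, [.a8], [.a8]⟩,
  ⟨1024, [.a10], [.a10, .a11]⟩,
  ⟨2048, [.a11], [.a11]⟩]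
def B1070 : List Gv := [⟨[.a3], [.a3]⟩, ⟨[.a4, .a9], [.a4, .a5, .a8, .a9]⟩, ⟨[.a10], [.a10, .a11]⟩]
def D1070 : List Dv := [⟨[.a5, .a8], [1, 1], []⟩,
  ⟨[.a6, .a8], [0, 3, 1], [1, 3]⟩,
  ⟨[.a11], [4, 4], []⟩,
  ⟨[.a8], [1, 5], [5, 1]⟩,
  ⟨[.a6], [2], [0]⟩,
  ⟨[.a5], [4], [1]⟩]
def C1070 : List Ch := [⟨P582, 0, [], []⟩,
  ⟨P601, 1, [], []⟩,
  ⟨P597, 0, [.a1, .a2, .a6, .a9, .a10], [.a1, .a3, .a4, .a7, .a10, .a11]⟩,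
  ⟨P620, 2, [], []⟩,
  ⟨P582, 0, [.a2], [.a2]⟩,
  ⟨P616, 1, [.a1, .a10], [.a1, .a2, .a4, .a5, .a7, .a9, .a10, .a11]⟩,
  ⟨P597, 0, [.a1, .a10], [.a1, .a2, .a4, .a5, .a7, .a9, .a10, .a11]⟩]
def N1070 : List Ent := [⟨4, [.a2], [.a2]⟩,
  ⟨8, [.a3], [.a3]⟩,
  ⟨16, [.a4, .a9], [.a4, .a5, .a8, .a9]⟩,
  ⟨32, [.a5], [.a5]⟩,
  ⟨64, [.a6], [.a6]⟩,
  ⟨256, [.a8], [.a8]⟩,
  ⟨512, [.a9], [.a9]⟩,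
  ⟨1024, [.a10], [.a10, .a11]⟩,
  ⟨2048, [.a11], [.a11]⟩]
theorem bad1070 (c : CtxF Goal γ) : Bad Goal γ [] P1070 :=
  c.toCtx.bnd (B := B1070) (D := D1070) (I := [6, 7, 0, 1, 2, 8, 3]) (r := 3) (C := C1070) (N := N1070) (by decide +kernel) (by decide +kernel) (by decide +kernel) (by decide +kernel)
    (allB_cons (bad582 c) (allB_cons (bad601 c) (allB_cons (bad597 c) (allB_cons (bad620 c) (allB_cons (bad582 c) (allB_cons (bad616 c) (allB_cons (bad597 c) (allB_nil))))))))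

def P1071 : List Ent := [⟨8, [.a3, .a9], [.a3, .a9]⟩,
  ⟨16, [.a4, .a9], [.a4, .a5, .a8, .a9]⟩,
  ⟨32, [.a5], [.a5]⟩,
  ⟨64, [.a6], [.a6]⟩,
  ⟨256, [.a8], [.a8]⟩,
  ⟨1024, [.a10], [.a10, .a11]⟩,
  ⟨2048, [.a11], [.a11]⟩]
def B1071 : List Gv := [⟨[.a3, .a9], [.a3, .a9]⟩, ⟨[.a4, .a9], [.a4, .a5, .a8, .a9]⟩, ⟨[.a10], [.a10, .a11]⟩]
def D1071 : List Dv := [⟨[.a8], [1, 0], [0, 1]⟩,
  ⟨[.a5, .a8], [2, 2], []⟩,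
  ⟨[.a6, .a8], [0, 4, 2], [2, 4]⟩,
  ⟨[.a11], [5, 5], []⟩,
  ⟨[.a6], [1], [3]⟩,
  ⟨[.a5], [3], [4]⟩]
def C1071 : List Ch := [⟨P582, 0, [], []⟩,
  ⟨P602, 1, [], []⟩,
  ⟨P596, 0, [.a1, .a2], [.a1]⟩,
  ⟨P621, 2, [], []⟩,
  ⟨P582, 0, [.a2, .a3, .a7], [.a2, .a3, .a5, .a7, .a8]⟩,
  ⟨P617, 1, [.a1, .a10], [.a1, .a2, .a4, .a5, .a7, .a9, .a10, .a11]⟩,
  ⟨P596, 0, [.a1, .a10], [.a1, .a2, .a4, .a5, .a7, .a9, .a10, .a11]⟩]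
def N1071 : List Ent := [⟨4, [.a2, .a7], [.a2, .a7, .a8]⟩,
  ⟨8, [.a3, .a9], [.a3, .a9]⟩,
  ⟨16, [.a4, .a9], [.a4, .a5, .a8, .a9]⟩,
  ⟨32, [.a5], [.a5]⟩,
  ⟨64, [.a6], [.a6]⟩,
  ⟨256, [.a8], [.a8]⟩,
  ⟨512, [.a9], [.a9]⟩,
  ⟨1024, [.a10], [.a10, .a11]⟩,
  ⟨2048, [.a11], [.a11]⟩]
theorem bad1071 (c : CtxF Goal γ) : Bad Goal γ [] P1071 :=
  c.toCtx.bnd (B := B1071) (D := D1071) (I := [6, 7, 0, 1, 5, 8, 2]) (r := 3) (C := C1071) (N := N1071) (by decide +kernel) (by decide +kernel) (by decide +kernel) (by decide +kernel)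
    (allB_cons (bad582 c) (allB_cons (bad602 c) (allB_cons (bad596 c) (allB_cons (bad621 c) (allB_cons (bad582 c) (allB_cons (bad617 c) (allB_cons (bad596 c) (allB_nil))))))))

def P1072 : List Ent := [⟨8, [.a3], [.a3]⟩,
  ⟨16, [.a4], [.a4, .a5]⟩,
  ⟨32, [.a5], [.a5]⟩,
  ⟨64, [.a6], [.a6]⟩,
  ⟨256, [.a8], [.a8]⟩,
  ⟨512, [.a9], [.a9]⟩,
  ⟨2048, [.a11], [.a11]⟩]
def B1072 : List Gv := [⟨[.a3], [.a3]⟩, ⟨[.a4], [.a4, .a5]⟩, ⟨[.a6], [.a6]⟩, ⟨[.a9], [.a9]⟩, ⟨[.a11], [.a11]⟩]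
def D1072 : List Dv := [⟨[.a5], [1, 1], []⟩,
  ⟨[.a8], [4, 2], [2, 4]⟩]
def C1072 : List Ch := [⟨P584, 0, [], []⟩,
  ⟨P604, 1, [], []⟩,
  ⟨P584, 0, [.a1], [.a1, .a2]⟩,
  ⟨P622, 2, [], []⟩,
  ⟨P622, 0, [.a10], [.a10, .a11]⟩,
  ⟨P622, 1, [.a7], [.a7, .a8]⟩,
  ⟨P622, 0, [.a7, .a10], [.a7, .a8, .a9, .a10, .a11]⟩,
  ⟨P618, 3, [], []⟩,
  ⟨P619, 0, [], []⟩,
  ⟨P620, 1, [], []⟩,
  ⟨P621, 0, [], []⟩,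
  ⟨P622, 2, [.a1], [.a1, .a2]⟩,
  ⟨P622, 0, [.a1, .a3, .a4, .a5, .a7, .a10], [.a1, .a2, .a10, .a11]⟩,
  ⟨P622, 1, [.a1, .a7], [.a1, .a2, .a7, .a8]⟩,
  ⟨P622, 0, [.a1, .a10], [.a1, .a2, .a4, .a5, .a7, .a9, .a10, .a11]⟩,
  ⟨P623, 4, [], []⟩,
  ⟨P624, 0, [], []⟩,
  ⟨P612, 1, [.a0], [.a0]⟩,
  ⟨P624, 0, [.a1], [.a1, .a2]⟩,
  ⟨P622, 2, [.a2], [.a2]⟩,
  ⟨P622, 0, [.a2, .a10], [.a2, .a3, .a5, .a8, .a10, .a11]⟩,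
  ⟨P622, 1, [.a2, .a3, .a7], [.a2, .a3, .a5, .a7, .a8]⟩,
  ⟨P622, 0, [.a2, .a3, .a4, .a5, .a7, .a10], [.a2, .a4, .a5, .a7, .a9, .a10, .a11]⟩,
  ⟨P618, 3, [.a1], [.a1, .a2]⟩,
  ⟨P621, 0, [.a1], [.a1, .a2]⟩,
  ⟨P620, 1, [.a1], [.a1, .a2]⟩,
  ⟨P619, 0, [.a1], [.a1, .a2]⟩,
  ⟨P622, 2, [.a1, .a2], [.a1]⟩,
  ⟨P622, 0, [.a1, .a2, .a4, .a5, .a6, .a7, .a8, .a9, .a10], [.a1, .a6, .a8, .a9, .a10, .a11]⟩,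
  ⟨P622, 1, [.a1, .a2, .a3, .a7], [.a1, .a3, .a5, .a7, .a8]⟩,
  ⟨P622, 0, [.a1, .a2, .a6, .a9, .a10], [.a1, .a3, .a4, .a7, .a10, .a11]⟩]
def N1072 : List Ent := [⟨2, [.a1], [.a1, .a2]⟩,
  ⟨4, [.a2], [.a2]⟩,
  ⟨8, [.a3], [.a3]⟩,
  ⟨16, [.a4], [.a4, .a5]⟩,
  ⟨32, [.a5], [.a5]⟩,
  ⟨64, [.a6], [.a6]⟩,
  ⟨128, [.a7], [.a7, .a8]⟩,
  ⟨256, [.a8], [.a8]⟩,
  ⟨512, [.a9], [.a9]⟩,
  ⟨1024, [.a10], [.a10, .a11]⟩,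
  ⟨2048, [.a11], [.a11]⟩]
theorem bad1072 (c : CtxF Goal γ) : Bad Goal γ [] P1072 :=
  c.toCtx.bnd (B := B1072) (D := D1072) (I := [2, 3, 1, 4, 0, 5, 6]) (r := 5) (C := C1072) (N := N1072) (by decide +kernel) (by decide +kernel) (by decide +kernel) (by decide +kernel)
    (allB_cons (bad584 c) (allB_cons (bad604 c) (allB_cons (bad584 c) (allB_cons (bad622 c) (allB_cons (bad622 c) (allB_cons (bad622 c) (allB_cons (bad622 c) (allB_cons (bad618 c) (allB_cons (bad619 c) (allB_cons (bad620 c) (allB_cons (bad621 c) (allB_cons (bad622 c) (allB_cons (bad622 c) (allB_cons (bad622 c) (allB_cons (bad622 c) (allB_cons (bad623 c) (allB_cons (bad624 c) (allB_cons (bad612 c) (allB_cons (bad624 c) (allB_cons (bad622 c) (allB_cons (bad622 c) (allB_cons (bad622 c) (allB_cons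 (bad622 c) (allB_cons (bad618 c) (allB_cons (bad621 c) (allB_cons (bad620 c) (allB_cons (bad619 c) (allB_cons (bad622 c) (allB_cons (bad622 c) (allB_cons (bad622 c) (allB_cons (bad622 c) (allB_nil))))))))))))))))))))))))))))))))

def P1073 : List Ent := [⟨8, [.a3, .a7], [.a3, .a5, .a7, .a8]⟩,
  ⟨16, [.a4], [.a4, .a5]⟩,
  ⟨32, [.a5], [.a5]⟩,
  ⟨64, [.a6], [.a6]⟩,
  ⟨256, [.a8], [.a8]⟩,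
  ⟨512, [.a9], [.a9]⟩,
  ⟨2048, [.a11], [.a11]⟩]
def B1073 : List Gv := [⟨[.a3, .a7], [.a3, .a5, .a7, .a8]⟩, ⟨[.a4], [.a4, .a5]⟩, ⟨[.a9], [.a9]⟩, ⟨[.a11], [.a11]⟩]
def D1073 : List Dv := [⟨[.a5, .a8], [0, 0], []⟩,
  ⟨[.a6], [2, 1], [1, 2]⟩,
  ⟨[.a8], [1, 3, 3], []⟩,
  ⟨[.a5], [2], [0]⟩]
def C1073 : List Ch := [⟨P584, 0, [], []⟩,
  ⟨P606, 1, [], []⟩,
  ⟨P586, 0, [.a1], [.a1, .a2]⟩,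
  ⟨P625, 2, [], []⟩,
  ⟨P625, 0, [.a10], [.a10, .a11]⟩,
  ⟨P626, 1, [], []⟩,
  ⟨P626, 0, [.a10], [.a10, .a11]⟩,
  ⟨P627, 3, [], []⟩,
  ⟨P628, 0, [], []⟩,
  ⟨P629, 1, [], []⟩,
  ⟨P630, 0, [], []⟩,
  ⟨P631, 2, [], []⟩,
  ⟨P631, 0, [.a10], [.a10, .a11]⟩,
  ⟨P632, 1, [], []⟩,
  ⟨P632, 0, [.a10], [.a10, .a11]⟩]
def N1073 : List Ent := [⟨4, [.a2], [.a2]⟩,
  ⟨8, [.a3, .a7], [.a3, .a5, .a7, .a8]⟩,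
  ⟨16, [.a4], [.a4, .a5]⟩,
  ⟨32, [.a5], [.a5]⟩,
  ⟨64, [.a6], [.a6]⟩,
  ⟨128, [.a7], [.a7, .a8]⟩,
  ⟨256, [.a8], [.a8]⟩,
  ⟨512, [.a9], [.a9]⟩,
  ⟨1024, [.a10], [.a10, .a11]⟩,
  ⟨2048, [.a11], [.a11]⟩]
theorem bad1073 (c : CtxF Goal γ) : Bad Goal γ [] P1073 :=
  c.toCtx.bnd (B := B1073) (D := D1073) (I := [4, 5, 0, 2, 1, 6, 7]) (r := 4) (C := C1073) (N := N1073) (by decide +kernel) (by decide +kernel) (by decide +kernel) (by decide +kernel)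
    (allB_cons (bad584 c) (allB_cons (bad606 c) (allB_cons (bad586 c) (allB_cons (bad625 c) (allB_cons (bad625 c) (allB_cons (bad626 c) (allB_cons (bad626 c) (allB_cons (bad627 c) (allB_cons (bad628 c) (allB_cons (bad629 c) (allB_cons (bad630 c) (allB_cons (bad631 c) (allB_cons (bad631 c) (allB_cons (bad632 c) (allB_cons (bad632 c) (allB_nil))))))))))))))))

def P1074 : List Ent := [⟨8, [.a3], [.a3]⟩,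
  ⟨16, [.a4, .a7], [.a4, .a5, .a6, .a7, .a8]⟩,
  ⟨32, [.a5], [.a5]⟩,
  ⟨64, [.a6], [.a6]⟩,
  ⟨256, [.a8], [.a8]⟩,
  ⟨512, [.a9], [.a9]⟩,
  ⟨2048, [.a11], [.a11]⟩]
def B1074 : List Gv := [⟨[.a3], [.a3]⟩, ⟨[.a4, .a7], [.a4, .a5, .a6, .a7, .a8]⟩, ⟨[.a9], [.a9]⟩, ⟨[.a11], [.a11]⟩]
def D1074 : List Dv := [⟨[.a5], [1, 0], [0, 1]⟩,
  ⟨[.a6, .a8], [0, 2, 2], []⟩,
  ⟨[.a8], [4, 3], [3, 4]⟩,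
  ⟨[.a6], [1], [0]⟩]
def C1074 : List Ch := [⟨P586, 0, [], []⟩,
  ⟨P604, 1, [], []⟩,
  ⟨P586, 0, [.a1], [.a1, .a2]⟩,
  ⟨P633, 2, [], []⟩,
  ⟨P634, 0, [], []⟩,
  ⟨P633, 1, [.a10], [.a10, .a11]⟩,
  ⟨P634, 0, [.a10], [.a10, .a11]⟩,
  ⟨P635, 3, [], []⟩,
  ⟨P636, 0, [], []⟩,
  ⟨P637, 1, [], []⟩,
  ⟨P636, 0, [.a1], [.a1, .a2]⟩,
  ⟨P633, 2, [.a1], [.a1, .a2]⟩,
  ⟨P634, 0, [.a1, .a10], [.a1, .a2, .a4, .a5, .a7, .a9, .a10, .a11]⟩,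
  ⟨P633, 1, [.a1, .a10], [.a1, .a2, .a4, .a5, .a7, .a9, .a10, .a11]⟩,
  ⟨P634, 0, [.a1], [.a1, .a2]⟩]
def N1074 : List Ent := [⟨2, [.a1], [.a1, .a2]⟩,
  ⟨4, [.a2], [.a2]⟩,
  ⟨8, [.a3], [.a3]⟩,
  ⟨16, [.a4, .a7], [.a4, .a5, .a6, .a7, .a8]⟩,
  ⟨32, [.a5], [.a5]⟩,
  ⟨64, [.a6], [.a6]⟩,
  ⟨128, [.a7], [.a7, .a8]⟩,
  ⟨256, [.a8], [.a8]⟩,
  ⟨512, [.a9], [.a9]⟩,
  ⟨1024, [.a10], [.a10, .a11]⟩,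
  ⟨2048, [.a11], [.a11]⟩]
theorem bad1074 (c : CtxF Goal γ) : Bad Goal γ [] P1074 :=
  c.toCtx.bnd (B := B1074) (D := D1074) (I := [4, 5, 3, 0, 1, 6, 7]) (r := 4) (C := C1074) (N := N1074) (by decide +kernel) (by decide +kernel) (by decide +kernel) (by decide +kernel)
    (allB_cons (bad586 c) (allB_cons (bad604 c) (allB_cons (bad586 c) (allB_cons (bad633 c) (allB_cons (bad634 c) (allB_cons (bad633 c) (allB_cons (bad634 c) (allB_cons (bad635 c) (allB_cons (bad636 c) (allB_cons (bad637 c) (allB_cons (bad636 c) (allB_cons (bad633 c) (allB_cons (bad634 c) (allB_cons (bad633 c) (allB_cons (bad634 c) (allB_nil))))))))))))))))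

def P1075 : List Ent := [⟨8, [.a3], [.a3]⟩,
  ⟨16, [.a4], [.a4, .a5]⟩,
  ⟨32, [.a5], [.a5]⟩,
  ⟨64, [.a6], [.a6]⟩,
  ⟨128, [.a7], [.a7, .a8]⟩,
  ⟨256, [.a8], [.a8]⟩,
  ⟨2048, [.a11], [.a11]⟩]
def B1075 : List Gv := [⟨[.a3], [.a3]⟩, ⟨[.a4], [.a4, .a5]⟩, ⟨[.a7], [.a7, .a8]⟩, ⟨[.a11], [.a11]⟩]
def D1075 : List Dv := [⟨[.a5], [1, 1], []⟩,
  ⟨[.a6], [3, 2], [2, 3]⟩,
  ⟨[.a8], [4, 4], []⟩]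
def C1075 : List Ch := [⟨P588, 0, [], []⟩,
  ⟨P608, 1, [], []⟩,
  ⟨P594, 0, [.a1], [.a1, .a2]⟩,
  ⟨P618, 2, [], []⟩,
  ⟨P625, 0, [], []⟩,
  ⟨P633, 1, [], []⟩,
  ⟨P631, 0, [.a1], [.a1, .a2]⟩,
  ⟨P638, 3, [], []⟩,
  ⟨P639, 0, [], []⟩,
  ⟨P640, 1, [], []⟩,
  ⟨P641, 0, [], []⟩,
  ⟨P642, 2, [], []⟩,
  ⟨P643, 0, [], []⟩,
  ⟨P644, 1, [], []⟩,
  ⟨P645, 0, [], []⟩]
def S1075 : List St := [.cent 1 1 0 [⟨32, [.a5], [.a5]⟩,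
  ⟨64, [.a6], [.a6]⟩,
  ⟨256, [.a8], [.a8]⟩]]
theorem bad1075 (c : CtxF Goal γ) : Bad Goal γ [] P1075 :=
  c.toCtx.chn (B := B1075) (D := D1075) (I := [3, 4, 2, 1, 5, 0, 6]) (r := 4) (C := C1075) (l := S1075) (x := ⟨[.a9], [.a9]⟩) (ix := [0]) (by decide +kernel) (by decide +kernel) (by decide +kernel) (by decide +kernel)
    (allB_cons (bad588 c) (allB_cons (bad608 c) (allB_cons (bad594 c) (allB_cons (bad618 c) (allB_cons (bad625 c) (allB_cons (bad633 c) (allB_cons (bad631 c) (allB_cons (bad638 c) (allB_cons (bad639 c) (allB_cons (bad640 c) (allB_cons (bad641 c) (allB_cons (bad642 c) (allB_cons (bad643 c) (allB_cons (bad644 c) (allB_cons (bad645 c) (allB_nil))))))))))))))))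

def P1076 : List Ent := [⟨8, [.a3, .a9], [.a3, .a9]⟩,
  ⟨16, [.a4], [.a4, .a5]⟩,
  ⟨32, [.a5], [.a5]⟩,
  ⟨64, [.a6], [.a6]⟩,
  ⟨128, [.a7], [.a7, .a8]⟩,
  ⟨256, [.a8], [.a8]⟩,
  ⟨2048, [.a11], [.a11]⟩]
def B1076 : List Gv := [⟨[.a3, .a9], [.a3, .a9]⟩, ⟨[.a4], [.a4, .a5]⟩, ⟨[.a7], [.a7, .a8]⟩, ⟨[.a11], [.a11]⟩]
def D1076 : List Dv := [⟨[.a8], [1, 0], [0, 1]⟩,
  ⟨[.a5], [2, 2], []⟩,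
  ⟨[.a6], [4, 3], [3, 4]⟩]
def C1076 : List Ch := [⟨P588, 0, [], []⟩,
  ⟨P609, 1, [], []⟩,
  ⟨P595, 0, [.a1], [.a1, .a2]⟩,
  ⟨P619, 2, [], []⟩,
  ⟨P625, 0, [.a10], [.a10, .a11]⟩,
  ⟨P634, 1, [], []⟩,
  ⟨P632, 0, [.a1, .a10], [.a1, .a2, .a4, .a5, .a7, .a9, .a10, .a11]⟩,
  ⟨P646, 3, [], []⟩,
  ⟨P641, 0, [.a1], [.a1, .a2]⟩,
  ⟨P647, 1, [], []⟩,
  ⟨P648, 0, [], []⟩,
  ⟨P649, 2, [], []⟩,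
  ⟨P645, 0, [.a1, .a10], [.a1, .a2, .a4, .a5, .a7, .a9, .a10, .a11]⟩,
  ⟨P630, 1, [.a0], [.a0]⟩,
  ⟨P650, 0, [], []⟩]
def S1076 : List St := [.cent 1 1 0 [⟨32, [.a5], [.a5]⟩,
  ⟨64, [.a6], [.a6]⟩,
  ⟨256, [.a8], [.a8]⟩]]
theorem bad1076 (c : CtxF Goal γ) : Bad Goal γ [] P1076 :=
  c.toCtx.chn (B := B1076) (D := D1076) (I := [3, 4, 1, 0, 5, 2, 6]) (r := 4) (C := C1076) (l := S1076) (x := ⟨[.a9], [.a9]⟩) (ix := [0]) (by decide +kernel) (by decide +kernel) (by decide +kernel) (by decide +kernel)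
    (allB_cons (bad588 c) (allB_cons (bad609 c) (allB_cons (bad595 c) (allB_cons (bad619 c) (allB_cons (bad625 c) (allB_cons (bad634 c) (allB_cons (bad632 c) (allB_cons (bad646 c) (allB_cons (bad641 c) (allB_cons (bad647 c) (allB_cons (bad648 c) (allB_cons (bad649 c) (allB_cons (bad645 c) (allB_cons (bad630 c) (allB_cons (bad650 c) (allB_nil))))))))))))))))

def P1077 : List Ent := [⟨8, [.a3], [.a3]⟩,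
  ⟨16, [.a4, .a9], [.a4, .a5, .a8, .a9]⟩,
  ⟨32, [.a5], [.a5]⟩,
  ⟨64, [.a6], [.a6]⟩,
  ⟨128, [.a7], [.a7, .a8]⟩,
  ⟨256, [.a8], [.a8]⟩,
  ⟨2048, [.a11], [.a11]⟩]
def B1077 : List Gv := [⟨[.a3], [.a3]⟩, ⟨[.a4, .a9], [.a4, .a5, .a8, .a9]⟩, ⟨[.a7], [.a7, .a8]⟩, ⟨[.a11], [.a11]⟩]
def D1077 : List Dv := [⟨[.a5, .a8], [1, 1], []⟩,
  ⟨[.a8], [0, 3, 1], [1, 3]⟩,
  ⟨[.a6], [4, 3], [3, 4]⟩,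
  ⟨[.a5], [2], [1]⟩]
def C1077 : List Ch := [⟨P589, 0, [], []⟩,
  ⟨P608, 1, [], []⟩,
  ⟨P595, 0, [.a1], [.a1, .a2]⟩,
  ⟨P620, 2, [], []⟩,
  ⟨P626, 0, [], []⟩,
  ⟨P633, 1, [.a10], [.a10, .a11]⟩,
  ⟨P632, 0, [.a1], [.a1, .a2]⟩,
  ⟨P651, 3, [], []⟩,
  ⟨P648, 0, [.a1], [.a1, .a2]⟩,
  ⟨P640, 1, [.a1], [.a1, .a2]⟩,
  ⟨P652, 0, [], []⟩,
  ⟨P653, 2, [], []⟩,
  ⟨P650, 0, [.a1, .a10], [.a1, .a2, .a4, .a5, .a7, .a9, .a10, .a11]⟩,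
  ⟨P644, 1, [.a0, .a1, .a3, .a5, .a6, .a7, .a8, .a9, .a10], [.a0, .a10, .a11]⟩,
  ⟨P654, 0, [], []⟩]
def S1077 : List St := [.cent 1 1 0 [⟨32, [.a5], [.a5]⟩,
  ⟨64, [.a6], [.a6]⟩,
  ⟨256, [.a8], [.a8]⟩]]
theorem bad1077 (c : CtxF Goal γ) : Bad Goal γ [] P1077 :=
  c.toCtx.chn (B := B1077) (D := D1077) (I := [4, 5, 0, 1, 6, 2, 7]) (r := 4) (C := C1077) (l := S1077) (x := ⟨[.a9], [.a9]⟩) (ix := [0]) (by decide +kernel) (by decide +kernel) (by decide +kernel) (by decide +kernel)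
    (allB_cons (bad589 c) (allB_cons (bad608 c) (allB_cons (bad595 c) (allB_cons (bad620 c) (allB_cons (bad626 c) (allB_cons (bad633 c) (allB_cons (bad632 c) (allB_cons (bad651 c) (allB_cons (bad648 c) (allB_cons (bad640 c) (allB_cons (bad652 c) (allB_cons (bad653 c) (allB_cons (bad650 c) (allB_cons (bad644 c) (allB_cons (bad654 c) (allB_nil))))))))))))))))

def P1078 : List Ent := [⟨8, [.a3, .a9], [.a3, .a9]⟩,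
  ⟨16, [.a4, .a9], [.a4, .a5, .a8, .a9]⟩,
  ⟨32, [.a5], [.a5]⟩,
  ⟨64, [.a6], [.a6]⟩,
  ⟨128, [.a7], [.a7, .a8]⟩,
  ⟨256, [.a8], [.a8]⟩,
  ⟨2048, [.a11], [.a11]⟩]
def B1078 : List Gv := [⟨[.a3, .a9], [.a3, .a9]⟩, ⟨[.a4, .a9], [.a4, .a5, .a8, .a9]⟩, ⟨[.a7], [.a7, .a8]⟩, ⟨[.a11], [.a11]⟩]
def D1078 : List Dv := [⟨[.a8], [1, 0], [0, 1]⟩,
  ⟨[.a5, .a8], [2, 2], []⟩,
  ⟨[.a6], [4, 3], [3, 4]⟩,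
  ⟨[.a5], [1], [2]⟩]
def C1078 : List Ch := [⟨P589, 0, [], []⟩,
  ⟨P609, 1, [], []⟩,
  ⟨P594, 0, [.a1], [.a1, .a2]⟩,
  ⟨P621, 2, [], []⟩,
  ⟨P626, 0, [.a10], [.a10, .a11]⟩,
  ⟨P634, 1, [.a10], [.a10, .a11]⟩,
  ⟨P631, 0, [.a1, .a10], [.a1, .a2, .a4, .a5, .a7, .a9, .a10, .a11]⟩,
  ⟨P646, 3, [.a1], [.a1, .a2]⟩,
  ⟨P652, 0, [.a1], [.a1, .a2]⟩,
  ⟨P655, 1, [], []⟩,
  ⟨P639, 0, [.a1], [.a1, .a2]⟩,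
  ⟨P649, 2, [.a1, .a10], [.a1, .a2, .a4, .a5, .a7, .a9, .a10, .a11]⟩,
  ⟨P654, 0, [.a1, .a10], [.a1, .a2, .a4, .a5, .a7, .a9, .a10, .a11]⟩,
  ⟨P593, 1, [.a0], [.a0]⟩,
  ⟨P643, 0, [.a1, .a10], [.a1, .a2, .a4, .a5, .a7, .a9, .a10, .a11]⟩]
def S1078 : List St := [.cent 1 1 0 [⟨32, [.a5], [.a5]⟩,
  ⟨64, [.a6], [.a6]⟩,
  ⟨256, [.a8], [.a8]⟩]]
theorem bad1078 (c : CtxF Goal γ) : Bad Goal γ [] P1078 :=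
  c.toCtx.chn (B := B1078) (D := D1078) (I := [4, 5, 0, 1, 6, 3, 7]) (r := 4) (C := C1078) (l := S1078) (x := ⟨[.a9], [.a9]⟩) (ix := [0]) (by decide +kernel) (by decide +kernel) (by decide +kernel) (by decide +kernel)
    (allB_cons (bad589 c) (allB_cons (bad609 c) (allB_cons (bad594 c) (allB_cons (bad621 c) (allB_cons (bad626 c) (allB_cons (bad634 c) (allB_cons (bad631 c) (allB_cons (bad646 c) (allB_cons (bad652 c) (allB_cons (bad655 c) (allB_cons (bad639 c) (allB_cons (bad649 c) (allB_cons (bad654 c) (allB_cons (bad593 c) (allB_cons (bad643 c) (allB_nil))))))))))))))))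

def P1079 : List Ent := [⟨8, [.a3], [.a3]⟩,
  ⟨16, [.a4], [.a4, .a5]⟩,
  ⟨32, [.a5], [.a5]⟩,
  ⟨64, [.a6], [.a6]⟩,
  ⟨128, [.a7], [.a7, .a8]⟩,
  ⟨256, [.a8], [.a8]⟩,
  ⟨512, [.a9], [.a9]⟩]
def B1079 : List Gv := [⟨[.a3], [.a3]⟩, ⟨[.a4], [.a4, .a5]⟩, ⟨[.a7], [.a7, .a8]⟩, ⟨[.a9], [.a9]⟩]
def D1079 : List Dv := [⟨[.a5], [1, 1], []⟩,
  ⟨[.a6], [3, 2], [2, 3]⟩,
  ⟨[.a8], [4, 4], []⟩]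
def C1079 : List Ch := [⟨P590, 0, [], []⟩,
  ⟨P610, 1, [], []⟩,
  ⟨P590, 0, [.a1], [.a1, .a2]⟩,
  ⟨P623, 2, [], []⟩,
  ⟨P627, 0, [], []⟩,
  ⟨P635, 1, [], []⟩,
  ⟨P627, 0, [.a1], [.a1, .a2]⟩,
  ⟨P638, 3, [], []⟩,
  ⟨P646, 0, [], []⟩,
  ⟨P651, 1, [], []⟩,
  ⟨P646, 0, [.a1], [.a1, .a2]⟩,
  ⟨P638, 2, [.a10], [.a10, .a11]⟩,
  ⟨P646, 0, [.a10], [.a10, .a11]⟩,
  ⟨P651, 1, [.a10], [.a10, .a11]⟩,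
  ⟨P646, 0, [.a1, .a10], [.a1, .a2, .a4, .a5, .a7, .a9, .a10, .a11]⟩]
def N1079 : List Ent := [⟨2, [.a1], [.a1, .a2]⟩,
  ⟨4, [.a2], [.a2]⟩,
  ⟨8, [.a3], [.a3]⟩,
  ⟨16, [.a4], [.a4, .a5]⟩,
  ⟨32, [.a5], [.a5]⟩,
  ⟨64, [.a6], [.a6]⟩,
  ⟨128, [.a7], [.a7, .a8]⟩,
  ⟨256, [.a8], [.a8]⟩,
  ⟨512, [.a9], [.a9]⟩,
  ⟨1024, [.a10], [.a10, .a11]⟩,
  ⟨2048, [.a11], [.a11]⟩]
theorem bad1079 (c : CtxF Goal γ) : Bad Goal γ [] P1079 :=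
  c.toCtx.bnd (B := B1079) (D := D1079) (I := [3, 4, 2, 1, 5, 0, 6]) (r := 4) (C := C1079) (N := N1079) (by decide +kernel) (by decide +kernel) (by decide +kernel) (by decide +kernel)
    (allB_cons (bad590 c) (allB_cons (bad610 c) (allB_cons (bad590 c) (allB_cons (bad623 c) (allB_cons (bad627 c) (allB_cons (bad635 c) (allB_cons (bad627 c) (allB_cons (bad638 c) (allB_cons (bad646 c) (allB_cons (bad651 c) (allB_cons (bad646 c) (allB_cons (bad638 c) (allB_cons (bad646 c) (allB_cons (bad651 c) (allB_cons (bad646 c) (allB_nil))))))))))))))))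

def P1080 : List Ent := [⟨8, [.a3, .a11], [.a3, .a8, .a11]⟩,
  ⟨16, [.a4], [.a4, .a5]⟩,
  ⟨32, [.a5], [.a5]⟩,
  ⟨64, [.a6], [.a6]⟩,
  ⟨128, [.a7], [.a7, .a8]⟩,
  ⟨256, [.a8], [.a8]⟩,
  ⟨512, [.a9], [.a9]⟩]
def B1080 : List Gv := [⟨[.a3, .a11], [.a3, .a8, .a11]⟩, ⟨[.a4], [.a4, .a5]⟩, ⟨[.a7], [.a7, .a8]⟩, ⟨[.a9], [.a9]⟩]
def D1080 : List Dv := [⟨[.a8], [0, 0], []⟩,
  ⟨[.a5], [2, 2], []⟩,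
  ⟨[.a6], [4, 3], [3, 4]⟩]
def C1080 : List Ch := [⟨P590, 0, [], []⟩,
  ⟨P611, 1, [], []⟩,
  ⟨P591, 0, [.a1], [.a1, .a2]⟩,
  ⟨P624, 2, [], []⟩,
  ⟨P628, 0, [], []⟩,
  ⟨P636, 1, [], []⟩,
  ⟨P630, 0, [.a1], [.a1, .a2]⟩,
  ⟨P639, 3, [], []⟩,
  ⟨P641, 0, [.a1], [.a1, .a2]⟩,
  ⟨P648, 1, [.a1], [.a1, .a2]⟩,
  ⟨P652, 0, [.a1], [.a1, .a2]⟩,
  ⟨P639, 2, [.a10], [.a10, .a11]⟩,
  ⟨P641, 0, [.a1, .a10], [.a1, .a2, .a4, .a5, .a7, .a9, .a10, .a11]⟩,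
  ⟨P648, 1, [.a1, .a10], [.a1, .a2, .a4, .a5, .a7, .a9, .a10, .a11]⟩,
  ⟨P652, 0, [.a1, .a10], [.a1, .a2, .a4, .a5, .a7, .a9, .a10, .a11]⟩]
def N1080 : List Ent := [⟨4, [.a2], [.a2]⟩,
  ⟨8, [.a3, .a11], [.a3, .a8, .a11]⟩,
  ⟨16, [.a4], [.a4, .a5]⟩,
  ⟨32, [.a5], [.a5]⟩,
  ⟨64, [.a6], [.a6]⟩,
  ⟨128, [.a7], [.a7, .a8]⟩,
  ⟨256, [.a8], [.a8]⟩,
  ⟨512, [.a9], [.a9]⟩,
  ⟨1024, [.a10], [.a10, .a11]⟩,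
  ⟨2048, [.a11], [.a11]⟩]
theorem bad1080 (c : CtxF Goal γ) : Bad Goal γ [] P1080 :=
  c.toCtx.bnd (B := B1080) (D := D1080) (I := [3, 4, 1, 0, 5, 2, 6]) (r := 4) (C := C1080) (N := N1080) (by decide +kernel) (by decide +kernel) (by decide +kernel) (by decide +kernel)
    (allB_cons (bad590 c) (allB_cons (bad611 c) (allB_cons (bad591 c) (allB_cons (bad624 c) (allB_cons (bad628 c) (allB_cons (bad636 c) (allB_cons (bad630 c) (allB_cons (bad639 c) (allB_cons (bad641 c) (allB_cons (bad648 c) (allB_cons (bad652 c) (allB_cons (bad639 c) (allB_cons (bad641 c) (allB_cons (bad648 c) (allB_cons (bad652 c) (allB_nil))))))))))))))))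

def P1081 : List Ent := [⟨8, [.a3], [.a3]⟩,
  ⟨16, [.a4, .a11], [.a4, .a5, .a11]⟩,
  ⟨32, [.a5], [.a5]⟩,
  ⟨64, [.a6], [.a6]⟩,
  ⟨128, [.a7], [.a7, .a8]⟩,
  ⟨256, [.a8], [.a8]⟩,
  ⟨512, [.a9], [.a9]⟩]
def B1081 : List Gv := [⟨[.a3], [.a3]⟩, ⟨[.a4, .a11], [.a4, .a5, .a11]⟩, ⟨[.a7], [.a7, .a8]⟩, ⟨[.a9], [.a9]⟩]
def D1081 : List Dv := [⟨[.a8], [1, 0], [0, 1]⟩,
  ⟨[.a5], [2, 2], []⟩,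
  ⟨[.a6], [4, 3], [3, 4]⟩]
def C1081 : List Ch := [⟨P591, 0, [], []⟩,
  ⟨P610, 1, [], []⟩,
  ⟨P591, 0, [.a1], [.a1, .a2]⟩,
  ⟨P612, 2, [.a0], [.a0]⟩,
  ⟨P629, 0, [], []⟩,
  ⟨P637, 1, [], []⟩,
  ⟨P629, 0, [.a1], [.a1, .a2]⟩,
  ⟨P640, 3, [], []⟩,
  ⟨P647, 0, [], []⟩,
  ⟨P640, 1, [.a1], [.a1, .a2]⟩,
  ⟨P655, 0, [], []⟩,
  ⟨P640, 2, [.a10], [.a10, .a11]⟩,
  ⟨P647, 0, [.a10], [.a10, .a11]⟩,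
  ⟨P640, 1, [.a1, .a10], [.a1, .a2, .a4, .a5, .a7, .a9, .a10, .a11]⟩,
  ⟨P655, 0, [.a10], [.a10, .a11]⟩]
def N1081 : List Ent := [⟨2, [.a1], [.a1, .a2]⟩,
  ⟨4, [.a2], [.a2]⟩,
  ⟨8, [.a3], [.a3]⟩,
  ⟨16, [.a4, .a11], [.a4, .a5, .a11]⟩,
  ⟨32, [.a5], [.a5]⟩,
  ⟨64, [.a6], [.a6]⟩,
  ⟨128, [.a7], [.a7, .a8]⟩,
  ⟨256, [.a8], [.a8]⟩,
  ⟨512, [.a9], [.a9]⟩,
  ⟨1024, [.a10], [.a10, .a11]⟩,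
  ⟨2048, [.a11], [.a11]⟩]
theorem bad1081 (c : CtxF Goal γ) : Bad Goal γ [] P1081 :=
  c.toCtx.bnd (B := B1081) (D := D1081) (I := [3, 4, 1, 0, 5, 2, 6]) (r := 4) (C := C1081) (N := N1081) (by decide +kernel) (by decide +kernel) (by decide +kernel) (by decide +kernel)
    (allB_cons (bad591 c) (allB_cons (bad610 c) (allB_cons (bad591 c) (allB_cons (bad612 c) (allB_cons (bad629 c) (allB_cons (bad637 c) (allB_cons (bad629 c) (allB_cons (bad640 c) (allB_cons (bad647 c) (allB_cons (bad640 c) (allB_cons (bad655 c) (allB_cons (bad640 c) (allB_cons (bad647 c) (allB_cons (bad640 c) (allB_cons (bad655 c) (allB_nil))))))))))))))))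

def P1082 : List Ent := [⟨8, [.a3], [.a3]⟩,
  ⟨16, [.a4], [.a4, .a5]⟩,
  ⟨32, [.a5], [.a5]⟩,
  ⟨64, [.a6], [.a6]⟩,
  ⟨128, [.a7, .a11], [.a7, .a8, .a11]⟩,
  ⟨256, [.a8], [.a8]⟩,
  ⟨512, [.a9], [.a9]⟩]
def B1082 : List Gv := [⟨[.a3], [.a3]⟩, ⟨[.a4], [.a4, .a5]⟩, ⟨[.a7, .a11], [.a7, .a8, .a11]⟩, ⟨[.a9], [.a9]⟩]
def D1082 : List Dv := [⟨[.a5], [1, 1], []⟩,
  ⟨[.a8], [0, 3, 1], [1, 3]⟩,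
  ⟨[.a6], [4, 3], [3, 4]⟩]
def C1082 : List Ch := [⟨P592, 0, [], []⟩,
  ⟨P612, 1, [], []⟩,
  ⟨P592, 0, [.a1], [.a1, .a2]⟩,
  ⟨P623, 2, [], []⟩,
  ⟨P628, 0, [], []⟩,
  ⟨P637, 1, [], []⟩,
  ⟨P628, 0, [.a1], [.a1, .a2]⟩,
  ⟨P642, 3, [], []⟩,
  ⟨P649, 0, [], []⟩,
  ⟨P653, 1, [], []⟩,
  ⟨P649, 0, [.a1, .a10], [.a1, .a2, .a4, .a5, .a7, .a9, .a10, .a11]⟩,
  ⟨P642, 2, [.a10], [.a10, .a11]⟩,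
  ⟨P649, 0, [.a10], [.a10, .a11]⟩,
  ⟨P653, 1, [.a10], [.a10, .a11]⟩,
  ⟨P649, 0, [.a1], [.a1, .a2]⟩]
def N1082 : List Ent := [⟨2, [.a1], [.a1, .a2]⟩,
  ⟨4, [.a2], [.a2]⟩,
  ⟨8, [.a3], [.a3]⟩,
  ⟨16, [.a4], [.a4, .a5]⟩,
  ⟨32, [.a5], [.a5]⟩,
  ⟨64, [.a6], [.a6]⟩,
  ⟨128, [.a7, .a11], [.a7, .a8, .a11]⟩,
  ⟨256, [.a8], [.a8]⟩,
  ⟨512, [.a9], [.a9]⟩,
  ⟨1024, [.a10], [.a10, .a11]⟩,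
  ⟨2048, [.a11], [.a11]⟩]
theorem bad1082 (c : CtxF Goal γ) : Bad Goal γ [] P1082 :=
  c.toCtx.bnd (B := B1082) (D := D1082) (I := [3, 4, 2, 0, 5, 1, 6]) (r := 4) (C := C1082) (N := N1082) (by decide +kernel) (by decide +kernel) (by decide +kernel) (by decide +kernel)
    (allB_cons (bad592 c) (allB_cons (bad612 c) (allB_cons (bad592 c) (allB_cons (bad623 c) (allB_cons (bad628 c) (allB_cons (bad637 c) (allB_cons (bad628 c) (allB_cons (bad642 c) (allB_cons (bad649 c) (allB_cons (bad653 c) (allB_cons (bad649 c) (allB_cons (bad642 c) (allB_cons (bad649 c) (allB_cons (bad653 c) (allB_cons (bad649 c) (allB_nil))))))))))))))))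

def P1083 : List Ent := [⟨8, [.a3, .a11], [.a3, .a8, .a11]⟩,
  ⟨16, [.a4], [.a4, .a5]⟩,
  ⟨32, [.a5], [.a5]⟩,
  ⟨64, [.a6], [.a6]⟩,
  ⟨128, [.a7, .a11], [.a7, .a8, .a11]⟩,
  ⟨256, [.a8], [.a8]⟩,
  ⟨512, [.a9], [.a9]⟩]
def B1083 : List Gv := [⟨[.a3, .a11], [.a3, .a8, .a11]⟩, ⟨[.a4], [.a4, .a5]⟩, ⟨[.a7, .a11], [.a7, .a8, .a11]⟩, ⟨[.a9], [.a9]⟩]
def D1083 : List Dv := [⟨[.a8], [0, 0], []⟩,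
  ⟨[.a5], [2, 2], []⟩,
  ⟨[.a6], [4, 3], [3, 4]⟩]
def C1083 : List Ch := [⟨P592, 0, [], []⟩,
  ⟨P613, 1, [], []⟩,
  ⟨P593, 0, [.a1], [.a1, .a2]⟩,
  ⟨P624, 2, [], []⟩,
  ⟨P627, 0, [], []⟩,
  ⟨P636, 1, [.a1], [.a1, .a2]⟩,
  ⟨P629, 0, [.a1], [.a1, .a2]⟩,
  ⟨P643, 3, [], []⟩,
  ⟨P645, 0, [.a1, .a10], [.a1, .a2, .a4, .a5, .a7, .a9, .a10, .a11]⟩,
  ⟨P650, 1, [.a1, .a10], [.a1, .a2, .a4, .a5, .a7, .a9, .a10, .a11]⟩,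
  ⟨P654, 0, [.a1, .a10], [.a1, .a2, .a4, .a5, .a7, .a9, .a10, .a11]⟩,
  ⟨P643, 2, [.a10], [.a10, .a11]⟩,
  ⟨P645, 0, [.a1], [.a1, .a2]⟩,
  ⟨P650, 1, [.a1], [.a1, .a2]⟩,
  ⟨P654, 0, [.a1], [.a1, .a2]⟩]
def N1083 : List Ent := [⟨4, [.a2], [.a2]⟩,
  ⟨8, [.a3, .a11], [.a3, .a8, .a11]⟩,
  ⟨16, [.a4], [.a4, .a5]⟩,
  ⟨32, [.a5], [.a5]⟩,
  ⟨64, [.a6], [.a6]⟩,
  ⟨128, [.a7, .a11], [.a7, .a8, .a11]⟩,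
  ⟨256, [.a8], [.a8]⟩,
  ⟨512, [.a9], [.a9]⟩,
  ⟨1024, [.a10], [.a10, .a11]⟩,
  ⟨2048, [.a11], [.a11]⟩]
theorem bad1083 (c : CtxF Goal γ) : Bad Goal γ [] P1083 :=
  c.toCtx.bnd (B := B1083) (D := D1083) (I := [3, 4, 1, 0, 5, 2, 6]) (r := 4) (C := C1083) (N := N1083) (by decide +kernel) (by decide +kernel) (by decide +kernel) (by decide +kernel)
    (allB_cons (bad592 c) (allB_cons (bad613 c) (allB_cons (bad593 c) (allB_cons (bad624 c) (allB_cons (bad627 c) (allB_cons (bad636 c) (allB_cons (bad629 c) (allB_cons (bad643 c) (allB_cons (bad645 c) (allB_cons (bad650 c) (allB_cons (bad654 c) (allB_cons (bad643 c) (allB_cons (bad645 c) (allB_cons (bad650 c) (allB_cons (bad654 c) (allB_nil))))))))))))))))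

def P1084 : List Ent := [⟨8, [.a3], [.a3]⟩,
  ⟨16, [.a4, .a11], [.a4, .a5, .a11]⟩,
  ⟨32, [.a5], [.a5]⟩,
  ⟨64, [.a6], [.a6]⟩,
  ⟨128, [.a7, .a11], [.a7, .a8, .a11]⟩,
  ⟨256, [.a8], [.a8]⟩,
  ⟨512, [.a9], [.a9]⟩]
def B1084 : List Gv := [⟨[.a3], [.a3]⟩, ⟨[.a4, .a11], [.a4, .a5, .a11]⟩, ⟨[.a7, .a11], [.a7, .a8, .a11]⟩, ⟨[.a9], [.a9]⟩]
def D1084 : List Dv := [⟨[.a8], [1, 0], [0, 1]⟩,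
  ⟨[.a5], [2, 2], []⟩,
  ⟨[.a6], [4, 3], [3, 4]⟩]
def C1084 : List Ch := [⟨P593, 0, [], []⟩,
  ⟨P612, 1, [], []⟩,
  ⟨P593, 0, [.a1], [.a1, .a2]⟩,
  ⟨P612, 2, [.a0], [.a0]⟩,
  ⟨P630, 0, [], []⟩,
  ⟨P635, 1, [], []⟩,
  ⟨P630, 0, [.a1], [.a1, .a2]⟩,
  ⟨P644, 3, [], []⟩,
  ⟨P630, 0, [.a0], [.a0]⟩,
  ⟨P644, 1, [.a0, .a1, .a3, .a5, .a6, .a7, .a8, .a9, .a10], [.a0, .a10, .a11]⟩,
  ⟨P593, 0, [.a0], [.a0]⟩,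
  ⟨P644, 2, [.a10], [.a10, .a11]⟩,
  ⟨P630, 0, [.a0, .a1, .a3, .a5, .a6, .a7, .a8, .a9, .a10], [.a0, .a10, .a11]⟩,
  ⟨P644, 1, [.a0], [.a0]⟩,
  ⟨P593, 0, [.a0, .a1, .a3, .a5, .a6, .a7, .a8, .a9, .a10], [.a0, .a10, .a11]⟩]
def N1084 : List Ent := [⟨1, [.a0], [.a0]⟩,
  ⟨2, [.a1], [.a1, .a2]⟩,
  ⟨4, [.a2], [.a2]⟩,
  ⟨8, [.a3], [.a3]⟩,
  ⟨16, [.a4, .a11], [.a4, .a5, .a11]⟩,
  ⟨32, [.a5], [.a5]⟩,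
  ⟨64, [.a6], [.a6]⟩,
  ⟨128, [.a7, .a11], [.a7, .a8, .a11]⟩,
  ⟨256, [.a8], [.a8]⟩,
  ⟨512, [.a9], [.a9]⟩,
  ⟨1024, [.a10], [.a10, .a11]⟩,
  ⟨2048, [.a11], [.a11]⟩]
theorem bad1084 (c : CtxF Goal γ) : Bad Goal γ [] P1084 :=
  c.toCtx.bnd (B := B1084) (D := D1084) (I := [3, 4, 1, 0, 5, 2, 6]) (r := 4) (C := C1084) (N := N1084) (by decide +kernel) (by decide +kernel) (by decide +kernel) (by decide +kernel)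
    (allB_cons (bad593 c) (allB_cons (bad612 c) (allB_cons (bad593 c) (allB_cons (bad612 c) (allB_cons (bad630 c) (allB_cons (bad635 c) (allB_cons (bad630 c) (allB_cons (bad644 c) (allB_cons (bad630 c) (allB_cons (bad644 c) (allB_cons (bad593 c) (allB_cons (bad644 c) (allB_cons (bad630 c) (allB_cons (bad644 c) (allB_cons (bad593 c) (allB_nil))))))))))))))))

def P1085 : List Ent := [⟨4, [.a2], [.a2]⟩,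
  ⟨8, [.a3], [.a3]⟩,
  ⟨32, [.a5], [.a5]⟩,
  ⟨64, [.a6], [.a6]⟩,
  ⟨256, [.a8], [.a8]⟩,
  ⟨1024, [.a10], [.a10, .a11]⟩,
  ⟨2048, [.a11], [.a11]⟩]
def B1085 : List Gv := [⟨[.a2], [.a2]⟩, ⟨[.a3], [.a3]⟩, ⟨[.a10], [.a10, .a11]⟩]
def D1085 : List Dv := [⟨[.a6, .a8], [1, 2, 0], [0, 2]⟩,
  ⟨[.a5, .a6], [3, 2], [2, 3]⟩,
  ⟨[.a11], [4, 4], []⟩,
  ⟨[.a8], [2, 5], [5, 2]⟩,
  ⟨[.a6], [3], [0]⟩,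
  ⟨[.a5], [3], [0]⟩]
theorem bad1085 (c : CtxF Goal γ) : Bad Goal γ [] P1085 :=
  c.toCtx.cent (B := B1085) (D := D1085) (I := [6, 7, 0, 1, 2, 8, 3]) (z := [.a4]) (by decide +kernel) (by decide +kernel)

def P1086 : List Ent := [⟨4, [.a2, .a9], [.a2, .a5, .a9]⟩,
  ⟨8, [.a3], [.a3]⟩,
  ⟨32, [.a5], [.a5]⟩,
  ⟨64, [.a6], [.a6]⟩,
  ⟨256, [.a8], [.a8]⟩,
  ⟨1024, [.a10], [.a10, .a11]⟩,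
  ⟨2048, [.a11], [.a11]⟩]
def B1086 : List Gv := [⟨[.a2, .a9], [.a2, .a5, .a9]⟩, ⟨[.a10], [.a10, .a11]⟩]
def D1086 : List Dv := [⟨[.a5], [0, 0], []⟩,
  ⟨[.a3, .a6, .a8], [2, 1], [1, 2]⟩,
  ⟨[.a11], [3, 3], []⟩,
  ⟨[.a6, .a8], [2, 1, 4], [4, 1]⟩,
  ⟨[.a8], [1, 2], [2, 1]⟩,
  ⟨[.a6], [1], [0]⟩,
  ⟨[.a3], [4], [0, 1]⟩]
def C1086 : List Ch := [⟨P601, 0, [], []⟩,
  ⟨P656, 1, [], []⟩,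
  ⟨P657, 0, [], []⟩]
def N1086 : List Ent := [⟨4, [.a2, .a9], [.a2, .a5, .a9]⟩,
  ⟨8, [.a3], [.a3]⟩,
  ⟨16, [.a4], [.a4, .a5]⟩,
  ⟨32, [.a5], [.a5]⟩,
  ⟨64, [.a6], [.a6]⟩,
  ⟨256, [.a8], [.a8]⟩,
  ⟨512, [.a9], [.a9]⟩,
  ⟨1024, [.a10], [.a10, .a11]⟩,
  ⟨2048, [.a11], [.a11]⟩]
theorem bad1086 (c : CtxF Goal γ) : Bad Goal γ [] P1086 :=
  c.toCtx.bnd (B := B1086) (D := D1086) (I := [7, 0, 6, 1, 2, 8, 4]) (r := 2) (C := C1086) (N := N1086) (by decide +kernel) (by decide +kernel) (by decide +kernel) (by decide +kernel)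
    (allB_cons (bad601 c) (allB_cons (bad656 c) (allB_cons (bad657 c) (allB_nil))))

def P1087 : List Ent := [⟨4, [.a2], [.a2]⟩,
  ⟨8, [.a3], [.a3]⟩,
  ⟨32, [.a5], [.a5]⟩,
  ⟨64, [.a6], [.a6]⟩,
  ⟨256, [.a8], [.a8]⟩,
  ⟨512, [.a9], [.a9]⟩,
  ⟨2048, [.a11], [.a11]⟩]
def B1087 : List Gv := [⟨[.a2], [.a2]⟩, ⟨[.a3], [.a3]⟩, ⟨[.a9], [.a9]⟩, ⟨[.a11], [.a11]⟩]
def D1087 : List Dv := [⟨[.a5], [2, 0], [0, 2]⟩,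
  ⟨[.a6, .a8], [0, 4, 1], [1, 4]⟩,
  ⟨[.a8], [5, 3], [3, 5]⟩,
  ⟨[.a6], [1], [0]⟩]
def C1087 : List Ch := [⟨P604, 0, [], []⟩,
  ⟨P658, 1, [], []⟩,
  ⟨P658, 0, [.a10], [.a10, .a11]⟩,
  ⟨P659, 2, [], []⟩,
  ⟨P656, 0, [], []⟩,
  ⟨P660, 1, [], []⟩,
  ⟨P660, 0, [.a10], [.a10, .a11]⟩,
  ⟨P661, 3, [], []⟩,
  ⟨P637, 0, [.a0], [.a0]⟩,
  ⟨P662, 1, [], []⟩,
  ⟨P662, 0, [.a10], [.a10, .a11]⟩,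
  ⟨P659, 2, [.a1], [.a1, .a2]⟩,
  ⟨P656, 0, [.a1], [.a1, .a2]⟩,
  ⟨P660, 1, [.a1], [.a1, .a2]⟩,
  ⟨P660, 0, [.a1, .a10], [.a1, .a2, .a4, .a5, .a7, .a9, .a10, .a11]⟩]
def N1087 : List Ent := [⟨2, [.a1], [.a1, .a2]⟩,
  ⟨4, [.a2], [.a2]⟩,
  ⟨8, [.a3], [.a3]⟩,
  ⟨16, [.a4], [.a4, .a5]⟩,
  ⟨32, [.a5], [.a5]⟩,
  ⟨64, [.a6], [.a6]⟩,
  ⟨128, [.a7], [.a7, .a8]⟩,
  ⟨256, [.a8], [.a8]⟩,
  ⟨512, [.a9], [.a9]⟩,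
  ⟨1024, [.a10], [.a10, .a11]⟩,
  ⟨2048, [.a11], [.a11]⟩]
theorem bad1087 (c : CtxF Goal γ) : Bad Goal γ [] P1087 :=
  c.toCtx.bnd (B := B1087) (D := D1087) (I := [4, 5, 3, 0, 1, 6, 7]) (r := 4) (C := C1087) (N := N1087) (by decide +kernel) (by decide +kernel) (by decide +kernel) (by decide +kernel)
    (allB_cons (bad604 c) (allB_cons (bad658 c) (allB_cons (bad658 c) (allB_cons (bad659 c) (allB_cons (bad656 c) (allB_cons (bad660 c) (allB_cons (bad660 c) (allB_cons (bad661 c) (allB_cons (bad637 c) (allB_cons (bad662 c) (allB_cons (bad662 c) (allB_cons (bad659 c) (allB_cons (bad656 c) (allB_cons (bad660 c) (allB_cons (bad660 c) (allB_nil))))))))))))))))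

def P1088 : List Ent := [⟨4, [.a2, .a10], [.a2, .a3, .a5, .a8, .a10, .a11]⟩,
  ⟨8, [.a3], [.a3]⟩,
  ⟨32, [.a5], [.a5]⟩,
  ⟨64, [.a6], [.a6]⟩,
  ⟨256, [.a8], [.a8]⟩,
  ⟨512, [.a9], [.a9]⟩,
  ⟨2048, [.a11], [.a11]⟩]
def B1088 : List Gv := [⟨[.a2, .a10], [.a2, .a3, .a5, .a8, .a10, .a11]⟩, ⟨[.a3], [.a3]⟩, ⟨[.a9], [.a9]⟩]
def D1088 : List Dv := [⟨[.a6, .a8, .a11], [1, 0, 0], []⟩,
  ⟨[.a5, .a6], [2, 1], [1, 2]⟩,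
  ⟨[.a8, .a11], [1, 0, 4, 2], [2, 4]⟩,
  ⟨[.a11], [0, 2, 4], [4, 2]⟩,
  ⟨[.a8], [1], [0]⟩,
  ⟨[.a6], [4], [0, 1]⟩,
  ⟨[.a5], [4], [0]⟩]
def C1088 : List Ch := [⟨P604, 0, [], []⟩,
  ⟨P663, 1, [], []⟩,
  ⟨P663, 0, [.a10], [.a10, .a11]⟩,
  ⟨P657, 2, [.a7], [.a7, .a8]⟩,
  ⟨P657, 0, [], []⟩,
  ⟨P664, 1, [], []⟩,
  ⟨P664, 0, [.a10], [.a10, .a11]⟩]
def N1088 : List Ent := [⟨4, [.a2, .a10], [.a2, .a3, .a5, .a8, .a10, .a11]⟩,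
  ⟨8, [.a3], [.a3]⟩,
  ⟨16, [.a4], [.a4, .a5]⟩,
  ⟨32, [.a5], [.a5]⟩,
  ⟨64, [.a6], [.a6]⟩,
  ⟨128, [.a7], [.a7, .a8]⟩,
  ⟨256, [.a8], [.a8]⟩,
  ⟨512, [.a9], [.a9]⟩,
  ⟨1024, [.a10], [.a10, .a11]⟩,
  ⟨2048, [.a11], [.a11]⟩]
theorem bad1088 (c : CtxF Goal γ) : Bad Goal γ [] P1088 :=
  c.toCtx.bnd (B := B1088) (D := D1088) (I := [7, 8, 0, 1, 2, 9, 3]) (r := 3) (C := C1088) (N := N1088) (by decide +kernel) (by decide +kernel) (by decide +kernel) (by decide +kernel)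
    (allB_cons (bad604 c) (allB_cons (bad663 c) (allB_cons (bad663 c) (allB_cons (bad657 c) (allB_cons (bad657 c) (allB_cons (bad664 c) (allB_cons (bad664 c) (allB_nil))))))))

def P1089 : List Ent := [⟨4, [.a2, .a7], [.a2, .a7, .a8]⟩,
  ⟨8, [.a3, .a9], [.a3, .a9]⟩,
  ⟨32, [.a5], [.a5]⟩,
  ⟨64, [.a6], [.a6]⟩,
  ⟨256, [.a8], [.a8]⟩,
  ⟨1024, [.a10], [.a10, .a11]⟩,
  ⟨2048, [.a11], [.a11]⟩]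
def B1089 : List Gv := [⟨[.a2, .a7], [.a2, .a7, .a8]⟩, ⟨[.a5], [.a5]⟩, ⟨[.a10], [.a10, .a11]⟩]
def D1089 : List Dv := [⟨[.a8], [0, 0], []⟩,
  ⟨[.a3, .a5, .a6, .a8, .a9], [3, 1], [1, 3]⟩,
  ⟨[.a11], [4, 4], []⟩,
  ⟨[.a6, .a8], [4, 1, 5], [5, 1]⟩,
  ⟨[.a6], [0], [3]⟩,
  ⟨[.a3, .a9], [3], [6, 0, 4]⟩]
def C1089 : List Ch := [⟨P602, 0, [], []⟩,
  ⟨P665, 1, [], []⟩,
  ⟨P665, 0, [.a4], [.a4, .a5]⟩,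
  ⟨P666, 2, [], []⟩,
  ⟨P667, 0, [], []⟩,
  ⟨P668, 1, [], []⟩,
  ⟨P668, 0, [.a4], [.a4, .a5]⟩]
def N1089 : List Ent := [⟨4, [.a2, .a7], [.a2, .a7, .a8]⟩,
  ⟨8, [.a3, .a9], [.a3, .a9]⟩,
  ⟨16, [.a4], [.a4, .a5]⟩,
  ⟨32, [.a5], [.a5]⟩,
  ⟨64, [.a6], [.a6]⟩,
  ⟨256, [.a8], [.a8]⟩,
  ⟨512, [.a9], [.a9]⟩,
  ⟨1024, [.a10], [.a10, .a11]⟩,
  ⟨2048, [.a11], [.a11]⟩]
theorem bad1089 (c : CtxF Goal γ) : Bad Goal γ [] P1089 :=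
  c.toCtx.bnd (B := B1089) (D := D1089) (I := [6, 0, 7, 1, 5, 8, 3]) (r := 3) (C := C1089) (N := N1089) (by decide +kernel) (by decide +kernel) (by decide +kernel) (by decide +kernel)
    (allB_cons (bad602 c) (allB_cons (bad665 c) (allB_cons (bad665 c) (allB_cons (bad666 c) (allB_cons (bad667 c) (allB_cons (bad668 c) (allB_cons (bad668 c) (allB_nil))))))))

def P1090 : List Ent := [⟨4, [.a2, .a7, .a9], [.a2, .a5, .a7, .a8, .a9]⟩,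
  ⟨8, [.a3, .a9], [.a3, .a9]⟩,
  ⟨32, [.a5], [.a5]⟩,
  ⟨64, [.a6], [.a6]⟩,
  ⟨256, [.a8], [.a8]⟩,
  ⟨1024, [.a10], [.a10, .a11]⟩,
  ⟨2048, [.a11], [.a11]⟩]
def B1090 : List Gv := [⟨[.a2, .a7, .a9], [.a2, .a5, .a7, .a8, .a9]⟩, ⟨[.a10], [.a10, .a11]⟩]
def D1090 : List Dv := [⟨[.a5, .a8], [0, 0], []⟩,
  ⟨[.a3, .a5, .a6, .a8, .a9], [2, 1], [1, 2]⟩,
  ⟨[.a11], [3, 3], []⟩,
  ⟨[.a6], [2, 1, 4], [4, 1]⟩,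
  ⟨[.a8], [1, 2], [2, 1]⟩,
  ⟨[.a5], [4], [0]⟩,
  ⟨[.a3, .a9], [4], [0, 2, 1]⟩]
theorem bad1090 (c : CtxF Goal γ) : Bad Goal γ [] P1090 :=
  c.toCtx.cent (B := B1090) (D := D1090) (I := [7, 0, 1, 3, 2, 8, 4]) (z := [.a4, .a9, .a11]) (by decide +kernel) (by decide +kernel)

def P1091 : List Ent := [⟨4, [.a2, .a7], [.a2, .a7, .a8]⟩,
  ⟨8, [.a3], [.a3]⟩,
  ⟨32, [.a5], [.a5]⟩,
  ⟨64, [.a6], [.a6]⟩,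
  ⟨256, [.a8], [.a8]⟩,
  ⟨512, [.a9], [.a9]⟩,
  ⟨2048, [.a11], [.a11]⟩]
def B1091 : List Gv := [⟨[.a2, .a7], [.a2, .a7, .a8]⟩, ⟨[.a3], [.a3]⟩, ⟨[.a9], [.a9]⟩, ⟨[.a11], [.a11]⟩]
def D1091 : List Dv := [⟨[.a8], [0, 0], []⟩,
  ⟨[.a5], [2, 1], [1, 2]⟩,
  ⟨[.a6, .a8], [0, 5, 2], [2, 5]⟩,
  ⟨[.a6], [0], [2]⟩]
def C1091 : List Ch := [⟨P604, 0, [], []⟩,
  ⟨P669, 1, [], []⟩,
  ⟨P669, 0, [.a10], [.a10, .a11]⟩,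
  ⟨P670, 2, [], []⟩,
  ⟨P670, 0, [.a10], [.a10, .a11]⟩,
  ⟨P666, 1, [], []⟩,
  ⟨P671, 0, [], []⟩,
  ⟨P610, 3, [.a0], [.a0]⟩,
  ⟨P672, 0, [], []⟩,
  ⟨P673, 1, [], []⟩,
  ⟨P673, 0, [.a10], [.a10, .a11]⟩,
  ⟨P670, 2, [.a1], [.a1, .a2]⟩,
  ⟨P670, 0, [.a1, .a10], [.a1, .a2, .a4, .a5, .a7, .a9, .a10, .a11]⟩,
  ⟨P666, 1, [.a1], [.a1, .a2]⟩,
  ⟨P671, 0, [.a1], [.a1, .a2]⟩]
def N1091 : List Ent := [⟨2, [.a1], [.a1, .a2]⟩,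
  ⟨4, [.a2, .a7], [.a2, .a7, .a8]⟩,
  ⟨8, [.a3], [.a3]⟩,
  ⟨16, [.a4], [.a4, .a5]⟩,
  ⟨32, [.a5], [.a5]⟩,
  ⟨64, [.a6], [.a6]⟩,
  ⟨128, [.a7], [.a7, .a8]⟩,
  ⟨256, [.a8], [.a8]⟩,
  ⟨512, [.a9], [.a9]⟩,
  ⟨1024, [.a10], [.a10, .a11]⟩,
  ⟨2048, [.a11], [.a11]⟩]
theorem bad1091 (c : CtxF Goal γ) : Bad Goal γ [] P1091 :=
  c.toCtx.bnd (B := B1091) (D := D1091) (I := [4, 5, 2, 0, 3, 6, 7]) (r := 4) (C := C1091) (N := N1091) (by decide +kernel) (by decide +kernel) (by decide +kernel) (by decide +kernel)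
    (allB_cons (bad604 c) (allB_cons (bad669 c) (allB_cons (bad669 c) (allB_cons (bad670 c) (allB_cons (bad670 c) (allB_cons (bad666 c) (allB_cons (bad671 c) (allB_cons (bad610 c) (allB_cons (bad672 c) (allB_cons (bad673 c) (allB_cons (bad673 c) (allB_cons (bad670 c) (allB_cons (bad670 c) (allB_cons (bad666 c) (allB_cons (bad671 c) (allB_nil))))))))))))))))

def P1092 : List Ent := [⟨4, [.a2, .a7, .a10], [.a2, .a3, .a5, .a7, .a9, .a10, .a11]⟩,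
  ⟨8, [.a3], [.a3]⟩,
  ⟨32, [.a5], [.a5]⟩,
  ⟨64, [.a6], [.a6]⟩,
  ⟨256, [.a8], [.a8]⟩,
  ⟨512, [.a9], [.a9]⟩,
  ⟨2048, [.a11], [.a11]⟩]
def B1092 : List Gv := [⟨[.a2, .a7, .a10], [.a2, .a3, .a5, .a7, .a9, .a10, .a11]⟩, ⟨[.a3], [.a3]⟩, ⟨[.a9], [.a9]⟩]
def D1092 : List Dv := [⟨[.a5, .a6, .a9, .a11], [1, 0, 0], []⟩,
  ⟨[.a6], [2, 1], [1, 2]⟩,
  ⟨[.a11], [4, 0, 1, 4, 2], [2, 4]⟩,
  ⟨[.a8], [2, 4], [4, 2]⟩,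
  ⟨[.a5], [3], [2, 6, 1]⟩]
def C1092 : List Ch := [⟨P604, 0, [], []⟩,
  ⟨P674, 1, [], []⟩,
  ⟨P674, 0, [.a10], [.a10, .a11]⟩,
  ⟨P675, 2, [], []⟩,
  ⟨P675, 0, [.a10], [.a10, .a11]⟩,
  ⟨P667, 1, [], []⟩,
  ⟨P667, 0, [.a7], [.a7, .a8]⟩]
def N1092 : List Ent := [⟨4, [.a2, .a7, .a10], [.a2, .a3, .a5, .a7, .a9, .a10, .a11]⟩,
  ⟨8, [.a3], [.a3]⟩,
  ⟨16, [.a4], [.a4, .a5]⟩,
  ⟨32, [.a5], [.a5]⟩,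
  ⟨64, [.a6], [.a6]⟩,
  ⟨128, [.a7], [.a7, .a8]⟩,
  ⟨256, [.a8], [.a8]⟩,
  ⟨512, [.a9], [.a9]⟩,
  ⟨1024, [.a10], [.a10, .a11]⟩,
  ⟨2048, [.a11], [.a11]⟩]
theorem bad1092 (c : CtxF Goal γ) : Bad Goal γ [] P1092 :=
  c.toCtx.bnd (B := B1092) (D := D1092) (I := [5, 6, 0, 3, 1, 7, 2]) (r := 3) (C := C1092) (N := N1092) (by decide +kernel) (by decide +kernel) (by decide +kernel) (by decide +kernel)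
    (allB_cons (bad604 c) (allB_cons (bad674 c) (allB_cons (bad674 c) (allB_cons (bad675 c) (allB_cons (bad675 c) (allB_cons (bad667 c) (allB_cons (bad667 c) (allB_nil))))))))

def P1093 : List Ent := [⟨4, [.a2], [.a2]⟩,
  ⟨32, [.a5], [.a5]⟩,
  ⟨64, [.a6], [.a6]⟩,
  ⟨128, [.a7], [.a7, .a8]⟩,
  ⟨256, [.a8], [.a8]⟩,
  ⟨512, [.a9], [.a9]⟩,
  ⟨2048, [.a11], [.a11]⟩]
def B1093 : List Gv := [⟨[.a2], [.a2]⟩, ⟨[.a7], [.a7, .a8]⟩, ⟨[.a9], [.a9]⟩, ⟨[.a11], [.a11]⟩]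
def D1093 : List Dv := [⟨[.a8], [1, 1], []⟩,
  ⟨[.a5], [3, 1], [1, 3]⟩,
  ⟨[.a6, .a8], [0, 5, 2], [2, 5]⟩,
  ⟨[.a6], [0], [2]⟩]
def C1093 : List Ch := [⟨P577, 0, [], []⟩,
  ⟨P658, 1, [], []⟩,
  ⟨P669, 0, [], []⟩,
  ⟨P676, 2, [], []⟩,
  ⟨P677, 0, [], []⟩,
  ⟨P678, 1, [], []⟩,
  ⟨P679, 0, [], []⟩,
  ⟨P680, 3, [], []⟩,
  ⟨P681, 0, [], []⟩,
  ⟨P682, 1, [], []⟩,
  ⟨P655, 0, [.a0, .a1, .a3, .a5, .a6, .a7, .a8, .a9, .a10], [.a0, .a10, .a11]⟩,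
  ⟨P676, 2, [.a1], [.a1, .a2]⟩,
  ⟨P677, 0, [.a1], [.a1, .a2]⟩,
  ⟨P678, 1, [.a1], [.a1, .a2]⟩,
  ⟨P679, 0, [.a1], [.a1, .a2]⟩]
def N1093 : List Ent := [⟨2, [.a1], [.a1, .a2]⟩,
  ⟨4, [.a2], [.a2]⟩,
  ⟨8, [.a3], [.a3]⟩,
  ⟨16, [.a4], [.a4, .a5]⟩,
  ⟨32, [.a5], [.a5]⟩,
  ⟨64, [.a6], [.a6]⟩,
  ⟨128, [.a7], [.a7, .a8]⟩,
  ⟨256, [.a8], [.a8]⟩,
  ⟨512, [.a9], [.a9]⟩,
  ⟨2048, [.a11], [.a11]⟩]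
theorem bad1093 (c : CtxF Goal γ) : Bad Goal γ [] P1093 :=
  c.toCtx.bnd (B := B1093) (D := D1093) (I := [4, 2, 0, 5, 3, 6, 7]) (r := 4) (C := C1093) (N := N1093) (by decide +kernel) (by decide +kernel) (by decide +kernel) (by decide +kernel)
    (allB_cons (bad577 c) (allB_cons (bad658 c) (allB_cons (bad669 c) (allB_cons (bad676 c) (allB_cons (bad677 c) (allB_cons (bad678 c) (allB_cons (bad679 c) (allB_cons (bad680 c) (allB_cons (bad681 c) (allB_cons (bad682 c) (allB_cons (bad655 c) (allB_cons (bad676 c) (allB_cons (bad677 c) (allB_cons (bad678 c) (allB_cons (bad679 c) (allB_nil))))))))))))))))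

def P1094 : List Ent := [⟨4, [.a2], [.a2]⟩,
  ⟨8, [.a3, .a7], [.a3, .a5, .a7, .a8]⟩,
  ⟨32, [.a5], [.a5]⟩,
  ⟨64, [.a6], [.a6]⟩,
  ⟨256, [.a8], [.a8]⟩,
  ⟨512, [.a9], [.a9]⟩,
  ⟨2048, [.a11], [.a11]⟩]
def B1094 : List Gv := [⟨[.a2], [.a2]⟩, ⟨[.a3, .a7], [.a3, .a5, .a7, .a8]⟩, ⟨[.a9], [.a9]⟩, ⟨[.a11], [.a11]⟩]
def D1094 : List Dv := [⟨[.a5, .a8], [1, 1], []⟩,
  ⟨[.a8], [0, 3, 1], [1, 3]⟩,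
  ⟨[.a6], [1, 5, 2], [2, 5]⟩,
  ⟨[.a5], [2], [1]⟩]
def C1094 : List Ch := [⟨P606, 0, [], []⟩,
  ⟨P658, 1, [], []⟩,
  ⟨P669, 0, [.a10], [.a10, .a11]⟩,
  ⟨P683, 2, [], []⟩,
  ⟨P684, 0, [], []⟩,
  ⟨P685, 1, [], []⟩,
  ⟨P686, 0, [], []⟩,
  ⟨P687, 3, [], []⟩,
  ⟨P688, 0, [], []⟩,
  ⟨P689, 1, [], []⟩,
  ⟨P647, 0, [.a0], [.a0]⟩,
  ⟨P683, 2, [.a1], [.a1, .a2]⟩,
  ⟨P684, 0, [.a1], [.a1, .a2]⟩,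
  ⟨P685, 1, [.a1], [.a1, .a2]⟩,
  ⟨P686, 0, [.a1], [.a1, .a2]⟩]
def N1094 : List Ent := [⟨2, [.a1], [.a1, .a2]⟩,
  ⟨4, [.a2], [.a2]⟩,
  ⟨8, [.a3, .a7], [.a3, .a5, .a7, .a8]⟩,
  ⟨16, [.a4], [.a4, .a5]⟩,
  ⟨32, [.a5], [.a5]⟩,
  ⟨64, [.a6], [.a6]⟩,
  ⟨128, [.a7], [.a7, .a8]⟩,
  ⟨256, [.a8], [.a8]⟩,
  ⟨512, [.a9], [.a9]⟩,
  ⟨2048, [.a11], [.a11]⟩]
theorem bad1094 (c : CtxF Goal γ) : Bad Goal γ [] P1094 :=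
  c.toCtx.bnd (B := B1094) (D := D1094) (I := [4, 5, 0, 1, 2, 6, 7]) (r := 4) (C := C1094) (N := N1094) (by decide +kernel) (by decide +kernel) (by decide +kernel) (by decide +kernel)
    (allB_cons (bad606 c) (allB_cons (bad658 c) (allB_cons (bad669 c) (allB_cons (bad683 c) (allB_cons (bad684 c) (allB_cons (bad685 c) (allB_cons (bad686 c) (allB_cons (bad687 c) (allB_cons (bad688 c) (allB_cons (bad689 c) (allB_cons (bad647 c) (allB_cons (bad683 c) (allB_cons (bad684 c) (allB_cons (bad685 c) (allB_cons (bad686 c) (allB_nil))))))))))))))))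

def P1095 : List Ent := [⟨4, [.a2], [.a2]⟩,
  ⟨8, [.a3], [.a3]⟩,
  ⟨32, [.a5], [.a5]⟩,
  ⟨64, [.a6], [.a6]⟩,
  ⟨128, [.a7], [.a7, .a8]⟩,
  ⟨256, [.a8], [.a8]⟩,
  ⟨2048, [.a11], [.a11]⟩]
def B1095 : List Gv := [⟨[.a2], [.a2]⟩, ⟨[.a3], [.a3]⟩, ⟨[.a7], [.a7, .a8]⟩, ⟨[.a11], [.a11]⟩]
def D1095 : List Dv := [⟨[.a5], [2, 1], [1, 2]⟩,
  ⟨[.a8], [3, 3], []⟩,
  ⟨[.a6, .a8], [1, 5, 2], [2, 5]⟩,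
  ⟨[.a6], [0], [1]⟩]
def C1095 : List Ch := [⟨P608, 0, [], []⟩,
  ⟨P676, 1, [], []⟩,
  ⟨P678, 0, [.a10], [.a10, .a11]⟩,
  ⟨P659, 2, [], []⟩,
  ⟨P670, 0, [], []⟩,
  ⟨P683, 1, [], []⟩,
  ⟨P685, 0, [.a10], [.a10, .a11]⟩,
  ⟨P690, 3, [], []⟩,
  ⟨P691, 0, [], []⟩,
  ⟨P692, 1, [], []⟩,
  ⟨P693, 0, [], []⟩,
  ⟨P694, 2, [], []⟩,
  ⟨P640, 0, [.a0, .a1], [.a0, .a1, .a2]⟩,
  ⟨P695, 1, [], []⟩,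
  ⟨P696, 0, [], []⟩]
def S1095 : List St := [.cent 1 1 0 [⟨32, [.a5], [.a5]⟩,
  ⟨64, [.a6], [.a6]⟩,
  ⟨256, [.a8], [.a8]⟩]]
theorem bad1095 (c : CtxF Goal γ) : Bad Goal γ [] P1095 :=
  c.toCtx.chn (B := B1095) (D := D1095) (I := [4, 5, 3, 0, 6, 2, 7]) (r := 4) (C := C1095) (l := S1095) (x := ⟨[.a9], [.a9]⟩) (ix := [0]) (by decide +kernel) (by decide +kernel) (by decide +kernel) (by decide +kernel)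
    (allB_cons (bad608 c) (allB_cons (bad676 c) (allB_cons (bad678 c) (allB_cons (bad659 c) (allB_cons (bad670 c) (allB_cons (bad683 c) (allB_cons (bad685 c) (allB_cons (bad690 c) (allB_cons (bad691 c) (allB_cons (bad692 c) (allB_cons (bad693 c) (allB_cons (bad694 c) (allB_cons (bad640 c) (allB_cons (bad695 c) (allB_cons (bad696 c) (allB_nil))))))))))))))))

def P1096 : List Ent := [⟨4, [.a2, .a9], [.a2, .a5, .a9]⟩,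
  ⟨8, [.a3], [.a3]⟩,
  ⟨32, [.a5], [.a5]⟩,
  ⟨64, [.a6], [.a6]⟩,
  ⟨128, [.a7], [.a7, .a8]⟩,
  ⟨256, [.a8], [.a8]⟩,
  ⟨2048, [.a11], [.a11]⟩]
def B1096 : List Gv := [⟨[.a2, .a9], [.a2, .a5, .a9]⟩, ⟨[.a3], [.a3]⟩, ⟨[.a7], [.a7, .a8]⟩, ⟨[.a11], [.a11]⟩]
def D1096 : List Dv := [⟨[.a5], [0, 0], []⟩,
  ⟨[.a8], [3, 3], []⟩,
  ⟨[.a6, .a8], [1, 5, 2], [2, 5]⟩,
  ⟨[.a6], [0], [1]⟩]
def C1096 : List Ch := [⟨P608, 0, [], []⟩,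
  ⟨P677, 1, [], []⟩,
  ⟨P679, 0, [.a10], [.a10, .a11]⟩,
  ⟨P656, 2, [], []⟩,
  ⟨P670, 0, [.a10], [.a10, .a11]⟩,
  ⟨P684, 1, [], []⟩,
  ⟨P686, 0, [.a10], [.a10, .a11]⟩,
  ⟨P697, 3, [], []⟩,
  ⟨P691, 0, [.a1], [.a1, .a2]⟩,
  ⟨P698, 1, [], []⟩,
  ⟨P699, 0, [], []⟩,
  ⟨P700, 2, [], []⟩,
  ⟨P640, 0, [.a0, .a1, .a3, .a5, .a6, .a7, .a8, .a9, .a10], [.a0, .a10, .a11]⟩,
  ⟨P701, 1, [], []⟩,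
  ⟨P702, 0, [], []⟩]
def S1096 : List St := [.cent 1 1 0 [⟨32, [.a5], [.a5]⟩,
  ⟨64, [.a6], [.a6]⟩,
  ⟨256, [.a8], [.a8]⟩]]
theorem bad1096 (c : CtxF Goal γ) : Bad Goal γ [] P1096 :=
  c.toCtx.chn (B := B1096) (D := D1096) (I := [4, 5, 3, 0, 6, 2, 7]) (r := 4) (C := C1096) (l := S1096) (x := ⟨[.a9], [.a9]⟩) (ix := [0]) (by decide +kernel) (by decide +kernel) (by decide +kernel) (by decide +kernel)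
    (allB_cons (bad608 c) (allB_cons (bad677 c) (allB_cons (bad679 c) (allB_cons (bad656 c) (allB_cons (bad670 c) (allB_cons (bad684 c) (allB_cons (bad686 c) (allB_cons (bad697 c) (allB_cons (bad691 c) (allB_cons (bad698 c) (allB_cons (bad699 c) (allB_cons (bad700 c) (allB_cons (bad640 c) (allB_cons (bad701 c) (allB_cons (bad702 c) (allB_nil))))))))))))))))

def P1097 : List Ent := [⟨4, [.a2], [.a2]⟩,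
  ⟨8, [.a3, .a9], [.a3, .a9]⟩,
  ⟨32, [.a5], [.a5]⟩,
  ⟨64, [.a6], [.a6]⟩,
  ⟨128, [.a7], [.a7, .a8]⟩,
  ⟨256, [.a8], [.a8]⟩,
  ⟨2048, [.a11], [.a11]⟩]
def B1097 : List Gv := [⟨[.a2], [.a2]⟩, ⟨[.a3, .a9], [.a3, .a9]⟩, ⟨[.a7], [.a7, .a8]⟩, ⟨[.a11], [.a11]⟩]
def D1097 : List Dv := [⟨[.a5], [1, 0], [0, 1]⟩,
  ⟨[.a8], [3, 3], []⟩,
  ⟨[.a6, .a8], [1, 5, 2], [2, 5]⟩,
  ⟨[.a6], [0], [1]⟩]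
def C1097 : List Ch := [⟨P609, 0, [], []⟩,
  ⟨P676, 1, [], []⟩,
  ⟨P679, 0, [.a10], [.a10, .a11]⟩,
  ⟨P660, 2, [], []⟩,
  ⟨P666, 0, [], []⟩,
  ⟨P685, 1, [], []⟩,
  ⟨P684, 0, [.a10], [.a10, .a11]⟩,
  ⟨P687, 3, [.a0], [.a0]⟩,
  ⟨P703, 0, [], []⟩,
  ⟨P692, 1, [.a1], [.a1, .a2]⟩,
  ⟨P699, 0, [.a1], [.a1, .a2]⟩,
  ⟨P704, 2, [], []⟩,
  ⟨P629, 0, [.a0], [.a0]⟩,
  ⟨P696, 1, [.a1, .a10], [.a1, .a2, .a4, .a5, .a7, .a9, .a10, .a11]⟩,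
  ⟨P701, 0, [.a1, .a10], [.a1, .a2, .a4, .a5, .a7, .a9, .a10, .a11]⟩]
def S1097 : List St := [.cent 1 1 0 [⟨32, [.a5], [.a5]⟩,
  ⟨64, [.a6], [.a6]⟩,
  ⟨256, [.a8], [.a8]⟩]]
theorem bad1097 (c : CtxF Goal γ) : Bad Goal γ [] P1097 :=
  c.toCtx.chn (B := B1097) (D := D1097) (I := [4, 5, 3, 0, 6, 2, 7]) (r := 4) (C := C1097) (l := S1097) (x := ⟨[.a9], [.a9]⟩) (ix := [0]) (by decide +kernel) (by decide +kernel) (by decide +kernel) (by decide +kernel)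
    (allB_cons (bad609 c) (allB_cons (bad676 c) (allB_cons (bad679 c) (allB_cons (bad660 c) (allB_cons (bad666 c) (allB_cons (bad685 c) (allB_cons (bad684 c) (allB_cons (bad687 c) (allB_cons (bad703 c) (allB_cons (bad692 c) (allB_cons (bad699 c) (allB_cons (bad704 c) (allB_cons (bad629 c) (allB_cons (bad696 c) (allB_cons (bad701 c) (allB_nil))))))))))))))))

def P1098 : List Ent := [⟨4, [.a2, .a9], [.a2, .a5, .a9]⟩,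
  ⟨8, [.a3, .a9], [.a3, .a9]⟩,
  ⟨32, [.a5], [.a5]⟩,
  ⟨64, [.a6], [.a6]⟩,
  ⟨128, [.a7], [.a7, .a8]⟩,
  ⟨256, [.a8], [.a8]⟩,
  ⟨2048, [.a11], [.a11]⟩]
def B1098 : List Gv := [⟨[.a2, .a9], [.a2, .a5, .a9]⟩, ⟨[.a3, .a9], [.a3, .a9]⟩, ⟨[.a7], [.a7, .a8]⟩, ⟨[.a11], [.a11]⟩]
def D1098 : List Dv := [⟨[.a5], [0, 0], []⟩,
  ⟨[.a8], [3, 3], []⟩,
  ⟨[.a6, .a8], [1, 5, 2], [2, 5]⟩,
  ⟨[.a6], [0], [1]⟩]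
def C1098 : List Ch := [⟨P609, 0, [], []⟩,
  ⟨P677, 1, [], []⟩,
  ⟨P678, 0, [.a10], [.a10, .a11]⟩,
  ⟨P660, 2, [.a10], [.a10, .a11]⟩,
  ⟨P671, 0, [], []⟩,
  ⟨P686, 1, [], []⟩,
  ⟨P683, 0, [.a10], [.a10, .a11]⟩,
  ⟨P680, 3, [.a0, .a1, .a3, .a5, .a6, .a7, .a8, .a9, .a10], [.a0, .a10, .a11]⟩,
  ⟨P703, 0, [.a1], [.a1, .a2]⟩,
  ⟨P698, 1, [.a1], [.a1, .a2]⟩,
  ⟨P693, 0, [.a1], [.a1, .a2]⟩,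
  ⟨P704, 2, [.a1, .a10], [.a1, .a2, .a4, .a5, .a7, .a9, .a10, .a11]⟩,
  ⟨P591, 0, [.a0], [.a0]⟩,
  ⟨P702, 1, [.a1, .a10], [.a1, .a2, .a4, .a5, .a7, .a9, .a10, .a11]⟩,
  ⟨P695, 0, [.a1, .a10], [.a1, .a2, .a4, .a5, .a7, .a9, .a10, .a11]⟩]
def S1098 : List St := [.cent 1 1 0 [⟨32, [.a5], [.a5]⟩,
  ⟨64, [.a6], [.a6]⟩,
  ⟨256, [.a8], [.a8]⟩]]
theorem bad1098 (c : CtxF Goal γ) : Bad Goal γ [] P1098 :=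
  c.toCtx.chn (B := B1098) (D := D1098) (I := [4, 5, 3, 0, 6, 2, 7]) (r := 4) (C := C1098) (l := S1098) (x := ⟨[.a9], [.a9]⟩) (ix := [0]) (by decide +kernel) (by decide +kernel) (by decide +kernel) (by decide +kernel)
    (allB_cons (bad609 c) (allB_cons (bad677 c) (allB_cons (bad678 c) (allB_cons (bad660 c) (allB_cons (bad671 c) (allB_cons (bad686 c) (allB_cons (bad683 c) (allB_cons (bad680 c) (allB_cons (bad703 c) (allB_cons (bad698 c) (allB_cons (bad693 c) (allB_cons (bad704 c) (allB_cons (bad591 c) (allB_cons (bad702 c) (allB_cons (bad695 c) (allB_nil))))))))))))))))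

def P1099 : List Ent := [⟨4, [.a2], [.a2]⟩,
  ⟨8, [.a3], [.a3]⟩,
  ⟨32, [.a5], [.a5]⟩,
  ⟨64, [.a6], [.a6]⟩,
  ⟨128, [.a7], [.a7, .a8]⟩,
  ⟨256, [.a8], [.a8]⟩,
  ⟨512, [.a9], [.a9]⟩]
def B1099 : List Gv := [⟨[.a2], [.a2]⟩, ⟨[.a3], [.a3]⟩, ⟨[.a6], [.a6]⟩, ⟨[.a7], [.a7, .a8]⟩, ⟨[.a9], [.a9]⟩]
def D1099 : List Dv := [⟨[.a5], [3, 1], [1, 3]⟩,
  ⟨[.a8], [4, 4], []⟩]
def C1099 : List Ch := [⟨P610, 0, [], []⟩,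
  ⟨P680, 1, [], []⟩,
  ⟨P680, 0, [.a10], [.a10, .a11]⟩,
  ⟨P705, 2, [], []⟩,
  ⟨P705, 0, [.a11], [.a11]⟩,
  ⟨P705, 1, [.a10], [.a10, .a11]⟩,
  ⟨P705, 0, [.a10, .a11], [.a10]⟩,
  ⟨P661, 3, [], []⟩,
  ⟨P610, 0, [.a0], [.a0]⟩,
  ⟨P687, 1, [], []⟩,
  ⟨P687, 0, [.a10], [.a10, .a11]⟩,
  ⟨P705, 2, [.a4], [.a4, .a5]⟩,
  ⟨P705, 0, [.a0, .a1, .a3, .a5, .a6, .a7, .a8, .a9, .a11], [.a0, .a1, .a2, .a3, .a4, .a6, .a8, .a9, .a11]⟩,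
  ⟨P705, 1, [.a0, .a10], [.a0, .a1, .a2, .a3, .a4, .a6, .a8, .a9, .a10, .a11]⟩,
  ⟨P705, 0, [.a0, .a2, .a3, .a4, .a5, .a6, .a7, .a9, .a10, .a11], [.a0, .a1, .a2, .a3, .a4, .a6, .a8, .a9, .a10]⟩,
  ⟨P690, 4, [], []⟩,
  ⟨P697, 0, [], []⟩,
  ⟨P687, 1, [.a0], [.a0]⟩,
  ⟨P680, 0, [.a0, .a1, .a3, .a5, .a6, .a7, .a8, .a9, .a10], [.a0, .a10, .a11]⟩,
  ⟨P705, 2, [.a0], [.a0]⟩,
  ⟨P705, 0, [.a0, .a2, .a3, .a4, .a5, .a6, .a7, .a9, .a11], [.a0, .a11]⟩,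
  ⟨P705, 1, [.a1, .a10], [.a1, .a2, .a4, .a5, .a7, .a9, .a10, .a11]⟩,
  ⟨P705, 0, [.a0, .a1, .a3, .a5, .a6, .a7, .a8, .a9, .a10, .a11], [.a0, .a2, .a3, .a4, .a5, .a6, .a7, .a9, .a10]⟩,
  ⟨P690, 3, [.a10], [.a10, .a11]⟩,
  ⟨P697, 0, [.a0], [.a0]⟩,
  ⟨P680, 1, [.a0], [.a0]⟩,
  ⟨P687, 0, [.a0, .a1, .a3, .a5, .a6, .a7, .a8, .a9, .a10], [.a0, .a10, .a11]⟩,
  ⟨P705, 2, [.a0, .a2, .a4], [.a0, .a4, .a5]⟩,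
  ⟨P705, 0, [.a0, .a11], [.a0, .a2, .a3, .a4, .a5, .a6, .a7, .a9, .a11]⟩,
  ⟨P705, 1, [.a0, .a1, .a3, .a5, .a6, .a7, .a8, .a9, .a10], [.a0, .a10, .a11]⟩,
  ⟨P705, 0, [.a0, .a1, .a2, .a3, .a4, .a6, .a8, .a9, .a10, .a11], [.a0, .a10]⟩]
def N1099 : List Ent := [⟨1, [.a0], [.a0]⟩,
  ⟨2, [.a1], [.a1, .a2]⟩,
  ⟨4, [.a2], [.a2]⟩,
  ⟨8, [.a3], [.a3]⟩,
  ⟨16, [.a4], [.a4, .a5]⟩,
  ⟨32, [.a5], [.a5]⟩,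
  ⟨64, [.a6], [.a6]⟩,
  ⟨128, [.a7], [.a7, .a8]⟩,
  ⟨256, [.a8], [.a8]⟩,
  ⟨512, [.a9], [.a9]⟩,
  ⟨1024, [.a10], [.a10, .a11]⟩,
  ⟨2048, [.a11], [.a11]⟩]
theorem bad1099 (c : CtxF Goal γ) : Bad Goal γ [] P1099 :=
  c.toCtx.bnd (B := B1099) (D := D1099) (I := [2, 3, 1, 4, 5, 0, 6]) (r := 5) (C := C1099) (N := N1099) (by decide +kernel) (by decide +kernel) (by decide +kernel) (by decide +kernel)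
    (allB_cons (bad610 c) (allB_cons (bad680 c) (allB_cons (bad680 c) (allB_cons (bad705 c) (allB_cons (bad705 c) (allB_cons (bad705 c) (allB_cons (bad705 c) (allB_cons (bad661 c) (allB_cons (bad610 c) (allB_cons (bad687 c) (allB_cons (bad687 c) (allB_cons (bad705 c) (allB_cons (bad705 c) (allB_cons (bad705 c) (allB_cons (bad705 c) (allB_cons (bad690 c) (allB_cons (bad697 c) (allB_cons (bad687 c) (allB_cons (bad680 c) (allB_cons (bad705 c) (allB_cons (bad705 c) (allB_cons (bad705 c) (allB_cons (bad705 c) (allB_cons (bad690 c) (allB_cons (bad697 c) (allB_cons (bad680 c) (allB_cons (bad687 c) (allB_cons (bad705 c) (allB_cons (bad705 c) (allB_cons (bad705 c) (allB_cons (bad705 c) (allB_nil))))))))))))))))))))))))))))))))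

def P1100 : List Ent := [⟨4, [.a2, .a11], [.a2, .a5, .a6, .a8, .a11]⟩,
  ⟨8, [.a3], [.a3]⟩,
  ⟨32, [.a5], [.a5]⟩,
  ⟨64, [.a6], [.a6]⟩,
  ⟨128, [.a7], [.a7, .a8]⟩,
  ⟨256, [.a8], [.a8]⟩,
  ⟨512, [.a9], [.a9]⟩]
def B1100 : List Gv := [⟨[.a2, .a11], [.a2, .a5, .a6, .a8, .a11]⟩, ⟨[.a3], [.a3]⟩, ⟨[.a7], [.a7, .a8]⟩, ⟨[.a9], [.a9]⟩]
def D1100 : List Dv := [⟨[.a5, .a6, .a8], [0, 0], []⟩,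
  ⟨[.a8], [2, 1], [1, 2]⟩,
  ⟨[.a6, .a8], [1, 4, 3], [3, 4]⟩,
  ⟨[.a6], [0], [1]⟩,
  ⟨[.a5], [3], [0, 2]⟩]
def C1100 : List Ch := [⟨P610, 0, [], []⟩,
  ⟨P681, 1, [], []⟩,
  ⟨P681, 0, [.a10], [.a10, .a11]⟩,
  ⟨P637, 2, [.a0], [.a0]⟩,
  ⟨P672, 0, [], []⟩,
  ⟨P688, 1, [], []⟩,
  ⟨P688, 0, [.a10], [.a10, .a11]⟩,
  ⟨P691, 3, [], []⟩,
  ⟨P691, 0, [.a1], [.a1, .a2]⟩,
  ⟨P703, 1, [], []⟩,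
  ⟨P703, 0, [.a1], [.a1, .a2]⟩,
  ⟨P691, 2, [.a10], [.a10, .a11]⟩,
  ⟨P691, 0, [.a1, .a10], [.a1, .a2, .a4, .a5, .a7, .a9, .a10, .a11]⟩,
  ⟨P703, 1, [.a1, .a10], [.a1, .a2, .a4, .a5, .a7, .a9, .a10, .a11]⟩,
  ⟨P703, 0, [.a10], [.a10, .a11]⟩]
def N1100 : List Ent := [⟨2, [.a1], [.a1, .a2]⟩,
  ⟨4, [.a2, .a11], [.a2, .a5, .a6, .a8, .a11]⟩,
  ⟨8, [.a3], [.a3]⟩,
  ⟨16, [.a4], [.a4, .a5]⟩,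
  ⟨32, [.a5], [.a5]⟩,
  ⟨64, [.a6], [.a6]⟩,
  ⟨128, [.a7], [.a7, .a8]⟩,
  ⟨256, [.a8], [.a8]⟩,
  ⟨512, [.a9], [.a9]⟩,
  ⟨1024, [.a10], [.a10, .a11]⟩,
  ⟨2048, [.a11], [.a11]⟩]
theorem bad1100 (c : CtxF Goal γ) : Bad Goal γ [] P1100 :=
  c.toCtx.bnd (B := B1100) (D := D1100) (I := [5, 6, 0, 1, 7, 3, 8]) (r := 4) (C := C1100) (N := N1100) (by decide +kernel) (by decide +kernel) (by decide +kernel) (by decide +kernel)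
    (allB_cons (bad610 c) (allB_cons (bad681 c) (allB_cons (bad681 c) (allB_cons (bad637 c) (allB_cons (bad672 c) (allB_cons (bad688 c) (allB_cons (bad688 c) (allB_cons (bad691 c) (allB_cons (bad691 c) (allB_cons (bad703 c) (allB_cons (bad703 c) (allB_cons (bad691 c) (allB_cons (bad691 c) (allB_cons (bad703 c) (allB_cons (bad703 c) (allB_nil))))))))))))))))

def P1101 : List Ent := [⟨4, [.a2], [.a2]⟩,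
  ⟨8, [.a3, .a11], [.a3, .a8, .a11]⟩,
  ⟨32, [.a5], [.a5]⟩,
  ⟨64, [.a6], [.a6]⟩,
  ⟨128, [.a7], [.a7, .a8]⟩,
  ⟨256, [.a8], [.a8]⟩,
  ⟨512, [.a9], [.a9]⟩]
def B1101 : List Gv := [⟨[.a2], [.a2]⟩, ⟨[.a3, .a11], [.a3, .a8, .a11]⟩, ⟨[.a7], [.a7, .a8]⟩, ⟨[.a9], [.a9]⟩]
def D1101 : List Dv := [⟨[.a5, .a6, .a8], [1, 0], [0, 1]⟩,
  ⟨[.a8], [2, 2], []⟩,
  ⟨[.a6, .a8], [1, 4, 3], [3, 4]⟩,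
  ⟨[.a6], [0], [1]⟩,
  ⟨[.a5], [3], [0, 2]⟩]
def C1101 : List Ch := [⟨P611, 0, [], []⟩,
  ⟨P680, 1, [], []⟩,
  ⟨P681, 0, [.a10], [.a10, .a11]⟩,
  ⟨P662, 2, [], []⟩,
  ⟨P673, 0, [], []⟩,
  ⟨P689, 1, [], []⟩,
  ⟨P647, 0, [.a0, .a1, .a3, .a5, .a6, .a7, .a8, .a9, .a10], [.a0, .a10, .a11]⟩,
  ⟨P692, 3, [], []⟩,
  ⟨P698, 0, [], []⟩,
  ⟨P692, 1, [.a1], [.a1, .a2]⟩,
  ⟨P698, 0, [.a1], [.a1, .a2]⟩,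
  ⟨P693, 2, [.a10], [.a10, .a11]⟩,
  ⟨P699, 0, [.a10], [.a10, .a11]⟩,
  ⟨P693, 1, [.a1, .a10], [.a1, .a2, .a4, .a5, .a7, .a9, .a10, .a11]⟩,
  ⟨P699, 0, [.a1, .a10], [.a1, .a2, .a4, .a5, .a7, .a9, .a10, .a11]⟩]
def N1101 : List Ent := [⟨2, [.a1], [.a1, .a2]⟩,
  ⟨4, [.a2], [.a2]⟩,
  ⟨8, [.a3, .a11], [.a3, .a8, .a11]⟩,
  ⟨16, [.a4], [.a4, .a5]⟩,
  ⟨32, [.a5], [.a5]⟩,
  ⟨64, [.a6], [.a6]⟩,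
  ⟨128, [.a7], [.a7, .a8]⟩,
  ⟨256, [.a8], [.a8]⟩,
  ⟨512, [.a9], [.a9]⟩,
  ⟨2048, [.a11], [.a11]⟩]
theorem bad1101 (c : CtxF Goal γ) : Bad Goal γ [] P1101 :=
  c.toCtx.bnd (B := B1101) (D := D1101) (I := [5, 6, 0, 1, 7, 3, 8]) (r := 4) (C := C1101) (N := N1101) (by decide +kernel) (by decide +kernel) (by decide +kernel) (by decide +kernel)
    (allB_cons (bad611 c) (allB_cons (bad680 c) (allB_cons (bad681 c) (allB_cons (bad662 c) (allB_cons (bad673 c) (allB_cons (bad689 c) (allB_cons (bad647 c) (allB_cons (bad692 c) (allB_cons (bad698 c) (allB_cons (bad692 c) (allB_cons (bad698 c) (allB_cons (bad693 c) (allB_cons (bad699 c) (allB_cons (bad693 c) (allB_cons (bad699 c) (allB_nil))))))))))))))))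

def P1102 : List Ent := [⟨4, [.a2], [.a2]⟩,
  ⟨8, [.a3], [.a3]⟩,
  ⟨32, [.a5], [.a5]⟩,
  ⟨64, [.a6], [.a6]⟩,
  ⟨128, [.a7, .a11], [.a7, .a8, .a11]⟩,
  ⟨256, [.a8], [.a8]⟩,
  ⟨512, [.a9], [.a9]⟩]
def B1102 : List Gv := [⟨[.a2], [.a2]⟩, ⟨[.a3], [.a3]⟩, ⟨[.a7, .a11], [.a7, .a8, .a11]⟩, ⟨[.a9], [.a9]⟩]
def D1102 : List Dv := [⟨[.a5, .a6, .a8], [2, 0], [0, 2]⟩,
  ⟨[.a6], [0, 3, 2], [2, 3]⟩,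
  ⟨[.a8], [4, 4], []⟩,
  ⟨[.a5], [2], [1, 0]⟩]
def C1102 : List Ch := [⟨P612, 0, [], []⟩,
  ⟨P682, 1, [], []⟩,
  ⟨P682, 0, [.a10], [.a10, .a11]⟩,
  ⟨P661, 2, [], []⟩,
  ⟨P672, 0, [], []⟩,
  ⟨P689, 1, [], []⟩,
  ⟨P689, 0, [.a10], [.a10, .a11]⟩,
  ⟨P694, 3, [], []⟩,
  ⟨P700, 0, [], []⟩,
  ⟨P704, 1, [], []⟩,
  ⟨P704, 0, [.a1, .a10], [.a1, .a2, .a4, .a5, .a7, .a9, .a10, .a11]⟩,
  ⟨P694, 2, [.a10], [.a10, .a11]⟩,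
  ⟨P700, 0, [.a10], [.a10, .a11]⟩,
  ⟨P704, 1, [.a1], [.a1, .a2]⟩,
  ⟨P704, 0, [.a10], [.a10, .a11]⟩]
def N1102 : List Ent := [⟨2, [.a1], [.a1, .a2]⟩,
  ⟨4, [.a2], [.a2]⟩,
  ⟨8, [.a3], [.a3]⟩,
  ⟨16, [.a4], [.a4, .a5]⟩,
  ⟨32, [.a5], [.a5]⟩,
  ⟨64, [.a6], [.a6]⟩,
  ⟨128, [.a7, .a11], [.a7, .a8, .a11]⟩,
  ⟨256, [.a8], [.a8]⟩,
  ⟨512, [.a9], [.a9]⟩,
  ⟨1024, [.a10], [.a10, .a11]⟩,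
  ⟨2048, [.a11], [.a11]⟩]
theorem bad1102 (c : CtxF Goal γ) : Bad Goal γ [] P1102 :=
  c.toCtx.bnd (B := B1102) (D := D1102) (I := [4, 5, 0, 2, 6, 1, 7]) (r := 4) (C := C1102) (N := N1102) (by decide +kernel) (by decide +kernel) (by decide +kernel) (by decide +kernel)
    (allB_cons (bad612 c) (allB_cons (bad682 c) (allB_cons (bad682 c) (allB_cons (bad661 c) (allB_cons (bad672 c) (allB_cons (bad689 c) (allB_cons (bad689 c) (allB_cons (bad694 c) (allB_cons (bad700 c) (allB_cons (bad704 c) (allB_cons (bad704 c) (allB_cons (bad694 c) (allB_cons (bad700 c) (allB_cons (bad704 c) (allB_cons (bad704 c) (allB_nil))))))))))))))))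

def P1103 : List Ent := [⟨4, [.a2], [.a2]⟩,
  ⟨8, [.a3, .a11], [.a3, .a8, .a11]⟩,
  ⟨32, [.a5], [.a5]⟩,
  ⟨64, [.a6], [.a6]⟩,
  ⟨128, [.a7, .a11], [.a7, .a8, .a11]⟩,
  ⟨256, [.a8], [.a8]⟩,
  ⟨512, [.a9], [.a9]⟩]
def B1103 : List Gv := [⟨[.a2], [.a2]⟩, ⟨[.a3, .a11], [.a3, .a8, .a11]⟩, ⟨[.a7, .a11], [.a7, .a8, .a11]⟩, ⟨[.a9], [.a9]⟩]
def D1103 : List Dv := [⟨[.a5, .a6, .a8], [1, 0], [0, 1]⟩,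
  ⟨[.a8], [2, 2], []⟩,
  ⟨[.a6], [1, 4, 3], [3, 4]⟩,
  ⟨[.a5], [2], [0, 1]⟩]
def C1103 : List Ch := [⟨P613, 0, [], []⟩,
  ⟨P682, 1, [], []⟩,
  ⟨P655, 0, [.a0], [.a0]⟩,
  ⟨P662, 2, [], []⟩,
  ⟨P673, 0, [.a10], [.a10, .a11]⟩,
  ⟨P687, 1, [], []⟩,
  ⟨P688, 0, [.a10], [.a10, .a11]⟩,
  ⟨P695, 3, [], []⟩,
  ⟨P701, 0, [], []⟩,
  ⟨P696, 1, [.a1, .a10], [.a1, .a2, .a4, .a5, .a7, .a9, .a10, .a11]⟩,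
  ⟨P702, 0, [.a1, .a10], [.a1, .a2, .a4, .a5, .a7, .a9, .a10, .a11]⟩,
  ⟨P696, 2, [.a10], [.a10, .a11]⟩,
  ⟨P702, 0, [.a10], [.a10, .a11]⟩,
  ⟨P695, 1, [.a1], [.a1, .a2]⟩,
  ⟨P701, 0, [.a1], [.a1, .a2]⟩]
def N1103 : List Ent := [⟨2, [.a1], [.a1, .a2]⟩,
  ⟨4, [.a2], [.a2]⟩,
  ⟨8, [.a3, .a11], [.a3, .a8, .a11]⟩,
  ⟨16, [.a4], [.a4, .a5]⟩,
  ⟨32, [.a5], [.a5]⟩,
  ⟨64, [.a6], [.a6]⟩,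
  ⟨128, [.a7, .a11], [.a7, .a8, .a11]⟩,
  ⟨256, [.a8], [.a8]⟩,
  ⟨512, [.a9], [.a9]⟩,
  ⟨2048, [.a11], [.a11]⟩]
theorem bad1103 (c : CtxF Goal γ) : Bad Goal γ [] P1103 :=
  c.toCtx.bnd (B := B1103) (D := D1103) (I := [4, 5, 0, 1, 6, 2, 7]) (r := 4) (C := C1103) (N := N1103) (by decide +kernel) (by decide +kernel) (by decide +kernel) (by decide +kernel)
    (allB_cons (bad613 c) (allB_cons (bad682 c) (allB_cons (bad655 c) (allB_cons (bad662 c) (allB_cons (bad673 c) (allB_cons (bad687 c) (allB_cons (bad688 c) (allB_cons (bad695 c) (allB_cons (bad701 c) (allB_cons (bad696 c) (allB_cons (bad702 c) (allB_cons (bad696 c) (allB_cons (bad702 c) (allB_cons (bad695 c) (allB_cons (bad701 c) (allB_nil))))))))))))))))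

def P1104 : List Ent := [⟨4, [.a2, .a10], [.a2, .a3, .a5, .a8, .a10, .a11]⟩,
  ⟨8, [.a3, .a11], [.a3, .a8, .a11]⟩,
  ⟨32, [.a5], [.a5]⟩,
  ⟨64, [.a6], [.a6]⟩,
  ⟨128, [.a7], [.a7, .a8]⟩,
  ⟨256, [.a8], [.a8]⟩,
  ⟨512, [.a9], [.a9]⟩]
def B1104 : List Gv := [⟨[.a2, .a10], [.a2, .a3, .a5, .a8, .a10, .a11]⟩, ⟨[.a3, .a11], [.a3, .a8, .a11]⟩, ⟨[.a7], [.a7, .a8]⟩]
def D1104 : List Dv := [⟨[.a6], [1, 0, 0], []⟩,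
  ⟨[.a8], [2, 1], [1, 2]⟩,
  ⟨[.a5, .a9], [4, 2], [2, 4]⟩,
  ⟨[.a9], [0, 5, 4], [4, 5]⟩,
  ⟨[.a5], [1], [0]⟩]
def C1104 : List Ch := [⟨P611, 0, [], []⟩,
  ⟨P706, 1, [], []⟩,
  ⟨P706, 0, [.a3], [.a3]⟩,
  ⟨P663, 2, [], []⟩,
  ⟨P674, 0, [], []⟩,
  ⟨P706, 1, [.a4], [.a4, .a5]⟩,
  ⟨P706, 0, [.a3, .a4], [.a3, .a4, .a5]⟩]
def N1104 : List Ent := [⟨4, [.a2, .a10], [.a2, .a3, .a5, .a8, .a10, .a11]⟩,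
  ⟨8, [.a3, .a11], [.a3, .a8, .a11]⟩,
  ⟨16, [.a4], [.a4, .a5]⟩,
  ⟨32, [.a5], [.a5]⟩,
  ⟨64, [.a6], [.a6]⟩,
  ⟨128, [.a7], [.a7, .a8]⟩,
  ⟨256, [.a8], [.a8]⟩,
  ⟨512, [.a9], [.a9]⟩,
  ⟨2048, [.a11], [.a11]⟩]
theorem bad1104 (c : CtxF Goal γ) : Bad Goal γ [] P1104 :=
  c.toCtx.bnd (B := B1104) (D := D1104) (I := [5, 6, 0, 4, 7, 3, 1]) (r := 3) (C := C1104) (N := N1104) (by decide +kernel) (by decide +kernel) (by decide +kernel) (by decide +kernel)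
    (allB_cons (bad611 c) (allB_cons (bad706 c) (allB_cons (bad706 c) (allB_cons (bad663 c) (allB_cons (bad674 c) (allB_cons (bad706 c) (allB_cons (bad706 c) (allB_nil))))))))

def P1105 : List Ent := [⟨4, [.a2, .a10], [.a2, .a3, .a5, .a8, .a10, .a11]⟩,
  ⟨8, [.a3, .a11], [.a3, .a8, .a11]⟩,
  ⟨32, [.a5], [.a5]⟩,
  ⟨64, [.a6], [.a6]⟩,
  ⟨128, [.a7, .a11], [.a7, .a8, .a11]⟩,
  ⟨256, [.a8], [.a8]⟩,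
  ⟨512, [.a9], [.a9]⟩]
def B1105 : List Gv := [⟨[.a2, .a10], [.a2, .a3, .a5, .a8, .a10, .a11]⟩, ⟨[.a3, .a11], [.a3, .a8, .a11]⟩, ⟨[.a7, .a11], [.a7, .a8, .a11]⟩]
def D1105 : List Dv := [⟨[.a6], [1, 0, 0], []⟩,
  ⟨[.a8], [2, 1], [1, 2]⟩,
  ⟨[.a9], [0, 1, 4, 2], [2, 4]⟩,
  ⟨[.a5, .a8], [5, 4], [4, 5]⟩,
  ⟨[.a5], [0], [2]⟩]
def C1105 : List Ch := [⟨P613, 0, [], []⟩,
  ⟨P707, 1, [], []⟩,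
  ⟨P707, 0, [.a7], [.a7, .a8]⟩,
  ⟨P663, 2, [], []⟩,
  ⟨P674, 0, [.a10], [.a10, .a11]⟩,
  ⟨P707, 1, [.a4], [.a4, .a5]⟩,
  ⟨P707, 0, [.a4, .a6, .a7], [.a4, .a5, .a7, .a8]⟩]
def N1105 : List Ent := [⟨4, [.a2, .a10], [.a2, .a3, .a5, .a8, .a10, .a11]⟩,
  ⟨8, [.a3, .a11], [.a3, .a8, .a11]⟩,
  ⟨16, [.a4], [.a4, .a5]⟩,
  ⟨32, [.a5], [.a5]⟩,
  ⟨64, [.a6], [.a6]⟩,
  ⟨128, [.a7, .a11], [.a7, .a8, .a11]⟩,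
  ⟨256, [.a8], [.a8]⟩,
  ⟨512, [.a9], [.a9]⟩,
  ⟨2048, [.a11], [.a11]⟩]
theorem bad1105 (c : CtxF Goal γ) : Bad Goal γ [] P1105 :=
  c.toCtx.bnd (B := B1105) (D := D1105) (I := [5, 6, 0, 4, 7, 3, 2]) (r := 3) (C := C1105) (N := N1105) (by decide +kernel) (by decide +kernel) (by decide +kernel) (by decide +kernel)
    (allB_cons (bad613 c) (allB_cons (bad707 c) (allB_cons (bad707 c) (allB_cons (bad663 c) (allB_cons (bad674 c) (allB_cons (bad707 c) (allB_cons (bad707 c) (allB_nil))))))))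

def P1106 : List Ent := [⟨4, [.a2], [.a2]⟩,
  ⟨8, [.a3], [.a3]⟩,
  ⟨32, [.a5], [.a5]⟩,
  ⟨64, [.a6], [.a6]⟩,
  ⟨128, [.a7, .a10], [.a7, .a8, .a9, .a10, .a11]⟩,
  ⟨256, [.a8], [.a8]⟩,
  ⟨512, [.a9, .a11], [.a9, .a11]⟩]
def B1106 : List Gv := [⟨[.a2], [.a2]⟩, ⟨[.a3], [.a3]⟩, ⟨[.a7, .a10], [.a7, .a8, .a9, .a10, .a11]⟩]
def D1106 : List Dv := [⟨[.a5, .a6, .a8], [1, 2, 0], [0, 2]⟩,
  ⟨[.a6], [3, 2], [2, 3]⟩,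
  ⟨[.a8, .a9, .a11], [4, 4], []⟩,
  ⟨[.a9, .a11], [0, 2, 5], [5, 2]⟩,
  ⟨[.a8], [1], [0]⟩,
  ⟨[.a5], [4], [3, 0]⟩]
theorem bad1106 (c : CtxF Goal γ) : Bad Goal γ [] P1106 :=
  c.toCtx.cent (B := B1106) (D := D1106) (I := [6, 7, 0, 4, 8, 1, 2]) (z := [.a3, .a4]) (by decide +kernel) (by decide +kernel)

def P1107 : List Ent := [⟨4, [.a2, .a11], [.a2, .a5, .a6, .a8, .a11]⟩,
  ⟨8, [.a3], [.a3]⟩,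
  ⟨32, [.a5], [.a5]⟩,
  ⟨64, [.a6], [.a6]⟩,
  ⟨128, [.a7, .a10], [.a7, .a8, .a9, .a10, .a11]⟩,
  ⟨256, [.a8], [.a8]⟩,
  ⟨512, [.a9, .a11], [.a9, .a11]⟩]
def B1107 : List Gv := [⟨[.a2, .a11], [.a2, .a5, .a6, .a8, .a11]⟩, ⟨[.a7, .a10], [.a7, .a8, .a9, .a10, .a11]⟩]
def D1107 : List Dv := [⟨[.a5, .a6, .a8], [0, 0], []⟩,
  ⟨[.a3, .a5, .a6, .a8], [2, 1], [1, 2]⟩,
  ⟨[.a8, .a9, .a11], [3, 3], []⟩,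
  ⟨[.a9, .a11], [0, 2, 4], [4, 2]⟩,
  ⟨[.a6, .a8], [2, 5], [5, 2]⟩,
  ⟨[.a8], [2], [1]⟩,
  ⟨[.a6], [1], [0]⟩,
  ⟨[.a5], [6], [0, 1]⟩,
  ⟨[.a3], [6], [0, 1, 2]⟩]
def C1107 : List Ch := [⟨P616, 0, [], []⟩,
  ⟨P656, 1, [.a1], [.a1, .a2]⟩,
  ⟨P675, 0, [.a10], [.a10, .a11]⟩]
def N1107 : List Ent := [⟨4, [.a2, .a11], [.a2, .a5, .a6, .a8, .a11]⟩,
  ⟨8, [.a3], [.a3]⟩,
  ⟨16, [.a4], [.a4, .a5]⟩,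
  ⟨32, [.a5], [.a5]⟩,
  ⟨64, [.a6], [.a6]⟩,
  ⟨128, [.a7, .a10], [.a7, .a8, .a9, .a10, .a11]⟩,
  ⟨256, [.a8], [.a8]⟩,
  ⟨512, [.a9, .a11], [.a9, .a11]⟩,
  ⟨2048, [.a11], [.a11]⟩]
theorem bad1107 (c : CtxF Goal γ) : Bad Goal γ [] P1107 :=
  c.toCtx.bnd (B := B1107) (D := D1107) (I := [9, 0, 1, 2, 10, 3, 5]) (r := 2) (C := C1107) (N := N1107) (by decide +kernel) (by decide +kernel) (by decide +kernel) (by decide +kernel)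
    (allB_cons (bad616 c) (allB_cons (bad656 c) (allB_cons (bad675 c) (allB_nil))))

def P1108 : List Ent := [⟨4, [.a2, .a10], [.a2, .a3, .a5, .a8, .a10, .a11]⟩,
  ⟨8, [.a3, .a11], [.a3, .a8, .a11]⟩,
  ⟨32, [.a5], [.a5]⟩,
  ⟨64, [.a6], [.a6]⟩,
  ⟨128, [.a7, .a10], [.a7, .a8, .a9, .a10, .a11]⟩,
  ⟨256, [.a8], [.a8]⟩,
  ⟨512, [.a9, .a11], [.a9, .a11]⟩]
def B1108 : List Gv := [⟨[.a2, .a10], [.a2, .a3, .a5, .a8, .a10, .a11]⟩, ⟨[.a5], [.a5]⟩, ⟨[.a7, .a10], [.a7, .a8, .a9, .a10, .a11]⟩]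
def D1108 : List Dv := [⟨[.a3, .a6, .a8, .a11], [0, 0], []⟩,
  ⟨[.a8, .a9, .a11], [0, 3, 1], [1, 3]⟩,
  ⟨[.a6, .a8], [1, 4], [4, 1]⟩,
  ⟨[.a9, .a11], [1, 2, 2], []⟩,
  ⟨[.a8], [2], [0]⟩,
  ⟨[.a6], [2], [0]⟩,
  ⟨[.a3, .a11], [5], [0, 1]⟩]
def C1108 : List Ch := [⟨P617, 0, [], []⟩,
  ⟨P708, 1, [], []⟩,
  ⟨P708, 0, [.a3], [.a3]⟩,
  ⟨P664, 2, [], []⟩,
  ⟨P666, 0, [.a1], [.a1, .a2]⟩,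
  ⟨P709, 1, [], []⟩,
  ⟨P709, 0, [.a3], [.a3]⟩]
def N1108 : List Ent := [⟨4, [.a2, .a10], [.a2, .a3, .a5, .a8, .a10, .a11]⟩,
  ⟨8, [.a3, .a11], [.a3, .a8, .a11]⟩,
  ⟨16, [.a4], [.a4, .a5]⟩,
  ⟨32, [.a5], [.a5]⟩,
  ⟨64, [.a6], [.a6]⟩,
  ⟨128, [.a7, .a10], [.a7, .a8, .a9, .a10, .a11]⟩,
  ⟨256, [.a8], [.a8]⟩,
  ⟨512, [.a9, .a11], [.a9, .a11]⟩,
  ⟨2048, [.a11], [.a11]⟩]
theorem bad1108 (c : CtxF Goal γ) : Bad Goal γ [] P1108 :=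
  c.toCtx.bnd (B := B1108) (D := D1108) (I := [7, 0, 8, 1, 9, 2, 3]) (r := 3) (C := C1108) (N := N1108) (by decide +kernel) (by decide +kernel) (by decide +kernel) (by decide +kernel)
    (allB_cons (bad617 c) (allB_cons (bad708 c) (allB_cons (bad708 c) (allB_cons (bad664 c) (allB_cons (bad666 c) (allB_cons (bad709 c) (allB_cons (bad709 c) (allB_nil))))))))

def P1109 : List Ent := [⟨4, [.a2, .a10, .a11], [.a2, .a3, .a6, .a8, .a10]⟩,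
  ⟨8, [.a3, .a11], [.a3, .a8, .a11]⟩,
  ⟨32, [.a5], [.a5]⟩,
  ⟨64, [.a6], [.a6]⟩,
  ⟨128, [.a7, .a10], [.a7, .a8, .a9, .a10, .a11]⟩,
  ⟨256, [.a8], [.a8]⟩,
  ⟨512, [.a9, .a11], [.a9, .a11]⟩]
def B1109 : List Gv := [⟨[.a2, .a10, .a11], [.a2, .a3, .a6, .a8, .a10]⟩, ⟨[.a7, .a10], [.a7, .a8, .a9, .a10, .a11]⟩]
def D1109 : List Dv := [⟨[.a3, .a5, .a8, .a11], [0, 0], []⟩,
  ⟨[.a5, .a6, .a8, .a9, .a11], [0, 2, 1], [1, 2]⟩,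
  ⟨[.a8, .a9, .a11], [3, 3], []⟩,
  ⟨[.a6], [2, 4], [4, 2]⟩,
  ⟨[.a9, .a11], [1, 3, 3], []⟩,
  ⟨[.a8], [2], [0]⟩,
  ⟨[.a5], [4], [2, 0, 1]⟩,
  ⟨[.a3, .a11], [6], [0, 1]⟩]
theorem bad1109 (c : CtxF Goal γ) : Bad Goal γ [] P1109 :=
  c.toCtx.cent (B := B1109) (D := D1109) (I := [8, 0, 1, 4, 9, 2, 3]) (z := [.a3, .a4, .a11]) (by decide +kernel) (by decide +kernel)

def P1110 : List Ent := [⟨4, [.a2, .a4], [.a2, .a4, .a5]⟩,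
  ⟨8, [.a3], [.a3]⟩,
  ⟨32, [.a5], [.a5]⟩,
  ⟨64, [.a6], [.a6]⟩,
  ⟨256, [.a8], [.a8]⟩,
  ⟨1024, [.a10], [.a10, .a11]⟩,
  ⟨2048, [.a11], [.a11]⟩]
def B1110 : List Gv := [⟨[.a2, .a4], [.a2, .a4, .a5]⟩, ⟨[.a10], [.a10, .a11]⟩]
def D1110 : List Dv := [⟨[.a5], [0, 0], []⟩,
  ⟨[.a3, .a6, .a8], [2, 1], [1, 2]⟩,
  ⟨[.a11], [3, 3], []⟩,
  ⟨[.a6, .a8], [2, 1, 4], [4, 1]⟩,
  ⟨[.a8], [1, 2], [2, 1]⟩,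
  ⟨[.a6], [1], [0]⟩,
  ⟨[.a3], [4], [0, 1]⟩]
theorem bad1110 (c : CtxF Goal γ) : Bad Goal γ [] P1110 :=
  c.toCtx.cent (B := B1110) (D := D1110) (I := [7, 0, 6, 1, 2, 8, 4]) (z := [.a4]) (by decide +kernel) (by decide +kernel)

def P1111 : List Ent := [⟨4, [.a2, .a4, .a9], [.a2, .a4, .a8, .a9]⟩,
  ⟨8, [.a3], [.a3]⟩,
  ⟨32, [.a5], [.a5]⟩,
  ⟨64, [.a6], [.a6]⟩,
  ⟨256, [.a8], [.a8]⟩,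
  ⟨1024, [.a10], [.a10, .a11]⟩,
  ⟨2048, [.a11], [.a11]⟩]
def B1111 : List Gv := [⟨[.a2, .a4, .a9], [.a2, .a4, .a8, .a9]⟩, ⟨[.a3], [.a3]⟩, ⟨[.a10], [.a10, .a11]⟩]
def D1111 : List Dv := [⟨[.a8], [0, 0], []⟩,
  ⟨[.a6, .a8], [2, 3, 1], [1, 3]⟩,
  ⟨[.a5, .a6], [4, 3], [3, 4]⟩,
  ⟨[.a11], [5, 5], []⟩,
  ⟨[.a6], [2], [3]⟩,
  ⟨[.a5], [2], [0]⟩]
def C1111 : List Ch := [⟨P601, 0, [], []⟩,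
  ⟨P710, 1, [], []⟩,
  ⟨P710, 0, [.a9], [.a9]⟩,
  ⟨P711, 2, [], []⟩,
  ⟨P675, 0, [.a1, .a10], [.a1, .a2, .a4, .a5, .a7, .a9, .a10, .a11]⟩,
  ⟨P712, 1, [], []⟩,
  ⟨P712, 0, [.a9], [.a9]⟩]
def N1111 : List Ent := [⟨4, [.a2, .a4, .a9], [.a2, .a4, .a8, .a9]⟩,
  ⟨8, [.a3], [.a3]⟩,
  ⟨16, [.a4], [.a4, .a5]⟩,
  ⟨32, [.a5], [.a5]⟩,
  ⟨64, [.a6], [.a6]⟩,
  ⟨256, [.a8], [.a8]⟩,
  ⟨512, [.a9], [.a9]⟩,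
  ⟨1024, [.a10], [.a10, .a11]⟩,
  ⟨2048, [.a11], [.a11]⟩]
theorem bad1111 (c : CtxF Goal γ) : Bad Goal γ [] P1111 :=
  c.toCtx.bnd (B := B1111) (D := D1111) (I := [6, 7, 0, 1, 5, 8, 2]) (r := 3) (C := C1111) (N := N1111) (by decide +kernel) (by decide +kernel) (by decide +kernel) (by decide +kernel)
    (allB_cons (bad601 c) (allB_cons (bad710 c) (allB_cons (bad710 c) (allB_cons (bad711 c) (allB_cons (bad675 c) (allB_cons (bad712 c) (allB_cons (bad712 c) (allB_nil))))))))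

def P1112 : List Ent := [⟨4, [.a2, .a4], [.a2, .a4, .a5]⟩,
  ⟨8, [.a3], [.a3]⟩,
  ⟨32, [.a5], [.a5]⟩,
  ⟨64, [.a6], [.a6]⟩,
  ⟨256, [.a8], [.a8]⟩,
  ⟨512, [.a9], [.a9]⟩,
  ⟨2048, [.a11], [.a11]⟩]
def B1112 : List Gv := [⟨[.a2, .a4], [.a2, .a4, .a5]⟩, ⟨[.a3], [.a3]⟩, ⟨[.a9], [.a9]⟩, ⟨[.a11], [.a11]⟩]
def D1112 : List Dv := [⟨[.a5], [0, 0], []⟩,
  ⟨[.a8], [0, 3, 1], [1, 3]⟩,
  ⟨[.a6, .a8], [1, 5, 2], [2, 5]⟩,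
  ⟨[.a6], [0], [1]⟩]
def C1112 : List Ch := [⟨P604, 0, [], []⟩,
  ⟨P713, 1, [], []⟩,
  ⟨P713, 0, [.a10], [.a10, .a11]⟩,
  ⟨P714, 2, [], []⟩,
  ⟨P711, 0, [], []⟩,
  ⟨P715, 1, [], []⟩,
  ⟨P715, 0, [.a10], [.a10, .a11]⟩,
  ⟨P623, 3, [.a0], [.a0]⟩,
  ⟨P672, 0, [.a0], [.a0]⟩,
  ⟨P716, 1, [], []⟩,
  ⟨P716, 0, [.a10], [.a10, .a11]⟩,
  ⟨P714, 2, [.a1], [.a1, .a2]⟩,
  ⟨P711, 0, [.a1], [.a1, .a2]⟩,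
  ⟨P715, 1, [.a1, .a10], [.a1, .a2, .a4, .a5, .a7, .a9, .a10, .a11]⟩,
  ⟨P715, 0, [.a1], [.a1, .a2]⟩]
def N1112 : List Ent := [⟨2, [.a1], [.a1, .a2]⟩,
  ⟨4, [.a2, .a4], [.a2, .a4, .a5]⟩,
  ⟨8, [.a3], [.a3]⟩,
  ⟨16, [.a4], [.a4, .a5]⟩,
  ⟨32, [.a5], [.a5]⟩,
  ⟨64, [.a6], [.a6]⟩,
  ⟨128, [.a7], [.a7, .a8]⟩,
  ⟨256, [.a8], [.a8]⟩,
  ⟨512, [.a9], [.a9]⟩,
  ⟨1024, [.a10], [.a10, .a11]⟩,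
  ⟨2048, [.a11], [.a11]⟩]
theorem bad1112 (c : CtxF Goal γ) : Bad Goal γ [] P1112 :=
  c.toCtx.bnd (B := B1112) (D := D1112) (I := [4, 5, 3, 0, 2, 6, 7]) (r := 4) (C := C1112) (N := N1112) (by decide +kernel) (by decide +kernel) (by decide +kernel) (by decide +kernel)
    (allB_cons (bad604 c) (allB_cons (bad713 c) (allB_cons (bad713 c) (allB_cons (bad714 c) (allB_cons (bad711 c) (allB_cons (bad715 c) (allB_cons (bad715 c) (allB_cons (bad623 c) (allB_cons (bad672 c) (allB_cons (bad716 c) (allB_cons (bad716 c) (allB_cons (bad714 c) (allB_cons (bad711 c) (allB_cons (bad715 c) (allB_cons (bad715 c) (allB_nil))))))))))))))))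

def P1113 : List Ent := [⟨4, [.a2, .a4, .a7], [.a2, .a4, .a5, .a6, .a7, .a8]⟩,
  ⟨8, [.a3, .a9], [.a3, .a9]⟩,
  ⟨32, [.a5], [.a5]⟩,
  ⟨64, [.a6], [.a6]⟩,
  ⟨256, [.a8], [.a8]⟩,
  ⟨1024, [.a10], [.a10, .a11]⟩,
  ⟨2048, [.a11], [.a11]⟩]
def B1113 : List Gv := [⟨[.a2, .a4, .a7], [.a2, .a4, .a5, .a6, .a7, .a8]⟩, ⟨[.a5], [.a5]⟩, ⟨[.a10], [.a10, .a11]⟩]
def D1113 : List Dv := [⟨[.a6, .a8], [1, 0, 0], []⟩,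
  ⟨[.a3, .a5, .a6, .a9], [3, 1], [1, 3]⟩,
  ⟨[.a11], [4, 4], []⟩,
  ⟨[.a8], [2, 5], [5, 2]⟩,
  ⟨[.a6], [3], [0]⟩,
  ⟨[.a3, .a9], [3], [6, 0]⟩]
theorem bad1113 (c : CtxF Goal γ) : Bad Goal γ [] P1113 :=
  c.toCtx.cent (B := B1113) (D := D1113) (I := [6, 0, 7, 1, 2, 8, 3]) (z := [.a4, .a9, .a11]) (by decide +kernel) (by decide +kernel)

def P1114 : List Ent := [⟨4, [.a2, .a4, .a7, .a9], [.a2, .a4, .a6, .a7, .a9]⟩,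
  ⟨8, [.a3, .a9], [.a3, .a9]⟩,
  ⟨32, [.a5], [.a5]⟩,
  ⟨64, [.a6], [.a6]⟩,
  ⟨256, [.a8], [.a8]⟩,
  ⟨1024, [.a10], [.a10, .a11]⟩,
  ⟨2048, [.a11], [.a11]⟩]
def B1114 : List Gv := [⟨[.a2, .a4, .a7, .a9], [.a2, .a4, .a6, .a7, .a9]⟩, ⟨[.a10], [.a10, .a11]⟩]
def D1114 : List Dv := [⟨[.a6], [0, 0], []⟩,
  ⟨[.a3, .a5, .a6, .a9], [2, 1], [1, 2]⟩,
  ⟨[.a11], [3, 3], []⟩,
  ⟨[.a8], [2, 4], [4, 2]⟩,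
  ⟨[.a5, .a6, .a8], [2, 5], [5, 2]⟩,
  ⟨[.a5], [0], [4, 1]⟩,
  ⟨[.a3, .a9], [4], [0, 5]⟩]
def C1114 : List Ch := [⟨P602, 0, [], []⟩,
  ⟨P717, 1, [], []⟩,
  ⟨P664, 0, [.a1, .a10], [.a1, .a2, .a4, .a5, .a7, .a9, .a10, .a11]⟩]
def N1114 : List Ent := [⟨4, [.a2, .a4, .a7, .a9], [.a2, .a4, .a6, .a7, .a9]⟩,
  ⟨8, [.a3, .a9], [.a3, .a9]⟩,
  ⟨16, [.a4], [.a4, .a5]⟩,
  ⟨32, [.a5], [.a5]⟩,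
  ⟨64, [.a6], [.a6]⟩,
  ⟨256, [.a8], [.a8]⟩,
  ⟨512, [.a9], [.a9]⟩,
  ⟨1024, [.a10], [.a10, .a11]⟩,
  ⟨2048, [.a11], [.a11]⟩]
theorem bad1114 (c : CtxF Goal γ) : Bad Goal γ [] P1114 :=
  c.toCtx.bnd (B := B1114) (D := D1114) (I := [7, 0, 1, 6, 3, 8, 4]) (r := 2) (C := C1114) (N := N1114) (by decide +kernel) (by decide +kernel) (by decide +kernel) (by decide +kernel)
    (allB_cons (bad602 c) (allB_cons (bad717 c) (allB_cons (bad664 c) (allB_nil))))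

def P1115 : List Ent := [⟨4, [.a2, .a4, .a7], [.a2, .a4, .a5, .a6, .a7, .a8]⟩,
  ⟨8, [.a3], [.a3]⟩,
  ⟨32, [.a5], [.a5]⟩,
  ⟨64, [.a6], [.a6]⟩,
  ⟨256, [.a8], [.a8]⟩,
  ⟨512, [.a9], [.a9]⟩,
  ⟨2048, [.a11], [.a11]⟩]
def B1115 : List Gv := [⟨[.a2, .a4, .a7], [.a2, .a4, .a5, .a6, .a7, .a8]⟩, ⟨[.a3], [.a3]⟩, ⟨[.a9], [.a9]⟩, ⟨[.a11], [.a11]⟩]
def D1115 : List Dv := [⟨[.a5, .a6, .a8], [0, 0], []⟩,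
  ⟨[.a6, .a8], [0, 2, 1], [1, 2]⟩,
  ⟨[.a8], [0, 1, 4, 2], [2, 4]⟩,
  ⟨[.a6], [1], [0]⟩,
  ⟨[.a5], [3], [0, 1]⟩]
def C1115 : List Ch := [⟨P604, 0, [], []⟩,
  ⟨P718, 1, [], []⟩,
  ⟨P718, 0, [.a10], [.a10, .a11]⟩,
  ⟨P719, 2, [], []⟩,
  ⟨P719, 0, [.a10], [.a10, .a11]⟩,
  ⟨P718, 1, [.a0, .a1], [.a0, .a1, .a2]⟩,
  ⟨P717, 0, [], []⟩,
  ⟨P720, 3, [], []⟩,
  ⟨P604, 0, [.a0], [.a0]⟩,
  ⟨P717, 1, [.a0], [.a0]⟩,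
  ⟨P717, 0, [.a0, .a1, .a3, .a5, .a6, .a7, .a8, .a9, .a10], [.a0, .a10, .a11]⟩,
  ⟨P719, 2, [.a0], [.a0]⟩,
  ⟨P719, 0, [.a0, .a1, .a3, .a5, .a6, .a7, .a8, .a9, .a10], [.a0, .a10, .a11]⟩,
  ⟨P717, 1, [.a1], [.a1, .a2]⟩,
  ⟨P718, 0, [.a0], [.a0]⟩]
def N1115 : List Ent := [⟨1, [.a0], [.a0]⟩,
  ⟨2, [.a1], [.a1, .a2]⟩,
  ⟨4, [.a2, .a4, .a7], [.a2, .a4, .a5, .a6, .a7, .a8]⟩,
  ⟨8, [.a3], [.a3]⟩,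
  ⟨16, [.a4], [.a4, .a5]⟩,
  ⟨32, [.a5], [.a5]⟩,
  ⟨64, [.a6], [.a6]⟩,
  ⟨128, [.a7], [.a7, .a8]⟩,
  ⟨256, [.a8], [.a8]⟩,
  ⟨512, [.a9], [.a9]⟩,
  ⟨1024, [.a10], [.a10, .a11]⟩,
  ⟨2048, [.a11], [.a11]⟩]
theorem bad1115 (c : CtxF Goal γ) : Bad Goal γ [] P1115 :=
  c.toCtx.bnd (B := B1115) (D := D1115) (I := [5, 6, 0, 1, 2, 7, 8]) (r := 4) (C := C1115) (N := N1115) (by decide +kernel) (by decide +kernel) (by decide +kernel) (by decide +kernel)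
    (allB_cons (bad604 c) (allB_cons (bad718 c) (allB_cons (bad718 c) (allB_cons (bad719 c) (allB_cons (bad719 c) (allB_cons (bad718 c) (allB_cons (bad717 c) (allB_cons (bad720 c) (allB_cons (bad604 c) (allB_cons (bad717 c) (allB_cons (bad717 c) (allB_cons (bad719 c) (allB_cons (bad719 c) (allB_cons (bad717 c) (allB_cons (bad718 c) (allB_nil))))))))))))))))

def P1116 : List Ent := [⟨4, [.a2, .a4], [.a2, .a4, .a5]⟩,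
  ⟨32, [.a5], [.a5]⟩,
  ⟨64, [.a6], [.a6]⟩,
  ⟨128, [.a7], [.a7, .a8]⟩,
  ⟨256, [.a8], [.a8]⟩,
  ⟨512, [.a9], [.a9]⟩,
  ⟨2048, [.a11], [.a11]⟩]
def B1116 : List Gv := [⟨[.a2, .a4], [.a2, .a4, .a5]⟩, ⟨[.a7], [.a7, .a8]⟩, ⟨[.a9], [.a9]⟩, ⟨[.a11], [.a11]⟩]
def D1116 : List Dv := [⟨[.a5], [0, 0], []⟩,
  ⟨[.a6], [2, 1], [1, 2]⟩,
  ⟨[.a8], [3, 3], []⟩]
def C1116 : List Ch := [⟨P577, 0, [], []⟩,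
  ⟨P713, 1, [], []⟩,
  ⟨P718, 0, [], []⟩,
  ⟨P721, 2, [], []⟩,
  ⟨P722, 0, [], []⟩,
  ⟨P723, 1, [], []⟩,
  ⟨P724, 0, [], []⟩,
  ⟨P725, 3, [], []⟩,
  ⟨P671, 0, [.a0, .a1, .a3, .a5, .a6, .a7, .a8, .a9, .a10], [.a0, .a10, .a11]⟩,
  ⟨P621, 1, [.a0, .a1, .a3, .a5, .a6, .a7, .a8, .a9, .a10], [.a0, .a10, .a11]⟩,
  ⟨P726, 0, [], []⟩,
  ⟨P723, 2, [.a1, .a10], [.a1, .a2, .a4, .a5, .a7, .a9, .a10, .a11]⟩,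
  ⟨P724, 0, [.a1, .a10], [.a1, .a2, .a4, .a5, .a7, .a9, .a10, .a11]⟩,
  ⟨P721, 1, [.a1, .a10], [.a1, .a2, .a4, .a5, .a7, .a9, .a10, .a11]⟩,
  ⟨P722, 0, [.a1, .a10], [.a1, .a2, .a4, .a5, .a7, .a9, .a10, .a11]⟩]
def N1116 : List Ent := [⟨2, [.a1, .a10], [.a1, .a2, .a4, .a5, .a7, .a9, .a10, .a11]⟩,
  ⟨4, [.a2, .a4], [.a2, .a4, .a5]⟩,
  ⟨8, [.a3], [.a3]⟩,
  ⟨16, [.a4], [.a4, .a5]⟩,
  ⟨32, [.a5], [.a5]⟩,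
  ⟨64, [.a6], [.a6]⟩,
  ⟨128, [.a7], [.a7, .a8]⟩,
  ⟨256, [.a8], [.a8]⟩,
  ⟨512, [.a9], [.a9]⟩,
  ⟨2048, [.a11], [.a11]⟩]
theorem bad1116 (c : CtxF Goal γ) : Bad Goal γ [] P1116 :=
  c.toCtx.bnd (B := B1116) (D := D1116) (I := [3, 2, 1, 4, 0, 5, 6]) (r := 4) (C := C1116) (N := N1116) (by decide +kernel) (by decide +kernel) (by decide +kernel) (by decide +kernel)
    (allB_cons (bad577 c) (allB_cons (bad713 c) (allB_cons (bad718 c) (allB_cons (bad721 c) (allB_cons (bad722 c) (allB_cons (bad723 c) (allB_cons (bad724 c) (allB_cons (bad725 c) (allB_cons (bad671 c) (allB_cons (bad621 c) (allB_cons (bad726 c) (allB_cons (bad723 c) (allB_cons (bad724 c) (allB_cons (bad721 c) (allB_cons (bad722 c) (allB_nil))))))))))))))))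

def P1117 : List Ent := [⟨4, [.a2, .a4], [.a2, .a4, .a5]⟩,
  ⟨8, [.a3, .a7], [.a3, .a5, .a7, .a8]⟩,
  ⟨32, [.a5], [.a5]⟩,
  ⟨64, [.a6], [.a6]⟩,
  ⟨256, [.a8], [.a8]⟩,
  ⟨512, [.a9], [.a9]⟩,
  ⟨2048, [.a11], [.a11]⟩]
def B1117 : List Gv := [⟨[.a2, .a4], [.a2, .a4, .a5]⟩, ⟨[.a3, .a7], [.a3, .a5, .a7, .a8]⟩, ⟨[.a9], [.a9]⟩, ⟨[.a11], [.a11]⟩]
def D1117 : List Dv := [⟨[.a5], [0, 0], []⟩,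
  ⟨[.a6], [2, 1], [1, 2]⟩,
  ⟨[.a8], [1, 3, 3], []⟩]
def C1117 : List Ch := [⟨P606, 0, [], []⟩,
  ⟨P713, 1, [], []⟩,
  ⟨P718, 0, [.a10], [.a10, .a11]⟩,
  ⟨P727, 2, [], []⟩,
  ⟨P728, 0, [], []⟩,
  ⟨P729, 1, [], []⟩,
  ⟨P730, 0, [], []⟩,
  ⟨P731, 3, [], []⟩,
  ⟨P666, 0, [.a0], [.a0]⟩,
  ⟨P619, 1, [.a0], [.a0]⟩,
  ⟨P732, 0, [], []⟩,
  ⟨P729, 2, [.a1, .a10], [.a1, .a2, .a4, .a5, .a7, .a9, .a10, .a11]⟩,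
  ⟨P730, 0, [.a1, .a10], [.a1, .a2, .a4, .a5, .a7, .a9, .a10, .a11]⟩,
  ⟨P727, 1, [.a1, .a10], [.a1, .a2, .a4, .a5, .a7, .a9, .a10, .a11]⟩,
  ⟨P728, 0, [.a1, .a10], [.a1, .a2, .a4, .a5, .a7, .a9, .a10, .a11]⟩]
def N1117 : List Ent := [⟨2, [.a1, .a10], [.a1, .a2, .a4, .a5, .a7, .a9, .a10, .a11]⟩,
  ⟨4, [.a2, .a4], [.a2, .a4, .a5]⟩,
  ⟨8, [.a3, .a7], [.a3, .a5, .a7, .a8]⟩,
  ⟨16, [.a4], [.a4, .a5]⟩,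
  ⟨32, [.a5], [.a5]⟩,
  ⟨64, [.a6], [.a6]⟩,
  ⟨128, [.a7], [.a7, .a8]⟩,
  ⟨256, [.a8], [.a8]⟩,
  ⟨512, [.a9], [.a9]⟩,
  ⟨2048, [.a11], [.a11]⟩]
theorem bad1117 (c : CtxF Goal γ) : Bad Goal γ [] P1117 :=
  c.toCtx.bnd (B := B1117) (D := D1117) (I := [3, 4, 2, 1, 0, 5, 6]) (r := 4) (C := C1117) (N := N1117) (by decide +kernel) (by decide +kernel) (by decide +kernel) (by decide +kernel)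
    (allB_cons (bad606 c) (allB_cons (bad713 c) (allB_cons (bad718 c) (allB_cons (bad727 c) (allB_cons (bad728 c) (allB_cons (bad729 c) (allB_cons (bad730 c) (allB_cons (bad731 c) (allB_cons (bad666 c) (allB_cons (bad619 c) (allB_cons (bad732 c) (allB_cons (bad729 c) (allB_cons (bad730 c) (allB_cons (bad727 c) (allB_cons (bad728 c) (allB_nil))))))))))))))))

def P1118 : List Ent := [⟨4, [.a2, .a4], [.a2, .a4, .a5]⟩,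
  ⟨8, [.a3], [.a3]⟩,
  ⟨32, [.a5], [.a5]⟩,
  ⟨64, [.a6], [.a6]⟩,
  ⟨128, [.a7], [.a7, .a8]⟩,
  ⟨256, [.a8], [.a8]⟩,
  ⟨2048, [.a11], [.a11]⟩]
def B1118 : List Gv := [⟨[.a2, .a4], [.a2, .a4, .a5]⟩, ⟨[.a3], [.a3]⟩, ⟨[.a7], [.a7, .a8]⟩, ⟨[.a11], [.a11]⟩]
def D1118 : List Dv := [⟨[.a5], [0, 0], []⟩,
  ⟨[.a6], [3, 1], [1, 3]⟩,
  ⟨[.a8], [4, 4], []⟩]
def C1118 : List Ch := [⟨P608, 0, [], []⟩,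
  ⟨P721, 1, [], []⟩,
  ⟨P723, 0, [.a10], [.a10, .a11]⟩,
  ⟨P714, 2, [], []⟩,
  ⟨P719, 0, [], []⟩,
  ⟨P727, 1, [], []⟩,
  ⟨P729, 0, [.a10], [.a10, .a11]⟩,
  ⟨P733, 3, [], []⟩,
  ⟨P670, 0, [.a0, .a1], [.a0, .a1, .a2]⟩,
  ⟨P734, 1, [], []⟩,
  ⟨P735, 0, [], []⟩,
  ⟨P618, 2, [.a0, .a1, .a3, .a5, .a6, .a7, .a8, .a9, .a10], [.a0, .a10, .a11]⟩,
  ⟨P736, 0, [], []⟩,
  ⟨P737, 1, [], []⟩,
  ⟨P738, 0, [], []⟩]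
def S1118 : List St := [.cent 1 1 0 [⟨32, [.a5], [.a5]⟩,
  ⟨64, [.a6], [.a6]⟩,
  ⟨256, [.a8], [.a8]⟩]]
theorem bad1118 (c : CtxF Goal γ) : Bad Goal γ [] P1118 :=
  c.toCtx.chn (B := B1118) (D := D1118) (I := [3, 4, 2, 1, 5, 0, 6]) (r := 4) (C := C1118) (l := S1118) (x := ⟨[.a9], [.a9]⟩) (ix := [0]) (by decide +kernel) (by decide +kernel) (by decide +kernel) (by decide +kernel)
    (allB_cons (bad608 c) (allB_cons (bad721 c) (allB_cons (bad723 c) (allB_cons (bad714 c) (allB_cons (bad719 c) (allB_cons (bad727 c) (allB_cons (bad729 c) (allB_cons (bad733 c) (allB_cons (bad670 c) (allB_cons (bad734 c) (allB_cons (bad735 c) (allB_cons (bad618 c) (allB_cons (bad736 c) (allB_cons (bad737 c) (allB_cons (bad738 c) (allB_nil))))))))))))))))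

def P1119 : List Ent := [⟨4, [.a2, .a4, .a9], [.a2, .a4, .a8, .a9]⟩,
  ⟨8, [.a3], [.a3]⟩,
  ⟨32, [.a5], [.a5]⟩,
  ⟨64, [.a6], [.a6]⟩,
  ⟨128, [.a7], [.a7, .a8]⟩,
  ⟨256, [.a8], [.a8]⟩,
  ⟨2048, [.a11], [.a11]⟩]
def B1119 : List Gv := [⟨[.a2, .a4, .a9], [.a2, .a4, .a8, .a9]⟩, ⟨[.a3], [.a3]⟩, ⟨[.a7], [.a7, .a8]⟩, ⟨[.a11], [.a11]⟩]
def D1119 : List Dv := [⟨[.a8], [0, 0], []⟩,
  ⟨[.a6], [3, 1], [1, 3]⟩,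
  ⟨[.a5], [4, 3], [3, 4]⟩]
def C1119 : List Ch := [⟨P608, 0, [], []⟩,
  ⟨P722, 1, [], []⟩,
  ⟨P724, 0, [.a10], [.a10, .a11]⟩,
  ⟨P711, 2, [], []⟩,
  ⟨P719, 0, [.a10], [.a10, .a11]⟩,
  ⟨P728, 1, [], []⟩,
  ⟨P730, 0, [.a10], [.a10, .a11]⟩,
  ⟨P739, 3, [], []⟩,
  ⟨P670, 0, [.a0], [.a0]⟩,
  ⟨P740, 1, [], []⟩,
  ⟨P741, 0, [], []⟩,
  ⟨P620, 2, [.a0], [.a0]⟩,
  ⟨P736, 0, [.a1, .a10], [.a1, .a2, .a4, .a5, .a7, .a9, .a10, .a11]⟩,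
  ⟨P742, 1, [], []⟩,
  ⟨P743, 0, [], []⟩]
def S1119 : List St := [.cent 1 1 0 [⟨32, [.a5], [.a5]⟩,
  ⟨64, [.a6], [.a6]⟩,
  ⟨256, [.a8], [.a8]⟩]]
theorem bad1119 (c : CtxF Goal γ) : Bad Goal γ [] P1119 :=
  c.toCtx.chn (B := B1119) (D := D1119) (I := [3, 4, 0, 1, 5, 2, 6]) (r := 4) (C := C1119) (l := S1119) (x := ⟨[.a9], [.a9]⟩) (ix := [0]) (by decide +kernel) (by decide +kernel) (by decide +kernel) (by decide +kernel)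
    (allB_cons (bad608 c) (allB_cons (bad722 c) (allB_cons (bad724 c) (allB_cons (bad711 c) (allB_cons (bad719 c) (allB_cons (bad728 c) (allB_cons (bad730 c) (allB_cons (bad739 c) (allB_cons (bad670 c) (allB_cons (bad740 c) (allB_cons (bad741 c) (allB_cons (bad620 c) (allB_cons (bad736 c) (allB_cons (bad742 c) (allB_cons (bad743 c) (allB_nil))))))))))))))))

def P1120 : List Ent := [⟨4, [.a2, .a4], [.a2, .a4, .a5]⟩,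
  ⟨8, [.a3, .a9], [.a3, .a9]⟩,
  ⟨32, [.a5], [.a5]⟩,
  ⟨64, [.a6], [.a6]⟩,
  ⟨128, [.a7], [.a7, .a8]⟩,
  ⟨256, [.a8], [.a8]⟩,
  ⟨2048, [.a11], [.a11]⟩]
def B1120 : List Gv := [⟨[.a2, .a4], [.a2, .a4, .a5]⟩, ⟨[.a3, .a9], [.a3, .a9]⟩, ⟨[.a7], [.a7, .a8]⟩, ⟨[.a11], [.a11]⟩]
def D1120 : List Dv := [⟨[.a5], [0, 0], []⟩,
  ⟨[.a8], [0, 2, 1], [1, 2]⟩,
  ⟨[.a6], [4, 2], [2, 4]⟩]
def C1120 : List Ch := [⟨P609, 0, [], []⟩,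
  ⟨P721, 1, [], []⟩,
  ⟨P724, 0, [.a10], [.a10, .a11]⟩,
  ⟨P715, 2, [], []⟩,
  ⟨P718, 0, [.a0, .a1], [.a0, .a1, .a2]⟩,
  ⟨P729, 1, [], []⟩,
  ⟨P728, 0, [.a10], [.a10, .a11]⟩,
  ⟨P744, 3, [], []⟩,
  ⟨P669, 0, [.a0, .a1, .a3, .a5, .a6, .a7, .a8, .a9, .a10], [.a0, .a10, .a11]⟩,
  ⟨P735, 1, [.a1], [.a1, .a2]⟩,
  ⟨P740, 0, [.a1], [.a1, .a2]⟩,
  ⟨P584, 2, [.a0], [.a0]⟩,
  ⟨P745, 0, [], []⟩,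
  ⟨P737, 1, [.a1, .a10], [.a1, .a2, .a4, .a5, .a7, .a9, .a10, .a11]⟩,
  ⟨P743, 0, [.a1, .a10], [.a1, .a2, .a4, .a5, .a7, .a9, .a10, .a11]⟩]
def S1120 : List St := [.cent 1 1 0 [⟨32, [.a5], [.a5]⟩,
  ⟨64, [.a6], [.a6]⟩,
  ⟨256, [.a8], [.a8]⟩]]
theorem bad1120 (c : CtxF Goal γ) : Bad Goal γ [] P1120 :=
  c.toCtx.chn (B := B1120) (D := D1120) (I := [3, 4, 2, 0, 5, 1, 6]) (r := 4) (C := C1120) (l := S1120) (x := ⟨[.a9], [.a9]⟩) (ix := [0]) (by decide +kernel) (by decide +kernel) (by decide +kernel) (by decide +kernel)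
    (allB_cons (bad609 c) (allB_cons (bad721 c) (allB_cons (bad724 c) (allB_cons (bad715 c) (allB_cons (bad718 c) (allB_cons (bad729 c) (allB_cons (bad728 c) (allB_cons (bad744 c) (allB_cons (bad669 c) (allB_cons (bad735 c) (allB_cons (bad740 c) (allB_cons (bad584 c) (allB_cons (bad745 c) (allB_cons (bad737 c) (allB_cons (bad743 c) (allB_nil))))))))))))))))

def P1121 : List Ent := [⟨4, [.a2, .a4, .a9], [.a2, .a4, .a8, .a9]⟩,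
  ⟨8, [.a3, .a9], [.a3, .a9]⟩,
  ⟨32, [.a5], [.a5]⟩,
  ⟨64, [.a6], [.a6]⟩,
  ⟨128, [.a7], [.a7, .a8]⟩,
  ⟨256, [.a8], [.a8]⟩,
  ⟨2048, [.a11], [.a11]⟩]
def B1121 : List Gv := [⟨[.a2, .a4, .a9], [.a2, .a4, .a8, .a9]⟩, ⟨[.a3, .a9], [.a3, .a9]⟩, ⟨[.a7], [.a7, .a8]⟩, ⟨[.a11], [.a11]⟩]
def D1121 : List Dv := [⟨[.a8], [0, 0], []⟩,
  ⟨[.a5, .a8], [2, 1], [1, 2]⟩,
  ⟨[.a6], [4, 2], [2, 4]⟩,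
  ⟨[.a5], [1], [2]⟩]
def C1121 : List Ch := [⟨P609, 0, [], []⟩,
  ⟨P722, 1, [], []⟩,
  ⟨P723, 0, [.a10], [.a10, .a11]⟩,
  ⟨P715, 2, [.a10], [.a10, .a11]⟩,
  ⟨P717, 0, [], []⟩,
  ⟨P730, 1, [], []⟩,
  ⟨P727, 0, [.a10], [.a10, .a11]⟩,
  ⟨P744, 3, [.a1], [.a1, .a2]⟩,
  ⟨P673, 0, [.a0, .a1, .a3, .a5, .a6, .a7, .a8, .a9, .a10], [.a0, .a10, .a11]⟩,
  ⟨P741, 1, [.a1], [.a1, .a2]⟩,
  ⟨P734, 0, [.a1], [.a1, .a2]⟩,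
  ⟨P624, 2, [.a0, .a1, .a3, .a5, .a6, .a7, .a8, .a9, .a10], [.a0, .a10, .a11]⟩,
  ⟨P745, 0, [.a1, .a10], [.a1, .a2, .a4, .a5, .a7, .a9, .a10, .a11]⟩,
  ⟨P742, 1, [.a1, .a10], [.a1, .a2, .a4, .a5, .a7, .a9, .a10, .a11]⟩,
  ⟨P738, 0, [.a1, .a10], [.a1, .a2, .a4, .a5, .a7, .a9, .a10, .a11]⟩]
def S1121 : List St := [.cent 1 1 0 [⟨32, [.a5], [.a5]⟩,
  ⟨64, [.a6], [.a6]⟩,
  ⟨256, [.a8], [.a8]⟩]]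
theorem bad1121 (c : CtxF Goal γ) : Bad Goal γ [] P1121 :=
  c.toCtx.chn (B := B1121) (D := D1121) (I := [4, 5, 0, 1, 6, 3, 7]) (r := 4) (C := C1121) (l := S1121) (x := ⟨[.a9], [.a9]⟩) (ix := [0]) (by decide +kernel) (by decide +kernel) (by decide +kernel) (by decide +kernel)
    (allB_cons (bad609 c) (allB_cons (bad722 c) (allB_cons (bad723 c) (allB_cons (bad715 c) (allB_cons (bad717 c) (allB_cons (bad730 c) (allB_cons (bad727 c) (allB_cons (bad744 c) (allB_cons (bad673 c) (allB_cons (bad741 c) (allB_cons (bad734 c) (allB_cons (bad624 c) (allB_cons (bad745 c) (allB_cons (bad742 c) (allB_cons (bad738 c) (allB_nil))))))))))))))))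

def P1122 : List Ent := [⟨4, [.a2, .a4], [.a2, .a4, .a5]⟩,
  ⟨8, [.a3], [.a3]⟩,
  ⟨32, [.a5], [.a5]⟩,
  ⟨64, [.a6], [.a6]⟩,
  ⟨128, [.a7], [.a7, .a8]⟩,
  ⟨256, [.a8], [.a8]⟩,
  ⟨512, [.a9], [.a9]⟩]
def B1122 : List Gv := [⟨[.a2, .a4], [.a2, .a4, .a5]⟩, ⟨[.a3], [.a3]⟩, ⟨[.a7], [.a7, .a8]⟩, ⟨[.a9], [.a9]⟩]
def D1122 : List Dv := [⟨[.a5], [0, 0], []⟩,
  ⟨[.a6], [3, 1], [1, 3]⟩,
  ⟨[.a8], [4, 4], []⟩]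
def C1122 : List Ch := [⟨P610, 0, [], []⟩,
  ⟨P725, 1, [], []⟩,
  ⟨P725, 0, [.a10], [.a10, .a11]⟩,
  ⟨P623, 2, [.a0], [.a0]⟩,
  ⟨P720, 0, [], []⟩,
  ⟨P731, 1, [], []⟩,
  ⟨P731, 0, [.a10], [.a10, .a11]⟩,
  ⟨P733, 3, [], []⟩,
  ⟨P739, 0, [], []⟩,
  ⟨P744, 1, [], []⟩,
  ⟨P744, 0, [.a1], [.a1, .a2]⟩,
  ⟨P733, 2, [.a10], [.a10, .a11]⟩,
  ⟨P739, 0, [.a10], [.a10, .a11]⟩,
  ⟨P744, 1, [.a1, .a10], [.a1, .a2, .a4, .a5, .a7, .a9, .a10, .a11]⟩,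
  ⟨P744, 0, [.a10], [.a10, .a11]⟩]
def N1122 : List Ent := [⟨2, [.a1], [.a1, .a2]⟩,
  ⟨4, [.a2, .a4], [.a2, .a4, .a5]⟩,
  ⟨8, [.a3], [.a3]⟩,
  ⟨16, [.a4], [.a4, .a5]⟩,
  ⟨32, [.a5], [.a5]⟩,
  ⟨64, [.a6], [.a6]⟩,
  ⟨128, [.a7], [.a7, .a8]⟩,
  ⟨256, [.a8], [.a8]⟩,
  ⟨512, [.a9], [.a9]⟩,
  ⟨1024, [.a10], [.a10, .a11]⟩,
  ⟨2048, [.a11], [.a11]⟩]
theorem bad1122 (c : CtxF Goal γ) : Bad Goal γ [] P1122 :=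
  c.toCtx.bnd (B := B1122) (D := D1122) (I := [3, 4, 2, 1, 5, 0, 6]) (r := 4) (C := C1122) (N := N1122) (by decide +kernel) (by decide +kernel) (by decide +kernel) (by decide +kernel)
    (allB_cons (bad610 c) (allB_cons (bad725 c) (allB_cons (bad725 c) (allB_cons (bad623 c) (allB_cons (bad720 c) (allB_cons (bad731 c) (allB_cons (bad731 c) (allB_cons (bad733 c) (allB_cons (bad739 c) (allB_cons (bad744 c) (allB_cons (bad744 c) (allB_cons (bad733 c) (allB_cons (bad739 c) (allB_cons (bad744 c) (allB_cons (bad744 c) (allB_nil))))))))))))))))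

def P1123 : List Ent := [⟨4, [.a2, .a4], [.a2, .a4, .a5]⟩,
  ⟨8, [.a3, .a11], [.a3, .a8, .a11]⟩,
  ⟨32, [.a5], [.a5]⟩,
  ⟨64, [.a6], [.a6]⟩,
  ⟨128, [.a7], [.a7, .a8]⟩,
  ⟨256, [.a8], [.a8]⟩,
  ⟨512, [.a9], [.a9]⟩]
def B1123 : List Gv := [⟨[.a2, .a4], [.a2, .a4, .a5]⟩, ⟨[.a3, .a11], [.a3, .a8, .a11]⟩, ⟨[.a7], [.a7, .a8]⟩, ⟨[.a9], [.a9]⟩]
def D1123 : List Dv := [⟨[.a5], [0, 0], []⟩,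
  ⟨[.a6, .a8], [0, 2, 1], [1, 2]⟩,
  ⟨[.a8], [3, 3], []⟩,
  ⟨[.a6], [1], [0]⟩]
def C1123 : List Ch := [⟨P611, 0, [], []⟩,
  ⟨P725, 1, [], []⟩,
  ⟨P671, 0, [.a0], [.a0]⟩,
  ⟨P716, 2, [], []⟩,
  ⟨P717, 0, [.a0], [.a0]⟩,
  ⟨P619, 1, [.a0], [.a0]⟩,
  ⟨P732, 0, [.a10], [.a10, .a11]⟩,
  ⟨P734, 3, [], []⟩,
  ⟨P740, 0, [], []⟩,
  ⟨P735, 1, [.a1], [.a1, .a2]⟩,
  ⟨P741, 0, [.a1], [.a1, .a2]⟩,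
  ⟨P735, 2, [.a10], [.a10, .a11]⟩,
  ⟨P741, 0, [.a10], [.a10, .a11]⟩,
  ⟨P734, 1, [.a1, .a10], [.a1, .a2, .a4, .a5, .a7, .a9, .a10, .a11]⟩,
  ⟨P740, 0, [.a1, .a10], [.a1, .a2, .a4, .a5, .a7, .a9, .a10, .a11]⟩]
def N1123 : List Ent := [⟨2, [.a1, .a10], [.a1, .a2, .a4, .a5, .a7, .a9, .a10, .a11]⟩,
  ⟨4, [.a2, .a4], [.a2, .a4, .a5]⟩,
  ⟨8, [.a3, .a11], [.a3, .a8, .a11]⟩,
  ⟨16, [.a4], [.a4, .a5]⟩,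
  ⟨32, [.a5], [.a5]⟩,
  ⟨64, [.a6], [.a6]⟩,
  ⟨128, [.a7], [.a7, .a8]⟩,
  ⟨256, [.a8], [.a8]⟩,
  ⟨512, [.a9], [.a9]⟩,
  ⟨2048, [.a11], [.a11]⟩]
theorem bad1123 (c : CtxF Goal γ) : Bad Goal γ [] P1123 :=
  c.toCtx.bnd (B := B1123) (D := D1123) (I := [4, 5, 3, 0, 6, 1, 7]) (r := 4) (C := C1123) (N := N1123) (by decide +kernel) (by decide +kernel) (by decide +kernel) (by decide +kernel)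
    (allB_cons (bad611 c) (allB_cons (bad725 c) (allB_cons (bad671 c) (allB_cons (bad716 c) (allB_cons (bad717 c) (allB_cons (bad619 c) (allB_cons (bad732 c) (allB_cons (bad734 c) (allB_cons (bad740 c) (allB_cons (bad735 c) (allB_cons (bad741 c) (allB_cons (bad735 c) (allB_cons (bad741 c) (allB_cons (bad734 c) (allB_cons (bad740 c) (allB_nil))))))))))))))))

def P1124 : List Ent := [⟨4, [.a2, .a4, .a11], [.a2, .a4, .a6, .a8, .a11]⟩,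
  ⟨8, [.a3], [.a3]⟩,
  ⟨32, [.a5], [.a5]⟩,
  ⟨64, [.a6], [.a6]⟩,
  ⟨128, [.a7, .a11], [.a7, .a8, .a11]⟩,
  ⟨256, [.a8], [.a8]⟩,
  ⟨512, [.a9], [.a9]⟩]
def B1124 : List Gv := [⟨[.a2, .a4, .a11], [.a2, .a4, .a6, .a8, .a11]⟩, ⟨[.a3], [.a3]⟩, ⟨[.a7, .a11], [.a7, .a8, .a11]⟩, ⟨[.a9], [.a9]⟩]
def D1124 : List Dv := [⟨[.a6, .a8], [0, 0], []⟩,
  ⟨[.a8], [2, 1], [1, 2]⟩,
  ⟨[.a5, .a8], [4, 2], [2, 4]⟩,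
  ⟨[.a6], [2], [1]⟩,
  ⟨[.a5], [1], [2]⟩]
def C1124 : List Ch := [⟨P612, 0, [], []⟩,
  ⟨P726, 1, [], []⟩,
  ⟨P726, 0, [.a10], [.a10, .a11]⟩,
  ⟨P672, 2, [.a0], [.a0]⟩,
  ⟨P720, 0, [], []⟩,
  ⟨P732, 1, [], []⟩,
  ⟨P732, 0, [.a10], [.a10, .a11]⟩,
  ⟨P736, 3, [], []⟩,
  ⟨P736, 0, [.a1, .a10], [.a1, .a2, .a4, .a5, .a7, .a9, .a10, .a11]⟩,
  ⟨P745, 1, [], []⟩,
  ⟨P745, 0, [.a1, .a10], [.a1, .a2, .a4, .a5, .a7, .a9, .a10, .a11]⟩,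
  ⟨P736, 2, [.a10], [.a10, .a11]⟩,
  ⟨P736, 0, [.a1], [.a1, .a2]⟩,
  ⟨P745, 1, [.a1], [.a1, .a2]⟩,
  ⟨P745, 0, [.a10], [.a10, .a11]⟩]
def N1124 : List Ent := [⟨2, [.a1], [.a1, .a2]⟩,
  ⟨4, [.a2, .a4, .a11], [.a2, .a4, .a6, .a8, .a11]⟩,
  ⟨8, [.a3], [.a3]⟩,
  ⟨16, [.a4], [.a4, .a5]⟩,
  ⟨32, [.a5], [.a5]⟩,
  ⟨64, [.a6], [.a6]⟩,
  ⟨128, [.a7, .a11], [.a7, .a8, .a11]⟩,
  ⟨256, [.a8], [.a8]⟩,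
  ⟨512, [.a9], [.a9]⟩,
  ⟨1024, [.a10], [.a10, .a11]⟩,
  ⟨2048, [.a11], [.a11]⟩]
theorem bad1124 (c : CtxF Goal γ) : Bad Goal γ [] P1124 :=
  c.toCtx.bnd (B := B1124) (D := D1124) (I := [5, 6, 0, 1, 7, 3, 8]) (r := 4) (C := C1124) (N := N1124) (by decide +kernel) (by decide +kernel) (by decide +kernel) (by decide +kernel)
    (allB_cons (bad612 c) (allB_cons (bad726 c) (allB_cons (bad726 c) (allB_cons (bad672 c) (allB_cons (bad720 c) (allB_cons (bad732 c) (allB_cons (bad732 c) (allB_cons (bad736 c) (allB_cons (bad736 c) (allB_cons (bad745 c) (allB_cons (bad745 c) (allB_cons (bad736 c) (allB_cons (bad736 c) (allB_cons (bad745 c) (allB_cons (bad745 c) (allB_nil))))))))))))))))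

def P1125 : List Ent := [⟨4, [.a2, .a4], [.a2, .a4, .a5]⟩,
  ⟨8, [.a3, .a11], [.a3, .a8, .a11]⟩,
  ⟨32, [.a5], [.a5]⟩,
  ⟨64, [.a6], [.a6]⟩,
  ⟨128, [.a7, .a11], [.a7, .a8, .a11]⟩,
  ⟨256, [.a8], [.a8]⟩,
  ⟨512, [.a9], [.a9]⟩]
def B1125 : List Gv := [⟨[.a2, .a4], [.a2, .a4, .a5]⟩, ⟨[.a3, .a11], [.a3, .a8, .a11]⟩, ⟨[.a7, .a11], [.a7, .a8, .a11]⟩, ⟨[.a9], [.a9]⟩]
def D1125 : List Dv := [⟨[.a5], [0, 0], []⟩,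
  ⟨[.a6, .a8], [0, 2, 1], [1, 2]⟩,
  ⟨[.a8], [3, 3], []⟩,
  ⟨[.a6], [1], [0]⟩]
def C1125 : List Ch := [⟨P613, 0, [], []⟩,
  ⟨P621, 1, [.a0, .a1, .a3, .a5, .a6, .a7, .a8, .a9, .a10], [.a0, .a10, .a11]⟩,
  ⟨P726, 0, [.a10], [.a10, .a11]⟩,
  ⟨P716, 2, [], []⟩,
  ⟨P717, 0, [.a0, .a1, .a3, .a5, .a6, .a7, .a8, .a9, .a10], [.a0, .a10, .a11]⟩,
  ⟨P731, 1, [], []⟩,
  ⟨P666, 0, [.a0, .a1, .a3, .a5, .a6, .a7, .a8, .a9, .a10], [.a0, .a10, .a11]⟩,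
  ⟨P737, 3, [], []⟩,
  ⟨P742, 0, [], []⟩,
  ⟨P737, 1, [.a1, .a10], [.a1, .a2, .a4, .a5, .a7, .a9, .a10, .a11]⟩,
  ⟨P742, 0, [.a1, .a10], [.a1, .a2, .a4, .a5, .a7, .a9, .a10, .a11]⟩,
  ⟨P738, 2, [.a10], [.a10, .a11]⟩,
  ⟨P743, 0, [.a10], [.a10, .a11]⟩,
  ⟨P738, 1, [.a1], [.a1, .a2]⟩,
  ⟨P743, 0, [.a1], [.a1, .a2]⟩]
def N1125 : List Ent := [⟨2, [.a1, .a10], [.a1, .a2, .a4, .a5, .a7, .a9, .a10, .a11]⟩,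
  ⟨4, [.a2, .a4], [.a2, .a4, .a5]⟩,
  ⟨8, [.a3, .a11], [.a3, .a8, .a11]⟩,
  ⟨16, [.a4], [.a4, .a5]⟩,
  ⟨32, [.a5], [.a5]⟩,
  ⟨64, [.a6], [.a6]⟩,
  ⟨128, [.a7, .a11], [.a7, .a8, .a11]⟩,
  ⟨256, [.a8], [.a8]⟩,
  ⟨512, [.a9], [.a9]⟩,
  ⟨2048, [.a11], [.a11]⟩]
theorem bad1125 (c : CtxF Goal γ) : Bad Goal γ [] P1125 :=
  c.toCtx.bnd (B := B1125) (D := D1125) (I := [4, 5, 3, 0, 6, 1, 7]) (r := 4) (C := C1125) (N := N1125) (by decide +kernel) (by decide +kernel) (by decide +kernel) (by decide +kernel)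
    (allB_cons (bad613 c) (allB_cons (bad621 c) (allB_cons (bad726 c) (allB_cons (bad716 c) (allB_cons (bad717 c) (allB_cons (bad731 c) (allB_cons (bad666 c) (allB_cons (bad737 c) (allB_cons (bad742 c) (allB_cons (bad737 c) (allB_cons (bad742 c) (allB_cons (bad738 c) (allB_cons (bad743 c) (allB_cons (bad738 c) (allB_cons (bad743 c) (allB_nil))))))))))))))))

def P1126 : List Ent := [⟨4, [.a2, .a4], [.a2, .a4, .a5]⟩,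
  ⟨8, [.a3], [.a3]⟩,
  ⟨32, [.a5], [.a5]⟩,
  ⟨64, [.a6], [.a6]⟩,
  ⟨128, [.a7, .a10], [.a7, .a8, .a9, .a10, .a11]⟩,
  ⟨256, [.a8], [.a8]⟩,
  ⟨512, [.a9, .a11], [.a9, .a11]⟩]
def B1126 : List Gv := [⟨[.a2, .a4], [.a2, .a4, .a5]⟩, ⟨[.a7, .a10], [.a7, .a8, .a9, .a10, .a11]⟩]
def D1126 : List Dv := [⟨[.a5], [0, 0], []⟩,
  ⟨[.a3, .a5, .a8], [2, 1], [1, 2]⟩,
  ⟨[.a8, .a9, .a11], [3, 3], []⟩,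
  ⟨[.a6], [1, 4], [4, 1]⟩,
  ⟨[.a9, .a11], [1, 1, 2], [2, 1]⟩,
  ⟨[.a8], [2], [0]⟩,
  ⟨[.a3], [4], [5, 0]⟩]
theorem bad1126 (c : CtxF Goal γ) : Bad Goal γ [] P1126 :=
  c.toCtx.cent (B := B1126) (D := D1126) (I := [7, 0, 6, 3, 8, 1, 2]) (z := [.a3, .a4]) (by decide +kernel) (by decide +kernel)

def P1127 : List Ent := [⟨4, [.a2, .a4, .a11], [.a2, .a4, .a6, .a8, .a11]⟩,
  ⟨8, [.a3], [.a3]⟩,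
  ⟨32, [.a5], [.a5]⟩,
  ⟨64, [.a6], [.a6]⟩,
  ⟨128, [.a7, .a10], [.a7, .a8, .a9, .a10, .a11]⟩,
  ⟨256, [.a8], [.a8]⟩,
  ⟨512, [.a9, .a11], [.a9, .a11]⟩]
def B1127 : List Gv := [⟨[.a2, .a4, .a11], [.a2, .a4, .a6, .a8, .a11]⟩, ⟨[.a3], [.a3]⟩, ⟨[.a7, .a10], [.a7, .a8, .a9, .a10, .a11]⟩]
def D1127 : List Dv := [⟨[.a6, .a8], [0, 0], []⟩,
  ⟨[.a8], [2, 1], [1, 2]⟩,
  ⟨[.a5, .a8], [3, 4, 2], [2, 4]⟩,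
  ⟨[.a9, .a11], [1, 5, 5], []⟩,
  ⟨[.a6], [3], [2]⟩,
  ⟨[.a5], [2], [3]⟩]
def C1127 : List Ch := [⟨P616, 0, [], []⟩,
  ⟨P746, 1, [], []⟩,
  ⟨P746, 0, [.a9], [.a9]⟩,
  ⟨P711, 2, [.a1], [.a1, .a2]⟩,
  ⟨P657, 0, [.a1], [.a1, .a2]⟩,
  ⟨P747, 1, [], []⟩,
  ⟨P747, 0, [.a9], [.a9]⟩]
def N1127 : List Ent := [⟨4, [.a2, .a4, .a11], [.a2, .a4, .a6, .a8, .a11]⟩,
  ⟨8, [.a3], [.a3]⟩,
  ⟨16, [.a4], [.a4, .a5]⟩,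
  ⟨32, [.a5], [.a5]⟩,
  ⟨64, [.a6], [.a6]⟩,
  ⟨128, [.a7, .a10], [.a7, .a8, .a9, .a10, .a11]⟩,
  ⟨256, [.a8], [.a8]⟩,
  ⟨512, [.a9, .a11], [.a9, .a11]⟩,
  ⟨2048, [.a11], [.a11]⟩]
theorem bad1127 (c : CtxF Goal γ) : Bad Goal γ [] P1127 :=
  c.toCtx.bnd (B := B1127) (D := D1127) (I := [6, 7, 0, 1, 8, 4, 2]) (r := 3) (C := C1127) (N := N1127) (by decide +kernel) (by decide +kernel) (by decide +kernel) (by decide +kernel)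
    (allB_cons (bad616 c) (allB_cons (bad746 c) (allB_cons (bad746 c) (allB_cons (bad711 c) (allB_cons (bad657 c) (allB_cons (bad747 c) (allB_cons (bad747 c) (allB_nil))))))))

def P1128 : List Ent := [⟨4, [.a2, .a4, .a10], [.a2, .a3, .a4, .a8, .a10, .a11]⟩,
  ⟨8, [.a3, .a11], [.a3, .a8, .a11]⟩,
  ⟨32, [.a5], [.a5]⟩,
  ⟨64, [.a6], [.a6]⟩,
  ⟨128, [.a7, .a10], [.a7, .a8, .a9, .a10, .a11]⟩,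
  ⟨256, [.a8], [.a8]⟩,
  ⟨512, [.a9, .a11], [.a9, .a11]⟩]
def B1128 : List Gv := [⟨[.a2, .a4, .a10], [.a2, .a3, .a4, .a8, .a10, .a11]⟩, ⟨[.a7, .a10], [.a7, .a8, .a9, .a10, .a11]⟩]
def D1128 : List Dv := [⟨[.a3, .a5, .a6, .a8, .a11], [0, 0], []⟩,
  ⟨[.a5, .a6, .a9, .a11], [0, 2, 1], [1, 2]⟩,
  ⟨[.a8, .a9, .a11], [3, 3], []⟩,
  ⟨[.a6, .a8], [2, 4], [4, 2]⟩,
  ⟨[.a9, .a11], [1, 3, 3], []⟩,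
  ⟨[.a8], [2], [0]⟩,
  ⟨[.a6], [2], [0]⟩,
  ⟨[.a5], [5], [0, 2]⟩,
  ⟨[.a3, .a11], [7], [0, 1, 2]⟩]
def C1128 : List Ch := [⟨P617, 0, [], []⟩,
  ⟨P667, 1, [.a1], [.a1, .a2]⟩,
  ⟨P717, 0, [.a1], [.a1, .a2]⟩]
def N1128 : List Ent := [⟨4, [.a2, .a4, .a10], [.a2, .a3, .a4, .a8, .a10, .a11]⟩,
  ⟨8, [.a3, .a11], [.a3, .a8, .a11]⟩,
  ⟨16, [.a4], [.a4, .a5]⟩,
  ⟨32, [.a5], [.a5]⟩,
  ⟨64, [.a6], [.a6]⟩,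
  ⟨128, [.a7, .a10], [.a7, .a8, .a9, .a10, .a11]⟩,
  ⟨256, [.a8], [.a8]⟩,
  ⟨512, [.a9, .a11], [.a9, .a11]⟩,
  ⟨2048, [.a11], [.a11]⟩]
theorem bad1128 (c : CtxF Goal γ) : Bad Goal γ [] P1128 :=
  c.toCtx.bnd (B := B1128) (D := D1128) (I := [9, 0, 1, 2, 10, 3, 4]) (r := 2) (C := C1128) (N := N1128) (by decide +kernel) (by decide +kernel) (by decide +kernel) (by decide +kernel)
    (allB_cons (bad617 c) (allB_cons (bad667 c) (allB_cons (bad717 c) (allB_nil))))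

def P1129 : List Ent := [⟨4, [.a2, .a4, .a10, .a11], [.a2, .a3, .a4, .a5, .a6, .a8, .a10]⟩,
  ⟨8, [.a3, .a11], [.a3, .a8, .a11]⟩,
  ⟨32, [.a5], [.a5]⟩,
  ⟨64, [.a6], [.a6]⟩,
  ⟨128, [.a7, .a10], [.a7, .a8, .a9, .a10, .a11]⟩,
  ⟨256, [.a8], [.a8]⟩,
  ⟨512, [.a9, .a11], [.a9, .a11]⟩]
def B1129 : List Gv := [⟨[.a2, .a4, .a10, .a11], [.a2, .a3, .a4, .a5, .a6, .a8, .a10]⟩, ⟨[.a5], [.a5]⟩, ⟨[.a7, .a10], [.a7, .a8, .a9, .a10, .a11]⟩]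
def D1129 : List Dv := [⟨[.a3, .a8, .a11], [0, 0], []⟩,
  ⟨[.a9, .a11], [0, 3, 1], [1, 3]⟩,
  ⟨[.a8, .a9, .a11], [4, 4], []⟩,
  ⟨[.a6], [2, 5], [5, 2]⟩,
  ⟨[.a8], [1], [2]⟩,
  ⟨[.a3, .a11], [4], [0]⟩]
theorem bad1129 (c : CtxF Goal γ) : Bad Goal γ [] P1129 :=
  c.toCtx.cent (B := B1129) (D := D1129) (I := [6, 0, 7, 2, 8, 1, 4]) (z := [.a3, .a4, .a11]) (by decide +kernel) (by decide +kernel)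

def P1130 : List Ent := [⟨4, [.a2], [.a2]⟩,
  ⟨8, [.a3], [.a3]⟩,
  ⟨16, [.a4], [.a4, .a5]⟩,
  ⟨32, [.a5], [.a5]⟩,
  ⟨64, [.a6], [.a6]⟩,
  ⟨256, [.a8], [.a8]⟩,
  ⟨2048, [.a11], [.a11]⟩]
def B1130 : List Gv := [⟨[.a2], [.a2]⟩, ⟨[.a3], [.a3]⟩, ⟨[.a4], [.a4, .a5]⟩, ⟨[.a11], [.a11]⟩]
def D1130 : List Dv := [⟨[.a5], [2, 2], []⟩,
  ⟨[.a6, .a8], [0, 4, 1], [1, 4]⟩,
  ⟨[.a8], [5, 3], [3, 5]⟩,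
  ⟨[.a6], [1], [0]⟩]
def C1130 : List Ch := [⟨P618, 0, [], []⟩,
  ⟨P748, 1, [], []⟩,
  ⟨P748, 0, [.a10], [.a10, .a11]⟩,
  ⟨P659, 2, [], []⟩,
  ⟨P714, 0, [], []⟩,
  ⟨P749, 1, [], []⟩,
  ⟨P749, 0, [.a10], [.a10, .a11]⟩,
  ⟨P750, 3, [], []⟩,
  ⟨P751, 0, [], []⟩,
  ⟨P752, 1, [], []⟩,
  ⟨P752, 0, [.a10], [.a10, .a11]⟩,
  ⟨P694, 2, [.a0, .a1], [.a0, .a1, .a2]⟩,
  ⟨P642, 0, [.a0, .a1], [.a0, .a1, .a2]⟩,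
  ⟨P753, 1, [], []⟩,
  ⟨P753, 0, [.a10], [.a10, .a11]⟩]
def N1130 : List Ent := [⟨4, [.a2], [.a2]⟩,
  ⟨8, [.a3], [.a3]⟩,
  ⟨16, [.a4], [.a4, .a5]⟩,
  ⟨32, [.a5], [.a5]⟩,
  ⟨64, [.a6], [.a6]⟩,
  ⟨128, [.a7], [.a7, .a8]⟩,
  ⟨256, [.a8], [.a8]⟩,
  ⟨512, [.a9], [.a9]⟩,
  ⟨1024, [.a10], [.a10, .a11]⟩,
  ⟨2048, [.a11], [.a11]⟩]
theorem bad1130 (c : CtxF Goal γ) : Bad Goal γ [] P1130 :=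
  c.toCtx.bnd (B := B1130) (D := D1130) (I := [4, 5, 6, 3, 0, 1, 7]) (r := 4) (C := C1130) (N := N1130) (by decide +kernel) (by decide +kernel) (by decide +kernel) (by decide +kernel)
    (allB_cons (bad618 c) (allB_cons (bad748 c) (allB_cons (bad748 c) (allB_cons (bad659 c) (allB_cons (bad714 c) (allB_cons (bad749 c) (allB_cons (bad749 c) (allB_cons (bad750 c) (allB_cons (bad751 c) (allB_cons (bad752 c) (allB_cons (bad752 c) (allB_cons (bad694 c) (allB_cons (bad642 c) (allB_cons (bad753 c) (allB_cons (bad753 c) (allB_nil))))))))))))))))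

def P1131 : List Ent := [⟨4, [.a2, .a10], [.a2, .a3, .a5, .a8, .a10, .a11]⟩,
  ⟨8, [.a3], [.a3]⟩,
  ⟨16, [.a4], [.a4, .a5]⟩,
  ⟨32, [.a5], [.a5]⟩,
  ⟨64, [.a6], [.a6]⟩,
  ⟨256, [.a8], [.a8]⟩,
  ⟨2048, [.a11], [.a11]⟩]
def B1131 : List Gv := [⟨[.a2, .a10], [.a2, .a3, .a5, .a8, .a10, .a11]⟩, ⟨[.a3], [.a3]⟩, ⟨[.a4], [.a4, .a5]⟩]
def D1131 : List Dv := [⟨[.a6, .a8, .a11], [1, 0, 0], []⟩,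
  ⟨[.a5, .a6], [2, 1], [1, 2]⟩,
  ⟨[.a8, .a11], [1, 0, 4, 4], []⟩,
  ⟨[.a11], [0, 2, 4], [4, 2]⟩,
  ⟨[.a8], [1], [0]⟩,
  ⟨[.a6], [4], [0, 1]⟩,
  ⟨[.a5], [4], [0]⟩]
def C1131 : List Ch := [⟨P618, 0, [], []⟩,
  ⟨P754, 1, [], []⟩,
  ⟨P754, 0, [.a10], [.a10, .a11]⟩,
  ⟨P657, 2, [.a7], [.a7, .a8]⟩,
  ⟨P675, 0, [.a1], [.a1, .a2]⟩,
  ⟨P755, 1, [], []⟩,
  ⟨P755, 0, [.a10], [.a10, .a11]⟩]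
def N1131 : List Ent := [⟨4, [.a2, .a10], [.a2, .a3, .a5, .a8, .a10, .a11]⟩,
  ⟨8, [.a3], [.a3]⟩,
  ⟨16, [.a4], [.a4, .a5]⟩,
  ⟨32, [.a5], [.a5]⟩,
  ⟨64, [.a6], [.a6]⟩,
  ⟨256, [.a8], [.a8]⟩,
  ⟨512, [.a9], [.a9]⟩,
  ⟨1024, [.a10], [.a10, .a11]⟩,
  ⟨2048, [.a11], [.a11]⟩]
theorem bad1131 (c : CtxF Goal γ) : Bad Goal γ [] P1131 :=
  c.toCtx.bnd (B := B1131) (D := D1131) (I := [7, 8, 9, 0, 1, 2, 3]) (r := 3) (C := C1131) (N := N1131) (by decide +kernel) (by decide +kernel) (by decide +kernel) (by decide +kernel)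
    (allB_cons (bad618 c) (allB_cons (bad754 c) (allB_cons (bad754 c) (allB_cons (bad657 c) (allB_cons (bad675 c) (allB_cons (bad755 c) (allB_cons (bad755 c) (allB_nil))))))))

def P1132 : List Ent := [⟨4, [.a2, .a9], [.a2, .a5, .a9]⟩,
  ⟨8, [.a3], [.a3]⟩,
  ⟨16, [.a4], [.a4, .a5]⟩,
  ⟨32, [.a5], [.a5]⟩,
  ⟨64, [.a6], [.a6]⟩,
  ⟨256, [.a8], [.a8]⟩,
  ⟨2048, [.a11], [.a11]⟩]
def B1132 : List Gv := [⟨[.a2, .a9], [.a2, .a5, .a9]⟩, ⟨[.a3], [.a3]⟩, ⟨[.a4], [.a4, .a5]⟩, ⟨[.a11], [.a11]⟩]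
def D1132 : List Dv := [⟨[.a5], [0, 0], []⟩,
  ⟨[.a8], [3, 1], [1, 3]⟩,
  ⟨[.a6, .a8], [1, 5, 2], [2, 5]⟩,
  ⟨[.a6], [0], [1]⟩]
def C1132 : List Ch := [⟨P618, 0, [], []⟩,
  ⟨P756, 1, [], []⟩,
  ⟨P756, 0, [.a10], [.a10, .a11]⟩,
  ⟨P656, 2, [], []⟩,
  ⟨P711, 0, [], []⟩,
  ⟨P757, 1, [], []⟩,
  ⟨P757, 0, [.a10], [.a10, .a11]⟩,
  ⟨P758, 3, [], []⟩,
  ⟨P751, 0, [.a1], [.a1, .a2]⟩,
  ⟨P759, 1, [], []⟩,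
  ⟨P759, 0, [.a10], [.a10, .a11]⟩,
  ⟨P700, 2, [.a0, .a1], [.a0, .a1, .a2]⟩,
  ⟨P653, 0, [.a0, .a1], [.a0, .a1, .a2]⟩,
  ⟨P760, 1, [], []⟩,
  ⟨P760, 0, [.a10], [.a10, .a11]⟩]
def N1132 : List Ent := [⟨4, [.a2, .a9], [.a2, .a5, .a9]⟩,
  ⟨8, [.a3], [.a3]⟩,
  ⟨16, [.a4], [.a4, .a5]⟩,
  ⟨32, [.a5], [.a5]⟩,
  ⟨64, [.a6], [.a6]⟩,
  ⟨128, [.a7], [.a7, .a8]⟩,
  ⟨256, [.a8], [.a8]⟩,
  ⟨512, [.a9], [.a9]⟩,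
  ⟨1024, [.a10], [.a10, .a11]⟩,
  ⟨2048, [.a11], [.a11]⟩]
theorem bad1132 (c : CtxF Goal γ) : Bad Goal γ [] P1132 :=
  c.toCtx.bnd (B := B1132) (D := D1132) (I := [4, 5, 6, 3, 0, 2, 7]) (r := 4) (C := C1132) (N := N1132) (by decide +kernel) (by decide +kernel) (by decide +kernel) (by decide +kernel)
    (allB_cons (bad618 c) (allB_cons (bad756 c) (allB_cons (bad756 c) (allB_cons (bad656 c) (allB_cons (bad711 c) (allB_cons (bad757 c) (allB_cons (bad757 c) (allB_cons (bad758 c) (allB_cons (bad751 c) (allB_cons (bad759 c) (allB_cons (bad759 c) (allB_cons (bad700 c) (allB_cons (bad653 c) (allB_cons (bad760 c) (allB_cons (bad760 c) (allB_nil))))))))))))))))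

def P1133 : List Ent := [⟨4, [.a2], [.a2]⟩,
  ⟨8, [.a3], [.a3]⟩,
  ⟨16, [.a4, .a9], [.a4, .a5, .a8, .a9]⟩,
  ⟨32, [.a5], [.a5]⟩,
  ⟨64, [.a6], [.a6]⟩,
  ⟨256, [.a8], [.a8]⟩,
  ⟨2048, [.a11], [.a11]⟩]
def B1133 : List Gv := [⟨[.a2], [.a2]⟩, ⟨[.a3], [.a3]⟩, ⟨[.a4, .a9], [.a4, .a5, .a8, .a9]⟩, ⟨[.a11], [.a11]⟩]
def D1133 : List Dv := [⟨[.a5], [2, 0], [0, 2]⟩,
  ⟨[.a8], [0, 3, 3], []⟩,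
  ⟨[.a6, .a8], [1, 5, 2], [2, 5]⟩,
  ⟨[.a6], [0], [1]⟩]
def C1133 : List Ch := [⟨P620, 0, [], []⟩,
  ⟨P761, 1, [], []⟩,
  ⟨P761, 0, [.a10], [.a10, .a11]⟩,
  ⟨P659, 2, [], []⟩,
  ⟨P711, 0, [], []⟩,
  ⟨P762, 1, [], []⟩,
  ⟨P762, 0, [.a10], [.a10, .a11]⟩,
  ⟨P763, 3, [], []⟩,
  ⟨P764, 0, [], []⟩,
  ⟨P765, 1, [], []⟩,
  ⟨P765, 0, [.a10], [.a10, .a11]⟩,
  ⟨P694, 2, [.a0], [.a0]⟩,
  ⟨P653, 0, [.a0], [.a0]⟩,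
  ⟨P766, 1, [], []⟩,
  ⟨P766, 0, [.a10], [.a10, .a11]⟩]
def N1133 : List Ent := [⟨4, [.a2], [.a2]⟩,
  ⟨8, [.a3], [.a3]⟩,
  ⟨16, [.a4, .a9], [.a4, .a5, .a8, .a9]⟩,
  ⟨32, [.a5], [.a5]⟩,
  ⟨64, [.a6], [.a6]⟩,
  ⟨128, [.a7], [.a7, .a8]⟩,
  ⟨256, [.a8], [.a8]⟩,
  ⟨512, [.a9], [.a9]⟩,
  ⟨1024, [.a10], [.a10, .a11]⟩,
  ⟨2048, [.a11], [.a11]⟩]
theorem bad1133 (c : CtxF Goal γ) : Bad Goal γ [] P1133 :=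
  c.toCtx.bnd (B := B1133) (D := D1133) (I := [4, 5, 6, 3, 0, 2, 7]) (r := 4) (C := C1133) (N := N1133) (by decide +kernel) (by decide +kernel) (by decide +kernel) (by decide +kernel)
    (allB_cons (bad620 c) (allB_cons (bad761 c) (allB_cons (bad761 c) (allB_cons (bad659 c) (allB_cons (bad711 c) (allB_cons (bad762 c) (allB_cons (bad762 c) (allB_cons (bad763 c) (allB_cons (bad764 c) (allB_cons (bad765 c) (allB_cons (bad765 c) (allB_cons (bad694 c) (allB_cons (bad653 c) (allB_cons (bad766 c) (allB_cons (bad766 c) (allB_nil))))))))))))))))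

def P1134 : List Ent := [⟨4, [.a2, .a10], [.a2, .a3, .a5, .a8, .a10, .a11]⟩,
  ⟨8, [.a3], [.a3]⟩,
  ⟨16, [.a4, .a9], [.a4, .a5, .a8, .a9]⟩,
  ⟨32, [.a5], [.a5]⟩,
  ⟨64, [.a6], [.a6]⟩,
  ⟨256, [.a8], [.a8]⟩,
  ⟨2048, [.a11], [.a11]⟩]
def B1134 : List Gv := [⟨[.a2, .a10], [.a2, .a3, .a5, .a8, .a10, .a11]⟩, ⟨[.a3], [.a3]⟩, ⟨[.a4, .a9], [.a4, .a5, .a8, .a9]⟩]
def D1134 : List Dv := [⟨[.a6, .a8, .a11], [1, 0, 0], []⟩,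
  ⟨[.a5, .a6], [2, 1], [1, 2]⟩,
  ⟨[.a8, .a11], [1, 0, 4, 2], [2, 4]⟩,
  ⟨[.a11], [2, 1, 5, 5], []⟩,
  ⟨[.a8], [1], [0]⟩,
  ⟨[.a6], [4], [0, 1]⟩,
  ⟨[.a5], [4], [0]⟩]
def C1134 : List Ch := [⟨P620, 0, [], []⟩,
  ⟨P767, 1, [], []⟩,
  ⟨P767, 0, [.a10], [.a10, .a11]⟩,
  ⟨P657, 2, [.a7], [.a7, .a8]⟩,
  ⟨P675, 0, [.a1, .a10], [.a1, .a2, .a4, .a5, .a7, .a9, .a10, .a11]⟩,
  ⟨P768, 1, [], []⟩,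
  ⟨P768, 0, [.a10], [.a10, .a11]⟩]
def N1134 : List Ent := [⟨4, [.a2, .a10], [.a2, .a3, .a5, .a8, .a10, .a11]⟩,
  ⟨8, [.a3], [.a3]⟩,
  ⟨16, [.a4, .a9], [.a4, .a5, .a8, .a9]⟩,
  ⟨32, [.a5], [.a5]⟩,
  ⟨64, [.a6], [.a6]⟩,
  ⟨256, [.a8], [.a8]⟩,
  ⟨512, [.a9], [.a9]⟩,
  ⟨1024, [.a10], [.a10, .a11]⟩,
  ⟨2048, [.a11], [.a11]⟩]
theorem bad1134 (c : CtxF Goal γ) : Bad Goal γ [] P1134 :=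
  c.toCtx.bnd (B := B1134) (D := D1134) (I := [7, 8, 9, 0, 1, 2, 3]) (r := 3) (C := C1134) (N := N1134) (by decide +kernel) (by decide +kernel) (by decide +kernel) (by decide +kernel)
    (allB_cons (bad620 c) (allB_cons (bad767 c) (allB_cons (bad767 c) (allB_cons (bad657 c) (allB_cons (bad675 c) (allB_cons (bad768 c) (allB_cons (bad768 c) (allB_nil))))))))

def P1135 : List Ent := [⟨4, [.a2, .a9], [.a2, .a5, .a9]⟩,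
  ⟨8, [.a3], [.a3]⟩,
  ⟨16, [.a4, .a9], [.a4, .a5, .a8, .a9]⟩,
  ⟨32, [.a5], [.a5]⟩,
  ⟨64, [.a6], [.a6]⟩,
  ⟨256, [.a8], [.a8]⟩,
  ⟨2048, [.a11], [.a11]⟩]
def B1135 : List Gv := [⟨[.a2, .a9], [.a2, .a5, .a9]⟩, ⟨[.a3], [.a3]⟩, ⟨[.a4, .a9], [.a4, .a5, .a8, .a9]⟩, ⟨[.a11], [.a11]⟩]
def D1135 : List Dv := [⟨[.a5], [0, 0], []⟩,
  ⟨[.a8], [0, 3, 1], [1, 3]⟩,
  ⟨[.a6, .a8], [1, 5, 2], [2, 5]⟩,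
  ⟨[.a6], [0], [1]⟩]
def C1135 : List Ch := [⟨P620, 0, [], []⟩,
  ⟨P769, 1, [], []⟩,
  ⟨P769, 0, [.a10], [.a10, .a11]⟩,
  ⟨P656, 2, [], []⟩,
  ⟨P714, 0, [], []⟩,
  ⟨P770, 1, [], []⟩,
  ⟨P770, 0, [.a10], [.a10, .a11]⟩,
  ⟨P758, 3, [.a0], [.a0]⟩,
  ⟨P764, 0, [.a1], [.a1, .a2]⟩,
  ⟨P771, 1, [], []⟩,
  ⟨P771, 0, [.a10], [.a10, .a11]⟩,
  ⟨P700, 2, [.a0], [.a0]⟩,
  ⟨P642, 0, [.a0], [.a0]⟩,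
  ⟨P772, 1, [], []⟩,
  ⟨P772, 0, [.a10], [.a10, .a11]⟩]
def N1135 : List Ent := [⟨4, [.a2, .a9], [.a2, .a5, .a9]⟩,
  ⟨8, [.a3], [.a3]⟩,
  ⟨16, [.a4, .a9], [.a4, .a5, .a8, .a9]⟩,
  ⟨32, [.a5], [.a5]⟩,
  ⟨64, [.a6], [.a6]⟩,
  ⟨128, [.a7], [.a7, .a8]⟩,
  ⟨256, [.a8], [.a8]⟩,
  ⟨512, [.a9], [.a9]⟩,
  ⟨1024, [.a10], [.a10, .a11]⟩,
  ⟨2048, [.a11], [.a11]⟩]
theorem bad1135 (c : CtxF Goal γ) : Bad Goal γ [] P1135 :=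
  c.toCtx.bnd (B := B1135) (D := D1135) (I := [4, 5, 6, 3, 0, 2, 7]) (r := 4) (C := C1135) (N := N1135) (by decide +kernel) (by decide +kernel) (by decide +kernel) (by decide +kernel)
    (allB_cons (bad620 c) (allB_cons (bad769 c) (allB_cons (bad769 c) (allB_cons (bad656 c) (allB_cons (bad714 c) (allB_cons (bad770 c) (allB_cons (bad770 c) (allB_cons (bad758 c) (allB_cons (bad764 c) (allB_cons (bad771 c) (allB_cons (bad771 c) (allB_cons (bad700 c) (allB_cons (bad642 c) (allB_cons (bad772 c) (allB_cons (bad772 c) (allB_nil))))))))))))))))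

def P1136 : List Ent := [⟨4, [.a2], [.a2]⟩,
  ⟨16, [.a4], [.a4, .a5]⟩,
  ⟨32, [.a5], [.a5]⟩,
  ⟨64, [.a6], [.a6]⟩,
  ⟨256, [.a8], [.a8]⟩,
  ⟨512, [.a9], [.a9]⟩,
  ⟨2048, [.a11], [.a11]⟩]
def B1136 : List Gv := [⟨[.a2], [.a2]⟩, ⟨[.a4], [.a4, .a5]⟩, ⟨[.a9], [.a9]⟩, ⟨[.a11], [.a11]⟩]
def D1136 : List Dv := [⟨[.a5], [1, 1], []⟩,
  ⟨[.a8], [3, 2], [2, 3]⟩,
  ⟨[.a6, .a8], [1, 5, 2], [2, 5]⟩,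
  ⟨[.a6], [0], [1]⟩]
def C1136 : List Ch := [⟨P584, 0, [], []⟩,
  ⟨P658, 1, [], []⟩,
  ⟨P713, 0, [], []⟩,
  ⟨P748, 2, [], []⟩,
  ⟨P756, 0, [], []⟩,
  ⟨P761, 1, [], []⟩,
  ⟨P769, 0, [], []⟩,
  ⟨P773, 3, [], []⟩,
  ⟨P774, 0, [], []⟩,
  ⟨P704, 1, [.a0], [.a0]⟩,
  ⟨P649, 0, [.a0], [.a0]⟩,
  ⟨P749, 2, [.a1], [.a1, .a2]⟩,
  ⟨P757, 0, [.a1], [.a1, .a2]⟩,
  ⟨P762, 1, [.a1], [.a1, .a2]⟩,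
  ⟨P770, 0, [.a1], [.a1, .a2]⟩]
def S1136 : List St := [.cent 1 1 0 [⟨32, [.a5], [.a5]⟩,
  ⟨64, [.a6], [.a6]⟩,
  ⟨256, [.a8], [.a8]⟩]]
theorem bad1136 (c : CtxF Goal γ) : Bad Goal γ [] P1136 :=
  c.toCtx.chn (B := B1136) (D := D1136) (I := [4, 5, 3, 0, 2, 6, 7]) (r := 4) (C := C1136) (l := S1136) (x := ⟨[.a7], [.a7, .a8]⟩) (ix := [0]) (by decide +kernel) (by decide +kernel) (by decide +kernel) (by decide +kernel)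
    (allB_cons (bad584 c) (allB_cons (bad658 c) (allB_cons (bad713 c) (allB_cons (bad748 c) (allB_cons (bad756 c) (allB_cons (bad761 c) (allB_cons (bad769 c) (allB_cons (bad773 c) (allB_cons (bad774 c) (allB_cons (bad704 c) (allB_cons (bad649 c) (allB_cons (bad749 c) (allB_cons (bad757 c) (allB_cons (bad762 c) (allB_cons (bad770 c) (allB_nil))))))))))))))))

def P1137 : List Ent := [⟨4, [.a2], [.a2]⟩,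
  ⟨8, [.a3, .a9], [.a3, .a9]⟩,
  ⟨16, [.a4], [.a4, .a5]⟩,
  ⟨32, [.a5], [.a5]⟩,
  ⟨64, [.a6], [.a6]⟩,
  ⟨256, [.a8], [.a8]⟩,
  ⟨2048, [.a11], [.a11]⟩]
def B1137 : List Gv := [⟨[.a2], [.a2]⟩, ⟨[.a3, .a9], [.a3, .a9]⟩, ⟨[.a4], [.a4, .a5]⟩, ⟨[.a11], [.a11]⟩]
def D1137 : List Dv := [⟨[.a5], [1, 0], [0, 1]⟩,
  ⟨[.a8], [3, 2], [2, 3]⟩,
  ⟨[.a6, .a8], [1, 5, 2], [2, 5]⟩,
  ⟨[.a6], [0], [1]⟩]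
def C1137 : List Ch := [⟨P619, 0, [], []⟩,
  ⟨P748, 1, [], []⟩,
  ⟨P756, 0, [.a10], [.a10, .a11]⟩,
  ⟨P660, 2, [], []⟩,
  ⟨P715, 0, [], []⟩,
  ⟨P762, 1, [], []⟩,
  ⟨P770, 0, [.a10], [.a10, .a11]⟩,
  ⟨P773, 3, [.a0], [.a0]⟩,
  ⟨P775, 0, [], []⟩,
  ⟨P753, 1, [.a1], [.a1, .a2]⟩,
  ⟨P760, 0, [.a1, .a10], [.a1, .a2, .a4, .a5, .a7, .a9, .a10, .a11]⟩,
  ⟨P689, 2, [.a0], [.a0]⟩,
  ⟨P628, 0, [.a0], [.a0]⟩,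
  ⟨P765, 1, [.a1], [.a1, .a2]⟩,
  ⟨P771, 0, [.a1, .a10], [.a1, .a2, .a4, .a5, .a7, .a9, .a10, .a11]⟩]
def S1137 : List St := [.cent 1 1 0 [⟨32, [.a5], [.a5]⟩,
  ⟨64, [.a6], [.a6]⟩,
  ⟨256, [.a8], [.a8]⟩]]
theorem bad1137 (c : CtxF Goal γ) : Bad Goal γ [] P1137 :=
  c.toCtx.chn (B := B1137) (D := D1137) (I := [4, 5, 6, 3, 0, 2, 7]) (r := 4) (C := C1137) (l := S1137) (x := ⟨[.a9], [.a9]⟩) (ix := [0]) (by decide +kernel) (by decide +kernel) (by decide +kernel) (by decide +kernel)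
    (allB_cons (bad619 c) (allB_cons (bad748 c) (allB_cons (bad756 c) (allB_cons (bad660 c) (allB_cons (bad715 c) (allB_cons (bad762 c) (allB_cons (bad770 c) (allB_cons (bad773 c) (allB_cons (bad775 c) (allB_cons (bad753 c) (allB_cons (bad760 c) (allB_cons (bad689 c) (allB_cons (bad628 c) (allB_cons (bad765 c) (allB_cons (bad771 c) (allB_nil))))))))))))))))

def P1138 : List Ent := [⟨4, [.a2], [.a2]⟩,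
  ⟨8, [.a3, .a9], [.a3, .a9]⟩,
  ⟨16, [.a4, .a9], [.a4, .a5, .a8, .a9]⟩,
  ⟨32, [.a5], [.a5]⟩,
  ⟨64, [.a6], [.a6]⟩,
  ⟨256, [.a8], [.a8]⟩,
  ⟨2048, [.a11], [.a11]⟩]
def B1138 : List Gv := [⟨[.a2], [.a2]⟩, ⟨[.a3, .a9], [.a3, .a9]⟩, ⟨[.a4, .a9], [.a4, .a5, .a8, .a9]⟩, ⟨[.a11], [.a11]⟩]
def D1138 : List Dv := [⟨[.a5], [1, 0], [0, 1]⟩,
  ⟨[.a8], [3, 2], [2, 3]⟩,
  ⟨[.a6, .a8], [1, 5, 2], [2, 5]⟩,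
  ⟨[.a6], [0], [1]⟩]
def C1138 : List Ch := [⟨P621, 0, [], []⟩,
  ⟨P761, 1, [], []⟩,
  ⟨P769, 0, [.a10], [.a10, .a11]⟩,
  ⟨P660, 2, [], []⟩,
  ⟨P715, 0, [.a10], [.a10, .a11]⟩,
  ⟨P749, 1, [], []⟩,
  ⟨P757, 0, [.a10], [.a10, .a11]⟩,
  ⟨P773, 3, [.a0, .a1], [.a0, .a1, .a2]⟩,
  ⟨P775, 0, [.a1, .a10], [.a1, .a2, .a4, .a5, .a7, .a9, .a10, .a11]⟩,
  ⟨P766, 1, [.a1], [.a1, .a2]⟩,
  ⟨P772, 0, [.a1, .a10], [.a1, .a2, .a4, .a5, .a7, .a9, .a10, .a11]⟩,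
  ⟨P682, 2, [.a0], [.a0]⟩,
  ⟨P592, 0, [.a0, .a1, .a3, .a5, .a6, .a7, .a8, .a9, .a10], [.a0, .a10, .a11]⟩,
  ⟨P752, 1, [.a1], [.a1, .a2]⟩,
  ⟨P759, 0, [.a1, .a10], [.a1, .a2, .a4, .a5, .a7, .a9, .a10, .a11]⟩]
def S1138 : List St := [.cent 1 1 0 [⟨32, [.a5], [.a5]⟩,
  ⟨64, [.a6], [.a6]⟩,
  ⟨256, [.a8], [.a8]⟩]]
theorem bad1138 (c : CtxF Goal γ) : Bad Goal γ [] P1138 :=
  c.toCtx.chn (B := B1138) (D := D1138) (I := [4, 5, 6, 3, 0, 2, 7]) (r := 4) (C := C1138) (l := S1138) (x := ⟨[.a9], [.a9]⟩) (ix := [0]) (by decide +kernel) (by decide +kernel) (by decide +kernel) (by decide +kernel)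
    (allB_cons (bad621 c) (allB_cons (bad761 c) (allB_cons (bad769 c) (allB_cons (bad660 c) (allB_cons (bad715 c) (allB_cons (bad749 c) (allB_cons (bad757 c) (allB_cons (bad773 c) (allB_cons (bad775 c) (allB_cons (bad766 c) (allB_cons (bad772 c) (allB_cons (bad682 c) (allB_cons (bad592 c) (allB_cons (bad752 c) (allB_cons (bad759 c) (allB_nil))))))))))))))))

def P1139 : List Ent := [⟨4, [.a2], [.a2]⟩,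
  ⟨8, [.a3], [.a3]⟩,
  ⟨16, [.a4], [.a4, .a5]⟩,
  ⟨32, [.a5], [.a5]⟩,
  ⟨64, [.a6], [.a6]⟩,
  ⟨256, [.a8], [.a8]⟩,
  ⟨512, [.a9], [.a9]⟩]
def B1139 : List Gv := [⟨[.a2], [.a2]⟩, ⟨[.a3], [.a3]⟩, ⟨[.a4], [.a4, .a5]⟩, ⟨[.a6], [.a6]⟩, ⟨[.a9], [.a9]⟩]
def D1139 : List Dv := [⟨[.a5], [2, 2], []⟩,
  ⟨[.a8], [5, 3], [3, 5]⟩]
def C1139 : List Ch := [⟨P623, 0, [], []⟩,
  ⟨P773, 1, [], []⟩,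
  ⟨P773, 0, [.a10], [.a10, .a11]⟩,
  ⟨P661, 2, [], []⟩,
  ⟨P623, 0, [.a0], [.a0]⟩,
  ⟨P773, 1, [.a1], [.a1, .a2]⟩,
  ⟨P773, 0, [.a1, .a10], [.a1, .a2, .a4, .a5, .a7, .a9, .a10, .a11]⟩,
  ⟨P776, 3, [], []⟩,
  ⟨P776, 0, [.a11], [.a11]⟩,
  ⟨P776, 1, [.a10], [.a10, .a11]⟩,
  ⟨P776, 0, [.a10, .a11], [.a10]⟩,
  ⟨P776, 2, [.a7], [.a7, .a8]⟩,
  ⟨P776, 0, [.a7, .a11], [.a7, .a8, .a11]⟩,
  ⟨P776, 1, [.a7, .a10], [.a7, .a8, .a9, .a10, .a11]⟩,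
  ⟨P776, 0, [.a0, .a10, .a11], [.a0, .a1, .a3, .a5, .a6, .a7, .a8, .a9, .a10]⟩,
  ⟨P750, 4, [], []⟩,
  ⟨P758, 0, [], []⟩,
  ⟨P773, 1, [.a0], [.a0]⟩,
  ⟨P773, 0, [.a0, .a1, .a3, .a5, .a6, .a7, .a8, .a9, .a10], [.a0, .a10, .a11]⟩,
  ⟨P763, 2, [], []⟩,
  ⟨P758, 0, [.a0], [.a0]⟩,
  ⟨P773, 1, [.a0, .a1], [.a0, .a1, .a2]⟩,
  ⟨P773, 0, [.a0, .a10], [.a0, .a1, .a2, .a3, .a4, .a6, .a8, .a9, .a10, .a11]⟩,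
  ⟨P776, 3, [.a0], [.a0]⟩,
  ⟨P776, 0, [.a0, .a2, .a3, .a4, .a5, .a6, .a7, .a9, .a11], [.a0, .a11]⟩,
  ⟨P776, 1, [.a0, .a1, .a3, .a5, .a6, .a7, .a8, .a9, .a10], [.a0, .a10, .a11]⟩,
  ⟨P776, 0, [.a0, .a1, .a2, .a3, .a4, .a6, .a8, .a9, .a10, .a11], [.a0, .a10]⟩,
  ⟨P776, 2, [.a0, .a2, .a3, .a7], [.a0, .a7, .a8]⟩,
  ⟨P776, 0, [.a0, .a11], [.a0, .a2, .a3, .a4, .a5, .a6, .a7, .a9, .a11]⟩,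
  ⟨P776, 1, [.a1, .a10], [.a1, .a2, .a4, .a5, .a7, .a9, .a10, .a11]⟩,
  ⟨P776, 0, [.a0, .a1, .a3, .a5, .a6, .a7, .a8, .a9, .a10, .a11], [.a0, .a2, .a3, .a4, .a5, .a6, .a7, .a9, .a10]⟩]
def N1139 : List Ent := [⟨1, [.a0], [.a0]⟩,
  ⟨2, [.a1], [.a1, .a2]⟩,
  ⟨4, [.a2], [.a2]⟩,
  ⟨8, [.a3], [.a3]⟩,
  ⟨16, [.a4], [.a4, .a5]⟩,
  ⟨32, [.a5], [.a5]⟩,
  ⟨64, [.a6], [.a6]⟩,
  ⟨128, [.a7], [.a7, .a8]⟩,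
  ⟨256, [.a8], [.a8]⟩,
  ⟨512, [.a9], [.a9]⟩,
  ⟨1024, [.a10], [.a10, .a11]⟩,
  ⟨2048, [.a11], [.a11]⟩]
theorem bad1139 (c : CtxF Goal γ) : Bad Goal γ [] P1139 :=
  c.toCtx.bnd (B := B1139) (D := D1139) (I := [2, 3, 4, 1, 5, 0, 6]) (r := 5) (C := C1139) (N := N1139) (by decide +kernel) (by decide +kernel) (by decide +kernel) (by decide +kernel)
    (allB_cons (bad623 c) (allB_cons (bad773 c) (allB_cons (bad773 c) (allB_cons (bad661 c) (allB_cons (bad623 c) (allB_cons (bad773 c) (allB_cons (bad773 c) (allB_cons (bad776 c) (allB_cons (bad776 c) (allB_cons (bad776 c) (allB_cons (bad776 c) (allB_cons (bad776 c) (allB_cons (bad776 c) (allB_cons (bad776 c) (allB_cons (bad776 c) (allB_cons (bad750 c) (allB_cons (bad758 c) (allB_cons (bad773 c) (allB_cons (bad773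 c) (allB_cons (bad763 c) (allB_cons (bad758 c) (allB_cons (bad773 c) (allB_cons (bad773 c) (allB_cons (bad776 c) (allB_cons (bad776 c) (allB_cons (bad776 c) (allB_cons (bad776 c) (allB_cons (bad776 c) (allB_cons (bad776 c) (allB_cons (bad776 c) (allB_cons (bad776 c) (allB_nil))))))))))))))))))))))))))))))))

def P1140 : List Ent := [⟨4, [.a2, .a11], [.a2, .a5, .a6, .a8, .a11]⟩,
  ⟨8, [.a3], [.a3]⟩,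
  ⟨16, [.a4], [.a4, .a5]⟩,
  ⟨32, [.a5], [.a5]⟩,
  ⟨64, [.a6], [.a6]⟩,
  ⟨256, [.a8], [.a8]⟩,
  ⟨512, [.a9], [.a9]⟩]
def B1140 : List Gv := [⟨[.a2, .a11], [.a2, .a5, .a6, .a8, .a11]⟩, ⟨[.a3], [.a3]⟩, ⟨[.a4], [.a4, .a5]⟩, ⟨[.a9], [.a9]⟩]
def D1140 : List Dv := [⟨[.a5, .a6, .a8], [0, 0], []⟩,
  ⟨[.a8], [2, 1], [1, 2]⟩,
  ⟨[.a6, .a8], [1, 4, 4], []⟩,
  ⟨[.a6], [0], [1]⟩,
  ⟨[.a5], [3], [0, 2]⟩]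
def C1140 : List Ch := [⟨P623, 0, [], []⟩,
  ⟨P774, 1, [], []⟩,
  ⟨P774, 0, [.a10], [.a10, .a11]⟩,
  ⟨P637, 2, [.a0], [.a0]⟩,
  ⟨P672, 0, [.a0], [.a0]⟩,
  ⟨P774, 1, [.a1], [.a1, .a2]⟩,
  ⟨P774, 0, [.a1, .a10], [.a1, .a2, .a4, .a5, .a7, .a9, .a10, .a11]⟩,
  ⟨P751, 3, [], []⟩,
  ⟨P751, 0, [.a1], [.a1, .a2]⟩,
  ⟨P775, 1, [], []⟩,
  ⟨P775, 0, [.a10], [.a10, .a11]⟩,
  ⟨P764, 2, [], []⟩,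
  ⟨P764, 0, [.a1], [.a1, .a2]⟩,
  ⟨P775, 1, [.a1, .a10], [.a1, .a2, .a4, .a5, .a7, .a9, .a10, .a11]⟩,
  ⟨P775, 0, [.a1], [.a1, .a2]⟩]
def N1140 : List Ent := [⟨2, [.a1], [.a1, .a2]⟩,
  ⟨4, [.a2, .a11], [.a2, .a5, .a6, .a8, .a11]⟩,
  ⟨8, [.a3], [.a3]⟩,
  ⟨16, [.a4], [.a4, .a5]⟩,
  ⟨32, [.a5], [.a5]⟩,
  ⟨64, [.a6], [.a6]⟩,
  ⟨128, [.a7], [.a7, .a8]⟩,
  ⟨256, [.a8], [.a8]⟩,
  ⟨512, [.a9], [.a9]⟩,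
  ⟨1024, [.a10], [.a10, .a11]⟩,
  ⟨2048, [.a11], [.a11]⟩]
theorem bad1140 (c : CtxF Goal γ) : Bad Goal γ [] P1140 :=
  c.toCtx.bnd (B := B1140) (D := D1140) (I := [5, 6, 7, 0, 1, 3, 8]) (r := 4) (C := C1140) (N := N1140) (by decide +kernel) (by decide +kernel) (by decide +kernel) (by decide +kernel)
    (allB_cons (bad623 c) (allB_cons (bad774 c) (allB_cons (bad774 c) (allB_cons (bad637 c) (allB_cons (bad672 c) (allB_cons (bad774 c) (allB_cons (bad774 c) (allB_cons (bad751 c) (allB_cons (bad751 c) (allB_cons (bad775 c) (allB_cons (bad775 c) (allB_cons (bad764 c) (allB_cons (bad764 c) (allB_cons (bad775 c) (allB_cons (bad775 c) (allB_nil))))))))))))))))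

def P1141 : List Ent := [⟨4, [.a2], [.a2]⟩,
  ⟨8, [.a3, .a11], [.a3, .a8, .a11]⟩,
  ⟨16, [.a4], [.a4, .a5]⟩,
  ⟨32, [.a5], [.a5]⟩,
  ⟨64, [.a6], [.a6]⟩,
  ⟨256, [.a8], [.a8]⟩,
  ⟨512, [.a9], [.a9]⟩]
def B1141 : List Gv := [⟨[.a2], [.a2]⟩, ⟨[.a3, .a11], [.a3, .a8, .a11]⟩, ⟨[.a4], [.a4, .a5]⟩, ⟨[.a9], [.a9]⟩]
def D1141 : List Dv := [⟨[.a5, .a6, .a8], [1, 0], [0, 1]⟩,
  ⟨[.a8], [2, 2], []⟩,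
  ⟨[.a6, .a8], [1, 4, 4], []⟩,
  ⟨[.a6], [0], [1]⟩,
  ⟨[.a5], [3], [0, 2]⟩]
def C1141 : List Ch := [⟨P624, 0, [], []⟩,
  ⟨P773, 1, [], []⟩,
  ⟨P774, 0, [.a10], [.a10, .a11]⟩,
  ⟨P662, 2, [], []⟩,
  ⟨P716, 0, [], []⟩,
  ⟨P704, 1, [.a0, .a1], [.a0, .a1, .a2]⟩,
  ⟨P649, 0, [.a0, .a10], [.a0, .a1, .a2, .a3, .a4, .a6, .a8, .a9, .a10, .a11]⟩,
  ⟨P752, 3, [], []⟩,
  ⟨P759, 0, [], []⟩,
  ⟨P753, 1, [.a1], [.a1, .a2]⟩,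
  ⟨P760, 0, [.a1], [.a1, .a2]⟩,
  ⟨P765, 2, [], []⟩,
  ⟨P771, 0, [], []⟩,
  ⟨P766, 1, [.a1], [.a1, .a2]⟩,
  ⟨P772, 0, [.a1], [.a1, .a2]⟩]
def S1141 : List St := [.cent 1 1 0 [⟨32, [.a5], [.a5]⟩,
  ⟨64, [.a6], [.a6]⟩,
  ⟨256, [.a8], [.a8]⟩]]
theorem bad1141 (c : CtxF Goal γ) : Bad Goal γ [] P1141 :=
  c.toCtx.chn (B := B1141) (D := D1141) (I := [5, 6, 7, 0, 1, 3, 8]) (r := 4) (C := C1141) (l := S1141) (x := ⟨[.a11], [.a11]⟩) (ix := [0]) (by decide +kernel) (by decide +kernel) (by decide +kernel) (by decide +kernel)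
    (allB_cons (bad624 c) (allB_cons (bad773 c) (allB_cons (bad774 c) (allB_cons (bad662 c) (allB_cons (bad716 c) (allB_cons (bad704 c) (allB_cons (bad649 c) (allB_cons (bad752 c) (allB_cons (bad759 c) (allB_cons (bad753 c) (allB_cons (bad760 c) (allB_cons (bad765 c) (allB_cons (bad771 c) (allB_cons (bad766 c) (allB_cons (bad772 c) (allB_nil))))))))))))))))

def P1142 : List Ent := [⟨4, [.a2, .a10], [.a2, .a3, .a5, .a8, .a10, .a11]⟩,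
  ⟨8, [.a3, .a11], [.a3, .a8, .a11]⟩,
  ⟨16, [.a4], [.a4, .a5]⟩,
  ⟨32, [.a5], [.a5]⟩,
  ⟨64, [.a6], [.a6]⟩,
  ⟨256, [.a8], [.a8]⟩,
  ⟨512, [.a9], [.a9]⟩]
def B1142 : List Gv := [⟨[.a2, .a10], [.a2, .a3, .a5, .a8, .a10, .a11]⟩, ⟨[.a3, .a11], [.a3, .a8, .a11]⟩, ⟨[.a4], [.a4, .a5]⟩, ⟨[.a9], [.a9]⟩]
def D1142 : List Dv := [⟨[.a6], [1, 0, 0], []⟩,
  ⟨[.a8], [2, 1], [1, 2]⟩,
  ⟨[.a5], [4, 4], []⟩]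
def C1142 : List Ch := [⟨P624, 0, [], []⟩,
  ⟨P777, 1, [], []⟩,
  ⟨P777, 0, [.a3], [.a3]⟩,
  ⟨P663, 2, [], []⟩,
  ⟨P674, 0, [.a1], [.a1, .a2]⟩,
  ⟨P777, 1, [.a7], [.a7, .a8]⟩,
  ⟨P777, 0, [.a3, .a7], [.a3, .a5, .a7, .a8]⟩,
  ⟨P754, 3, [], []⟩,
  ⟨P754, 0, [.a7], [.a7, .a8]⟩,
  ⟨P778, 1, [], []⟩,
  ⟨P778, 0, [.a3], [.a3]⟩,
  ⟨P767, 2, [], []⟩,
  ⟨P767, 0, [.a7], [.a7, .a8]⟩,
  ⟨P778, 1, [.a3, .a7], [.a3, .a5, .a7, .a8]⟩,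
  ⟨P778, 0, [.a7], [.a7, .a8]⟩]
def S1142 : List St := [.om 1 [⟨32, [.a5], [.a5]⟩,
  ⟨64, [.a6], [.a6]⟩,
  ⟨256, [.a8], [.a8]⟩,
  ⟨512, [.a9], [.a9]⟩] [[[.a5]], [[.a6]], [[.a8]], [[.a9]]]]
theorem bad1142 (c : CtxF Goal γ) : Bad Goal γ [] P1142 :=
  c.toCtx.chn (B := B1142) (D := D1142) (I := [3, 4, 5, 0, 2, 1, 6]) (r := 4) (C := C1142) (l := S1142) (x := ⟨[.a11], [.a11]⟩) (ix := [0]) (by decide +kernel) (by decide +kernel) (by decide +kernel) (by decide +kernel)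
    (allB_cons (bad624 c) (allB_cons (bad777 c) (allB_cons (bad777 c) (allB_cons (bad663 c) (allB_cons (bad674 c) (allB_cons (bad777 c) (allB_cons (bad777 c) (allB_cons (bad754 c) (allB_cons (bad754 c) (allB_cons (bad778 c) (allB_cons (bad778 c) (allB_cons (bad767 c) (allB_cons (bad767 c) (allB_cons (bad778 c) (allB_cons (bad778 c) (allB_nil))))))))))))))))

def P1143 : List Ent := [⟨4, [.a2, .a10], [.a2, .a3, .a5, .a8, .a10, .a11]⟩,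
  ⟨8, [.a3, .a11], [.a3, .a8, .a11]⟩,
  ⟨16, [.a4, .a11], [.a4, .a5, .a11]⟩,
  ⟨32, [.a5], [.a5]⟩,
  ⟨64, [.a6], [.a6]⟩,
  ⟨256, [.a8], [.a8]⟩,
  ⟨512, [.a9], [.a9]⟩]
def B1143 : List Gv := [⟨[.a2, .a10], [.a2, .a3, .a5, .a8, .a10, .a11]⟩, ⟨[.a4, .a11], [.a4, .a5, .a11]⟩, ⟨[.a9], [.a9]⟩]
def D1143 : List Dv := [⟨[.a3, .a6, .a8, .a11], [0, 0], []⟩,
  ⟨[.a5, .a6, .a8], [2, 1], [1, 2]⟩,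
  ⟨[.a6, .a8], [0, 3, 3], []⟩,
  ⟨[.a8], [5, 4], [4, 5]⟩,
  ⟨[.a6], [1], [0]⟩,
  ⟨[.a5], [3], [0, 1]⟩,
  ⟨[.a3, .a11], [5], [1, 2]⟩]
def C1143 : List Ch := [⟨P624, 0, [.a1], [.a1, .a2]⟩,
  ⟨P663, 1, [], []⟩,
  ⟨P674, 0, [.a1, .a10], [.a1, .a2, .a4, .a5, .a7, .a9, .a10, .a11]⟩,
  ⟨P755, 2, [], []⟩,
  ⟨P755, 0, [.a7], [.a7, .a8]⟩,
  ⟨P768, 1, [], []⟩,
  ⟨P768, 0, [.a7], [.a7, .a8]⟩]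
def N1143 : List Ent := [⟨4, [.a2, .a10], [.a2, .a3, .a5, .a8, .a10, .a11]⟩,
  ⟨8, [.a3, .a11], [.a3, .a8, .a11]⟩,
  ⟨16, [.a4, .a11], [.a4, .a5, .a11]⟩,
  ⟨32, [.a5], [.a5]⟩,
  ⟨64, [.a6], [.a6]⟩,
  ⟨128, [.a7], [.a7, .a8]⟩,
  ⟨256, [.a8], [.a8]⟩,
  ⟨512, [.a9], [.a9]⟩,
  ⟨2048, [.a11], [.a11]⟩]
theorem bad1143 (c : CtxF Goal γ) : Bad Goal γ [] P1143 :=
  c.toCtx.bnd (B := B1143) (D := D1143) (I := [7, 0, 8, 1, 2, 3, 9]) (r := 3) (C := C1143) (N := N1143) (by decide +kernel) (by decide +kernel) (by decide +kernel) (by decide +kernel)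
    (allB_cons (bad624 c) (allB_cons (bad663 c) (allB_cons (bad674 c) (allB_cons (bad755 c) (allB_cons (bad755 c) (allB_cons (bad768 c) (allB_cons (bad768 c) (allB_nil))))))))

def P1144 : List Ent := [⟨4, [.a2, .a10], [.a2, .a3, .a5, .a8, .a10, .a11]⟩,
  ⟨8, [.a3, .a11], [.a3, .a8, .a11]⟩,
  ⟨16, [.a4], [.a4, .a5]⟩,
  ⟨32, [.a5], [.a5]⟩,
  ⟨64, [.a6], [.a6]⟩,
  ⟨256, [.a8], [.a8]⟩,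
  ⟨512, [.a9, .a11], [.a9, .a11]⟩]
def B1144 : List Gv := [⟨[.a2, .a10], [.a2, .a3, .a5, .a8, .a10, .a11]⟩, ⟨[.a4], [.a4, .a5]⟩, ⟨[.a9, .a11], [.a9, .a11]⟩]
def D1144 : List Dv := [⟨[.a3, .a6, .a8, .a11], [0, 0], []⟩,
  ⟨[.a5], [2, 2], []⟩,
  ⟨[.a6, .a8], [4, 2], [2, 4]⟩,
  ⟨[.a8], [5, 4], [4, 5]⟩,
  ⟨[.a6], [1], [0]⟩,
  ⟨[.a3, .a11], [4], [0, 1]⟩]
def C1144 : List Ch := [⟨P621, 0, [.a1], [.a1, .a2]⟩,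
  ⟨P664, 1, [], []⟩,
  ⟨P667, 0, [.a1], [.a1, .a2]⟩,
  ⟨P754, 2, [], []⟩,
  ⟨P754, 0, [.a7, .a10], [.a7, .a8, .a9, .a10, .a11]⟩,
  ⟨P768, 1, [], []⟩,
  ⟨P768, 0, [.a7, .a10], [.a7, .a8, .a9, .a10, .a11]⟩]
def N1144 : List Ent := [⟨4, [.a2, .a10], [.a2, .a3, .a5, .a8, .a10, .a11]⟩,
  ⟨8, [.a3, .a11], [.a3, .a8, .a11]⟩,
  ⟨16, [.a4], [.a4, .a5]⟩,
  ⟨32, [.a5], [.a5]⟩,
  ⟨64, [.a6], [.a6]⟩,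
  ⟨128, [.a7, .a10], [.a7, .a8, .a9, .a10, .a11]⟩,
  ⟨256, [.a8], [.a8]⟩,
  ⟨512, [.a9, .a11], [.a9, .a11]⟩,
  ⟨2048, [.a11], [.a11]⟩]
theorem bad1144 (c : CtxF Goal γ) : Bad Goal γ [] P1144 :=
  c.toCtx.bnd (B := B1144) (D := D1144) (I := [6, 0, 7, 4, 1, 2, 8]) (r := 3) (C := C1144) (N := N1144) (by decide +kernel) (by decide +kernel) (by decide +kernel) (by decide +kernel)
    (allB_cons (bad621 c) (allB_cons (bad664 c) (allB_cons (bad667 c) (allB_cons (bad754 c) (allB_cons (bad754 c) (allB_cons (bad768 c) (allB_cons (bad768 c) (allB_nil))))))))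

def P1145 : List Ent := [⟨4, [.a2, .a10], [.a2, .a3, .a5, .a8, .a10, .a11]⟩,
  ⟨8, [.a3, .a11], [.a3, .a8, .a11]⟩,
  ⟨16, [.a4, .a11], [.a4, .a5, .a11]⟩,
  ⟨32, [.a5], [.a5]⟩,
  ⟨64, [.a6], [.a6]⟩,
  ⟨256, [.a8], [.a8]⟩,
  ⟨512, [.a9, .a11], [.a9, .a11]⟩]
def B1145 : List Gv := [⟨[.a2, .a10], [.a2, .a3, .a5, .a8, .a10, .a11]⟩, ⟨[.a4, .a11], [.a4, .a5, .a11]⟩, ⟨[.a9, .a11], [.a9, .a11]⟩]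
def D1145 : List Dv := [⟨[.a3, .a6, .a8, .a11], [0, 0], []⟩,
  ⟨[.a5, .a6, .a8], [2, 1], [1, 2]⟩,
  ⟨[.a6, .a8], [0, 3, 3], []⟩,
  ⟨[.a8], [5, 4], [4, 5]⟩,
  ⟨[.a6], [1], [0]⟩,
  ⟨[.a5], [3], [0, 1]⟩,
  ⟨[.a3, .a11], [5], [1, 2]⟩]
def C1145 : List Ch := [⟨P619, 0, [.a1], [.a1, .a2]⟩,
  ⟨P664, 1, [], []⟩,
  ⟨P667, 0, [.a1, .a3, .a4, .a5, .a7, .a10], [.a1, .a2, .a10, .a11]⟩,
  ⟨P755, 2, [], []⟩,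
  ⟨P755, 0, [.a7, .a10], [.a7, .a8, .a9, .a10, .a11]⟩,
  ⟨P767, 1, [], []⟩,
  ⟨P767, 0, [.a7, .a10], [.a7, .a8, .a9, .a10, .a11]⟩]
def N1145 : List Ent := [⟨4, [.a2, .a10], [.a2, .a3, .a5, .a8, .a10, .a11]⟩,
  ⟨8, [.a3, .a11], [.a3, .a8, .a11]⟩,
  ⟨16, [.a4, .a11], [.a4, .a5, .a11]⟩,
  ⟨32, [.a5], [.a5]⟩,
  ⟨64, [.a6], [.a6]⟩,
  ⟨128, [.a7, .a10], [.a7, .a8, .a9, .a10, .a11]⟩,
  ⟨256, [.a8], [.a8]⟩,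
  ⟨512, [.a9, .a11], [.a9, .a11]⟩,
  ⟨2048, [.a11], [.a11]⟩]
theorem bad1145 (c : CtxF Goal γ) : Bad Goal γ [] P1145 :=
  c.toCtx.bnd (B := B1145) (D := D1145) (I := [7, 0, 8, 1, 2, 3, 9]) (r := 3) (C := C1145) (N := N1145) (by decide +kernel) (by decide +kernel) (by decide +kernel) (by decide +kernel)
    (allB_cons (bad619 c) (allB_cons (bad664 c) (allB_cons (bad667 c) (allB_cons (bad755 c) (allB_cons (bad755 c) (allB_cons (bad767 c) (allB_cons (bad767 c) (allB_nil))))))))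

def P1146 : List Ent := [⟨4, [.a2], [.a2]⟩,
  ⟨16, [.a4, .a7], [.a4, .a5, .a6, .a7, .a8]⟩,
  ⟨32, [.a5], [.a5]⟩,
  ⟨64, [.a6], [.a6]⟩,
  ⟨256, [.a8], [.a8]⟩,
  ⟨512, [.a9], [.a9]⟩,
  ⟨2048, [.a11], [.a11]⟩]
def B1146 : List Gv := [⟨[.a2], [.a2]⟩, ⟨[.a4, .a7], [.a4, .a5, .a6, .a7, .a8]⟩, ⟨[.a9], [.a9]⟩, ⟨[.a11], [.a11]⟩]
def D1146 : List Dv := [⟨[.a5, .a6, .a8], [1, 1], []⟩,
  ⟨[.a6, .a8], [0, 3, 1], [1, 3]⟩,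
  ⟨[.a8], [4, 3], [3, 4]⟩,
  ⟨[.a6], [1], [0]⟩,
  ⟨[.a5], [3], [0, 1]⟩]
def C1146 : List Ch := [⟨P586, 0, [], []⟩,
  ⟨P658, 1, [], []⟩,
  ⟨P718, 0, [], []⟩,
  ⟨P779, 2, [], []⟩,
  ⟨P780, 0, [], []⟩,
  ⟨P781, 1, [], []⟩,
  ⟨P782, 0, [], []⟩,
  ⟨P783, 3, [], []⟩,
  ⟨P634, 0, [.a0, .a1], [.a0, .a1, .a2]⟩,
  ⟨P660, 1, [.a0, .a1], [.a0, .a1, .a2]⟩,
  ⟨P784, 0, [], []⟩,
  ⟨P785, 2, [], []⟩,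
  ⟨P782, 0, [.a0, .a1, .a3, .a5, .a6, .a7, .a8, .a9, .a10], [.a0, .a10, .a11]⟩,
  ⟨P786, 1, [], []⟩,
  ⟨P787, 0, [], []⟩]
def S1146 : List St := [.cent 1 1 0 [⟨32, [.a5], [.a5]⟩,
  ⟨64, [.a6], [.a6]⟩,
  ⟨256, [.a8], [.a8]⟩]]
theorem bad1146 (c : CtxF Goal γ) : Bad Goal γ [] P1146 :=
  c.toCtx.chn (B := B1146) (D := D1146) (I := [5, 6, 0, 1, 2, 7, 8]) (r := 4) (C := C1146) (l := S1146) (x := ⟨[.a7], [.a7, .a8]⟩) (ix := [0]) (by decide +kernel) (by decide +kernel) (by decide +kernel) (by decide +kernel)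
    (allB_cons (bad586 c) (allB_cons (bad658 c) (allB_cons (bad718 c) (allB_cons (bad779 c) (allB_cons (bad780 c) (allB_cons (bad781 c) (allB_cons (bad782 c) (allB_cons (bad783 c) (allB_cons (bad634 c) (allB_cons (bad660 c) (allB_cons (bad784 c) (allB_cons (bad785 c) (allB_cons (bad782 c) (allB_cons (bad786 c) (allB_cons (bad787 c) (allB_nil))))))))))))))))

def P1147 : List Ent := [⟨4, [.a2], [.a2]⟩,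
  ⟨8, [.a3], [.a3]⟩,
  ⟨16, [.a4, .a7], [.a4, .a5, .a6, .a7, .a8]⟩,
  ⟨32, [.a5], [.a5]⟩,
  ⟨64, [.a6], [.a6]⟩,
  ⟨256, [.a8], [.a8]⟩,
  ⟨2048, [.a11], [.a11]⟩]
def B1147 : List Gv := [⟨[.a2], [.a2]⟩, ⟨[.a3], [.a3]⟩, ⟨[.a4, .a7], [.a4, .a5, .a6, .a7, .a8]⟩, ⟨[.a11], [.a11]⟩]
def D1147 : List Dv := [⟨[.a5], [2, 1], [1, 2]⟩,
  ⟨[.a6, .a8], [0, 3, 3], []⟩,
  ⟨[.a8], [5, 3], [3, 5]⟩,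
  ⟨[.a6], [1], [0]⟩]
def C1147 : List Ch := [⟨P633, 0, [], []⟩,
  ⟨P779, 1, [], []⟩,
  ⟨P781, 0, [.a10], [.a10, .a11]⟩,
  ⟨P659, 2, [], []⟩,
  ⟨P719, 0, [], []⟩,
  ⟨P785, 1, [.a1], [.a1, .a2]⟩,
  ⟨P786, 0, [.a0, .a10], [.a0, .a1, .a2, .a3, .a4, .a6, .a8, .a9, .a10, .a11]⟩,
  ⟨P788, 3, [], []⟩,
  ⟨P633, 0, [.a0, .a1], [.a0, .a1, .a2]⟩,
  ⟨P789, 1, [], []⟩,
  ⟨P781, 0, [.a0, .a1, .a3, .a5, .a6, .a7, .a8, .a9, .a10], [.a0, .a10, .a11]⟩,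
  ⟨P659, 2, [.a0, .a1, .a3, .a5, .a6, .a7, .a8, .a9, .a10], [.a0, .a10, .a11]⟩,
  ⟨P790, 0, [], []⟩,
  ⟨P785, 1, [.a0], [.a0]⟩,
  ⟨P791, 0, [], []⟩]
def N1147 : List Ent := [⟨1, [.a0, .a1], [.a0, .a1, .a2]⟩,
  ⟨4, [.a2], [.a2]⟩,
  ⟨8, [.a3], [.a3]⟩,
  ⟨16, [.a4, .a7], [.a4, .a5, .a6, .a7, .a8]⟩,
  ⟨32, [.a5], [.a5]⟩,
  ⟨64, [.a6], [.a6]⟩,
  ⟨128, [.a7], [.a7, .a8]⟩,
  ⟨256, [.a8], [.a8]⟩,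
  ⟨512, [.a9], [.a9]⟩,
  ⟨2048, [.a11], [.a11]⟩]
theorem bad1147 (c : CtxF Goal γ) : Bad Goal γ [] P1147 :=
  c.toCtx.bnd (B := B1147) (D := D1147) (I := [4, 5, 6, 3, 0, 1, 7]) (r := 4) (C := C1147) (N := N1147) (by decide +kernel) (by decide +kernel) (by decide +kernel) (by decide +kernel)
    (allB_cons (bad633 c) (allB_cons (bad779 c) (allB_cons (bad781 c) (allB_cons (bad659 c) (allB_cons (bad719 c) (allB_cons (bad785 c) (allB_cons (bad786 c) (allB_cons (bad788 c) (allB_cons (bad633 c) (allB_cons (bad789 c) (allB_cons (bad781 c) (allB_cons (bad659 c) (allB_cons (bad790 c) (allB_cons (bad785 c) (allB_cons (bad791 c) (allB_nil))))))))))))))))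

def P1148 : List Ent := [⟨4, [.a2, .a9], [.a2, .a5, .a9]⟩,
  ⟨8, [.a3], [.a3]⟩,
  ⟨16, [.a4, .a7], [.a4, .a5, .a6, .a7, .a8]⟩,
  ⟨32, [.a5], [.a5]⟩,
  ⟨64, [.a6], [.a6]⟩,
  ⟨256, [.a8], [.a8]⟩,
  ⟨2048, [.a11], [.a11]⟩]
def B1148 : List Gv := [⟨[.a2, .a9], [.a2, .a5, .a9]⟩, ⟨[.a3], [.a3]⟩, ⟨[.a4, .a7], [.a4, .a5, .a6, .a7, .a8]⟩, ⟨[.a11], [.a11]⟩]
def D1148 : List Dv := [⟨[.a5], [0, 0], []⟩,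
  ⟨[.a8], [3, 1], [1, 3]⟩,
  ⟨[.a6, .a8], [1, 4, 4], []⟩,
  ⟨[.a6], [0], [1]⟩]
def C1148 : List Ch := [⟨P633, 0, [], []⟩,
  ⟨P780, 1, [], []⟩,
  ⟨P782, 0, [.a10], [.a10, .a11]⟩,
  ⟨P656, 2, [], []⟩,
  ⟨P719, 0, [.a10], [.a10, .a11]⟩,
  ⟨P782, 1, [.a0, .a10], [.a0, .a1, .a2, .a3, .a4, .a6, .a8, .a9, .a10, .a11]⟩,
  ⟨P787, 0, [.a1, .a10], [.a1, .a2, .a4, .a5, .a7, .a9, .a10, .a11]⟩,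
  ⟨P792, 3, [], []⟩,
  ⟨P633, 0, [.a0], [.a0]⟩,
  ⟨P787, 1, [.a0, .a1, .a3, .a5, .a6, .a7, .a8, .a9, .a10], [.a0, .a10, .a11]⟩,
  ⟨P793, 0, [], []⟩,
  ⟨P656, 2, [.a0], [.a0]⟩,
  ⟨P790, 0, [.a0, .a1, .a3, .a5, .a6, .a7, .a8, .a9, .a10], [.a0, .a10, .a11]⟩,
  ⟨P793, 1, [.a0], [.a0]⟩,
  ⟨P780, 0, [.a0], [.a0]⟩]
def N1148 : List Ent := [⟨1, [.a0], [.a0]⟩,
  ⟨4, [.a2, .a9], [.a2, .a5, .a9]⟩,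
  ⟨8, [.a3], [.a3]⟩,
  ⟨16, [.a4, .a7], [.a4, .a5, .a6, .a7, .a8]⟩,
  ⟨32, [.a5], [.a5]⟩,
  ⟨64, [.a6], [.a6]⟩,
  ⟨128, [.a7], [.a7, .a8]⟩,
  ⟨256, [.a8], [.a8]⟩,
  ⟨512, [.a9], [.a9]⟩,
  ⟨2048, [.a11], [.a11]⟩]
theorem bad1148 (c : CtxF Goal γ) : Bad Goal γ [] P1148 :=
  c.toCtx.bnd (B := B1148) (D := D1148) (I := [4, 5, 6, 3, 0, 2, 7]) (r := 4) (C := C1148) (N := N1148) (by decide +kernel) (by decide +kernel) (by decide +kernel) (by decide +kernel)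
    (allB_cons (bad633 c) (allB_cons (bad780 c) (allB_cons (bad782 c) (allB_cons (bad656 c) (allB_cons (bad719 c) (allB_cons (bad782 c) (allB_cons (bad787 c) (allB_cons (bad792 c) (allB_cons (bad633 c) (allB_cons (bad787 c) (allB_cons (bad793 c) (allB_cons (bad656 c) (allB_cons (bad790 c) (allB_cons (bad793 c) (allB_cons (bad780 c) (allB_nil))))))))))))))))

def P1149 : List Ent := [⟨4, [.a2, .a9], [.a2, .a5, .a9]⟩,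
  ⟨8, [.a3, .a9], [.a3, .a9]⟩,
  ⟨16, [.a4, .a7], [.a4, .a5, .a6, .a7, .a8]⟩,
  ⟨32, [.a5], [.a5]⟩,
  ⟨64, [.a6], [.a6]⟩,
  ⟨256, [.a8], [.a8]⟩,
  ⟨2048, [.a11], [.a11]⟩]
def B1149 : List Gv := [⟨[.a2, .a9], [.a2, .a5, .a9]⟩, ⟨[.a3, .a9], [.a3, .a9]⟩, ⟨[.a4, .a7], [.a4, .a5, .a6, .a7, .a8]⟩, ⟨[.a11], [.a11]⟩]
def D1149 : List Dv := [⟨[.a5], [0, 0], []⟩,
  ⟨[.a8], [3, 1], [1, 3]⟩,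
  ⟨[.a6, .a8], [1, 4, 4], []⟩,
  ⟨[.a6], [0], [1]⟩]
def C1149 : List Ch := [⟨P634, 0, [], []⟩,
  ⟨P780, 1, [], []⟩,
  ⟨P781, 0, [.a10], [.a10, .a11]⟩,
  ⟨P660, 2, [.a10], [.a10, .a11]⟩,
  ⟨P717, 0, [], []⟩,
  ⟨P787, 1, [.a1], [.a1, .a2]⟩,
  ⟨P785, 0, [.a1, .a10], [.a1, .a2, .a4, .a5, .a7, .a9, .a10, .a11]⟩,
  ⟨P783, 3, [.a0, .a1, .a3, .a5, .a6, .a7, .a8, .a9, .a10], [.a0, .a10, .a11]⟩,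
  ⟨P636, 0, [.a0, .a1, .a3, .a5, .a6, .a7, .a8, .a9, .a10], [.a0, .a10, .a11]⟩,
  ⟨P793, 1, [.a0, .a1], [.a0, .a1, .a2]⟩,
  ⟨P791, 0, [.a0], [.a0]⟩,
  ⟨P662, 2, [.a0, .a1, .a3, .a5, .a6, .a7, .a8, .a9, .a10], [.a0, .a10, .a11]⟩,
  ⟨P784, 0, [.a0], [.a0]⟩,
  ⟨P793, 1, [.a1, .a10], [.a1, .a2, .a4, .a5, .a7, .a9, .a10, .a11]⟩,
  ⟨P789, 0, [.a0, .a1, .a3, .a5, .a6, .a7, .a8, .a9, .a10], [.a0, .a10, .a11]⟩]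
def S1149 : List St := [.cent 1 1 0 [⟨32, [.a5], [.a5]⟩,
  ⟨64, [.a6], [.a6]⟩,
  ⟨256, [.a8], [.a8]⟩]]
theorem bad1149 (c : CtxF Goal γ) : Bad Goal γ [] P1149 :=
  c.toCtx.chn (B := B1149) (D := D1149) (I := [4, 5, 6, 3, 0, 2, 7]) (r := 4) (C := C1149) (l := S1149) (x := ⟨[.a9], [.a9]⟩) (ix := [0]) (by decide +kernel) (by decide +kernel) (by decide +kernel) (by decide +kernel)
    (allB_cons (bad634 c) (allB_cons (bad780 c) (allB_cons (bad781 c) (allB_cons (bad660 c) (allB_cons (bad717 c) (allB_cons (bad787 c) (allB_cons (bad785 c) (allB_cons (bad783 c) (allB_cons (bad636 c) (allB_cons (bad793 c) (allB_cons (bad791 c) (allB_cons (bad662 c) (allB_cons (bad784 c) (allB_cons (bad793 c) (allB_cons (bad789 c) (allB_nil))))))))))))))))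

def P1150 : List Ent := [⟨4, [.a2], [.a2]⟩,
  ⟨8, [.a3], [.a3]⟩,
  ⟨16, [.a4, .a7], [.a4, .a5, .a6, .a7, .a8]⟩,
  ⟨32, [.a5], [.a5]⟩,
  ⟨64, [.a6], [.a6]⟩,
  ⟨256, [.a8], [.a8]⟩,
  ⟨512, [.a9], [.a9]⟩]
def B1150 : List Gv := [⟨[.a2], [.a2]⟩, ⟨[.a3], [.a3]⟩, ⟨[.a4, .a7], [.a4, .a5, .a6, .a7, .a8]⟩, ⟨[.a9], [.a9]⟩]
def D1150 : List Dv := [⟨[.a5], [2, 1], [1, 2]⟩,
  ⟨[.a6, .a8], [0, 3, 3], []⟩,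
  ⟨[.a8], [5, 4], [4, 5]⟩,
  ⟨[.a6], [1], [0]⟩]
def C1150 : List Ch := [⟨P635, 0, [], []⟩,
  ⟨P783, 1, [], []⟩,
  ⟨P783, 0, [.a10], [.a10, .a11]⟩,
  ⟨P661, 2, [], []⟩,
  ⟨P720, 0, [], []⟩,
  ⟨P783, 1, [.a1], [.a1, .a2]⟩,
  ⟨P783, 0, [.a1, .a10], [.a1, .a2, .a4, .a5, .a7, .a9, .a10, .a11]⟩,
  ⟨P788, 3, [], []⟩,
  ⟨P792, 0, [], []⟩,
  ⟨P783, 1, [.a0, .a1], [.a0, .a1, .a2]⟩,
  ⟨P783, 0, [.a0, .a1, .a3, .a5, .a6, .a7, .a8, .a9, .a10], [.a0, .a10, .a11]⟩,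
  ⟨P788, 2, [.a10], [.a10, .a11]⟩,
  ⟨P792, 0, [.a10], [.a10, .a11]⟩,
  ⟨P783, 1, [.a0], [.a0]⟩,
  ⟨P783, 0, [.a0, .a10], [.a0, .a1, .a2, .a3, .a4, .a6, .a8, .a9, .a10, .a11]⟩]
def N1150 : List Ent := [⟨1, [.a0], [.a0]⟩,
  ⟨2, [.a1], [.a1, .a2]⟩,
  ⟨4, [.a2], [.a2]⟩,
  ⟨8, [.a3], [.a3]⟩,
  ⟨16, [.a4, .a7], [.a4, .a5, .a6, .a7, .a8]⟩,
  ⟨32, [.a5], [.a5]⟩,
  ⟨64, [.a6], [.a6]⟩,
  ⟨128, [.a7], [.a7, .a8]⟩,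
  ⟨256, [.a8], [.a8]⟩,
  ⟨512, [.a9], [.a9]⟩,
  ⟨1024, [.a10], [.a10, .a11]⟩,
  ⟨2048, [.a11], [.a11]⟩]
theorem bad1150 (c : CtxF Goal γ) : Bad Goal γ [] P1150 :=
  c.toCtx.bnd (B := B1150) (D := D1150) (I := [4, 5, 6, 3, 0, 1, 7]) (r := 4) (C := C1150) (N := N1150) (by decide +kernel) (by decide +kernel) (by decide +kernel) (by decide +kernel)
    (allB_cons (bad635 c) (allB_cons (bad783 c) (allB_cons (bad783 c) (allB_cons (bad661 c) (allB_cons (bad720 c) (allB_cons (bad783 c) (allB_cons (bad783 c) (allB_cons (bad788 c) (allB_cons (bad792 c) (allB_cons (bad783 c) (allB_cons (bad783 c) (allB_cons (bad788 c) (allB_cons (bad792 c) (allB_cons (bad783 c) (allB_cons (bad783 c) (allB_nil))))))))))))))))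

def P1151 : List Ent := [⟨4, [.a2, .a11], [.a2, .a5, .a6, .a8, .a11]⟩,
  ⟨8, [.a3], [.a3]⟩,
  ⟨16, [.a4, .a7, .a11], [.a4, .a5, .a6, .a7, .a8, .a11]⟩,
  ⟨32, [.a5], [.a5]⟩,
  ⟨64, [.a6], [.a6]⟩,
  ⟨256, [.a8], [.a8]⟩,
  ⟨512, [.a9], [.a9]⟩]
def B1151 : List Gv := [⟨[.a2, .a11], [.a2, .a5, .a6, .a8, .a11]⟩, ⟨[.a3], [.a3]⟩, ⟨[.a4, .a7, .a11], [.a4, .a5, .a6, .a7, .a8, .a11]⟩, ⟨[.a9], [.a9]⟩]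
def D1151 : List Dv := [⟨[.a5, .a6, .a8], [0, 0], []⟩,
  ⟨[.a8], [2, 1], [1, 2]⟩,
  ⟨[.a6], [1, 4, 3], [3, 4]⟩,
  ⟨[.a5], [2], [0, 1]⟩]
def C1151 : List Ch := [⟨P637, 0, [], []⟩,
  ⟨P784, 1, [], []⟩,
  ⟨P784, 0, [.a10], [.a10, .a11]⟩,
  ⟨P637, 2, [.a0], [.a0]⟩,
  ⟨P720, 0, [], []⟩,
  ⟨P784, 1, [.a1], [.a1, .a2]⟩,
  ⟨P784, 0, [.a1, .a10], [.a1, .a2, .a4, .a5, .a7, .a9, .a10, .a11]⟩,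
  ⟨P790, 3, [], []⟩,
  ⟨P790, 0, [.a0, .a1, .a3, .a5, .a6, .a7, .a8, .a9, .a10], [.a0, .a10, .a11]⟩,
  ⟨P784, 1, [.a0, .a1], [.a0, .a1, .a2]⟩,
  ⟨P784, 0, [.a0], [.a0]⟩,
  ⟨P790, 2, [.a10], [.a10, .a11]⟩,
  ⟨P790, 0, [.a0], [.a0]⟩,
  ⟨P784, 1, [.a0, .a1, .a3, .a5, .a6, .a7, .a8, .a9, .a10], [.a0, .a10, .a11]⟩,
  ⟨P784, 0, [.a0, .a10], [.a0, .a1, .a2, .a3, .a4, .a6, .a8, .a9, .a10, .a11]⟩]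
def N1151 : List Ent := [⟨1, [.a0], [.a0]⟩,
  ⟨2, [.a1], [.a1, .a2]⟩,
  ⟨4, [.a2, .a11], [.a2, .a5, .a6, .a8, .a11]⟩,
  ⟨8, [.a3], [.a3]⟩,
  ⟨16, [.a4, .a7, .a11], [.a4, .a5, .a6, .a7, .a8, .a11]⟩,
  ⟨32, [.a5], [.a5]⟩,
  ⟨64, [.a6], [.a6]⟩,
  ⟨128, [.a7], [.a7, .a8]⟩,
  ⟨256, [.a8], [.a8]⟩,
  ⟨512, [.a9], [.a9]⟩,
  ⟨1024, [.a10], [.a10, .a11]⟩,
  ⟨2048, [.a11], [.a11]⟩]
theorem bad1151 (c : CtxF Goal γ) : Bad Goal γ [] P1151 :=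
  c.toCtx.bnd (B := B1151) (D := D1151) (I := [4, 5, 6, 0, 1, 2, 7]) (r := 4) (C := C1151) (N := N1151) (by decide +kernel) (by decide +kernel) (by decide +kernel) (by decide +kernel)
    (allB_cons (bad637 c) (allB_cons (bad784 c) (allB_cons (bad784 c) (allB_cons (bad637 c) (allB_cons (bad720 c) (allB_cons (bad784 c) (allB_cons (bad784 c) (allB_cons (bad790 c) (allB_cons (bad790 c) (allB_cons (bad784 c) (allB_cons (bad784 c) (allB_cons (bad790 c) (allB_cons (bad790 c) (allB_cons (bad784 c) (allB_cons (bad784 c) (allB_nil))))))))))))))))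

def P1152 : List Ent := [⟨4, [.a2, .a10], [.a2, .a3, .a5, .a8, .a10, .a11]⟩,
  ⟨8, [.a3, .a11], [.a3, .a8, .a11]⟩,
  ⟨16, [.a4, .a7], [.a4, .a5, .a6, .a7, .a8]⟩,
  ⟨32, [.a5], [.a5]⟩,
  ⟨64, [.a6], [.a6]⟩,
  ⟨256, [.a8], [.a8]⟩,
  ⟨512, [.a9], [.a9]⟩]
def B1152 : List Gv := [⟨[.a2, .a10], [.a2, .a3, .a5, .a8, .a10, .a11]⟩, ⟨[.a4, .a7], [.a4, .a5, .a6, .a7, .a8]⟩]
def D1152 : List Dv := [⟨[.a3, .a6, .a8, .a11], [0, 0], []⟩,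
  ⟨[.a5, .a8, .a9], [2, 1], [1, 2]⟩,
  ⟨[.a6, .a9], [0, 3, 3], []⟩,
  ⟨[.a8, .a9], [1, 2, 4], [4, 2]⟩,
  ⟨[.a9], [0, 3, 3], []⟩,
  ⟨[.a8], [1], [0]⟩,
  ⟨[.a6], [3], [1]⟩,
  ⟨[.a5], [5], [1, 2]⟩,
  ⟨[.a3, .a11], [7], [1, 2]⟩]
def C1152 : List Ch := [⟨P636, 0, [], []⟩,
  ⟨P663, 1, [], []⟩,
  ⟨P663, 0, [.a1], [.a1, .a2]⟩]
def N1152 : List Ent := [⟨4, [.a2, .a10], [.a2, .a3, .a5, .a8, .a10, .a11]⟩,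
  ⟨8, [.a3, .a11], [.a3, .a8, .a11]⟩,
  ⟨16, [.a4, .a7], [.a4, .a5, .a6, .a7, .a8]⟩,
  ⟨32, [.a5], [.a5]⟩,
  ⟨64, [.a6], [.a6]⟩,
  ⟨128, [.a7], [.a7, .a8]⟩,
  ⟨256, [.a8], [.a8]⟩,
  ⟨512, [.a9], [.a9]⟩,
  ⟨2048, [.a11], [.a11]⟩]
theorem bad1152 (c : CtxF Goal γ) : Bad Goal γ [] P1152 :=
  c.toCtx.bnd (B := B1152) (D := D1152) (I := [9, 0, 10, 1, 2, 3, 4]) (r := 2) (C := C1152) (N := N1152) (by decide +kernel) (by decide +kernel) (by decide +kernel) (by decide +kernel)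
    (allB_cons (bad636 c) (allB_cons (bad663 c) (allB_cons (bad663 c) (allB_nil))))

def P1153 : List Ent := [⟨4, [.a2, .a7], [.a2, .a7, .a8]⟩,
  ⟨16, [.a4, .a7], [.a4, .a5, .a6, .a7, .a8]⟩,
  ⟨32, [.a5], [.a5]⟩,
  ⟨64, [.a6], [.a6]⟩,
  ⟨256, [.a8], [.a8]⟩,
  ⟨512, [.a9], [.a9]⟩,
  ⟨2048, [.a11], [.a11]⟩]
def B1153 : List Gv := [⟨[.a2, .a7], [.a2, .a7, .a8]⟩, ⟨[.a4, .a7], [.a4, .a5, .a6, .a7, .a8]⟩, ⟨[.a9], [.a9]⟩, ⟨[.a11], [.a11]⟩]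
def D1153 : List Dv := [⟨[.a8], [0, 0], []⟩,
  ⟨[.a6], [2, 1], [1, 2]⟩,
  ⟨[.a5, .a6, .a8], [3, 3], []⟩,
  ⟨[.a5], [0], [1, 2]⟩]
def C1153 : List Ch := [⟨P586, 0, [], []⟩,
  ⟨P669, 1, [], []⟩,
  ⟨P713, 0, [], []⟩,
  ⟨P794, 2, [], []⟩,
  ⟨P795, 0, [], []⟩,
  ⟨P796, 1, [], []⟩,
  ⟨P797, 0, [], []⟩,
  ⟨P646, 3, [.a0, .a10], [.a0, .a1, .a2, .a3, .a4, .a6, .a8, .a9, .a10, .a11]⟩,
  ⟨P798, 0, [], []⟩,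
  ⟨P703, 1, [.a0, .a10], [.a0, .a1, .a2, .a3, .a4, .a6, .a8, .a9, .a10, .a11]⟩,
  ⟨P775, 0, [.a0, .a10], [.a0, .a1, .a2, .a3, .a4, .a6, .a8, .a9, .a10, .a11]⟩,
  ⟨P799, 2, [], []⟩,
  ⟨P800, 0, [], []⟩,
  ⟨P801, 1, [], []⟩,
  ⟨P802, 0, [], []⟩]
def S1153 : List St := [.cent 1 1 0 [⟨32, [.a5], [.a5]⟩,
  ⟨64, [.a6], [.a6]⟩,
  ⟨256, [.a8], [.a8]⟩]]
theorem bad1153 (c : CtxF Goal γ) : Bad Goal γ [] P1153 :=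
  c.toCtx.chn (B := B1153) (D := D1153) (I := [4, 5, 0, 2, 3, 6, 7]) (r := 4) (C := C1153) (l := S1153) (x := ⟨[.a7], [.a7, .a8]⟩) (ix := [0]) (by decide +kernel) (by decide +kernel) (by decide +kernel) (by decide +kernel)
    (allB_cons (bad586 c) (allB_cons (bad669 c) (allB_cons (bad713 c) (allB_cons (bad794 c) (allB_cons (bad795 c) (allB_cons (bad796 c) (allB_cons (bad797 c) (allB_cons (bad646 c) (allB_cons (bad798 c) (allB_cons (bad703 c) (allB_cons (bad775 c) (allB_cons (bad799 c) (allB_cons (bad800 c) (allB_cons (bad801 c) (allB_cons (bad802 c) (allB_nil))))))))))))))))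

def P1154 : List Ent := [⟨4, [.a2, .a7], [.a2, .a7, .a8]⟩,
  ⟨8, [.a3], [.a3]⟩,
  ⟨16, [.a4, .a7], [.a4, .a5, .a6, .a7, .a8]⟩,
  ⟨32, [.a5], [.a5]⟩,
  ⟨64, [.a6], [.a6]⟩,
  ⟨256, [.a8], [.a8]⟩,
  ⟨2048, [.a11], [.a11]⟩]
def B1154 : List Gv := [⟨[.a2, .a7], [.a2, .a7, .a8]⟩, ⟨[.a3], [.a3]⟩, ⟨[.a4, .a7], [.a4, .a5, .a6, .a7, .a8]⟩, ⟨[.a11], [.a11]⟩]
def D1154 : List Dv := [⟨[.a8], [0, 0], []⟩,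
  ⟨[.a5], [2, 1], [1, 2]⟩,
  ⟨[.a6], [4, 2], [2, 4]⟩]
def C1154 : List Ch := [⟨P633, 0, [], []⟩,
  ⟨P794, 1, [], []⟩,
  ⟨P797, 0, [.a10], [.a10, .a11]⟩,
  ⟨P670, 2, [], []⟩,
  ⟨P714, 0, [], []⟩,
  ⟨P799, 1, [.a1], [.a1, .a2]⟩,
  ⟨P802, 0, [.a1, .a10], [.a1, .a2, .a4, .a5, .a7, .a9, .a10, .a11]⟩,
  ⟨P638, 3, [.a0], [.a0]⟩,
  ⟨P803, 0, [], []⟩,
  ⟨P804, 1, [], []⟩,
  ⟨P805, 0, [], []⟩,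
  ⟨P691, 2, [.a0, .a1], [.a0, .a1, .a2]⟩,
  ⟨P751, 0, [.a0, .a1, .a3, .a5, .a6, .a7, .a8, .a9, .a10], [.a0, .a10, .a11]⟩,
  ⟨P806, 1, [], []⟩,
  ⟨P807, 0, [], []⟩]
def S1154 : List St := [.cent 1 1 0 [⟨32, [.a5], [.a5]⟩,
  ⟨64, [.a6], [.a6]⟩,
  ⟨256, [.a8], [.a8]⟩]]
theorem bad1154 (c : CtxF Goal γ) : Bad Goal γ [] P1154 :=
  c.toCtx.chn (B := B1154) (D := D1154) (I := [3, 4, 5, 1, 0, 2, 6]) (r := 4) (C := C1154) (l := S1154) (x := ⟨[.a9], [.a9]⟩) (ix := [0]) (by decide +kernel) (by decide +kernel) (by decide +kernel) (by decide +kernel)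
    (allB_cons (bad633 c) (allB_cons (bad794 c) (allB_cons (bad797 c) (allB_cons (bad670 c) (allB_cons (bad714 c) (allB_cons (bad799 c) (allB_cons (bad802 c) (allB_cons (bad638 c) (allB_cons (bad803 c) (allB_cons (bad804 c) (allB_cons (bad805 c) (allB_cons (bad691 c) (allB_cons (bad751 c) (allB_cons (bad806 c) (allB_cons (bad807 c) (allB_nil))))))))))))))))

def P1155 : List Ent := [⟨4, [.a2, .a7, .a9], [.a2, .a5, .a7, .a8, .a9]⟩,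
  ⟨8, [.a3], [.a3]⟩,
  ⟨16, [.a4, .a7], [.a4, .a5, .a6, .a7, .a8]⟩,
  ⟨32, [.a5], [.a5]⟩,
  ⟨64, [.a6], [.a6]⟩,
  ⟨256, [.a8], [.a8]⟩,
  ⟨2048, [.a11], [.a11]⟩]
def B1155 : List Gv := [⟨[.a2, .a7, .a9], [.a2, .a5, .a7, .a8, .a9]⟩, ⟨[.a3], [.a3]⟩, ⟨[.a4, .a7], [.a4, .a5, .a6, .a7, .a8]⟩, ⟨[.a11], [.a11]⟩]
def D1155 : List Dv := [⟨[.a5, .a8], [0, 0], []⟩,
  ⟨[.a8], [0, 2, 1], [1, 2]⟩,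
  ⟨[.a6, .a8], [4, 2], [2, 4]⟩,
  ⟨[.a6], [0], [1]⟩,
  ⟨[.a5], [3], [2]⟩]
def C1155 : List Ch := [⟨P633, 0, [], []⟩,
  ⟨P795, 1, [], []⟩,
  ⟨P796, 0, [.a10], [.a10, .a11]⟩,
  ⟨P670, 2, [.a10], [.a10, .a11]⟩,
  ⟨P711, 0, [], []⟩,
  ⟨P800, 1, [.a1], [.a1, .a2]⟩,
  ⟨P801, 0, [.a1, .a10], [.a1, .a2, .a4, .a5, .a7, .a9, .a10, .a11]⟩,
  ⟨P651, 3, [.a0, .a1, .a3, .a5, .a6, .a7, .a8, .a9, .a10], [.a0, .a10, .a11]⟩,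
  ⟨P803, 0, [.a0], [.a0]⟩,
  ⟨P808, 1, [], []⟩,
  ⟨P809, 0, [], []⟩,
  ⟨P691, 2, [.a0, .a1, .a3, .a5, .a6, .a7, .a8, .a9, .a10], [.a0, .a10, .a11]⟩,
  ⟨P764, 0, [.a0, .a1, .a3, .a5, .a6, .a7, .a8, .a9, .a10], [.a0, .a10, .a11]⟩,
  ⟨P810, 1, [], []⟩,
  ⟨P811, 0, [], []⟩]
def S1155 : List St := [.cent 1 1 0 [⟨32, [.a5], [.a5]⟩,
  ⟨64, [.a6], [.a6]⟩,
  ⟨256, [.a8], [.a8]⟩]]
theorem bad1155 (c : CtxF Goal γ) : Bad Goal γ [] P1155 :=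
  c.toCtx.chn (B := B1155) (D := D1155) (I := [5, 6, 7, 0, 1, 3, 8]) (r := 4) (C := C1155) (l := S1155) (x := ⟨[.a9], [.a9]⟩) (ix := [0]) (by decide +kernel) (by decide +kernel) (by decide +kernel) (by decide +kernel)
    (allB_cons (bad633 c) (allB_cons (bad795 c) (allB_cons (bad796 c) (allB_cons (bad670 c) (allB_cons (bad711 c) (allB_cons (bad800 c) (allB_cons (bad801 c) (allB_cons (bad651 c) (allB_cons (bad803 c) (allB_cons (bad808 c) (allB_cons (bad809 c) (allB_cons (bad691 c) (allB_cons (bad764 c) (allB_cons (bad810 c) (allB_cons (bad811 c) (allB_nil))))))))))))))))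

def P1156 : List Ent := [⟨4, [.a2, .a7], [.a2, .a7, .a8]⟩,
  ⟨8, [.a3, .a9], [.a3, .a9]⟩,
  ⟨16, [.a4, .a7], [.a4, .a5, .a6, .a7, .a8]⟩,
  ⟨32, [.a5], [.a5]⟩,
  ⟨64, [.a6], [.a6]⟩,
  ⟨256, [.a8], [.a8]⟩,
  ⟨2048, [.a11], [.a11]⟩]
def B1156 : List Gv := [⟨[.a2, .a7], [.a2, .a7, .a8]⟩, ⟨[.a3, .a9], [.a3, .a9]⟩, ⟨[.a4, .a7], [.a4, .a5, .a6, .a7, .a8]⟩, ⟨[.a11], [.a11]⟩]
def D1156 : List Dv := [⟨[.a8], [0, 0], []⟩,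
  ⟨[.a6], [3, 1], [1, 3]⟩,
  ⟨[.a5, .a8], [4, 3], [3, 4]⟩,
  ⟨[.a5], [0], [2]⟩]
def C1156 : List Ch := [⟨P634, 0, [], []⟩,
  ⟨P794, 1, [], []⟩,
  ⟨P796, 0, [.a10], [.a10, .a11]⟩,
  ⟨P666, 2, [], []⟩,
  ⟨P715, 0, [], []⟩,
  ⟨P801, 1, [.a1], [.a1, .a2]⟩,
  ⟨P799, 0, [.a1, .a10], [.a1, .a2, .a4, .a5, .a7, .a9, .a10, .a11]⟩,
  ⟨P627, 3, [.a0], [.a0]⟩,
  ⟨P798, 0, [.a0, .a1, .a3, .a5, .a6, .a7, .a8, .a9, .a10], [.a0, .a10, .a11]⟩,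
  ⟨P806, 1, [.a1], [.a1, .a2]⟩,
  ⟨P811, 0, [.a1], [.a1, .a2]⟩,
  ⟨P688, 2, [.a0], [.a0]⟩,
  ⟨P774, 0, [.a0], [.a0]⟩,
  ⟨P809, 1, [.a1, .a10], [.a1, .a2, .a4, .a5, .a7, .a9, .a10, .a11]⟩,
  ⟨P804, 0, [.a1, .a10], [.a1, .a2, .a4, .a5, .a7, .a9, .a10, .a11]⟩]
def S1156 : List St := [.cent 1 1 0 [⟨32, [.a5], [.a5]⟩,
  ⟨64, [.a6], [.a6]⟩,
  ⟨256, [.a8], [.a8]⟩]]
theorem bad1156 (c : CtxF Goal γ) : Bad Goal γ [] P1156 :=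
  c.toCtx.chn (B := B1156) (D := D1156) (I := [4, 5, 6, 0, 2, 3, 7]) (r := 4) (C := C1156) (l := S1156) (x := ⟨[.a9], [.a9]⟩) (ix := [0]) (by decide +kernel) (by decide +kernel) (by decide +kernel) (by decide +kernel)
    (allB_cons (bad634 c) (allB_cons (bad794 c) (allB_cons (bad796 c) (allB_cons (bad666 c) (allB_cons (bad715 c) (allB_cons (bad801 c) (allB_cons (bad799 c) (allB_cons (bad627 c) (allB_cons (bad798 c) (allB_cons (bad806 c) (allB_cons (bad811 c) (allB_cons (bad688 c) (allB_cons (bad774 c) (allB_cons (bad809 c) (allB_cons (bad804 c) (allB_nil))))))))))))))))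

def P1157 : List Ent := [⟨4, [.a2, .a7, .a9], [.a2, .a5, .a7, .a8, .a9]⟩,
  ⟨8, [.a3, .a9], [.a3, .a9]⟩,
  ⟨16, [.a4, .a7], [.a4, .a5, .a6, .a7, .a8]⟩,
  ⟨32, [.a5], [.a5]⟩,
  ⟨64, [.a6], [.a6]⟩,
  ⟨256, [.a8], [.a8]⟩,
  ⟨2048, [.a11], [.a11]⟩]
def B1157 : List Gv := [⟨[.a2, .a7, .a9], [.a2, .a5, .a7, .a8, .a9]⟩, ⟨[.a3, .a9], [.a3, .a9]⟩, ⟨[.a4, .a7], [.a4, .a5, .a6, .a7, .a8]⟩, ⟨[.a11], [.a11]⟩]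
def D1157 : List Dv := [⟨[.a5, .a8], [0, 0], []⟩,
  ⟨[.a6, .a8], [3, 1], [1, 3]⟩,
  ⟨[.a8], [0, 1, 4, 4], []⟩,
  ⟨[.a6], [1], [0]⟩,
  ⟨[.a5], [3], [1]⟩]
def C1157 : List Ch := [⟨P634, 0, [], []⟩,
  ⟨P795, 1, [], []⟩,
  ⟨P797, 0, [.a10], [.a10, .a11]⟩,
  ⟨P671, 2, [], []⟩,
  ⟨P715, 0, [.a10], [.a10, .a11]⟩,
  ⟨P802, 1, [.a1], [.a1, .a2]⟩,
  ⟨P800, 0, [.a1, .a10], [.a1, .a2, .a4, .a5, .a7, .a9, .a10, .a11]⟩,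
  ⟨P590, 3, [.a0, .a1, .a3, .a5, .a6, .a7, .a8, .a9, .a10], [.a0, .a10, .a11]⟩,
  ⟨P798, 0, [.a0, .a1], [.a0, .a1, .a2]⟩,
  ⟨P810, 1, [.a1], [.a1, .a2]⟩,
  ⟨P807, 0, [.a1], [.a1, .a2]⟩,
  ⟨P681, 2, [.a0], [.a0]⟩,
  ⟨P774, 0, [.a0, .a1], [.a0, .a1, .a2]⟩,
  ⟨P805, 1, [.a1, .a10], [.a1, .a2, .a4, .a5, .a7, .a9, .a10, .a11]⟩,
  ⟨P808, 0, [.a1, .a10], [.a1, .a2, .a4, .a5, .a7, .a9, .a10, .a11]⟩]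
def S1157 : List St := [.cent 1 1 0 [⟨32, [.a5], [.a5]⟩,
  ⟨64, [.a6], [.a6]⟩,
  ⟨256, [.a8], [.a8]⟩]]
theorem bad1157 (c : CtxF Goal γ) : Bad Goal γ [] P1157 :=
  c.toCtx.chn (B := B1157) (D := D1157) (I := [5, 6, 7, 0, 1, 2, 8]) (r := 4) (C := C1157) (l := S1157) (x := ⟨[.a9], [.a9]⟩) (ix := [0]) (by decide +kernel) (by decide +kernel) (by decide +kernel) (by decide +kernel)
    (allB_cons (bad634 c) (allB_cons (bad795 c) (allB_cons (bad797 c) (allB_cons (bad671 c) (allB_cons (bad715 c) (allB_cons (bad802 c) (allB_cons (bad800 c) (allB_cons (bad590 c) (allB_cons (bad798 c) (allB_cons (bad810 c) (allB_cons (bad807 c) (allB_cons (bad681 c) (allB_cons (bad774 c) (allB_cons (bad805 c) (allB_cons (bad808 c) (allB_nil))))))))))))))))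

def P1158 : List Ent := [⟨4, [.a2, .a7, .a11], [.a2, .a5, .a6, .a7, .a11]⟩,
  ⟨8, [.a3], [.a3]⟩,
  ⟨16, [.a4, .a7], [.a4, .a5, .a6, .a7, .a8]⟩,
  ⟨32, [.a5], [.a5]⟩,
  ⟨64, [.a6], [.a6]⟩,
  ⟨256, [.a8], [.a8]⟩,
  ⟨512, [.a9], [.a9]⟩]
def B1158 : List Gv := [⟨[.a2, .a7, .a11], [.a2, .a5, .a6, .a7, .a11]⟩, ⟨[.a3], [.a3]⟩, ⟨[.a4, .a7], [.a4, .a5, .a6, .a7, .a8]⟩, ⟨[.a9], [.a9]⟩]
def D1158 : List Dv := [⟨[.a5, .a6], [0, 0], []⟩,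
  ⟨[.a6, .a8], [0, 2, 1], [1, 2]⟩,
  ⟨[.a8], [0, 4, 2], [2, 4]⟩,
  ⟨[.a6], [1], [0]⟩,
  ⟨[.a5], [3], [0]⟩]
def C1158 : List Ch := [⟨P635, 0, [], []⟩,
  ⟨P798, 1, [], []⟩,
  ⟨P798, 0, [.a10], [.a10, .a11]⟩,
  ⟨P672, 2, [], []⟩,
  ⟨P672, 0, [.a0], [.a0]⟩,
  ⟨P798, 1, [.a1], [.a1, .a2]⟩,
  ⟨P798, 0, [.a1, .a10], [.a1, .a2, .a4, .a5, .a7, .a9, .a10, .a11]⟩,
  ⟨P803, 3, [], []⟩,
  ⟨P803, 0, [.a0], [.a0]⟩,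
  ⟨P798, 1, [.a0, .a1, .a3, .a5, .a6, .a7, .a8, .a9, .a10], [.a0, .a10, .a11]⟩,
  ⟨P798, 0, [.a0, .a1], [.a0, .a1, .a2]⟩,
  ⟨P803, 2, [.a0, .a1, .a3, .a5, .a6, .a7, .a8, .a9, .a10], [.a0, .a10, .a11]⟩,
  ⟨P803, 0, [.a10], [.a10, .a11]⟩,
  ⟨P798, 1, [.a0], [.a0]⟩,
  ⟨P798, 0, [.a0, .a10], [.a0, .a1, .a2, .a3, .a4, .a6, .a8, .a9, .a10, .a11]⟩]
def N1158 : List Ent := [⟨1, [.a0], [.a0]⟩,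
  ⟨2, [.a1], [.a1, .a2]⟩,
  ⟨4, [.a2, .a7, .a11], [.a2, .a5, .a6, .a7, .a11]⟩,
  ⟨8, [.a3], [.a3]⟩,
  ⟨16, [.a4, .a7], [.a4, .a5, .a6, .a7, .a8]⟩,
  ⟨32, [.a5], [.a5]⟩,
  ⟨64, [.a6], [.a6]⟩,
  ⟨128, [.a7], [.a7, .a8]⟩,
  ⟨256, [.a8], [.a8]⟩,
  ⟨512, [.a9], [.a9]⟩,
  ⟨1024, [.a10], [.a10, .a11]⟩,
  ⟨2048, [.a11], [.a11]⟩]
theorem bad1158 (c : CtxF Goal γ) : Bad Goal γ [] P1158 :=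
  c.toCtx.bnd (B := B1158) (D := D1158) (I := [5, 6, 7, 0, 1, 2, 8]) (r := 4) (C := C1158) (N := N1158) (by decide +kernel) (by decide +kernel) (by decide +kernel) (by decide +kernel)
    (allB_cons (bad635 c) (allB_cons (bad798 c) (allB_cons (bad798 c) (allB_cons (bad672 c) (allB_cons (bad672 c) (allB_cons (bad798 c) (allB_cons (bad798 c) (allB_cons (bad803 c) (allB_cons (bad803 c) (allB_cons (bad798 c) (allB_cons (bad798 c) (allB_cons (bad803 c) (allB_cons (bad803 c) (allB_cons (bad798 c) (allB_cons (bad798 c) (allB_nil))))))))))))))))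

def P1159 : List Ent := [⟨4, [.a2, .a7], [.a2, .a7, .a8]⟩,
  ⟨8, [.a3, .a11], [.a3, .a8, .a11]⟩,
  ⟨16, [.a4, .a7], [.a4, .a5, .a6, .a7, .a8]⟩,
  ⟨32, [.a5], [.a5]⟩,
  ⟨64, [.a6], [.a6]⟩,
  ⟨256, [.a8], [.a8]⟩,
  ⟨512, [.a9], [.a9]⟩]
def B1159 : List Gv := [⟨[.a2, .a7], [.a2, .a7, .a8]⟩, ⟨[.a3, .a11], [.a3, .a8, .a11]⟩, ⟨[.a4, .a7], [.a4, .a5, .a6, .a7, .a8]⟩, ⟨[.a9], [.a9]⟩]
def D1159 : List Dv := [⟨[.a8], [0, 0], []⟩,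
  ⟨[.a6, .a8], [2, 1], [1, 2]⟩,
  ⟨[.a5], [4, 3], [3, 4]⟩,
  ⟨[.a6], [1], [2]⟩]
def C1159 : List Ch := [⟨P636, 0, [], []⟩,
  ⟨P646, 1, [.a0, .a10], [.a0, .a1, .a2, .a3, .a4, .a6, .a8, .a9, .a10, .a11]⟩,
  ⟨P798, 0, [.a10], [.a10, .a11]⟩,
  ⟨P673, 2, [], []⟩,
  ⟨P716, 0, [], []⟩,
  ⟨P703, 1, [.a0, .a1, .a3, .a5, .a6, .a7, .a8, .a9, .a10], [.a0, .a10, .a11]⟩,
  ⟨P775, 0, [.a0], [.a0]⟩,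
  ⟨P804, 3, [], []⟩,
  ⟨P808, 0, [], []⟩,
  ⟨P806, 1, [.a1], [.a1, .a2]⟩,
  ⟨P810, 0, [.a1], [.a1, .a2]⟩,
  ⟨P809, 2, [.a10], [.a10, .a11]⟩,
  ⟨P805, 0, [.a10], [.a10, .a11]⟩,
  ⟨P811, 1, [.a1, .a10], [.a1, .a2, .a4, .a5, .a7, .a9, .a10, .a11]⟩,
  ⟨P807, 0, [.a1, .a10], [.a1, .a2, .a4, .a5, .a7, .a9, .a10, .a11]⟩]
def S1159 : List St := [.cent 1 1 0 [⟨32, [.a5], [.a5]⟩,
  ⟨64, [.a6], [.a6]⟩,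
  ⟨256, [.a8], [.a8]⟩]]
theorem bad1159 (c : CtxF Goal γ) : Bad Goal γ [] P1159 :=
  c.toCtx.chn (B := B1159) (D := D1159) (I := [4, 5, 6, 1, 0, 3, 7]) (r := 4) (C := C1159) (l := S1159) (x := ⟨[.a11], [.a11]⟩) (ix := [0]) (by decide +kernel) (by decide +kernel) (by decide +kernel) (by decide +kernel)
    (allB_cons (bad636 c) (allB_cons (bad646 c) (allB_cons (bad798 c) (allB_cons (bad673 c) (allB_cons (bad716 c) (allB_cons (bad703 c) (allB_cons (bad775 c) (allB_cons (bad804 c) (allB_cons (bad808 c) (allB_cons (bad806 c) (allB_cons (bad810 c) (allB_cons (bad809 c) (allB_cons (bad805 c) (allB_cons (bad811 c) (allB_cons (bad807 c) (allB_nil))))))))))))))))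

def P1160 : List Ent := [⟨4, [.a2, .a7, .a10], [.a2, .a3, .a5, .a7, .a9, .a10, .a11]⟩,
  ⟨8, [.a3, .a11], [.a3, .a8, .a11]⟩,
  ⟨16, [.a4, .a7], [.a4, .a5, .a6, .a7, .a8]⟩,
  ⟨32, [.a5], [.a5]⟩,
  ⟨64, [.a6], [.a6]⟩,
  ⟨256, [.a8], [.a8]⟩,
  ⟨512, [.a9], [.a9]⟩]
def B1160 : List Gv := [⟨[.a2, .a7, .a10], [.a2, .a3, .a5, .a7, .a9, .a10, .a11]⟩, ⟨[.a4, .a7], [.a4, .a5, .a6, .a7, .a8]⟩]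
def D1160 : List Dv := [⟨[.a3, .a5, .a6, .a9, .a11], [0, 0], []⟩,
  ⟨[.a5, .a6, .a8, .a9], [2, 1], [1, 2]⟩,
  ⟨[.a9], [0, 3, 3], []⟩,
  ⟨[.a6, .a9], [1, 2, 4], [4, 2]⟩,
  ⟨[.a8], [3, 3], []⟩,
  ⟨[.a6], [1], [2]⟩,
  ⟨[.a5], [4], [0, 1, 3]⟩,
  ⟨[.a3, .a11], [6], [0, 1, 4]⟩]
def C1160 : List Ch := [⟨P636, 0, [], []⟩,
  ⟨P674, 1, [], []⟩,
  ⟨P674, 0, [.a1], [.a1, .a2]⟩]
def N1160 : List Ent := [⟨4, [.a2, .a7, .a10], [.a2, .a3, .a5, .a7, .a9, .a10, .a11]⟩,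
  ⟨8, [.a3, .a11], [.a3, .a8, .a11]⟩,
  ⟨16, [.a4, .a7], [.a4, .a5, .a6, .a7, .a8]⟩,
  ⟨32, [.a5], [.a5]⟩,
  ⟨64, [.a6], [.a6]⟩,
  ⟨128, [.a7], [.a7, .a8]⟩,
  ⟨256, [.a8], [.a8]⟩,
  ⟨512, [.a9], [.a9]⟩,
  ⟨2048, [.a11], [.a11]⟩]
theorem bad1160 (c : CtxF Goal γ) : Bad Goal γ [] P1160 :=
  c.toCtx.bnd (B := B1160) (D := D1160) (I := [8, 0, 9, 1, 2, 3, 5]) (r := 2) (C := C1160) (N := N1160) (by decide +kernel) (by decide +kernel) (by decide +kernel) (by decide +kernel)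
    (allB_cons (bad636 c) (allB_cons (bad674 c) (allB_cons (bad674 c) (allB_nil))))

def P1161 : List Ent := [⟨4, [.a2], [.a2]⟩,
  ⟨16, [.a4], [.a4, .a5]⟩,
  ⟨32, [.a5], [.a5]⟩,
  ⟨64, [.a6], [.a6]⟩,
  ⟨128, [.a7], [.a7, .a8]⟩,
  ⟨256, [.a8], [.a8]⟩,
  ⟨2048, [.a11], [.a11]⟩]
def B1161 : List Gv := [⟨[.a2], [.a2]⟩, ⟨[.a4], [.a4, .a5]⟩, ⟨[.a7], [.a7, .a8]⟩, ⟨[.a11], [.a11]⟩]
def D1161 : List Dv := [⟨[.a5], [1, 1], []⟩,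
  ⟨[.a6], [3, 2], [2, 3]⟩,
  ⟨[.a8], [4, 4], []⟩]
def C1161 : List Ch := [⟨P588, 0, [], []⟩,
  ⟨P676, 1, [], []⟩,
  ⟨P721, 0, [], []⟩,
  ⟨P748, 2, [], []⟩,
  ⟨P729, 0, [.a0, .a1, .a3, .a5, .a6, .a7, .a8, .a9, .a10], [.a0, .a10, .a11]⟩,
  ⟨P779, 1, [], []⟩,
  ⟨P794, 0, [], []⟩,
  ⟨P812, 3, [], []⟩,
  ⟨P797, 0, [.a0, .a1, .a3, .a5, .a6, .a7, .a8, .a9, .a10], [.a0, .a10, .a11]⟩,
  ⟨P683, 1, [.a0, .a1], [.a0, .a1, .a2]⟩,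
  ⟨P813, 0, [], []⟩,
  ⟨P749, 2, [.a0, .a1], [.a0, .a1, .a2]⟩,
  ⟨P814, 0, [], []⟩,
  ⟨P815, 1, [], []⟩,
  ⟨P631, 0, [.a0], [.a0]⟩]
def S1161 : List St := [.cent 1 1 0 [⟨32, [.a5], [.a5]⟩,
  ⟨64, [.a6], [.a6]⟩,
  ⟨256, [.a8], [.a8]⟩]]
theorem bad1161 (c : CtxF Goal γ) : Bad Goal γ [] P1161 :=
  c.toCtx.chn (B := B1161) (D := D1161) (I := [3, 4, 2, 1, 5, 0, 6]) (r := 4) (C := C1161) (l := S1161) (x := ⟨[.a9], [.a9]⟩) (ix := [0]) (by decide +kernel) (by decide +kernel) (by decide +kernel) (by decide +kernel)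
    (allB_cons (bad588 c) (allB_cons (bad676 c) (allB_cons (bad721 c) (allB_cons (bad748 c) (allB_cons (bad729 c) (allB_cons (bad779 c) (allB_cons (bad794 c) (allB_cons (bad812 c) (allB_cons (bad797 c) (allB_cons (bad683 c) (allB_cons (bad813 c) (allB_cons (bad749 c) (allB_cons (bad814 c) (allB_cons (bad815 c) (allB_cons (bad631 c) (allB_nil))))))))))))))))

def P1162 : List Ent := [⟨4, [.a2, .a9], [.a2, .a5, .a9]⟩,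
  ⟨16, [.a4], [.a4, .a5]⟩,
  ⟨32, [.a5], [.a5]⟩,
  ⟨64, [.a6], [.a6]⟩,
  ⟨128, [.a7], [.a7, .a8]⟩,
  ⟨256, [.a8], [.a8]⟩,
  ⟨2048, [.a11], [.a11]⟩]
def B1162 : List Gv := [⟨[.a2, .a9], [.a2, .a5, .a9]⟩, ⟨[.a4], [.a4, .a5]⟩, ⟨[.a7], [.a7, .a8]⟩, ⟨[.a11], [.a11]⟩]
def D1162 : List Dv := [⟨[.a5], [0, 0], []⟩,
  ⟨[.a8], [2, 1], [1, 2]⟩,
  ⟨[.a6], [4, 3], [3, 4]⟩]
def C1162 : List Ch := [⟨P588, 0, [], []⟩,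
  ⟨P677, 1, [], []⟩,
  ⟨P722, 0, [], []⟩,
  ⟨P756, 2, [], []⟩,
  ⟨P735, 0, [.a0, .a10], [.a0, .a1, .a2, .a3, .a4, .a6, .a8, .a9, .a10, .a11]⟩,
  ⟨P780, 1, [], []⟩,
  ⟨P795, 0, [], []⟩,
  ⟨P816, 3, [], []⟩,
  ⟨P807, 0, [.a0], [.a0]⟩,
  ⟨P698, 1, [.a0, .a10], [.a0, .a1, .a2, .a3, .a4, .a6, .a8, .a9, .a10, .a11]⟩,
  ⟨P817, 0, [], []⟩,
  ⟨P772, 2, [.a0, .a10], [.a0, .a1, .a2, .a3, .a4, .a6, .a8, .a9, .a10, .a11]⟩,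
  ⟨P818, 0, [], []⟩,
  ⟨P819, 1, [], []⟩,
  ⟨P652, 0, [.a0, .a10], [.a0, .a1, .a2, .a3, .a4, .a6, .a8, .a9, .a10, .a11]⟩]
def S1162 : List St := [.cent 1 1 0 [⟨32, [.a5], [.a5]⟩,
  ⟨64, [.a6], [.a6]⟩,
  ⟨256, [.a8], [.a8]⟩]]
theorem bad1162 (c : CtxF Goal γ) : Bad Goal γ [] P1162 :=
  c.toCtx.chn (B := B1162) (D := D1162) (I := [3, 4, 2, 0, 5, 1, 6]) (r := 4) (C := C1162) (l := S1162) (x := ⟨[.a9], [.a9]⟩) (ix := [0]) (by decide +kernel) (by decide +kernel) (by decide +kernel) (by decide +kernel)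
    (allB_cons (bad588 c) (allB_cons (bad677 c) (allB_cons (bad722 c) (allB_cons (bad756 c) (allB_cons (bad735 c) (allB_cons (bad780 c) (allB_cons (bad795 c) (allB_cons (bad816 c) (allB_cons (bad807 c) (allB_cons (bad698 c) (allB_cons (bad817 c) (allB_cons (bad772 c) (allB_cons (bad818 c) (allB_cons (bad819 c) (allB_cons (bad652 c) (allB_nil))))))))))))))))

def P1163 : List Ent := [⟨4, [.a2], [.a2]⟩,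
  ⟨16, [.a4, .a9], [.a4, .a5, .a8, .a9]⟩,
  ⟨32, [.a5], [.a5]⟩,
  ⟨64, [.a6], [.a6]⟩,
  ⟨128, [.a7], [.a7, .a8]⟩,
  ⟨256, [.a8], [.a8]⟩,
  ⟨2048, [.a11], [.a11]⟩]
def B1163 : List Gv := [⟨[.a2], [.a2]⟩, ⟨[.a4, .a9], [.a4, .a5, .a8, .a9]⟩, ⟨[.a7], [.a7, .a8]⟩, ⟨[.a11], [.a11]⟩]
def D1163 : List Dv := [⟨[.a5], [1, 0], [0, 1]⟩,
  ⟨[.a8], [0, 2, 2], []⟩,
  ⟨[.a6], [4, 3], [3, 4]⟩]
def C1163 : List Ch := [⟨P589, 0, [], []⟩,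
  ⟨P676, 1, [], []⟩,
  ⟨P722, 0, [], []⟩,
  ⟨P761, 2, [], []⟩,
  ⟨P743, 0, [.a0], [.a0]⟩,
  ⟨P781, 1, [], []⟩,
  ⟨P796, 0, [], []⟩,
  ⟨P820, 3, [], []⟩,
  ⟨P808, 0, [.a0, .a10], [.a0, .a1, .a2, .a3, .a4, .a6, .a8, .a9, .a10, .a11]⟩,
  ⟨P695, 1, [.a0], [.a0]⟩,
  ⟨P821, 0, [], []⟩,
  ⟨P766, 2, [.a0], [.a0]⟩,
  ⟨P822, 0, [], []⟩,
  ⟨P823, 1, [], []⟩,
  ⟨P654, 0, [.a0], [.a0]⟩]
def S1163 : List St := [.cent 1 1 0 [⟨32, [.a5], [.a5]⟩,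
  ⟨64, [.a6], [.a6]⟩,
  ⟨256, [.a8], [.a8]⟩]]
theorem bad1163 (c : CtxF Goal γ) : Bad Goal γ [] P1163 :=
  c.toCtx.chn (B := B1163) (D := D1163) (I := [3, 4, 2, 0, 5, 1, 6]) (r := 4) (C := C1163) (l := S1163) (x := ⟨[.a9], [.a9]⟩) (ix := [0]) (by decide +kernel) (by decide +kernel) (by decide +kernel) (by decide +kernel)
    (allB_cons (bad589 c) (allB_cons (bad676 c) (allB_cons (bad722 c) (allB_cons (bad761 c) (allB_cons (bad743 c) (allB_cons (bad781 c) (allB_cons (bad796 c) (allB_cons (bad820 c) (allB_cons (bad808 c) (allB_cons (bad695 c) (allB_cons (bad821 c) (allB_cons (bad766 c) (allB_cons (bad822 c) (allB_cons (bad823 c) (allB_cons (bad654 c) (allB_nil))))))))))))))))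

def P1164 : List Ent := [⟨4, [.a2, .a9], [.a2, .a5, .a9]⟩,
  ⟨16, [.a4, .a9], [.a4, .a5, .a8, .a9]⟩,
  ⟨32, [.a5], [.a5]⟩,
  ⟨64, [.a6], [.a6]⟩,
  ⟨128, [.a7], [.a7, .a8]⟩,
  ⟨256, [.a8], [.a8]⟩,
  ⟨2048, [.a11], [.a11]⟩]
def B1164 : List Gv := [⟨[.a2, .a9], [.a2, .a5, .a9]⟩, ⟨[.a4, .a9], [.a4, .a5, .a8, .a9]⟩, ⟨[.a7], [.a7, .a8]⟩, ⟨[.a11], [.a11]⟩]
def D1164 : List Dv := [⟨[.a5], [0, 0], []⟩,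
  ⟨[.a8], [0, 2, 1], [1, 2]⟩,
  ⟨[.a6], [4, 3], [3, 4]⟩]
def C1164 : List Ch := [⟨P589, 0, [], []⟩,
  ⟨P677, 1, [], []⟩,
  ⟨P721, 0, [], []⟩,
  ⟨P769, 2, [], []⟩,
  ⟨P724, 0, [.a0, .a1], [.a0, .a1, .a2]⟩,
  ⟨P782, 1, [], []⟩,
  ⟨P797, 0, [], []⟩,
  ⟨P816, 3, [.a0, .a10], [.a0, .a1, .a2, .a3, .a4, .a6, .a8, .a9, .a10, .a11]⟩,
  ⟨P800, 0, [.a0, .a10], [.a0, .a1, .a2, .a3, .a4, .a6, .a8, .a9, .a10, .a11]⟩,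
  ⟨P677, 1, [.a0, .a1, .a3, .a5, .a6, .a7, .a8, .a9, .a10], [.a0, .a10, .a11]⟩,
  ⟨P824, 0, [], []⟩,
  ⟨P757, 2, [.a0, .a1, .a3, .a5, .a6, .a7, .a8, .a9, .a10], [.a0, .a10, .a11]⟩,
  ⟨P821, 0, [.a0, .a10], [.a0, .a1, .a2, .a3, .a4, .a6, .a8, .a9, .a10, .a11]⟩,
  ⟨P825, 1, [], []⟩,
  ⟨P594, 0, [.a0, .a10], [.a0, .a1, .a2, .a3, .a4, .a6, .a8, .a9, .a10, .a11]⟩]
def S1164 : List St := [.cent 1 1 0 [⟨32, [.a5], [.a5]⟩,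
  ⟨64, [.a6], [.a6]⟩,
  ⟨256, [.a8], [.a8]⟩]]
theorem bad1164 (c : CtxF Goal γ) : Bad Goal γ [] P1164 :=
  c.toCtx.chn (B := B1164) (D := D1164) (I := [3, 4, 2, 0, 5, 1, 6]) (r := 4) (C := C1164) (l := S1164) (x := ⟨[.a9], [.a9]⟩) (ix := [0]) (by decide +kernel) (by decide +kernel) (by decide +kernel) (by decide +kernel)
    (allB_cons (bad589 c) (allB_cons (bad677 c) (allB_cons (bad721 c) (allB_cons (bad769 c) (allB_cons (bad724 c) (allB_cons (bad782 c) (allB_cons (bad797 c) (allB_cons (bad816 c) (allB_cons (bad800 c) (allB_cons (bad677 c) (allB_cons (bad824 c) (allB_cons (bad757 c) (allB_cons (bad821 c) (allB_cons (bad825 c) (allB_cons (bad594 c) (allB_nil))))))))))))))))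

def P1165 : List Ent := [⟨4, [.a2], [.a2]⟩,
  ⟨16, [.a4], [.a4, .a5]⟩,
  ⟨32, [.a5], [.a5]⟩,
  ⟨64, [.a6], [.a6]⟩,
  ⟨128, [.a7, .a9], [.a7, .a8, .a9]⟩,
  ⟨256, [.a8], [.a8]⟩,
  ⟨2048, [.a11], [.a11]⟩]
def B1165 : List Gv := [⟨[.a2], [.a2]⟩, ⟨[.a4], [.a4, .a5]⟩, ⟨[.a7, .a9], [.a7, .a8, .a9]⟩, ⟨[.a11], [.a11]⟩]
def D1165 : List Dv := [⟨[.a5], [1, 1], []⟩,
  ⟨[.a6, .a8], [3, 2], [2, 3]⟩,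
  ⟨[.a8], [4, 4], []⟩,
  ⟨[.a6], [1], [0]⟩]
def C1165 : List Ch := [⟨P588, 0, [.a10], [.a10, .a11]⟩,
  ⟨P678, 1, [], []⟩,
  ⟨P723, 0, [], []⟩,
  ⟨P748, 2, [], []⟩,
  ⟨P735, 0, [.a0, .a10], [.a0, .a1, .a2, .a3, .a4, .a6, .a8, .a9, .a10, .a11]⟩,
  ⟨P781, 1, [], []⟩,
  ⟨P797, 0, [], []⟩,
  ⟨P826, 3, [], []⟩,
  ⟨P805, 0, [.a0, .a10], [.a0, .a1, .a2, .a3, .a4, .a6, .a8, .a9, .a10, .a11]⟩,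
  ⟨P693, 1, [.a0, .a10], [.a0, .a1, .a2, .a3, .a4, .a6, .a8, .a9, .a10, .a11]⟩,
  ⟨P827, 0, [], []⟩,
  ⟨P752, 2, [.a0], [.a0]⟩,
  ⟨P824, 0, [.a0, .a1, .a3, .a5, .a6, .a7, .a8, .a9, .a10], [.a0, .a10, .a11]⟩,
  ⟨P828, 1, [], []⟩,
  ⟨P639, 0, [.a0, .a10], [.a0, .a1, .a2, .a3, .a4, .a6, .a8, .a9, .a10, .a11]⟩]
def S1165 : List St := [.cent 1 1 0 [⟨32, [.a5], [.a5]⟩,
  ⟨64, [.a6], [.a6]⟩,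
  ⟨256, [.a8], [.a8]⟩]]
theorem bad1165 (c : CtxF Goal γ) : Bad Goal γ [] P1165 :=
  c.toCtx.chn (B := B1165) (D := D1165) (I := [4, 5, 3, 0, 6, 1, 7]) (r := 4) (C := C1165) (l := S1165) (x := ⟨[.a9], [.a9]⟩) (ix := [0]) (by decide +kernel) (by decide +kernel) (by decide +kernel) (by decide +kernel)
    (allB_cons (bad588 c) (allB_cons (bad678 c) (allB_cons (bad723 c) (allB_cons (bad748 c) (allB_cons (bad735 c) (allB_cons (bad781 c) (allB_cons (bad797 c) (allB_cons (bad826 c) (allB_cons (bad805 c) (allB_cons (bad693 c) (allB_cons (bad827 c) (allB_cons (bad752 c) (allB_cons (bad824 c) (allB_cons (bad828 c) (allB_cons (bad639 c) (allB_nil))))))))))))))))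

def P1166 : List Ent := [⟨4, [.a2, .a9], [.a2, .a5, .a9]⟩,
  ⟨16, [.a4], [.a4, .a5]⟩,
  ⟨32, [.a5], [.a5]⟩,
  ⟨64, [.a6], [.a6]⟩,
  ⟨128, [.a7, .a9], [.a7, .a8, .a9]⟩,
  ⟨256, [.a8], [.a8]⟩,
  ⟨2048, [.a11], [.a11]⟩]
def B1166 : List Gv := [⟨[.a2, .a9], [.a2, .a5, .a9]⟩, ⟨[.a4], [.a4, .a5]⟩, ⟨[.a7, .a9], [.a7, .a8, .a9]⟩, ⟨[.a11], [.a11]⟩]
def D1166 : List Dv := [⟨[.a5], [0, 0], []⟩,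
  ⟨[.a8], [2, 1], [1, 2]⟩,
  ⟨[.a6, .a8], [4, 3], [3, 4]⟩,
  ⟨[.a6], [0], [1]⟩]
def C1166 : List Ch := [⟨P588, 0, [.a10], [.a10, .a11]⟩,
  ⟨P679, 1, [], []⟩,
  ⟨P724, 0, [], []⟩,
  ⟨P756, 2, [], []⟩,
  ⟨P729, 0, [.a0, .a1, .a3, .a5, .a6, .a7, .a8, .a9, .a10], [.a0, .a10, .a11]⟩,
  ⟨P782, 1, [], []⟩,
  ⟨P796, 0, [], []⟩,
  ⟨P829, 3, [], []⟩,
  ⟨P802, 0, [.a0], [.a0]⟩,
  ⟨P686, 1, [.a0, .a1, .a3, .a5, .a6, .a7, .a8, .a9, .a10], [.a0, .a10, .a11]⟩,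
  ⟨P830, 0, [], []⟩,
  ⟨P769, 2, [.a0, .a1, .a3, .a5, .a6, .a7, .a8, .a9, .a10], [.a0, .a10, .a11]⟩,
  ⟨P831, 0, [], []⟩,
  ⟨P832, 1, [], []⟩,
  ⟨P626, 0, [.a0, .a1], [.a0, .a1, .a2]⟩]
def S1166 : List St := [.cent 1 1 0 [⟨32, [.a5], [.a5]⟩,
  ⟨64, [.a6], [.a6]⟩,
  ⟨256, [.a8], [.a8]⟩]]
theorem bad1166 (c : CtxF Goal γ) : Bad Goal γ [] P1166 :=
  c.toCtx.chn (B := B1166) (D := D1166) (I := [4, 5, 3, 0, 6, 2, 7]) (r := 4) (C := C1166) (l := S1166) (x := ⟨[.a9], [.a9]⟩) (ix := [0]) (by decide +kernel) (by decide +kernel) (by decide +kernel) (by decide +kernel)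
    (allB_cons (bad588 c) (allB_cons (bad679 c) (allB_cons (bad724 c) (allB_cons (bad756 c) (allB_cons (bad729 c) (allB_cons (bad782 c) (allB_cons (bad796 c) (allB_cons (bad829 c) (allB_cons (bad802 c) (allB_cons (bad686 c) (allB_cons (bad830 c) (allB_cons (bad769 c) (allB_cons (bad831 c) (allB_cons (bad832 c) (allB_cons (bad626 c) (allB_nil))))))))))))))))

def P1167 : List Ent := [⟨4, [.a2], [.a2]⟩,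
  ⟨16, [.a4, .a9], [.a4, .a5, .a8, .a9]⟩,
  ⟨32, [.a5], [.a5]⟩,
  ⟨64, [.a6], [.a6]⟩,
  ⟨128, [.a7, .a9], [.a7, .a8, .a9]⟩,
  ⟨256, [.a8], [.a8]⟩,
  ⟨2048, [.a11], [.a11]⟩]
def B1167 : List Gv := [⟨[.a2], [.a2]⟩, ⟨[.a4, .a9], [.a4, .a5, .a8, .a9]⟩, ⟨[.a7, .a9], [.a7, .a8, .a9]⟩, ⟨[.a11], [.a11]⟩]
def D1167 : List Dv := [⟨[.a5], [1, 0], [0, 1]⟩,
  ⟨[.a8], [0, 2, 2], []⟩,
  ⟨[.a6, .a8], [4, 3], [3, 4]⟩,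
  ⟨[.a6], [0], [1]⟩]
def C1167 : List Ch := [⟨P589, 0, [.a10], [.a10, .a11]⟩,
  ⟨P678, 1, [], []⟩,
  ⟨P724, 0, [], []⟩,
  ⟨P761, 2, [], []⟩,
  ⟨P724, 0, [.a0, .a1], [.a0, .a1, .a2]⟩,
  ⟨P779, 1, [], []⟩,
  ⟨P795, 0, [], []⟩,
  ⟨P833, 3, [], []⟩,
  ⟨P795, 0, [.a0, .a1], [.a0, .a1, .a2]⟩,
  ⟨P678, 1, [.a0, .a1], [.a0, .a1, .a2]⟩,
  ⟨P834, 0, [], []⟩,
  ⟨P761, 2, [.a0, .a1], [.a0, .a1, .a2]⟩,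
  ⟨P834, 0, [.a0, .a1], [.a0, .a1, .a2]⟩,
  ⟨P835, 1, [], []⟩,
  ⟨P589, 0, [.a0, .a1, .a3, .a5, .a6, .a7, .a8, .a9, .a10], [.a0, .a10, .a11]⟩]
def N1167 : List Ent := [⟨1, [.a0, .a1], [.a0, .a1, .a2]⟩,
  ⟨4, [.a2], [.a2]⟩,
  ⟨8, [.a3], [.a3]⟩,
  ⟨16, [.a4, .a9], [.a4, .a5, .a8, .a9]⟩,
  ⟨32, [.a5], [.a5]⟩,
  ⟨64, [.a6], [.a6]⟩,
  ⟨128, [.a7, .a9], [.a7, .a8, .a9]⟩,
  ⟨256, [.a8], [.a8]⟩,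
  ⟨512, [.a9], [.a9]⟩,
  ⟨2048, [.a11], [.a11]⟩]
theorem bad1167 (c : CtxF Goal γ) : Bad Goal γ [] P1167 :=
  c.toCtx.bnd (B := B1167) (D := D1167) (I := [4, 5, 3, 0, 6, 2, 7]) (r := 4) (C := C1167) (N := N1167) (by decide +kernel) (by decide +kernel) (by decide +kernel) (by decide +kernel)
    (allB_cons (bad589 c) (allB_cons (bad678 c) (allB_cons (bad724 c) (allB_cons (bad761 c) (allB_cons (bad724 c) (allB_cons (bad779 c) (allB_cons (bad795 c) (allB_cons (bad833 c) (allB_cons (bad795 c) (allB_cons (bad678 c) (allB_cons (bad834 c) (allB_cons (bad761 c) (allB_cons (bad834 c) (allB_cons (bad835 c) (allB_cons (bad589 c) (allB_nil))))))))))))))))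

def P1168 : List Ent := [⟨4, [.a2, .a9], [.a2, .a5, .a9]⟩,
  ⟨16, [.a4, .a9], [.a4, .a5, .a8, .a9]⟩,
  ⟨32, [.a5], [.a5]⟩,
  ⟨64, [.a6], [.a6]⟩,
  ⟨128, [.a7, .a9], [.a7, .a8, .a9]⟩,
  ⟨256, [.a8], [.a8]⟩,
  ⟨2048, [.a11], [.a11]⟩]
def B1168 : List Gv := [⟨[.a2, .a9], [.a2, .a5, .a9]⟩, ⟨[.a4, .a9], [.a4, .a5, .a8, .a9]⟩, ⟨[.a7, .a9], [.a7, .a8, .a9]⟩, ⟨[.a11], [.a11]⟩]
def D1168 : List Dv := [⟨[.a5], [0, 0], []⟩,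
  ⟨[.a8], [0, 2, 1], [1, 2]⟩,
  ⟨[.a6, .a8], [4, 3], [3, 4]⟩,
  ⟨[.a6], [0], [1]⟩]
def C1168 : List Ch := [⟨P589, 0, [.a10], [.a10, .a11]⟩,
  ⟨P679, 1, [], []⟩,
  ⟨P723, 0, [], []⟩,
  ⟨P769, 2, [], []⟩,
  ⟨P743, 0, [.a0], [.a0]⟩,
  ⟨P780, 1, [], []⟩,
  ⟨P794, 0, [], []⟩,
  ⟨P836, 3, [], []⟩,
  ⟨P810, 0, [.a0], [.a0]⟩,
  ⟨P702, 1, [.a0], [.a0]⟩,
  ⟨P818, 0, [.a0], [.a0]⟩,
  ⟨P759, 2, [.a0, .a10], [.a0, .a1, .a2, .a3, .a4, .a6, .a8, .a9, .a10, .a11]⟩,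
  ⟨P837, 0, [], []⟩,
  ⟨P825, 1, [.a0, .a1, .a3, .a5, .a6, .a7, .a8, .a9, .a10], [.a0, .a10, .a11]⟩,
  ⟨P643, 0, [.a0], [.a0]⟩]
def S1168 : List St := [.cent 1 1 0 [⟨32, [.a5], [.a5]⟩,
  ⟨64, [.a6], [.a6]⟩,
  ⟨256, [.a8], [.a8]⟩]]
theorem bad1168 (c : CtxF Goal γ) : Bad Goal γ [] P1168 :=
  c.toCtx.chn (B := B1168) (D := D1168) (I := [4, 5, 3, 0, 6, 2, 7]) (r := 4) (C := C1168) (l := S1168) (x := ⟨[.a9], [.a9]⟩) (ix := [0]) (by decide +kernel) (by decide +kernel) (by decide +kernel) (by decide +kernel)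
    (allB_cons (bad589 c) (allB_cons (bad679 c) (allB_cons (bad723 c) (allB_cons (bad769 c) (allB_cons (bad743 c) (allB_cons (bad780 c) (allB_cons (bad794 c) (allB_cons (bad836 c) (allB_cons (bad810 c) (allB_cons (bad702 c) (allB_cons (bad818 c) (allB_cons (bad759 c) (allB_cons (bad837 c) (allB_cons (bad825 c) (allB_cons (bad643 c) (allB_nil))))))))))))))))

def P1169 : List Ent := [⟨4, [.a2], [.a2]⟩,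
  ⟨16, [.a4], [.a4, .a5]⟩,
  ⟨32, [.a5], [.a5]⟩,
  ⟨64, [.a6], [.a6]⟩,
  ⟨128, [.a7], [.a7, .a8]⟩,
  ⟨256, [.a8], [.a8]⟩,
  ⟨512, [.a9], [.a9]⟩]
def B1169 : List Gv := [⟨[.a2], [.a2]⟩, ⟨[.a4], [.a4, .a5]⟩, ⟨[.a7], [.a7, .a8]⟩, ⟨[.a9], [.a9]⟩]
def D1169 : List Dv := [⟨[.a5], [1, 1], []⟩,
  ⟨[.a6], [3, 2], [2, 3]⟩,
  ⟨[.a8], [4, 4], []⟩]
def C1169 : List Ch := [⟨P590, 0, [], []⟩,
  ⟨P680, 1, [], []⟩,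
  ⟨P725, 0, [], []⟩,
  ⟨P773, 2, [], []⟩,
  ⟨P744, 0, [.a0, .a1, .a3, .a5, .a6, .a7, .a8, .a9, .a10], [.a0, .a10, .a11]⟩,
  ⟨P783, 1, [], []⟩,
  ⟨P646, 0, [.a0, .a10], [.a0, .a1, .a2, .a3, .a4, .a6, .a8, .a9, .a10, .a11]⟩,
  ⟨P812, 3, [], []⟩,
  ⟨P816, 0, [], []⟩,
  ⟨P820, 1, [], []⟩,
  ⟨P816, 0, [.a0, .a10], [.a0, .a1, .a2, .a3, .a4, .a6, .a8, .a9, .a10, .a11]⟩,
  ⟨P826, 2, [], []⟩,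
  ⟨P829, 0, [], []⟩,
  ⟨P833, 1, [], []⟩,
  ⟨P836, 0, [], []⟩]
def S1169 : List St := [.cent 1 1 0 [⟨32, [.a5], [.a5]⟩,
  ⟨64, [.a6], [.a6]⟩,
  ⟨256, [.a8], [.a8]⟩]]
theorem bad1169 (c : CtxF Goal γ) : Bad Goal γ [] P1169 :=
  c.toCtx.chn (B := B1169) (D := D1169) (I := [3, 4, 2, 1, 5, 0, 6]) (r := 4) (C := C1169) (l := S1169) (x := ⟨[.a11], [.a11]⟩) (ix := [0]) (by decide +kernel) (by decide +kernel) (by decide +kernel) (by decide +kernel)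
    (allB_cons (bad590 c) (allB_cons (bad680 c) (allB_cons (bad725 c) (allB_cons (bad773 c) (allB_cons (bad744 c) (allB_cons (bad783 c) (allB_cons (bad646 c) (allB_cons (bad812 c) (allB_cons (bad816 c) (allB_cons (bad820 c) (allB_cons (bad816 c) (allB_cons (bad826 c) (allB_cons (bad829 c) (allB_cons (bad833 c) (allB_cons (bad836 c) (allB_nil))))))))))))))))

def P1170 : List Ent := [⟨4, [.a2, .a11], [.a2, .a5, .a6, .a8, .a11]⟩,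
  ⟨16, [.a4, .a11], [.a4, .a5, .a11]⟩,
  ⟨32, [.a5], [.a5]⟩,
  ⟨64, [.a6], [.a6]⟩,
  ⟨128, [.a7], [.a7, .a8]⟩,
  ⟨256, [.a8], [.a8]⟩,
  ⟨512, [.a9], [.a9]⟩]
def B1170 : List Gv := [⟨[.a2, .a11], [.a2, .a5, .a6, .a8, .a11]⟩, ⟨[.a4, .a11], [.a4, .a5, .a11]⟩, ⟨[.a7], [.a7, .a8]⟩, ⟨[.a9], [.a9]⟩]
def D1170 : List Dv := [⟨[.a5, .a6, .a8], [0, 0], []⟩,
  ⟨[.a6, .a8], [0, 2, 2], []⟩,
  ⟨[.a8], [0, 4, 3], [3, 4]⟩,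
  ⟨[.a6], [1], [0]⟩,
  ⟨[.a5], [3], [0, 1]⟩]
def C1170 : List Ch := [⟨P591, 0, [], []⟩,
  ⟨P681, 1, [], []⟩,
  ⟨P725, 0, [], []⟩,
  ⟨P649, 2, [.a0], [.a0]⟩,
  ⟨P745, 0, [.a0, .a1, .a3, .a5, .a6, .a7, .a8, .a9, .a10], [.a0, .a10, .a11]⟩,
  ⟨P784, 1, [], []⟩,
  ⟨P775, 0, [.a0, .a10], [.a0, .a1, .a2, .a3, .a4, .a6, .a8, .a9, .a10, .a11]⟩,
  ⟨P813, 3, [], []⟩,
  ⟨P817, 0, [], []⟩,
  ⟨P821, 1, [], []⟩,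
  ⟨P824, 0, [], []⟩,
  ⟨P827, 2, [], []⟩,
  ⟨P830, 0, [], []⟩,
  ⟨P834, 1, [], []⟩,
  ⟨P818, 0, [.a0], [.a0]⟩]
def S1170 : List St := [.cent 1 1 0 [⟨32, [.a5], [.a5]⟩,
  ⟨64, [.a6], [.a6]⟩,
  ⟨256, [.a8], [.a8]⟩]]
theorem bad1170 (c : CtxF Goal γ) : Bad Goal γ [] P1170 :=
  c.toCtx.chn (B := B1170) (D := D1170) (I := [5, 6, 0, 1, 7, 2, 8]) (r := 4) (C := C1170) (l := S1170) (x := ⟨[.a11], [.a11]⟩) (ix := [0]) (by decide +kernel) (by decide +kernel) (by decide +kernel) (by decide +kernel)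
    (allB_cons (bad591 c) (allB_cons (bad681 c) (allB_cons (bad725 c) (allB_cons (bad649 c) (allB_cons (bad745 c) (allB_cons (bad784 c) (allB_cons (bad775 c) (allB_cons (bad813 c) (allB_cons (bad817 c) (allB_cons (bad821 c) (allB_cons (bad824 c) (allB_cons (bad827 c) (allB_cons (bad830 c) (allB_cons (bad834 c) (allB_cons (bad818 c) (allB_nil))))))))))))))))

def P1171 : List Ent := [⟨4, [.a2, .a11], [.a2, .a5, .a6, .a8, .a11]⟩,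
  ⟨16, [.a4], [.a4, .a5]⟩,
  ⟨32, [.a5], [.a5]⟩,
  ⟨64, [.a6], [.a6]⟩,
  ⟨128, [.a7, .a11], [.a7, .a8, .a11]⟩,
  ⟨256, [.a8], [.a8]⟩,
  ⟨512, [.a9], [.a9]⟩]
def B1171 : List Gv := [⟨[.a2, .a11], [.a2, .a5, .a6, .a8, .a11]⟩, ⟨[.a4], [.a4, .a5]⟩, ⟨[.a7, .a11], [.a7, .a8, .a11]⟩, ⟨[.a9], [.a9]⟩]
def D1171 : List Dv := [⟨[.a5, .a6, .a8], [0, 0], []⟩,
  ⟨[.a6, .a8], [0, 2, 2], []⟩,
  ⟨[.a8], [0, 4, 3], [3, 4]⟩,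
  ⟨[.a6], [1], [0]⟩,
  ⟨[.a5], [3], [0, 1]⟩]
def C1171 : List Ch := [⟨P592, 0, [], []⟩,
  ⟨P655, 1, [.a0, .a1, .a3, .a5, .a6, .a7, .a8, .a9, .a10], [.a0, .a10, .a11]⟩,
  ⟨P726, 0, [], []⟩,
  ⟨P774, 2, [], []⟩,
  ⟨P744, 0, [.a0, .a1, .a3, .a5, .a6, .a7, .a8, .a9, .a10], [.a0, .a10, .a11]⟩,
  ⟨P784, 1, [], []⟩,
  ⟨P703, 0, [.a0, .a10], [.a0, .a1, .a2, .a3, .a4, .a6, .a8, .a9, .a10, .a11]⟩,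
  ⟨P814, 3, [], []⟩,
  ⟨P818, 0, [], []⟩,
  ⟨P822, 1, [], []⟩,
  ⟨P821, 0, [.a0, .a10], [.a0, .a1, .a2, .a3, .a4, .a6, .a8, .a9, .a10, .a11]⟩,
  ⟨P824, 2, [.a0, .a1, .a3, .a5, .a6, .a7, .a8, .a9, .a10], [.a0, .a10, .a11]⟩,
  ⟨P831, 0, [], []⟩,
  ⟨P834, 1, [.a0, .a1], [.a0, .a1, .a2]⟩,
  ⟨P837, 0, [], []⟩]
def S1171 : List St := [.cent 1 1 0 [⟨32, [.a5], [.a5]⟩,
  ⟨64, [.a6], [.a6]⟩,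
  ⟨256, [.a8], [.a8]⟩]]
theorem bad1171 (c : CtxF Goal γ) : Bad Goal γ [] P1171 :=
  c.toCtx.chn (B := B1171) (D := D1171) (I := [5, 6, 0, 1, 7, 2, 8]) (r := 4) (C := C1171) (l := S1171) (x := ⟨[.a11], [.a11]⟩) (ix := [0]) (by decide +kernel) (by decide +kernel) (by decide +kernel) (by decide +kernel)
    (allB_cons (bad592 c) (allB_cons (bad655 c) (allB_cons (bad726 c) (allB_cons (bad774 c) (allB_cons (bad744 c) (allB_cons (bad784 c) (allB_cons (bad703 c) (allB_cons (bad814 c) (allB_cons (bad818 c) (allB_cons (bad822 c) (allB_cons (bad821 c) (allB_cons (bad824 c) (allB_cons (bad831 c) (allB_cons (bad834 c) (allB_cons (bad837 c) (allB_nil))))))))))))))))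

def P1172 : List Ent := [⟨4, [.a2], [.a2]⟩,
  ⟨16, [.a4, .a11], [.a4, .a5, .a11]⟩,
  ⟨32, [.a5], [.a5]⟩,
  ⟨64, [.a6], [.a6]⟩,
  ⟨128, [.a7, .a11], [.a7, .a8, .a11]⟩,
  ⟨256, [.a8], [.a8]⟩,
  ⟨512, [.a9], [.a9]⟩]
def B1172 : List Gv := [⟨[.a2], [.a2]⟩, ⟨[.a4, .a11], [.a4, .a5, .a11]⟩, ⟨[.a7, .a11], [.a7, .a8, .a11]⟩, ⟨[.a9], [.a9]⟩]
def D1172 : List Dv := [⟨[.a5, .a6, .a8], [1, 0], [0, 1]⟩,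
  ⟨[.a6, .a8], [0, 2, 2], []⟩,
  ⟨[.a8], [0, 4, 3], [3, 4]⟩,
  ⟨[.a6], [1], [0]⟩,
  ⟨[.a5], [3], [0, 1]⟩]
def C1172 : List Ch := [⟨P593, 0, [], []⟩,
  ⟨P682, 1, [], []⟩,
  ⟨P726, 0, [], []⟩,
  ⟨P704, 2, [.a0], [.a0]⟩,
  ⟨P745, 0, [.a0, .a1, .a3, .a5, .a6, .a7, .a8, .a9, .a10], [.a0, .a10, .a11]⟩,
  ⟨P783, 1, [], []⟩,
  ⟨P798, 0, [], []⟩,
  ⟨P815, 3, [], []⟩,
  ⟨P819, 0, [], []⟩,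
  ⟨P823, 1, [], []⟩,
  ⟨P825, 0, [], []⟩,
  ⟨P828, 2, [], []⟩,
  ⟨P832, 0, [], []⟩,
  ⟨P835, 1, [], []⟩,
  ⟨P825, 0, [.a0, .a1, .a3, .a5, .a6, .a7, .a8, .a9, .a10], [.a0, .a10, .a11]⟩]
def S1172 : List St := [.cent 1 1 0 [⟨32, [.a5], [.a5]⟩,
  ⟨64, [.a6], [.a6]⟩,
  ⟨256, [.a8], [.a8]⟩]]
theorem bad1172 (c : CtxF Goal γ) : Bad Goal γ [] P1172 :=
  c.toCtx.chn (B := B1172) (D := D1172) (I := [5, 6, 0, 1, 7, 2, 8]) (r := 4) (C := C1172) (l := S1172) (x := ⟨[.a11], [.a11]⟩) (ix := [0]) (by decide +kernel) (by decide +kernel) (by decide +kernel) (by decide +kernel)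
    (allB_cons (bad593 c) (allB_cons (bad682 c) (allB_cons (bad726 c) (allB_cons (bad704 c) (allB_cons (bad745 c) (allB_cons (bad783 c) (allB_cons (bad798 c) (allB_cons (bad815 c) (allB_cons (bad819 c) (allB_cons (bad823 c) (allB_cons (bad825 c) (allB_cons (bad828 c) (allB_cons (bad832 c) (allB_cons (bad835 c) (allB_cons (bad825 c) (allB_nil))))))))))))))))

def P1173 : List Ent := [⟨4, [.a2], [.a2]⟩,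
  ⟨16, [.a4], [.a4, .a5]⟩,
  ⟨32, [.a5], [.a5]⟩,
  ⟨64, [.a6], [.a6]⟩,
  ⟨128, [.a7], [.a7, .a8]⟩,
  ⟨256, [.a8], [.a8]⟩,
  ⟨512, [.a9, .a11], [.a9, .a11]⟩]
def B1173 : List Gv := [⟨[.a2], [.a2]⟩, ⟨[.a4], [.a4, .a5]⟩, ⟨[.a7], [.a7, .a8]⟩, ⟨[.a9, .a11], [.a9, .a11]⟩]
def D1173 : List Dv := [⟨[.a5], [1, 1], []⟩,
  ⟨[.a6], [3, 2], [2, 3]⟩,
  ⟨[.a8], [4, 4], []⟩]
def C1173 : List Ch := [⟨P594, 0, [], []⟩,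
  ⟨P676, 1, [.a1], [.a1, .a2]⟩,
  ⟨P723, 0, [.a1, .a10], [.a1, .a2, .a4, .a5, .a7, .a9, .a10, .a11]⟩,
  ⟨P749, 2, [.a1], [.a1, .a2]⟩,
  ⟨P737, 0, [.a0], [.a0]⟩,
  ⟨P785, 1, [], []⟩,
  ⟨P799, 0, [], []⟩,
  ⟨P812, 3, [], []⟩,
  ⟨P807, 0, [.a0], [.a0]⟩,
  ⟨P695, 1, [.a0], [.a0]⟩,
  ⟨P824, 0, [], []⟩,
  ⟨P752, 2, [.a0], [.a0]⟩,
  ⟨P831, 0, [], []⟩,
  ⟨P835, 1, [], []⟩,
  ⟨P643, 0, [.a0], [.a0]⟩]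
def S1173 : List St := [.cent 1 1 0 [⟨32, [.a5], [.a5]⟩,
  ⟨64, [.a6], [.a6]⟩,
  ⟨256, [.a8], [.a8]⟩]]
theorem bad1173 (c : CtxF Goal γ) : Bad Goal γ [] P1173 :=
  c.toCtx.chn (B := B1173) (D := D1173) (I := [3, 4, 2, 1, 5, 0, 6]) (r := 4) (C := C1173) (l := S1173) (x := ⟨[.a11], [.a11]⟩) (ix := [0]) (by decide +kernel) (by decide +kernel) (by decide +kernel) (by decide +kernel)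
    (allB_cons (bad594 c) (allB_cons (bad676 c) (allB_cons (bad723 c) (allB_cons (bad749 c) (allB_cons (bad737 c) (allB_cons (bad785 c) (allB_cons (bad799 c) (allB_cons (bad812 c) (allB_cons (bad807 c) (allB_cons (bad695 c) (allB_cons (bad824 c) (allB_cons (bad752 c) (allB_cons (bad831 c) (allB_cons (bad835 c) (allB_cons (bad643 c) (allB_nil))))))))))))))))

def P1174 : List Ent := [⟨4, [.a2], [.a2]⟩,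
  ⟨16, [.a4, .a11], [.a4, .a5, .a11]⟩,
  ⟨32, [.a5], [.a5]⟩,
  ⟨64, [.a6], [.a6]⟩,
  ⟨128, [.a7], [.a7, .a8]⟩,
  ⟨256, [.a8], [.a8]⟩,
  ⟨512, [.a9, .a11], [.a9, .a11]⟩]
def B1174 : List Gv := [⟨[.a2], [.a2]⟩, ⟨[.a4, .a11], [.a4, .a5, .a11]⟩, ⟨[.a7], [.a7, .a8]⟩, ⟨[.a9, .a11], [.a9, .a11]⟩]
def D1174 : List Dv := [⟨[.a5, .a6, .a8], [1, 0], [0, 1]⟩,
  ⟨[.a6, .a8], [0, 2, 2], []⟩,
  ⟨[.a8], [0, 4, 3], [3, 4]⟩,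
  ⟨[.a6], [1], [0]⟩,
  ⟨[.a5], [3], [0, 1]⟩]
def C1174 : List Ch := [⟨P595, 0, [], []⟩,
  ⟨P676, 1, [.a1], [.a1, .a2]⟩,
  ⟨P724, 0, [.a1, .a10], [.a1, .a2, .a4, .a5, .a7, .a9, .a10, .a11]⟩,
  ⟨P762, 2, [.a1], [.a1, .a2]⟩,
  ⟨P728, 0, [.a0, .a1], [.a0, .a1, .a2]⟩,
  ⟨P786, 1, [], []⟩,
  ⟨P801, 0, [], []⟩,
  ⟨P683, 3, [.a0, .a1], [.a0, .a1, .a2]⟩,
  ⟨P817, 0, [], []⟩,
  ⟨P820, 1, [], []⟩,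
  ⟨P800, 0, [.a0, .a10], [.a0, .a1, .a2, .a3, .a4, .a6, .a8, .a9, .a10, .a11]⟩,
  ⟨P828, 2, [], []⟩,
  ⟨P626, 0, [.a0, .a1], [.a0, .a1, .a2]⟩,
  ⟨P761, 1, [.a0, .a1], [.a0, .a1, .a2]⟩,
  ⟨P837, 0, [], []⟩]
def S1174 : List St := [.cent 1 1 0 [⟨32, [.a5], [.a5]⟩,
  ⟨64, [.a6], [.a6]⟩,
  ⟨256, [.a8], [.a8]⟩]]
theorem bad1174 (c : CtxF Goal γ) : Bad Goal γ [] P1174 :=
  c.toCtx.chn (B := B1174) (D := D1174) (I := [5, 6, 0, 1, 7, 2, 8]) (r := 4) (C := C1174) (l := S1174) (x := ⟨[.a11], [.a11]⟩) (ix := [0]) (by decide +kernel) (by decide +kernel) (by decide +kernel) (by decide +kernel)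
    (allB_cons (bad595 c) (allB_cons (bad676 c) (allB_cons (bad724 c) (allB_cons (bad762 c) (allB_cons (bad728 c) (allB_cons (bad786 c) (allB_cons (bad801 c) (allB_cons (bad683 c) (allB_cons (bad817 c) (allB_cons (bad820 c) (allB_cons (bad800 c) (allB_cons (bad828 c) (allB_cons (bad626 c) (allB_cons (bad761 c) (allB_cons (bad837 c) (allB_nil))))))))))))))))

def P1175 : List Ent := [⟨4, [.a2, .a11], [.a2, .a5, .a6, .a8, .a11]⟩,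
  ⟨16, [.a4, .a11], [.a4, .a5, .a11]⟩,
  ⟨32, [.a5], [.a5]⟩,
  ⟨64, [.a6], [.a6]⟩,
  ⟨128, [.a7], [.a7, .a8]⟩,
  ⟨256, [.a8], [.a8]⟩,
  ⟨512, [.a9, .a11], [.a9, .a11]⟩]
def B1175 : List Gv := [⟨[.a2, .a11], [.a2, .a5, .a6, .a8, .a11]⟩, ⟨[.a4, .a11], [.a4, .a5, .a11]⟩, ⟨[.a7], [.a7, .a8]⟩, ⟨[.a9, .a11], [.a9, .a11]⟩]
def D1175 : List Dv := [⟨[.a5, .a6, .a8], [0, 0], []⟩,
  ⟨[.a6, .a8], [0, 2, 2], []⟩,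
  ⟨[.a8], [0, 4, 3], [3, 4]⟩,
  ⟨[.a6], [1], [0]⟩,
  ⟨[.a5], [3], [0, 1]⟩]
def C1175 : List Ch := [⟨P595, 0, [], []⟩,
  ⟨P677, 1, [.a1], [.a1, .a2]⟩,
  ⟨P723, 0, [.a1, .a10], [.a1, .a2, .a4, .a5, .a7, .a9, .a10, .a11]⟩,
  ⟨P770, 2, [.a1], [.a1, .a2]⟩,
  ⟨P740, 0, [.a0, .a10], [.a0, .a1, .a2, .a3, .a4, .a6, .a8, .a9, .a10, .a11]⟩,
  ⟨P787, 1, [], []⟩,
  ⟨P802, 0, [], []⟩,
  ⟨P813, 3, [], []⟩,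
  ⟨P698, 0, [.a0, .a10], [.a0, .a1, .a2, .a3, .a4, .a6, .a8, .a9, .a10, .a11]⟩,
  ⟨P808, 1, [.a0, .a10], [.a0, .a1, .a2, .a3, .a4, .a6, .a8, .a9, .a10, .a11]⟩,
  ⟨P816, 0, [.a0, .a10], [.a0, .a1, .a2, .a3, .a4, .a6, .a8, .a9, .a10, .a11]⟩,
  ⟨P639, 2, [.a0, .a10], [.a0, .a1, .a2, .a3, .a4, .a6, .a8, .a9, .a10, .a11]⟩,
  ⟨P832, 0, [], []⟩,
  ⟨P834, 1, [.a0, .a1], [.a0, .a1, .a2]⟩,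
  ⟨P759, 0, [.a0, .a10], [.a0, .a1, .a2, .a3, .a4, .a6, .a8, .a9, .a10, .a11]⟩]
def S1175 : List St := [.cent 1 1 0 [⟨32, [.a5], [.a5]⟩,
  ⟨64, [.a6], [.a6]⟩,
  ⟨256, [.a8], [.a8]⟩]]
theorem bad1175 (c : CtxF Goal γ) : Bad Goal γ [] P1175 :=
  c.toCtx.chn (B := B1175) (D := D1175) (I := [5, 6, 0, 1, 7, 2, 8]) (r := 4) (C := C1175) (l := S1175) (x := ⟨[.a11], [.a11]⟩) (ix := [0]) (by decide +kernel) (by decide +kernel) (by decide +kernel) (by decide +kernel)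
    (allB_cons (bad595 c) (allB_cons (bad677 c) (allB_cons (bad723 c) (allB_cons (bad770 c) (allB_cons (bad740 c) (allB_cons (bad787 c) (allB_cons (bad802 c) (allB_cons (bad813 c) (allB_cons (bad698 c) (allB_cons (bad808 c) (allB_cons (bad816 c) (allB_cons (bad639 c) (allB_cons (bad832 c) (allB_cons (bad834 c) (allB_cons (bad759 c) (allB_nil))))))))))))))))

def P1176 : List Ent := [⟨4, [.a2], [.a2]⟩,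
  ⟨16, [.a4], [.a4, .a5]⟩,
  ⟨32, [.a5], [.a5]⟩,
  ⟨64, [.a6], [.a6]⟩,
  ⟨128, [.a7, .a11], [.a7, .a8, .a11]⟩,
  ⟨256, [.a8], [.a8]⟩,
  ⟨512, [.a9, .a11], [.a9, .a11]⟩]
def B1176 : List Gv := [⟨[.a2], [.a2]⟩, ⟨[.a4], [.a4, .a5]⟩, ⟨[.a7, .a11], [.a7, .a8, .a11]⟩, ⟨[.a9, .a11], [.a9, .a11]⟩]
def D1176 : List Dv := [⟨[.a5], [1, 1], []⟩,
  ⟨[.a6, .a8], [0, 3, 1], [1, 3]⟩,
  ⟨[.a8], [0, 4, 3], [3, 4]⟩,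
  ⟨[.a6], [1], [0]⟩]
def C1176 : List Ch := [⟨P594, 0, [.a10], [.a10, .a11]⟩,
  ⟨P678, 1, [.a1], [.a1, .a2]⟩,
  ⟨P721, 0, [.a1, .a10], [.a1, .a2, .a4, .a5, .a7, .a9, .a10, .a11]⟩,
  ⟨P749, 2, [.a1], [.a1, .a2]⟩,
  ⟨P721, 0, [.a0, .a1, .a3, .a5, .a6, .a7, .a8, .a9, .a10], [.a0, .a10, .a11]⟩,
  ⟨P786, 1, [], []⟩,
  ⟨P802, 0, [], []⟩,
  ⟨P749, 3, [.a0, .a1], [.a0, .a1, .a2]⟩,
  ⟨P818, 0, [], []⟩,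
  ⟨P823, 1, [], []⟩,
  ⟨P594, 0, [.a0, .a10], [.a0, .a1, .a2, .a3, .a4, .a6, .a8, .a9, .a10, .a11]⟩,
  ⟨P826, 2, [], []⟩,
  ⟨P802, 0, [.a0], [.a0]⟩,
  ⟨P678, 1, [.a0, .a1], [.a0, .a1, .a2]⟩,
  ⟨P818, 0, [.a0], [.a0]⟩]
def N1176 : List Ent := [⟨1, [.a0], [.a0]⟩,
  ⟨4, [.a2], [.a2]⟩,
  ⟨8, [.a3], [.a3]⟩,
  ⟨16, [.a4], [.a4, .a5]⟩,
  ⟨32, [.a5], [.a5]⟩,
  ⟨64, [.a6], [.a6]⟩,
  ⟨128, [.a7, .a11], [.a7, .a8, .a11]⟩,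
  ⟨256, [.a8], [.a8]⟩,
  ⟨512, [.a9, .a11], [.a9, .a11]⟩,
  ⟨2048, [.a11], [.a11]⟩]
theorem bad1176 (c : CtxF Goal γ) : Bad Goal γ [] P1176 :=
  c.toCtx.bnd (B := B1176) (D := D1176) (I := [4, 5, 3, 0, 6, 1, 7]) (r := 4) (C := C1176) (N := N1176) (by decide +kernel) (by decide +kernel) (by decide +kernel) (by decide +kernel)
    (allB_cons (bad594 c) (allB_cons (bad678 c) (allB_cons (bad721 c) (allB_cons (bad749 c) (allB_cons (bad721 c) (allB_cons (bad786 c) (allB_cons (bad802 c) (allB_cons (bad749 c) (allB_cons (bad818 c) (allB_cons (bad823 c) (allB_cons (bad594 c) (allB_cons (bad826 c) (allB_cons (bad802 c) (allB_cons (bad678 c) (allB_cons (bad818 c) (allB_nil))))))))))))))))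

def P1177 : List Ent := [⟨4, [.a2, .a11], [.a2, .a5, .a6, .a8, .a11]⟩,
  ⟨16, [.a4], [.a4, .a5]⟩,
  ⟨32, [.a5], [.a5]⟩,
  ⟨64, [.a6], [.a6]⟩,
  ⟨128, [.a7, .a11], [.a7, .a8, .a11]⟩,
  ⟨256, [.a8], [.a8]⟩,
  ⟨512, [.a9, .a11], [.a9, .a11]⟩]
def B1177 : List Gv := [⟨[.a2, .a11], [.a2, .a5, .a6, .a8, .a11]⟩, ⟨[.a4], [.a4, .a5]⟩, ⟨[.a7, .a11], [.a7, .a8, .a11]⟩, ⟨[.a9, .a11], [.a9, .a11]⟩]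
def D1177 : List Dv := [⟨[.a5, .a6, .a8], [0, 0], []⟩,
  ⟨[.a6, .a8], [0, 2, 2], []⟩,
  ⟨[.a8], [0, 4, 3], [3, 4]⟩,
  ⟨[.a6], [1], [0]⟩,
  ⟨[.a5], [3], [0, 1]⟩]
def C1177 : List Ch := [⟨P594, 0, [.a10], [.a10, .a11]⟩,
  ⟨P679, 1, [.a1], [.a1, .a2]⟩,
  ⟨P722, 0, [.a1, .a10], [.a1, .a2, .a4, .a5, .a7, .a9, .a10, .a11]⟩,
  ⟨P757, 2, [.a1], [.a1, .a2]⟩,
  ⟨P737, 0, [.a0], [.a0]⟩,
  ⟨P787, 1, [], []⟩,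
  ⟨P801, 0, [], []⟩,
  ⟨P814, 3, [], []⟩,
  ⟨P772, 0, [.a0, .a10], [.a0, .a1, .a2, .a3, .a4, .a6, .a8, .a9, .a10, .a11]⟩,
  ⟨P654, 1, [.a0], [.a0]⟩,
  ⟨P825, 0, [], []⟩,
  ⟨P805, 2, [.a0, .a10], [.a0, .a1, .a2, .a3, .a4, .a6, .a8, .a9, .a10, .a11]⟩,
  ⟨P829, 0, [], []⟩,
  ⟨P834, 1, [], []⟩,
  ⟨P702, 0, [.a0], [.a0]⟩]
def S1177 : List St := [.cent 1 1 0 [⟨32, [.a5], [.a5]⟩,
  ⟨64, [.a6], [.a6]⟩,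
  ⟨256, [.a8], [.a8]⟩]]
theorem bad1177 (c : CtxF Goal γ) : Bad Goal γ [] P1177 :=
  c.toCtx.chn (B := B1177) (D := D1177) (I := [5, 6, 0, 1, 7, 2, 8]) (r := 4) (C := C1177) (l := S1177) (x := ⟨[.a11], [.a11]⟩) (ix := [0]) (by decide +kernel) (by decide +kernel) (by decide +kernel) (by decide +kernel)
    (allB_cons (bad594 c) (allB_cons (bad679 c) (allB_cons (bad722 c) (allB_cons (bad757 c) (allB_cons (bad737 c) (allB_cons (bad787 c) (allB_cons (bad801 c) (allB_cons (bad814 c) (allB_cons (bad772 c) (allB_cons (bad654 c) (allB_cons (bad825 c) (allB_cons (bad805 c) (allB_cons (bad829 c) (allB_cons (bad834 c) (allB_cons (bad702 c) (allB_nil))))))))))))))))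

def P1178 : List Ent := [⟨4, [.a2], [.a2]⟩,
  ⟨16, [.a4, .a11], [.a4, .a5, .a11]⟩,
  ⟨32, [.a5], [.a5]⟩,
  ⟨64, [.a6], [.a6]⟩,
  ⟨128, [.a7, .a11], [.a7, .a8, .a11]⟩,
  ⟨256, [.a8], [.a8]⟩,
  ⟨512, [.a9, .a11], [.a9, .a11]⟩]
def B1178 : List Gv := [⟨[.a2], [.a2]⟩, ⟨[.a4, .a11], [.a4, .a5, .a11]⟩, ⟨[.a7, .a11], [.a7, .a8, .a11]⟩, ⟨[.a9, .a11], [.a9, .a11]⟩]
def D1178 : List Dv := [⟨[.a5, .a6, .a8], [1, 0], [0, 1]⟩,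
  ⟨[.a6, .a8], [0, 2, 2], []⟩,
  ⟨[.a8], [0, 4, 3], [3, 4]⟩,
  ⟨[.a6], [1], [0]⟩,
  ⟨[.a5], [3], [0, 1]⟩]
def C1178 : List Ch := [⟨P595, 0, [.a10], [.a10, .a11]⟩,
  ⟨P678, 1, [.a1], [.a1, .a2]⟩,
  ⟨P722, 0, [.a1, .a10], [.a1, .a2, .a4, .a5, .a7, .a9, .a10, .a11]⟩,
  ⟨P762, 2, [.a1], [.a1, .a2]⟩,
  ⟨P740, 0, [.a0, .a10], [.a0, .a1, .a2, .a3, .a4, .a6, .a8, .a9, .a10, .a11]⟩,
  ⟨P785, 1, [], []⟩,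
  ⟨P800, 0, [], []⟩,
  ⟨P815, 3, [], []⟩,
  ⟨P652, 0, [.a0, .a10], [.a0, .a1, .a2, .a3, .a4, .a6, .a8, .a9, .a10, .a11]⟩,
  ⟨P766, 1, [.a0], [.a0]⟩,
  ⟨P821, 0, [.a0, .a10], [.a0, .a1, .a2, .a3, .a4, .a6, .a8, .a9, .a10, .a11]⟩,
  ⟨P693, 2, [.a0, .a10], [.a0, .a1, .a2, .a3, .a4, .a6, .a8, .a9, .a10, .a11]⟩,
  ⟨P830, 0, [], []⟩,
  ⟨P833, 1, [], []⟩,
  ⟨P810, 0, [.a0], [.a0]⟩]
def S1178 : List St := [.cent 1 1 0 [⟨32, [.a5], [.a5]⟩,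
  ⟨64, [.a6], [.a6]⟩,
  ⟨256, [.a8], [.a8]⟩]]
theorem bad1178 (c : CtxF Goal γ) : Bad Goal γ [] P1178 :=
  c.toCtx.chn (B := B1178) (D := D1178) (I := [5, 6, 0, 1, 7, 2, 8]) (r := 4) (C := C1178) (l := S1178) (x := ⟨[.a11], [.a11]⟩) (ix := [0]) (by decide +kernel) (by decide +kernel) (by decide +kernel) (by decide +kernel)
    (allB_cons (bad595 c) (allB_cons (bad678 c) (allB_cons (bad722 c) (allB_cons (bad762 c) (allB_cons (bad740 c) (allB_cons (bad785 c) (allB_cons (bad800 c) (allB_cons (bad815 c) (allB_cons (bad652 c) (allB_cons (bad766 c) (allB_cons (bad821 c) (allB_cons (bad693 c) (allB_cons (bad830 c) (allB_cons (bad833 c) (allB_cons (bad810 c) (allB_nil))))))))))))))))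

def P1179 : List Ent := [⟨4, [.a2, .a11], [.a2, .a5, .a6, .a8, .a11]⟩,
  ⟨16, [.a4, .a11], [.a4, .a5, .a11]⟩,
  ⟨32, [.a5], [.a5]⟩,
  ⟨64, [.a6], [.a6]⟩,
  ⟨128, [.a7, .a11], [.a7, .a8, .a11]⟩,
  ⟨256, [.a8], [.a8]⟩,
  ⟨512, [.a9, .a11], [.a9, .a11]⟩]
def B1179 : List Gv := [⟨[.a2, .a11], [.a2, .a5, .a6, .a8, .a11]⟩, ⟨[.a4, .a11], [.a4, .a5, .a11]⟩, ⟨[.a7, .a11], [.a7, .a8, .a11]⟩, ⟨[.a9, .a11], [.a9, .a11]⟩]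
def D1179 : List Dv := [⟨[.a5, .a6, .a8], [0, 0], []⟩,
  ⟨[.a6, .a8], [0, 2, 2], []⟩,
  ⟨[.a8], [0, 4, 3], [3, 4]⟩,
  ⟨[.a6], [1], [0]⟩,
  ⟨[.a5], [3], [0, 1]⟩]
def C1179 : List Ch := [⟨P595, 0, [.a10], [.a10, .a11]⟩,
  ⟨P679, 1, [.a1], [.a1, .a2]⟩,
  ⟨P721, 0, [.a1, .a10], [.a1, .a2, .a4, .a5, .a7, .a9, .a10, .a11]⟩,
  ⟨P770, 2, [.a1], [.a1, .a2]⟩,
  ⟨P728, 0, [.a0, .a1], [.a0, .a1, .a2]⟩,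
  ⟨P782, 1, [.a0, .a1, .a3, .a5, .a6, .a7, .a8, .a9, .a10], [.a0, .a10, .a11]⟩,
  ⟨P799, 0, [], []⟩,
  ⟨P631, 3, [.a0], [.a0]⟩,
  ⟨P819, 0, [], []⟩,
  ⟨P822, 1, [], []⟩,
  ⟨P757, 0, [.a0, .a1, .a3, .a5, .a6, .a7, .a8, .a9, .a10], [.a0, .a10, .a11]⟩,
  ⟨P827, 2, [], []⟩,
  ⟨P686, 0, [.a0, .a1, .a3, .a5, .a6, .a7, .a8, .a9, .a10], [.a0, .a10, .a11]⟩,
  ⟨P795, 1, [.a0, .a1], [.a0, .a1, .a2]⟩,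
  ⟨P836, 0, [], []⟩]
def S1179 : List St := [.cent 1 1 0 [⟨32, [.a5], [.a5]⟩,
  ⟨64, [.a6], [.a6]⟩,
  ⟨256, [.a8], [.a8]⟩]]
theorem bad1179 (c : CtxF Goal γ) : Bad Goal γ [] P1179 :=
  c.toCtx.chn (B := B1179) (D := D1179) (I := [5, 6, 0, 1, 7, 2, 8]) (r := 4) (C := C1179) (l := S1179) (x := ⟨[.a11], [.a11]⟩) (ix := [0]) (by decide +kernel) (by decide +kernel) (by decide +kernel) (by decide +kernel)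
    (allB_cons (bad595 c) (allB_cons (bad679 c) (allB_cons (bad721 c) (allB_cons (bad770 c) (allB_cons (bad728 c) (allB_cons (bad782 c) (allB_cons (bad799 c) (allB_cons (bad631 c) (allB_cons (bad819 c) (allB_cons (bad822 c) (allB_cons (bad757 c) (allB_cons (bad827 c) (allB_cons (bad686 c) (allB_cons (bad795 c) (allB_cons (bad836 c) (allB_nil))))))))))))))))

def P1180 : List Ent := [⟨4, [.a2], [.a2]⟩,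
  ⟨8, [.a3, .a7], [.a3, .a5, .a7, .a8]⟩,
  ⟨16, [.a4], [.a4, .a5]⟩,
  ⟨32, [.a5], [.a5]⟩,
  ⟨64, [.a6], [.a6]⟩,
  ⟨256, [.a8], [.a8]⟩,
  ⟨2048, [.a11], [.a11]⟩]
def B1180 : List Gv := [⟨[.a2], [.a2]⟩, ⟨[.a3, .a7], [.a3, .a5, .a7, .a8]⟩, ⟨[.a4], [.a4, .a5]⟩, ⟨[.a11], [.a11]⟩]
def D1180 : List Dv := [⟨[.a5, .a8], [1, 1], []⟩,
  ⟨[.a6], [3, 2], [2, 3]⟩,
  ⟨[.a8], [1, 4, 4], []⟩,
  ⟨[.a5], [2], [0]⟩]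
def C1180 : List Ch := [⟨P625, 0, [], []⟩,
  ⟨P748, 1, [], []⟩,
  ⟨P735, 0, [.a0, .a1], [.a0, .a1, .a2]⟩,
  ⟨P683, 2, [], []⟩,
  ⟨P727, 0, [], []⟩,
  ⟨P785, 1, [.a1], [.a1, .a2]⟩,
  ⟨P802, 0, [.a1, .a10], [.a1, .a2, .a4, .a5, .a7, .a9, .a10, .a11]⟩,
  ⟨P812, 3, [.a0], [.a0]⟩,
  ⟨P806, 0, [.a0, .a1], [.a0, .a1, .a2]⟩,
  ⟨P753, 1, [.a0, .a1], [.a0, .a1, .a2]⟩,
  ⟨P827, 0, [.a0, .a1, .a3, .a5, .a6, .a7, .a8, .a9, .a10], [.a0, .a10, .a11]⟩,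
  ⟨P692, 2, [.a0, .a1], [.a0, .a1, .a2]⟩,
  ⟨P838, 0, [], []⟩,
  ⟨P839, 1, [], []⟩,
  ⟨P641, 0, [.a0, .a1], [.a0, .a1, .a2]⟩]
def S1180 : List St := [.cent 1 1 0 [⟨32, [.a5], [.a5]⟩,
  ⟨64, [.a6], [.a6]⟩,
  ⟨256, [.a8], [.a8]⟩]]
theorem bad1180 (c : CtxF Goal γ) : Bad Goal γ [] P1180 :=
  c.toCtx.chn (B := B1180) (D := D1180) (I := [4, 5, 6, 0, 2, 1, 7]) (r := 4) (C := C1180) (l := S1180) (x := ⟨[.a9], [.a9]⟩) (ix := [0]) (by decide +kernel) (by decide +kernel) (by decide +kernel) (by decide +kernel)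
    (allB_cons (bad625 c) (allB_cons (bad748 c) (allB_cons (bad735 c) (allB_cons (bad683 c) (allB_cons (bad727 c) (allB_cons (bad785 c) (allB_cons (bad802 c) (allB_cons (bad812 c) (allB_cons (bad806 c) (allB_cons (bad753 c) (allB_cons (bad827 c) (allB_cons (bad692 c) (allB_cons (bad838 c) (allB_cons (bad839 c) (allB_cons (bad641 c) (allB_nil))))))))))))))))

def P1181 : List Ent := [⟨4, [.a2, .a9], [.a2, .a5, .a9]⟩,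
  ⟨8, [.a3, .a7], [.a3, .a5, .a7, .a8]⟩,
  ⟨16, [.a4], [.a4, .a5]⟩,
  ⟨32, [.a5], [.a5]⟩,
  ⟨64, [.a6], [.a6]⟩,
  ⟨256, [.a8], [.a8]⟩,
  ⟨2048, [.a11], [.a11]⟩]
def B1181 : List Gv := [⟨[.a2, .a9], [.a2, .a5, .a9]⟩, ⟨[.a3, .a7], [.a3, .a5, .a7, .a8]⟩, ⟨[.a4], [.a4, .a5]⟩, ⟨[.a11], [.a11]⟩]
def D1181 : List Dv := [⟨[.a5], [0, 0], []⟩,
  ⟨[.a8], [0, 2, 2], []⟩,
  ⟨[.a6], [4, 3], [3, 4]⟩]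
def C1181 : List Ch := [⟨P625, 0, [], []⟩,
  ⟨P756, 1, [], []⟩,
  ⟨P729, 0, [.a0], [.a0]⟩,
  ⟨P684, 2, [], []⟩,
  ⟨P728, 0, [], []⟩,
  ⟨P782, 1, [.a0, .a10], [.a0, .a1, .a2, .a3, .a4, .a6, .a8, .a9, .a10, .a11]⟩,
  ⟨P801, 0, [.a1, .a10], [.a1, .a2, .a4, .a5, .a7, .a9, .a10, .a11]⟩,
  ⟨P840, 3, [], []⟩,
  ⟨P794, 0, [.a0], [.a0]⟩,
  ⟨P770, 1, [.a0, .a10], [.a0, .a1, .a2, .a3, .a4, .a6, .a8, .a9, .a10, .a11]⟩,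
  ⟨P838, 0, [.a0, .a1, .a3, .a5, .a6, .a7, .a8, .a9, .a10], [.a0, .a10, .a11]⟩,
  ⟨P684, 2, [.a0, .a10], [.a0, .a1, .a2, .a3, .a4, .a6, .a8, .a9, .a10, .a11]⟩,
  ⟨P841, 0, [], []⟩,
  ⟨P842, 1, [], []⟩,
  ⟨P632, 0, [.a0, .a1, .a3, .a5, .a6, .a7, .a8, .a9, .a10], [.a0, .a10, .a11]⟩]
def S1181 : List St := [.cent 1 1 0 [⟨32, [.a5], [.a5]⟩,
  ⟨64, [.a6], [.a6]⟩,
  ⟨256, [.a8], [.a8]⟩]]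
theorem bad1181 (c : CtxF Goal γ) : Bad Goal γ [] P1181 :=
  c.toCtx.chn (B := B1181) (D := D1181) (I := [3, 4, 5, 2, 0, 1, 6]) (r := 4) (C := C1181) (l := S1181) (x := ⟨[.a9], [.a9]⟩) (ix := [0]) (by decide +kernel) (by decide +kernel) (by decide +kernel) (by decide +kernel)
    (allB_cons (bad625 c) (allB_cons (bad756 c) (allB_cons (bad729 c) (allB_cons (bad684 c) (allB_cons (bad728 c) (allB_cons (bad782 c) (allB_cons (bad801 c) (allB_cons (bad840 c) (allB_cons (bad794 c) (allB_cons (bad770 c) (allB_cons (bad838 c) (allB_cons (bad684 c) (allB_cons (bad841 c) (allB_cons (bad842 c) (allB_cons (bad632 c) (allB_nil))))))))))))))))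

def P1182 : List Ent := [⟨4, [.a2], [.a2]⟩,
  ⟨8, [.a3, .a7, .a9], [.a3, .a5, .a7, .a8, .a9]⟩,
  ⟨16, [.a4], [.a4, .a5]⟩,
  ⟨32, [.a5], [.a5]⟩,
  ⟨64, [.a6], [.a6]⟩,
  ⟨256, [.a8], [.a8]⟩,
  ⟨2048, [.a11], [.a11]⟩]
def B1182 : List Gv := [⟨[.a2], [.a2]⟩, ⟨[.a3, .a7, .a9], [.a3, .a5, .a7, .a8, .a9]⟩, ⟨[.a4], [.a4, .a5]⟩, ⟨[.a11], [.a11]⟩]
def D1182 : List Dv := [⟨[.a5], [1, 0], [0, 1]⟩,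
  ⟨[.a8], [0, 2, 2], []⟩,
  ⟨[.a6, .a8], [4, 3], [3, 4]⟩,
  ⟨[.a6], [0], [1]⟩]
def C1182 : List Ch := [⟨P625, 0, [.a10], [.a10, .a11]⟩,
  ⟨P748, 1, [], []⟩,
  ⟨P729, 0, [.a0], [.a0]⟩,
  ⟨P685, 2, [], []⟩,
  ⟨P729, 0, [], []⟩,
  ⟨P786, 1, [.a1], [.a1, .a2]⟩,
  ⟨P799, 0, [.a1, .a10], [.a1, .a2, .a4, .a5, .a7, .a9, .a10, .a11]⟩,
  ⟨P843, 3, [], []⟩,
  ⟨P799, 0, [.a0, .a1, .a3, .a5, .a6, .a7, .a8, .a9, .a10], [.a0, .a10, .a11]⟩,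
  ⟨P748, 1, [.a0], [.a0]⟩,
  ⟨P844, 0, [], []⟩,
  ⟨P685, 2, [.a0], [.a0]⟩,
  ⟨P844, 0, [.a0], [.a0]⟩,
  ⟨P845, 1, [], []⟩,
  ⟨P625, 0, [.a0, .a10], [.a0, .a1, .a2, .a3, .a4, .a6, .a8, .a9, .a10, .a11]⟩]
def N1182 : List Ent := [⟨1, [.a0], [.a0]⟩,
  ⟨4, [.a2], [.a2]⟩,
  ⟨8, [.a3, .a7, .a9], [.a3, .a5, .a7, .a8, .a9]⟩,
  ⟨16, [.a4], [.a4, .a5]⟩,
  ⟨32, [.a5], [.a5]⟩,
  ⟨64, [.a6], [.a6]⟩,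
  ⟨128, [.a7], [.a7, .a8]⟩,
  ⟨256, [.a8], [.a8]⟩,
  ⟨512, [.a9], [.a9]⟩,
  ⟨2048, [.a11], [.a11]⟩]
theorem bad1182 (c : CtxF Goal γ) : Bad Goal γ [] P1182 :=
  c.toCtx.bnd (B := B1182) (D := D1182) (I := [4, 5, 6, 3, 0, 2, 7]) (r := 4) (C := C1182) (N := N1182) (by decide +kernel) (by decide +kernel) (by decide +kernel) (by decide +kernel)
    (allB_cons (bad625 c) (allB_cons (bad748 c) (allB_cons (bad729 c) (allB_cons (bad685 c) (allB_cons (bad729 c) (allB_cons (bad786 c) (allB_cons (bad799 c) (allB_cons (bad843 c) (allB_cons (bad799 c) (allB_cons (bad748 c) (allB_cons (bad844 c) (allB_cons (bad685 c) (allB_cons (bad844 c) (allB_cons (bad845 c) (allB_cons (bad625 c) (allB_nil))))))))))))))))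

def P1183 : List Ent := [⟨4, [.a2, .a9], [.a2, .a5, .a9]⟩,
  ⟨8, [.a3, .a7, .a9], [.a3, .a5, .a7, .a8, .a9]⟩,
  ⟨16, [.a4], [.a4, .a5]⟩,
  ⟨32, [.a5], [.a5]⟩,
  ⟨64, [.a6], [.a6]⟩,
  ⟨256, [.a8], [.a8]⟩,
  ⟨2048, [.a11], [.a11]⟩]
def B1183 : List Gv := [⟨[.a2, .a9], [.a2, .a5, .a9]⟩, ⟨[.a3, .a7, .a9], [.a3, .a5, .a7, .a8, .a9]⟩, ⟨[.a4], [.a4, .a5]⟩, ⟨[.a11], [.a11]⟩]
def D1183 : List Dv := [⟨[.a5], [0, 0], []⟩,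
  ⟨[.a8], [0, 2, 2], []⟩,
  ⟨[.a6, .a8], [4, 3], [3, 4]⟩,
  ⟨[.a6], [0], [1]⟩]
def C1183 : List Ch := [⟨P625, 0, [.a10], [.a10, .a11]⟩,
  ⟨P756, 1, [], []⟩,
  ⟨P735, 0, [.a0, .a1], [.a0, .a1, .a2]⟩,
  ⟨P686, 2, [], []⟩,
  ⟨P730, 0, [], []⟩,
  ⟨P787, 1, [.a1], [.a1, .a2]⟩,
  ⟨P800, 0, [.a1, .a10], [.a1, .a2, .a4, .a5, .a7, .a9, .a10, .a11]⟩,
  ⟨P836, 3, [.a0, .a1, .a3, .a5, .a6, .a7, .a8, .a9, .a10], [.a0, .a10, .a11]⟩,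
  ⟨P804, 0, [.a0, .a1, .a3, .a5, .a6, .a7, .a8, .a9, .a10], [.a0, .a10, .a11]⟩,
  ⟨P771, 1, [.a0, .a1, .a3, .a5, .a6, .a7, .a8, .a9, .a10], [.a0, .a10, .a11]⟩,
  ⟨P813, 0, [.a0], [.a0]⟩,
  ⟨P699, 2, [.a0, .a1], [.a0, .a1, .a2]⟩,
  ⟨P846, 0, [], []⟩,
  ⟨P842, 1, [.a0, .a10], [.a0, .a1, .a2, .a3, .a4, .a6, .a8, .a9, .a10, .a11]⟩,
  ⟨P648, 0, [.a0], [.a0]⟩]
def S1183 : List St := [.cent 1 1 0 [⟨32, [.a5], [.a5]⟩,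
  ⟨64, [.a6], [.a6]⟩,
  ⟨256, [.a8], [.a8]⟩]]
theorem bad1183 (c : CtxF Goal γ) : Bad Goal γ [] P1183 :=
  c.toCtx.chn (B := B1183) (D := D1183) (I := [4, 5, 6, 3, 0, 2, 7]) (r := 4) (C := C1183) (l := S1183) (x := ⟨[.a9], [.a9]⟩) (ix := [0]) (by decide +kernel) (by decide +kernel) (by decide +kernel) (by decide +kernel)
    (allB_cons (bad625 c) (allB_cons (bad756 c) (allB_cons (bad735 c) (allB_cons (bad686 c) (allB_cons (bad730 c) (allB_cons (bad787 c) (allB_cons (bad800 c) (allB_cons (bad836 c) (allB_cons (bad804 c) (allB_cons (bad771 c) (allB_cons (bad813 c) (allB_cons (bad699 c) (allB_cons (bad846 c) (allB_cons (bad842 c) (allB_cons (bad648 c) (allB_nil))))))))))))))))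

def P1184 : List Ent := [⟨4, [.a2, .a9], [.a2, .a5, .a9]⟩,
  ⟨8, [.a3, .a7], [.a3, .a5, .a7, .a8]⟩,
  ⟨16, [.a4, .a9], [.a4, .a5, .a8, .a9]⟩,
  ⟨32, [.a5], [.a5]⟩,
  ⟨64, [.a6], [.a6]⟩,
  ⟨256, [.a8], [.a8]⟩,
  ⟨2048, [.a11], [.a11]⟩]
def B1184 : List Gv := [⟨[.a2, .a9], [.a2, .a5, .a9]⟩, ⟨[.a3, .a7], [.a3, .a5, .a7, .a8]⟩, ⟨[.a4, .a9], [.a4, .a5, .a8, .a9]⟩, ⟨[.a11], [.a11]⟩]
def D1184 : List Dv := [⟨[.a5], [0, 0], []⟩,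
  ⟨[.a8], [0, 2, 2], []⟩,
  ⟨[.a6], [4, 3], [3, 4]⟩]
def C1184 : List Ch := [⟨P626, 0, [], []⟩,
  ⟨P769, 1, [], []⟩,
  ⟨P743, 0, [.a0, .a1, .a3, .a5, .a6, .a7, .a8, .a9, .a10], [.a0, .a10, .a11]⟩,
  ⟨P684, 2, [], []⟩,
  ⟨P727, 0, [], []⟩,
  ⟨P787, 1, [.a1], [.a1, .a2]⟩,
  ⟨P799, 0, [.a1, .a10], [.a1, .a2, .a4, .a5, .a7, .a9, .a10, .a11]⟩,
  ⟨P840, 3, [.a0, .a10], [.a0, .a1, .a2, .a3, .a4, .a6, .a8, .a9, .a10, .a11]⟩,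
  ⟨P809, 0, [.a0, .a1, .a3, .a5, .a6, .a7, .a8, .a9, .a10], [.a0, .a10, .a11]⟩,
  ⟨P760, 1, [.a0, .a1, .a3, .a5, .a6, .a7, .a8, .a9, .a10], [.a0, .a10, .a11]⟩,
  ⟨P846, 0, [.a0, .a1], [.a0, .a1, .a2]⟩,
  ⟨P701, 2, [.a0, .a1, .a3, .a5, .a6, .a7, .a8, .a9, .a10], [.a0, .a10, .a11]⟩,
  ⟨P814, 0, [.a0], [.a0]⟩,
  ⟨P819, 1, [.a0, .a1, .a3, .a5, .a6, .a7, .a8, .a9, .a10], [.a0, .a10, .a11]⟩,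
  ⟨P645, 0, [.a0, .a1, .a3, .a5, .a6, .a7, .a8, .a9, .a10], [.a0, .a10, .a11]⟩]
def S1184 : List St := [.cent 1 1 0 [⟨32, [.a5], [.a5]⟩,
  ⟨64, [.a6], [.a6]⟩,
  ⟨256, [.a8], [.a8]⟩]]
theorem bad1184 (c : CtxF Goal γ) : Bad Goal γ [] P1184 :=
  c.toCtx.chn (B := B1184) (D := D1184) (I := [3, 4, 5, 2, 0, 1, 6]) (r := 4) (C := C1184) (l := S1184) (x := ⟨[.a9], [.a9]⟩) (ix := [0]) (by decide +kernel) (by decide +kernel) (by decide +kernel) (by decide +kernel)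
    (allB_cons (bad626 c) (allB_cons (bad769 c) (allB_cons (bad743 c) (allB_cons (bad684 c) (allB_cons (bad727 c) (allB_cons (bad787 c) (allB_cons (bad799 c) (allB_cons (bad840 c) (allB_cons (bad809 c) (allB_cons (bad760 c) (allB_cons (bad846 c) (allB_cons (bad701 c) (allB_cons (bad814 c) (allB_cons (bad819 c) (allB_cons (bad645 c) (allB_nil))))))))))))))))

def P1185 : List Ent := [⟨4, [.a2], [.a2]⟩,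
  ⟨8, [.a3, .a7, .a9], [.a3, .a5, .a7, .a8, .a9]⟩,
  ⟨16, [.a4, .a9], [.a4, .a5, .a8, .a9]⟩,
  ⟨32, [.a5], [.a5]⟩,
  ⟨64, [.a6], [.a6]⟩,
  ⟨256, [.a8], [.a8]⟩,
  ⟨2048, [.a11], [.a11]⟩]
def B1185 : List Gv := [⟨[.a2], [.a2]⟩, ⟨[.a3, .a7, .a9], [.a3, .a5, .a7, .a8, .a9]⟩, ⟨[.a4, .a9], [.a4, .a5, .a8, .a9]⟩, ⟨[.a11], [.a11]⟩]
def D1185 : List Dv := [⟨[.a5], [1, 0], [0, 1]⟩,
  ⟨[.a8], [0, 2, 2], []⟩,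
  ⟨[.a6, .a8], [4, 3], [3, 4]⟩,
  ⟨[.a6], [0], [1]⟩]
def C1185 : List Ch := [⟨P626, 0, [.a10], [.a10, .a11]⟩,
  ⟨P761, 1, [], []⟩,
  ⟨P743, 0, [.a0, .a1, .a3, .a5, .a6, .a7, .a8, .a9, .a10], [.a0, .a10, .a11]⟩,
  ⟨P685, 2, [], []⟩,
  ⟨P730, 0, [], []⟩,
  ⟨P785, 1, [.a1], [.a1, .a2]⟩,
  ⟨P801, 0, [.a1, .a10], [.a1, .a2, .a4, .a5, .a7, .a9, .a10, .a11]⟩,
  ⟨P847, 3, [], []⟩,
  ⟨P811, 0, [.a0, .a1], [.a0, .a1, .a2]⟩,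
  ⟨P765, 1, [.a0, .a1], [.a0, .a1, .a2]⟩,
  ⟨P841, 0, [.a0, .a10], [.a0, .a1, .a2, .a3, .a4, .a6, .a8, .a9, .a10, .a11]⟩,
  ⟨P696, 2, [.a0, .a1, .a3, .a5, .a6, .a7, .a8, .a9, .a10], [.a0, .a10, .a11]⟩,
  ⟨P822, 0, [.a0, .a1, .a3, .a5, .a6, .a7, .a8, .a9, .a10], [.a0, .a10, .a11]⟩,
  ⟨P815, 1, [.a0], [.a0]⟩,
  ⟨P650, 0, [.a0], [.a0]⟩]
def S1185 : List St := [.cent 1 1 0 [⟨32, [.a5], [.a5]⟩,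
  ⟨64, [.a6], [.a6]⟩,
  ⟨256, [.a8], [.a8]⟩]]
theorem bad1185 (c : CtxF Goal γ) : Bad Goal γ [] P1185 :=
  c.toCtx.chn (B := B1185) (D := D1185) (I := [4, 5, 6, 3, 0, 2, 7]) (r := 4) (C := C1185) (l := S1185) (x := ⟨[.a9], [.a9]⟩) (ix := [0]) (by decide +kernel) (by decide +kernel) (by decide +kernel) (by decide +kernel)
    (allB_cons (bad626 c) (allB_cons (bad761 c) (allB_cons (bad743 c) (allB_cons (bad685 c) (allB_cons (bad730 c) (allB_cons (bad785 c) (allB_cons (bad801 c) (allB_cons (bad847 c) (allB_cons (bad811 c) (allB_cons (bad765 c) (allB_cons (bad841 c) (allB_cons (bad696 c) (allB_cons (bad822 c) (allB_cons (bad815 c) (allB_cons (bad650 c) (allB_nil))))))))))))))))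

def P1186 : List Ent := [⟨4, [.a2], [.a2]⟩,
  ⟨8, [.a3, .a7], [.a3, .a5, .a7, .a8]⟩,
  ⟨16, [.a4], [.a4, .a5]⟩,
  ⟨32, [.a5], [.a5]⟩,
  ⟨64, [.a6], [.a6]⟩,
  ⟨256, [.a8], [.a8]⟩,
  ⟨512, [.a9], [.a9]⟩]
def B1186 : List Gv := [⟨[.a2], [.a2]⟩, ⟨[.a3, .a7], [.a3, .a5, .a7, .a8]⟩, ⟨[.a4], [.a4, .a5]⟩, ⟨[.a9], [.a9]⟩]
def D1186 : List Dv := [⟨[.a5, .a8], [1, 1], []⟩,
  ⟨[.a6], [3, 2], [2, 3]⟩,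
  ⟨[.a8], [1, 4, 4], []⟩,
  ⟨[.a5], [2], [0]⟩]
def C1186 : List Ch := [⟨P627, 0, [], []⟩,
  ⟨P773, 1, [], []⟩,
  ⟨P744, 0, [.a0], [.a0]⟩,
  ⟨P687, 2, [], []⟩,
  ⟨P731, 0, [], []⟩,
  ⟨P783, 1, [.a1], [.a1, .a2]⟩,
  ⟨P646, 0, [.a0], [.a0]⟩,
  ⟨P812, 3, [.a0], [.a0]⟩,
  ⟨P840, 0, [], []⟩,
  ⟨P843, 1, [], []⟩,
  ⟨P836, 0, [.a0, .a1, .a3, .a5, .a6, .a7, .a8, .a9, .a10], [.a0, .a10, .a11]⟩,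
  ⟨P820, 2, [.a0, .a1], [.a0, .a1, .a2]⟩,
  ⟨P840, 0, [.a0, .a10], [.a0, .a1, .a2, .a3, .a4, .a6, .a8, .a9, .a10, .a11]⟩,
  ⟨P847, 1, [], []⟩,
  ⟨P829, 0, [.a0, .a10], [.a0, .a1, .a2, .a3, .a4, .a6, .a8, .a9, .a10, .a11]⟩]
def S1186 : List St := [.cent 1 1 0 [⟨32, [.a5], [.a5]⟩,
  ⟨64, [.a6], [.a6]⟩,
  ⟨256, [.a8], [.a8]⟩]]
theorem bad1186 (c : CtxF Goal γ) : Bad Goal γ [] P1186 :=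
  c.toCtx.chn (B := B1186) (D := D1186) (I := [4, 5, 6, 0, 2, 1, 7]) (r := 4) (C := C1186) (l := S1186) (x := ⟨[.a11], [.a11]⟩) (ix := [0]) (by decide +kernel) (by decide +kernel) (by decide +kernel) (by decide +kernel)
    (allB_cons (bad627 c) (allB_cons (bad773 c) (allB_cons (bad744 c) (allB_cons (bad687 c) (allB_cons (bad731 c) (allB_cons (bad783 c) (allB_cons (bad646 c) (allB_cons (bad812 c) (allB_cons (bad840 c) (allB_cons (bad843 c) (allB_cons (bad836 c) (allB_cons (bad820 c) (allB_cons (bad840 c) (allB_cons (bad847 c) (allB_cons (bad829 c) (allB_nil))))))))))))))))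

def P1187 : List Ent := [⟨4, [.a2, .a11], [.a2, .a5, .a6, .a8, .a11]⟩,
  ⟨8, [.a3, .a7, .a11], [.a3, .a5, .a7, .a11]⟩,
  ⟨16, [.a4], [.a4, .a5]⟩,
  ⟨32, [.a5], [.a5]⟩,
  ⟨64, [.a6], [.a6]⟩,
  ⟨256, [.a8], [.a8]⟩,
  ⟨512, [.a9], [.a9]⟩]
def B1187 : List Gv := [⟨[.a2, .a11], [.a2, .a5, .a6, .a8, .a11]⟩, ⟨[.a3, .a7, .a11], [.a3, .a5, .a7, .a11]⟩, ⟨[.a4], [.a4, .a5]⟩, ⟨[.a9], [.a9]⟩]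
def D1187 : List Dv := [⟨[.a5, .a6, .a8], [0, 0], []⟩,
  ⟨[.a8], [0, 2, 1], [1, 2]⟩,
  ⟨[.a6, .a8], [1, 3, 3], []⟩,
  ⟨[.a6], [0], [1]⟩,
  ⟨[.a5], [3], [0, 2]⟩]
def C1187 : List Ch := [⟨P628, 0, [], []⟩,
  ⟨P774, 1, [], []⟩,
  ⟨P744, 0, [.a0], [.a0]⟩,
  ⟨P647, 2, [.a0], [.a0]⟩,
  ⟨P732, 0, [], []⟩,
  ⟨P784, 1, [.a1], [.a1, .a2]⟩,
  ⟨P703, 0, [.a0], [.a0]⟩,
  ⟨P827, 3, [.a0, .a1, .a3, .a5, .a6, .a7, .a8, .a9, .a10], [.a0, .a10, .a11]⟩,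
  ⟨P838, 0, [.a0, .a1, .a3, .a5, .a6, .a7, .a8, .a9, .a10], [.a0, .a10, .a11]⟩,
  ⟨P844, 1, [], []⟩,
  ⟨P813, 0, [.a0], [.a0]⟩,
  ⟨P817, 2, [.a0, .a1], [.a0, .a1, .a2]⟩,
  ⟨P846, 0, [.a0, .a1], [.a0, .a1, .a2]⟩,
  ⟨P841, 1, [.a0, .a10], [.a0, .a1, .a2, .a3, .a4, .a6, .a8, .a9, .a10, .a11]⟩,
  ⟨P830, 0, [.a0, .a10], [.a0, .a1, .a2, .a3, .a4, .a6, .a8, .a9, .a10, .a11]⟩]
def S1187 : List St := [.cent 1 1 0 [⟨32, [.a5], [.a5]⟩,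
  ⟨64, [.a6], [.a6]⟩,
  ⟨256, [.a8], [.a8]⟩]]
theorem bad1187 (c : CtxF Goal γ) : Bad Goal γ [] P1187 :=
  c.toCtx.chn (B := B1187) (D := D1187) (I := [5, 6, 7, 0, 1, 3, 8]) (r := 4) (C := C1187) (l := S1187) (x := ⟨[.a11], [.a11]⟩) (ix := [0]) (by decide +kernel) (by decide +kernel) (by decide +kernel) (by decide +kernel)
    (allB_cons (bad628 c) (allB_cons (bad774 c) (allB_cons (bad744 c) (allB_cons (bad647 c) (allB_cons (bad732 c) (allB_cons (bad784 c) (allB_cons (bad703 c) (allB_cons (bad827 c) (allB_cons (bad838 c) (allB_cons (bad844 c) (allB_cons (bad813 c) (allB_cons (bad817 c) (allB_cons (bad846 c) (allB_cons (bad841 c) (allB_cons (bad830 c) (allB_nil))))))))))))))))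

def P1188 : List Ent := [⟨4, [.a2, .a11], [.a2, .a5, .a6, .a8, .a11]⟩,
  ⟨8, [.a3, .a7], [.a3, .a5, .a7, .a8]⟩,
  ⟨16, [.a4, .a11], [.a4, .a5, .a11]⟩,
  ⟨32, [.a5], [.a5]⟩,
  ⟨64, [.a6], [.a6]⟩,
  ⟨256, [.a8], [.a8]⟩,
  ⟨512, [.a9], [.a9]⟩]
def B1188 : List Gv := [⟨[.a2, .a11], [.a2, .a5, .a6, .a8, .a11]⟩, ⟨[.a3, .a7], [.a3, .a5, .a7, .a8]⟩, ⟨[.a4, .a11], [.a4, .a5, .a11]⟩, ⟨[.a9], [.a9]⟩]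
def D1188 : List Dv := [⟨[.a5, .a6, .a8], [0, 0], []⟩,
  ⟨[.a8], [2, 1], [1, 2]⟩,
  ⟨[.a6], [1, 3, 3], []⟩,
  ⟨[.a5], [2], [0, 1]⟩]
def C1188 : List Ch := [⟨P629, 0, [], []⟩,
  ⟨P649, 1, [.a0], [.a0]⟩,
  ⟨P745, 0, [.a0], [.a0]⟩,
  ⟨P688, 2, [], []⟩,
  ⟨P731, 0, [], []⟩,
  ⟨P784, 1, [.a1], [.a1, .a2]⟩,
  ⟨P775, 0, [.a0], [.a0]⟩,
  ⟨P838, 3, [], []⟩,
  ⟨P841, 0, [], []⟩,
  ⟨P844, 1, [.a0], [.a0]⟩,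
  ⟨P846, 0, [], []⟩,
  ⟨P837, 2, [.a0, .a1], [.a0, .a1, .a2]⟩,
  ⟨P814, 0, [.a0], [.a0]⟩,
  ⟨P822, 1, [.a0, .a1, .a3, .a5, .a6, .a7, .a8, .a9, .a10], [.a0, .a10, .a11]⟩,
  ⟨P831, 0, [.a0, .a10], [.a0, .a1, .a2, .a3, .a4, .a6, .a8, .a9, .a10, .a11]⟩]
def S1188 : List St := [.cent 1 1 0 [⟨32, [.a5], [.a5]⟩,
  ⟨64, [.a6], [.a6]⟩,
  ⟨256, [.a8], [.a8]⟩]]
theorem bad1188 (c : CtxF Goal γ) : Bad Goal γ [] P1188 :=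
  c.toCtx.chn (B := B1188) (D := D1188) (I := [4, 5, 6, 0, 1, 2, 7]) (r := 4) (C := C1188) (l := S1188) (x := ⟨[.a11], [.a11]⟩) (ix := [0]) (by decide +kernel) (by decide +kernel) (by decide +kernel) (by decide +kernel)
    (allB_cons (bad629 c) (allB_cons (bad649 c) (allB_cons (bad745 c) (allB_cons (bad688 c) (allB_cons (bad731 c) (allB_cons (bad784 c) (allB_cons (bad775 c) (allB_cons (bad838 c) (allB_cons (bad841 c) (allB_cons (bad844 c) (allB_cons (bad846 c) (allB_cons (bad837 c) (allB_cons (bad814 c) (allB_cons (bad822 c) (allB_cons (bad831 c) (allB_nil))))))))))))))))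

def P1189 : List Ent := [⟨4, [.a2], [.a2]⟩,
  ⟨8, [.a3, .a7, .a11], [.a3, .a5, .a7, .a11]⟩,
  ⟨16, [.a4, .a11], [.a4, .a5, .a11]⟩,
  ⟨32, [.a5], [.a5]⟩,
  ⟨64, [.a6], [.a6]⟩,
  ⟨256, [.a8], [.a8]⟩,
  ⟨512, [.a9], [.a9]⟩]
def B1189 : List Gv := [⟨[.a2], [.a2]⟩, ⟨[.a3, .a7, .a11], [.a3, .a5, .a7, .a11]⟩, ⟨[.a4, .a11], [.a4, .a5, .a11]⟩, ⟨[.a9], [.a9]⟩]
def D1189 : List Dv := [⟨[.a5, .a6, .a8], [1, 0], [0, 1]⟩,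
  ⟨[.a6, .a8], [0, 2, 2], []⟩,
  ⟨[.a8], [5, 4], [4, 5]⟩,
  ⟨[.a6], [1], [0]⟩,
  ⟨[.a5], [3], [0, 1]⟩]
def C1189 : List Ch := [⟨P630, 0, [], []⟩,
  ⟨P704, 1, [.a0], [.a0]⟩,
  ⟨P745, 0, [.a0], [.a0]⟩,
  ⟨P689, 2, [], []⟩,
  ⟨P732, 0, [], []⟩,
  ⟨P783, 1, [.a1], [.a1, .a2]⟩,
  ⟨P798, 0, [.a1, .a10], [.a1, .a2, .a4, .a5, .a7, .a9, .a10, .a11]⟩,
  ⟨P839, 3, [], []⟩,
  ⟨P842, 0, [], []⟩,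
  ⟨P845, 1, [], []⟩,
  ⟨P842, 0, [.a0, .a10], [.a0, .a1, .a2, .a3, .a4, .a6, .a8, .a9, .a10, .a11]⟩,
  ⟨P828, 2, [.a0, .a1], [.a0, .a1, .a2]⟩,
  ⟨P819, 0, [.a0, .a1, .a3, .a5, .a6, .a7, .a8, .a9, .a10], [.a0, .a10, .a11]⟩,
  ⟨P815, 1, [.a0], [.a0]⟩,
  ⟨P832, 0, [.a0, .a10], [.a0, .a1, .a2, .a3, .a4, .a6, .a8, .a9, .a10, .a11]⟩]
def S1189 : List St := [.cent 1 1 0 [⟨32, [.a5], [.a5]⟩,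
  ⟨64, [.a6], [.a6]⟩,
  ⟨256, [.a8], [.a8]⟩]]
theorem bad1189 (c : CtxF Goal γ) : Bad Goal γ [] P1189 :=
  c.toCtx.chn (B := B1189) (D := D1189) (I := [5, 6, 7, 0, 1, 2, 8]) (r := 4) (C := C1189) (l := S1189) (x := ⟨[.a11], [.a11]⟩) (ix := [0]) (by decide +kernel) (by decide +kernel) (by decide +kernel) (by decide +kernel)
    (allB_cons (bad630 c) (allB_cons (bad704 c) (allB_cons (bad745 c) (allB_cons (bad689 c) (allB_cons (bad732 c) (allB_cons (bad783 c) (allB_cons (bad798 c) (allB_cons (bad839 c) (allB_cons (bad842 c) (allB_cons (bad845 c) (allB_cons (bad842 c) (allB_cons (bad828 c) (allB_cons (bad819 c) (allB_cons (bad815 c) (allB_cons (bad832 c) (allB_nil))))))))))))))))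

def P1190 : List Ent := [⟨4, [.a2, .a11], [.a2, .a5, .a6, .a8, .a11]⟩,
  ⟨8, [.a3, .a7], [.a3, .a5, .a7, .a8]⟩,
  ⟨16, [.a4], [.a4, .a5]⟩,
  ⟨32, [.a5], [.a5]⟩,
  ⟨64, [.a6], [.a6]⟩,
  ⟨256, [.a8], [.a8]⟩,
  ⟨512, [.a9, .a11], [.a9, .a11]⟩]
def B1190 : List Gv := [⟨[.a2, .a11], [.a2, .a5, .a6, .a8, .a11]⟩, ⟨[.a3, .a7], [.a3, .a5, .a7, .a8]⟩, ⟨[.a4], [.a4, .a5]⟩, ⟨[.a9, .a11], [.a9, .a11]⟩]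
def D1190 : List Dv := [⟨[.a5, .a6, .a8], [0, 0], []⟩,
  ⟨[.a8], [2, 1], [1, 2]⟩,
  ⟨[.a6], [1, 3, 3], []⟩,
  ⟨[.a5], [2], [0, 1]⟩]
def C1190 : List Ch := [⟨P631, 0, [], []⟩,
  ⟨P757, 1, [.a1], [.a1, .a2]⟩,
  ⟨P737, 0, [.a0, .a1, .a3, .a5, .a6, .a7, .a8, .a9, .a10], [.a0, .a10, .a11]⟩,
  ⟨P684, 2, [.a1], [.a1, .a2]⟩,
  ⟨P730, 0, [.a1, .a10], [.a1, .a2, .a4, .a5, .a7, .a9, .a10, .a11]⟩,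
  ⟨P780, 1, [.a1], [.a1, .a2]⟩,
  ⟨P796, 0, [.a1, .a10], [.a1, .a2, .a4, .a5, .a7, .a9, .a10, .a11]⟩,
  ⟨P806, 3, [.a0, .a1], [.a0, .a1, .a2]⟩,
  ⟨P840, 0, [], []⟩,
  ⟨P844, 1, [], []⟩,
  ⟨P771, 0, [.a0, .a1, .a3, .a5, .a6, .a7, .a8, .a9, .a10], [.a0, .a10, .a11]⟩,
  ⟨P837, 2, [.a0, .a1], [.a0, .a1, .a2]⟩,
  ⟨P701, 0, [.a0, .a1, .a3, .a5, .a6, .a7, .a8, .a9, .a10], [.a0, .a10, .a11]⟩,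
  ⟨P650, 1, [.a0], [.a0]⟩,
  ⟨P832, 0, [.a0, .a10], [.a0, .a1, .a2, .a3, .a4, .a6, .a8, .a9, .a10, .a11]⟩]
def S1190 : List St := [.cent 1 1 0 [⟨32, [.a5], [.a5]⟩,
  ⟨64, [.a6], [.a6]⟩,
  ⟨256, [.a8], [.a8]⟩]]
theorem bad1190 (c : CtxF Goal γ) : Bad Goal γ [] P1190 :=
  c.toCtx.chn (B := B1190) (D := D1190) (I := [4, 5, 6, 0, 1, 2, 7]) (r := 4) (C := C1190) (l := S1190) (x := ⟨[.a11], [.a11]⟩) (ix := [0]) (by decide +kernel) (by decide +kernel) (by decide +kernel) (by decide +kernel)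
    (allB_cons (bad631 c) (allB_cons (bad757 c) (allB_cons (bad737 c) (allB_cons (bad684 c) (allB_cons (bad730 c) (allB_cons (bad780 c) (allB_cons (bad796 c) (allB_cons (bad806 c) (allB_cons (bad840 c) (allB_cons (bad844 c) (allB_cons (bad771 c) (allB_cons (bad837 c) (allB_cons (bad701 c) (allB_cons (bad650 c) (allB_cons (bad832 c) (allB_nil))))))))))))))))

def P1191 : List Ent := [⟨4, [.a2], [.a2]⟩,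
  ⟨8, [.a3, .a7, .a11], [.a3, .a5, .a7, .a11]⟩,
  ⟨16, [.a4], [.a4, .a5]⟩,
  ⟨32, [.a5], [.a5]⟩,
  ⟨64, [.a6], [.a6]⟩,
  ⟨256, [.a8], [.a8]⟩,
  ⟨512, [.a9, .a11], [.a9, .a11]⟩]
def B1191 : List Gv := [⟨[.a2], [.a2]⟩, ⟨[.a3, .a7, .a11], [.a3, .a5, .a7, .a11]⟩, ⟨[.a4], [.a4, .a5]⟩, ⟨[.a9, .a11], [.a9, .a11]⟩]
def D1191 : List Dv := [⟨[.a5, .a6, .a8], [1, 0], [0, 1]⟩,
  ⟨[.a6, .a8], [0, 2, 2], []⟩,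
  ⟨[.a8], [0, 4, 3], [3, 4]⟩,
  ⟨[.a6], [1], [0]⟩,
  ⟨[.a5], [3], [0, 1]⟩]
def C1191 : List Ch := [⟨P631, 0, [.a10], [.a10, .a11]⟩,
  ⟨P749, 1, [.a1], [.a1, .a2]⟩,
  ⟨P737, 0, [.a0, .a1, .a3, .a5, .a6, .a7, .a8, .a9, .a10], [.a0, .a10, .a11]⟩,
  ⟨P685, 2, [.a1], [.a1, .a2]⟩,
  ⟨P727, 0, [.a1, .a10], [.a1, .a2, .a4, .a5, .a7, .a9, .a10, .a11]⟩,
  ⟨P781, 1, [.a1], [.a1, .a2]⟩,
  ⟨P794, 0, [.a1, .a10], [.a1, .a2, .a4, .a5, .a7, .a9, .a10, .a11]⟩,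
  ⟨P753, 3, [.a0, .a1], [.a0, .a1, .a2]⟩,
  ⟨P838, 0, [.a0, .a1, .a3, .a5, .a6, .a7, .a8, .a9, .a10], [.a0, .a10, .a11]⟩,
  ⟨P843, 1, [], []⟩,
  ⟨P804, 0, [.a0, .a1, .a3, .a5, .a6, .a7, .a8, .a9, .a10], [.a0, .a10, .a11]⟩,
  ⟨P828, 2, [.a0, .a1], [.a0, .a1, .a2]⟩,
  ⟨P645, 0, [.a0, .a1, .a3, .a5, .a6, .a7, .a8, .a9, .a10], [.a0, .a10, .a11]⟩,
  ⟨P696, 1, [.a0, .a1, .a3, .a5, .a6, .a7, .a8, .a9, .a10], [.a0, .a10, .a11]⟩,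
  ⟨P831, 0, [.a0, .a10], [.a0, .a1, .a2, .a3, .a4, .a6, .a8, .a9, .a10, .a11]⟩]
def S1191 : List St := [.cent 1 1 0 [⟨32, [.a5], [.a5]⟩,
  ⟨64, [.a6], [.a6]⟩,
  ⟨256, [.a8], [.a8]⟩]]
theorem bad1191 (c : CtxF Goal γ) : Bad Goal γ [] P1191 :=
  c.toCtx.chn (B := B1191) (D := D1191) (I := [5, 6, 7, 0, 1, 2, 8]) (r := 4) (C := C1191) (l := S1191) (x := ⟨[.a11], [.a11]⟩) (ix := [0]) (by decide +kernel) (by decide +kernel) (by decide +kernel) (by decide +kernel)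
    (allB_cons (bad631 c) (allB_cons (bad749 c) (allB_cons (bad737 c) (allB_cons (bad685 c) (allB_cons (bad727 c) (allB_cons (bad781 c) (allB_cons (bad794 c) (allB_cons (bad753 c) (allB_cons (bad838 c) (allB_cons (bad843 c) (allB_cons (bad804 c) (allB_cons (bad828 c) (allB_cons (bad645 c) (allB_cons (bad696 c) (allB_cons (bad831 c) (allB_nil))))))))))))))))

def P1192 : List Ent := [⟨4, [.a2], [.a2]⟩,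
  ⟨8, [.a3, .a7], [.a3, .a5, .a7, .a8]⟩,
  ⟨16, [.a4, .a11], [.a4, .a5, .a11]⟩,
  ⟨32, [.a5], [.a5]⟩,
  ⟨64, [.a6], [.a6]⟩,
  ⟨256, [.a8], [.a8]⟩,
  ⟨512, [.a9, .a11], [.a9, .a11]⟩]
def B1192 : List Gv := [⟨[.a2], [.a2]⟩, ⟨[.a3, .a7], [.a3, .a5, .a7, .a8]⟩, ⟨[.a4, .a11], [.a4, .a5, .a11]⟩, ⟨[.a9, .a11], [.a9, .a11]⟩]
def D1192 : List Dv := [⟨[.a5, .a8], [1, 1], []⟩,
  ⟨[.a6], [0, 3, 1], [1, 3]⟩,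
  ⟨[.a8], [0, 4, 3], [3, 4]⟩,
  ⟨[.a5], [2], [0]⟩]
def C1192 : List Ch := [⟨P632, 0, [], []⟩,
  ⟨P762, 1, [.a1], [.a1, .a2]⟩,
  ⟨P740, 0, [.a0, .a1], [.a0, .a1, .a2]⟩,
  ⟨P683, 2, [.a1], [.a1, .a2]⟩,
  ⟨P730, 0, [.a1, .a10], [.a1, .a2, .a4, .a5, .a7, .a9, .a10, .a11]⟩,
  ⟨P781, 1, [.a1], [.a1, .a2]⟩,
  ⟨P795, 0, [.a1, .a10], [.a1, .a2, .a4, .a5, .a7, .a9, .a10, .a11]⟩,
  ⟨P692, 3, [.a0, .a1], [.a0, .a1, .a2]⟩,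
  ⟨P841, 0, [], []⟩,
  ⟨P845, 1, [], []⟩,
  ⟨P648, 0, [.a0], [.a0]⟩,
  ⟨P820, 2, [.a0, .a1], [.a0, .a1, .a2]⟩,
  ⟨P809, 0, [.a0, .a1, .a3, .a5, .a6, .a7, .a8, .a9, .a10], [.a0, .a10, .a11]⟩,
  ⟨P765, 1, [.a0, .a1], [.a0, .a1, .a2]⟩,
  ⟨P830, 0, [.a0, .a10], [.a0, .a1, .a2, .a3, .a4, .a6, .a8, .a9, .a10, .a11]⟩]
def S1192 : List St := [.cent 1 1 0 [⟨32, [.a5], [.a5]⟩,
  ⟨64, [.a6], [.a6]⟩,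
  ⟨256, [.a8], [.a8]⟩]]
theorem bad1192 (c : CtxF Goal γ) : Bad Goal γ [] P1192 :=
  c.toCtx.chn (B := B1192) (D := D1192) (I := [4, 5, 6, 0, 2, 1, 7]) (r := 4) (C := C1192) (l := S1192) (x := ⟨[.a11], [.a11]⟩) (ix := [0]) (by decide +kernel) (by decide +kernel) (by decide +kernel) (by decide +kernel)
    (allB_cons (bad632 c) (allB_cons (bad762 c) (allB_cons (bad740 c) (allB_cons (bad683 c) (allB_cons (bad730 c) (allB_cons (bad781 c) (allB_cons (bad795 c) (allB_cons (bad692 c) (allB_cons (bad841 c) (allB_cons (bad845 c) (allB_cons (bad648 c) (allB_cons (bad820 c) (allB_cons (bad809 c) (allB_cons (bad765 c) (allB_cons (bad830 c) (allB_nil))))))))))))))))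

def P1193 : List Ent := [⟨4, [.a2], [.a2]⟩,
  ⟨8, [.a3, .a7, .a11], [.a3, .a5, .a7, .a11]⟩,
  ⟨16, [.a4, .a11], [.a4, .a5, .a11]⟩,
  ⟨32, [.a5], [.a5]⟩,
  ⟨64, [.a6], [.a6]⟩,
  ⟨256, [.a8], [.a8]⟩,
  ⟨512, [.a9, .a11], [.a9, .a11]⟩]
def B1193 : List Gv := [⟨[.a2], [.a2]⟩, ⟨[.a3, .a7, .a11], [.a3, .a5, .a7, .a11]⟩, ⟨[.a4, .a11], [.a4, .a5, .a11]⟩, ⟨[.a9, .a11], [.a9, .a11]⟩]
def D1193 : List Dv := [⟨[.a5, .a6, .a8], [1, 0], [0, 1]⟩,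
  ⟨[.a6, .a8], [0, 2, 2], []⟩,
  ⟨[.a8], [5, 3], [3, 5]⟩,
  ⟨[.a6], [1], [0]⟩,
  ⟨[.a5], [3], [0, 1]⟩]
def C1193 : List Ch := [⟨P632, 0, [.a10], [.a10, .a11]⟩,
  ⟨P762, 1, [.a1], [.a1, .a2]⟩,
  ⟨P728, 0, [.a0, .a10], [.a0, .a1, .a2, .a3, .a4, .a6, .a8, .a9, .a10, .a11]⟩,
  ⟨P685, 2, [.a1], [.a1, .a2]⟩,
  ⟨P728, 0, [.a1, .a10], [.a1, .a2, .a4, .a5, .a7, .a9, .a10, .a11]⟩,
  ⟨P779, 1, [.a0], [.a0]⟩,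
  ⟨P796, 0, [.a1, .a10], [.a1, .a2, .a4, .a5, .a7, .a9, .a10, .a11]⟩,
  ⟨P839, 3, [], []⟩,
  ⟨P632, 0, [.a0, .a1, .a3, .a5, .a6, .a7, .a8, .a9, .a10], [.a0, .a10, .a11]⟩,
  ⟨P685, 1, [.a0], [.a0]⟩,
  ⟨P846, 0, [], []⟩,
  ⟨P762, 2, [.a0], [.a0]⟩,
  ⟨P846, 0, [.a0, .a1], [.a0, .a1, .a2]⟩,
  ⟨P847, 1, [], []⟩,
  ⟨P796, 0, [.a0, .a10], [.a0, .a1, .a2, .a3, .a4, .a6, .a8, .a9, .a10, .a11]⟩]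
def N1193 : List Ent := [⟨1, [.a0, .a1], [.a0, .a1, .a2]⟩,
  ⟨4, [.a2], [.a2]⟩,
  ⟨8, [.a3, .a7, .a11], [.a3, .a5, .a7, .a11]⟩,
  ⟨16, [.a4, .a11], [.a4, .a5, .a11]⟩,
  ⟨32, [.a5], [.a5]⟩,
  ⟨64, [.a6], [.a6]⟩,
  ⟨128, [.a7], [.a7, .a8]⟩,
  ⟨256, [.a8], [.a8]⟩,
  ⟨512, [.a9, .a11], [.a9, .a11]⟩,
  ⟨2048, [.a11], [.a11]⟩]
theorem bad1193 (c : CtxF Goal γ) : Bad Goal γ [] P1193 :=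
  c.toCtx.bnd (B := B1193) (D := D1193) (I := [5, 6, 7, 0, 1, 2, 8]) (r := 4) (C := C1193) (N := N1193) (by decide +kernel) (by decide +kernel) (by decide +kernel) (by decide +kernel)
    (allB_cons (bad632 c) (allB_cons (bad762 c) (allB_cons (bad728 c) (allB_cons (bad685 c) (allB_cons (bad728 c) (allB_cons (bad779 c) (allB_cons (bad796 c) (allB_cons (bad839 c) (allB_cons (bad632 c) (allB_cons (bad685 c) (allB_cons (bad846 c) (allB_cons (bad762 c) (allB_cons (bad846 c) (allB_cons (bad847 c) (allB_cons (bad796 c) (allB_nil))))))))))))))))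

def P1194 : List Ent := [⟨4, [.a2, .a11], [.a2, .a5, .a6, .a8, .a11]⟩,
  ⟨8, [.a3, .a7, .a11], [.a3, .a5, .a7, .a11]⟩,
  ⟨16, [.a4, .a11], [.a4, .a5, .a11]⟩,
  ⟨32, [.a5], [.a5]⟩,
  ⟨64, [.a6], [.a6]⟩,
  ⟨256, [.a8], [.a8]⟩,
  ⟨512, [.a9, .a11], [.a9, .a11]⟩]
def B1194 : List Gv := [⟨[.a2, .a11], [.a2, .a5, .a6, .a8, .a11]⟩, ⟨[.a3, .a7, .a11], [.a3, .a5, .a7, .a11]⟩, ⟨[.a4, .a11], [.a4, .a5, .a11]⟩, ⟨[.a9, .a11], [.a9, .a11]⟩]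
def D1194 : List Dv := [⟨[.a5, .a6, .a8], [0, 0], []⟩,
  ⟨[.a8], [0, 2, 1], [1, 2]⟩,
  ⟨[.a6, .a8], [1, 3, 3], []⟩,
  ⟨[.a6], [0], [1]⟩,
  ⟨[.a5], [3], [0, 2]⟩]
def C1194 : List Ch := [⟨P632, 0, [.a10], [.a10, .a11]⟩,
  ⟨P770, 1, [.a1], [.a1, .a2]⟩,
  ⟨P740, 0, [.a0, .a1], [.a0, .a1, .a2]⟩,
  ⟨P686, 2, [.a1], [.a1, .a2]⟩,
  ⟨P727, 0, [.a1, .a10], [.a1, .a2, .a4, .a5, .a7, .a9, .a10, .a11]⟩,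
  ⟨P780, 1, [.a1], [.a1, .a2]⟩,
  ⟨P797, 0, [.a1, .a10], [.a1, .a2, .a4, .a5, .a7, .a9, .a10, .a11]⟩,
  ⟨P641, 3, [.a0, .a1], [.a0, .a1, .a2]⟩,
  ⟨P842, 0, [], []⟩,
  ⟨P844, 1, [.a0], [.a0]⟩,
  ⟨P699, 0, [.a0, .a1], [.a0, .a1, .a2]⟩,
  ⟨P817, 2, [.a0, .a1], [.a0, .a1, .a2]⟩,
  ⟨P760, 0, [.a0, .a1, .a3, .a5, .a6, .a7, .a8, .a9, .a10], [.a0, .a10, .a11]⟩,
  ⟨P811, 1, [.a0, .a1], [.a0, .a1, .a2]⟩,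
  ⟨P829, 0, [.a0, .a10], [.a0, .a1, .a2, .a3, .a4, .a6, .a8, .a9, .a10, .a11]⟩]
def S1194 : List St := [.cent 1 1 0 [⟨32, [.a5], [.a5]⟩,
  ⟨64, [.a6], [.a6]⟩,
  ⟨256, [.a8], [.a8]⟩]]
theorem bad1194 (c : CtxF Goal γ) : Bad Goal γ [] P1194 :=
  c.toCtx.chn (B := B1194) (D := D1194) (I := [5, 6, 7, 0, 1, 3, 8]) (r := 4) (C := C1194) (l := S1194) (x := ⟨[.a11], [.a11]⟩) (ix := [0]) (by decide +kernel) (by decide +kernel) (by decide +kernel) (by decide +kernel)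
    (allB_cons (bad632 c) (allB_cons (bad770 c) (allB_cons (bad740 c) (allB_cons (bad686 c) (allB_cons (bad727 c) (allB_cons (bad780 c) (allB_cons (bad797 c) (allB_cons (bad641 c) (allB_cons (bad842 c) (allB_cons (bad844 c) (allB_cons (bad699 c) (allB_cons (bad817 c) (allB_cons (bad760 c) (allB_cons (bad811 c) (allB_cons (bad829 c) (allB_nil))))))))))))))))

def P1195 : List Ent := [⟨4, [.a2], [.a2]⟩,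
  ⟨8, [.a3], [.a3]⟩,
  ⟨16, [.a4], [.a4, .a5]⟩,
  ⟨32, [.a5], [.a5]⟩,
  ⟨64, [.a6], [.a6]⟩,
  ⟨128, [.a7], [.a7, .a8]⟩,
  ⟨256, [.a8], [.a8]⟩]
def B1195 : List Gv := [⟨[.a2], [.a2]⟩, ⟨[.a3], [.a3]⟩, ⟨[.a4], [.a4, .a5]⟩, ⟨[.a7], [.a7, .a8]⟩]
def D1195 : List Dv := [⟨[.a5], [2, 2], []⟩,
  ⟨[.a6], [4, 3], [3, 4]⟩,
  ⟨[.a8], [5, 5], []⟩]
def C1195 : List Ch := [⟨P638, 0, [], []⟩,
  ⟨P812, 1, [], []⟩,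
  ⟨P826, 0, [.a10], [.a10, .a11]⟩,
  ⟨P690, 2, [], []⟩,
  ⟨P733, 0, [], []⟩,
  ⟨P812, 1, [.a1], [.a1, .a2]⟩,
  ⟨P826, 0, [.a0, .a10], [.a0, .a1, .a2, .a3, .a4, .a6, .a8, .a9, .a10, .a11]⟩,
  ⟨P750, 3, [], []⟩,
  ⟨P733, 0, [.a0], [.a0]⟩,
  ⟨P812, 1, [.a0], [.a0]⟩,
  ⟨P843, 0, [.a10], [.a10, .a11]⟩,
  ⟨P788, 2, [], []⟩,
  ⟨P638, 0, [.a0], [.a0]⟩,
  ⟨P812, 1, [.a0, .a1], [.a0, .a1, .a2]⟩,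
  ⟨P843, 0, [.a0, .a10], [.a0, .a1, .a2, .a3, .a4, .a6, .a8, .a9, .a10, .a11]⟩]
def N1195 : List Ent := [⟨1, [.a0], [.a0]⟩,
  ⟨2, [.a1], [.a1, .a2]⟩,
  ⟨4, [.a2], [.a2]⟩,
  ⟨8, [.a3], [.a3]⟩,
  ⟨16, [.a4], [.a4, .a5]⟩,
  ⟨32, [.a5], [.a5]⟩,
  ⟨64, [.a6], [.a6]⟩,
  ⟨128, [.a7], [.a7, .a8]⟩,
  ⟨256, [.a8], [.a8]⟩,
  ⟨512, [.a9], [.a9]⟩,
  ⟨2048, [.a11], [.a11]⟩]
theorem bad1195 (c : CtxF Goal γ) : Bad Goal γ [] P1195 :=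
  c.toCtx.bnd (B := B1195) (D := D1195) (I := [3, 4, 5, 2, 1, 6, 0]) (r := 4) (C := C1195) (N := N1195) (by decide +kernel) (by decide +kernel) (by decide +kernel) (by decide +kernel)
    (allB_cons (bad638 c) (allB_cons (bad812 c) (allB_cons (bad826 c) (allB_cons (bad690 c) (allB_cons (bad733 c) (allB_cons (bad812 c) (allB_cons (bad826 c) (allB_cons (bad750 c) (allB_cons (bad733 c) (allB_cons (bad812 c) (allB_cons (bad843 c) (allB_cons (bad788 c) (allB_cons (bad638 c) (allB_cons (bad812 c) (allB_cons (bad843 c) (allB_nil))))))))))))))))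

def P1196 : List Ent := [⟨4, [.a2], [.a2]⟩,
  ⟨8, [.a3, .a11], [.a3, .a8, .a11]⟩,
  ⟨16, [.a4], [.a4, .a5]⟩,
  ⟨32, [.a5], [.a5]⟩,
  ⟨64, [.a6], [.a6]⟩,
  ⟨128, [.a7], [.a7, .a8]⟩,
  ⟨256, [.a8], [.a8]⟩]
def B1196 : List Gv := [⟨[.a2], [.a2]⟩, ⟨[.a3, .a11], [.a3, .a8, .a11]⟩, ⟨[.a4], [.a4, .a5]⟩, ⟨[.a7], [.a7, .a8]⟩]
def D1196 : List Dv := [⟨[.a5, .a6, .a8], [1, 0], [0, 1]⟩,
  ⟨[.a8], [2, 2], []⟩,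
  ⟨[.a6, .a8], [1, 4, 4], []⟩,
  ⟨[.a6], [0], [1]⟩,
  ⟨[.a5], [3], [0, 2]⟩]
def C1196 : List Ch := [⟨P639, 0, [], []⟩,
  ⟨P812, 1, [], []⟩,
  ⟨P805, 0, [.a0, .a1], [.a0, .a1, .a2]⟩,
  ⟨P692, 2, [], []⟩,
  ⟨P734, 0, [], []⟩,
  ⟨P695, 1, [.a0, .a1], [.a0, .a1, .a2]⟩,
  ⟨P818, 0, [.a0, .a10], [.a0, .a1, .a2, .a3, .a4, .a6, .a8, .a9, .a10, .a11]⟩,
  ⟨P752, 3, [], []⟩,
  ⟨P738, 0, [.a0, .a1], [.a0, .a1, .a2]⟩,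
  ⟨P753, 1, [.a0, .a1], [.a0, .a1, .a2]⟩,
  ⟨P844, 0, [.a10], [.a10, .a11]⟩,
  ⟨P789, 2, [], []⟩,
  ⟨P804, 0, [], []⟩,
  ⟨P815, 1, [.a0, .a1], [.a0, .a1, .a2]⟩,
  ⟨P645, 0, [.a0, .a1], [.a0, .a1, .a2]⟩]
def S1196 : List St := [.cent 1 1 0 [⟨32, [.a5], [.a5]⟩,
  ⟨64, [.a6], [.a6]⟩,
  ⟨256, [.a8], [.a8]⟩]]
theorem bad1196 (c : CtxF Goal γ) : Bad Goal γ [] P1196 :=
  c.toCtx.chn (B := B1196) (D := D1196) (I := [5, 6, 7, 0, 1, 8, 3]) (r := 4) (C := C1196) (l := S1196) (x := ⟨[.a11], [.a11]⟩) (ix := [0]) (by decide +kernel) (by decide +kernel) (by decide +kernel) (by decide +kernel)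
    (allB_cons (bad639 c) (allB_cons (bad812 c) (allB_cons (bad805 c) (allB_cons (bad692 c) (allB_cons (bad734 c) (allB_cons (bad695 c) (allB_cons (bad818 c) (allB_cons (bad752 c) (allB_cons (bad738 c) (allB_cons (bad753 c) (allB_cons (bad844 c) (allB_cons (bad789 c) (allB_cons (bad804 c) (allB_cons (bad815 c) (allB_cons (bad645 c) (allB_nil))))))))))))))))

def P1197 : List Ent := [⟨4, [.a2, .a11], [.a2, .a5, .a6, .a8, .a11]⟩,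
  ⟨8, [.a3], [.a3]⟩,
  ⟨16, [.a4, .a11], [.a4, .a5, .a11]⟩,
  ⟨32, [.a5], [.a5]⟩,
  ⟨64, [.a6], [.a6]⟩,
  ⟨128, [.a7], [.a7, .a8]⟩,
  ⟨256, [.a8], [.a8]⟩]
def B1197 : List Gv := [⟨[.a2, .a11], [.a2, .a5, .a6, .a8, .a11]⟩, ⟨[.a3], [.a3]⟩, ⟨[.a4, .a11], [.a4, .a5, .a11]⟩, ⟨[.a7], [.a7, .a8]⟩]
def D1197 : List Dv := [⟨[.a5, .a6, .a8], [0, 0], []⟩,
  ⟨[.a8], [2, 1], [1, 2]⟩,
  ⟨[.a6, .a8], [1, 4, 4], []⟩,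
  ⟨[.a6], [0], [1]⟩,
  ⟨[.a5], [3], [0, 2]⟩]
def C1197 : List Ch := [⟨P640, 0, [], []⟩,
  ⟨P813, 1, [], []⟩,
  ⟨P827, 0, [.a10], [.a10, .a11]⟩,
  ⟨P691, 2, [], []⟩,
  ⟨P733, 0, [], []⟩,
  ⟨P824, 1, [.a1], [.a1, .a2]⟩,
  ⟨P818, 0, [.a0, .a10], [.a0, .a1, .a2, .a3, .a4, .a6, .a8, .a9, .a10, .a11]⟩,
  ⟨P642, 3, [.a0, .a1], [.a0, .a1, .a2]⟩,
  ⟨P736, 0, [.a0, .a1], [.a0, .a1, .a2]⟩,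
  ⟨P838, 1, [], []⟩,
  ⟨P844, 0, [.a0, .a1, .a3, .a5, .a6, .a7, .a8, .a9, .a10], [.a0, .a10, .a11]⟩,
  ⟨P790, 2, [], []⟩,
  ⟨P751, 0, [.a0, .a1, .a3, .a5, .a6, .a7, .a8, .a9, .a10], [.a0, .a10, .a11]⟩,
  ⟨P814, 1, [.a0, .a1], [.a0, .a1, .a2]⟩,
  ⟨P831, 0, [.a0], [.a0]⟩]
def S1197 : List St := [.cent 1 1 0 [⟨32, [.a5], [.a5]⟩,
  ⟨64, [.a6], [.a6]⟩,
  ⟨256, [.a8], [.a8]⟩]]
theorem bad1197 (c : CtxF Goal γ) : Bad Goal γ [] P1197 :=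
  c.toCtx.chn (B := B1197) (D := D1197) (I := [5, 6, 7, 0, 1, 8, 3]) (r := 4) (C := C1197) (l := S1197) (x := ⟨[.a11], [.a11]⟩) (ix := [0]) (by decide +kernel) (by decide +kernel) (by decide +kernel) (by decide +kernel)
    (allB_cons (bad640 c) (allB_cons (bad813 c) (allB_cons (bad827 c) (allB_cons (bad691 c) (allB_cons (bad733 c) (allB_cons (bad824 c) (allB_cons (bad818 c) (allB_cons (bad642 c) (allB_cons (bad736 c) (allB_cons (bad838 c) (allB_cons (bad844 c) (allB_cons (bad790 c) (allB_cons (bad751 c) (allB_cons (bad814 c) (allB_cons (bad831 c) (allB_nil))))))))))))))))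

def P1198 : List Ent := [⟨4, [.a2, .a11], [.a2, .a5, .a6, .a8, .a11]⟩,
  ⟨8, [.a3, .a11], [.a3, .a8, .a11]⟩,
  ⟨16, [.a4, .a11], [.a4, .a5, .a11]⟩,
  ⟨32, [.a5], [.a5]⟩,
  ⟨64, [.a6], [.a6]⟩,
  ⟨128, [.a7], [.a7, .a8]⟩,
  ⟨256, [.a8], [.a8]⟩]
def B1198 : List Gv := [⟨[.a2, .a11], [.a2, .a5, .a6, .a8, .a11]⟩, ⟨[.a3, .a11], [.a3, .a8, .a11]⟩, ⟨[.a4, .a11], [.a4, .a5, .a11]⟩, ⟨[.a7], [.a7, .a8]⟩]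
def D1198 : List Dv := [⟨[.a5, .a6, .a8], [0, 0], []⟩,
  ⟨[.a8], [0, 2, 1], [1, 2]⟩,
  ⟨[.a6, .a8], [1, 4, 4], []⟩,
  ⟨[.a6], [0], [1]⟩,
  ⟨[.a5], [3], [0, 2]⟩]
def C1198 : List Ch := [⟨P641, 0, [], []⟩,
  ⟨P813, 1, [], []⟩,
  ⟨P693, 0, [.a0, .a1], [.a0, .a1, .a2]⟩,
  ⟨P693, 2, [], []⟩,
  ⟨P734, 0, [], []⟩,
  ⟨P807, 1, [.a0, .a1], [.a0, .a1, .a2]⟩,
  ⟨P826, 0, [.a0, .a10], [.a0, .a1, .a2, .a3, .a4, .a6, .a8, .a9, .a10, .a11]⟩,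
  ⟨P753, 3, [.a10], [.a10, .a11]⟩,
  ⟨P734, 0, [.a0, .a1], [.a0, .a1, .a2]⟩,
  ⟨P641, 1, [.a0, .a1], [.a0, .a1, .a2]⟩,
  ⟨P845, 0, [.a10], [.a10, .a11]⟩,
  ⟨P791, 2, [], []⟩,
  ⟨P807, 0, [], []⟩,
  ⟨P813, 1, [.a0, .a1], [.a0, .a1, .a2]⟩,
  ⟨P753, 0, [.a0, .a1, .a3, .a5, .a6, .a7, .a8, .a9, .a10], [.a0, .a10, .a11]⟩]
def N1198 : List Ent := [⟨1, [.a0, .a1], [.a0, .a1, .a2]⟩,
  ⟨4, [.a2, .a11], [.a2, .a5, .a6, .a8, .a11]⟩,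
  ⟨8, [.a3, .a11], [.a3, .a8, .a11]⟩,
  ⟨16, [.a4, .a11], [.a4, .a5, .a11]⟩,
  ⟨32, [.a5], [.a5]⟩,
  ⟨64, [.a6], [.a6]⟩,
  ⟨128, [.a7], [.a7, .a8]⟩,
  ⟨256, [.a8], [.a8]⟩,
  ⟨512, [.a9], [.a9]⟩,
  ⟨2048, [.a11], [.a11]⟩]
theorem bad1198 (c : CtxF Goal γ) : Bad Goal γ [] P1198 :=
  c.toCtx.bnd (B := B1198) (D := D1198) (I := [5, 6, 7, 0, 1, 8, 3]) (r := 4) (C := C1198) (N := N1198) (by decide +kernel) (by decide +kernel) (by decide +kernel) (by decide +kernel)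
    (allB_cons (bad641 c) (allB_cons (bad813 c) (allB_cons (bad693 c) (allB_cons (bad693 c) (allB_cons (bad734 c) (allB_cons (bad807 c) (allB_cons (bad826 c) (allB_cons (bad753 c) (allB_cons (bad734 c) (allB_cons (bad641 c) (allB_cons (bad845 c) (allB_cons (bad791 c) (allB_cons (bad807 c) (allB_cons (bad813 c) (allB_cons (bad753 c) (allB_nil))))))))))))))))

def P1199 : List Ent := [⟨4, [.a2, .a11], [.a2, .a5, .a6, .a8, .a11]⟩,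
  ⟨8, [.a3, .a11], [.a3, .a8, .a11]⟩,
  ⟨16, [.a4], [.a4, .a5]⟩,
  ⟨32, [.a5], [.a5]⟩,
  ⟨64, [.a6], [.a6]⟩,
  ⟨128, [.a7, .a11], [.a7, .a8, .a11]⟩,
  ⟨256, [.a8], [.a8]⟩]
def B1199 : List Gv := [⟨[.a2, .a11], [.a2, .a5, .a6, .a8, .a11]⟩, ⟨[.a3, .a11], [.a3, .a8, .a11]⟩, ⟨[.a4], [.a4, .a5]⟩, ⟨[.a7, .a11], [.a7, .a8, .a11]⟩]
def D1199 : List Dv := [⟨[.a5, .a6, .a8], [0, 0], []⟩,
  ⟨[.a8], [0, 2, 1], [1, 2]⟩,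
  ⟨[.a6, .a8], [1, 4, 4], []⟩,
  ⟨[.a6], [0], [1]⟩,
  ⟨[.a5], [3], [0, 2]⟩]
def C1199 : List Ch := [⟨P643, 0, [], []⟩,
  ⟨P814, 1, [], []⟩,
  ⟨P752, 0, [.a0, .a1, .a3, .a5, .a6, .a7, .a8, .a9, .a10], [.a0, .a10, .a11]⟩,
  ⟨P696, 2, [], []⟩,
  ⟨P738, 0, [], []⟩,
  ⟨P643, 1, [.a0, .a1], [.a0, .a1, .a2]⟩,
  ⟨P823, 0, [.a0, .a10], [.a0, .a1, .a2, .a3, .a4, .a6, .a8, .a9, .a10, .a11]⟩,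
  ⟨P752, 3, [.a10], [.a10, .a11]⟩,
  ⟨P738, 0, [.a0, .a1], [.a0, .a1, .a2]⟩,
  ⟨P806, 1, [.a0, .a1], [.a0, .a1, .a2]⟩,
  ⟨P843, 0, [.a10], [.a10, .a11]⟩,
  ⟨P791, 2, [], []⟩,
  ⟨P806, 0, [], []⟩,
  ⟨P814, 1, [.a0, .a1], [.a0, .a1, .a2]⟩,
  ⟨P696, 0, [.a0, .a1], [.a0, .a1, .a2]⟩]
def N1199 : List Ent := [⟨1, [.a0, .a1], [.a0, .a1, .a2]⟩,
  ⟨4, [.a2, .a11], [.a2, .a5, .a6, .a8, .a11]⟩,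
  ⟨8, [.a3, .a11], [.a3, .a8, .a11]⟩,
  ⟨16, [.a4], [.a4, .a5]⟩,
  ⟨32, [.a5], [.a5]⟩,
  ⟨64, [.a6], [.a6]⟩,
  ⟨128, [.a7, .a11], [.a7, .a8, .a11]⟩,
  ⟨256, [.a8], [.a8]⟩,
  ⟨512, [.a9], [.a9]⟩,
  ⟨2048, [.a11], [.a11]⟩]
theorem bad1199 (c : CtxF Goal γ) : Bad Goal γ [] P1199 :=
  c.toCtx.bnd (B := B1199) (D := D1199) (I := [5, 6, 7, 0, 1, 8, 3]) (r := 4) (C := C1199) (N := N1199) (by decide +kernel) (by decide +kernel) (by decide +kernel) (by decide +kernel)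
    (allB_cons (bad643 c) (allB_cons (bad814 c) (allB_cons (bad752 c) (allB_cons (bad696 c) (allB_cons (bad738 c) (allB_cons (bad643 c) (allB_cons (bad823 c) (allB_cons (bad752 c) (allB_cons (bad738 c) (allB_cons (bad806 c) (allB_cons (bad843 c) (allB_cons (bad791 c) (allB_cons (bad806 c) (allB_cons (bad814 c) (allB_cons (bad696 c) (allB_nil))))))))))))))))

end Cfsg.Agent.H782.TF.Full
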