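import Cfsg.Agent.H782.TF.Full6

/-!
# S5262, q = 2: certificate of the subgroup tree, part 7 (generated; helper782)
-/

set_option autoImplicit false
set_option maxRecDepth 100000

namespace Cfsg.Agent.H782.TF.Full

open Cfsg.Agent.H782.TF

universe u

variable {U : Type u} [Group U] {Goal : Subgroup U → Prop} {γ : ℕ → U}

def P1200 : List Ent := [⟨4, [.a2], [.a2]⟩,
  ⟨8, [.a3], [.a3]⟩,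
  ⟨16, [.a4, .a11], [.a4, .a5, .a11]⟩,
  ⟨32, [.a5], [.a5]⟩,
  ⟨64, [.a6], [.a6]⟩,
  ⟨128, [.a7, .a11], [.a7, .a8, .a11]⟩,
  ⟨256, [.a8], [.a8]⟩]
def B1200 : List Gv := [⟨[.a2], [.a2]⟩, ⟨[.a3], [.a3]⟩, ⟨[.a4, .a11], [.a4, .a5, .a11]⟩, ⟨[.a7, .a11], [.a7, .a8, .a11]⟩]
def D1200 : List Dv := [⟨[.a5, .a6, .a8], [2, 0], [0, 2]⟩,
  ⟨[.a8], [3, 2], [2, 3]⟩,
  ⟨[.a6, .a8], [1, 4, 4], []⟩,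
  ⟨[.a6], [0], [1]⟩,
  ⟨[.a5], [3], [0, 2]⟩]
def C1200 : List Ch := [⟨P644, 0, [], []⟩,
  ⟨P815, 1, [], []⟩,
  ⟨P828, 0, [.a10], [.a10, .a11]⟩,
  ⟨P694, 2, [], []⟩,
  ⟨P736, 0, [], []⟩,
  ⟨P835, 1, [.a0], [.a0]⟩,
  ⟨P823, 0, [.a0, .a10], [.a0, .a1, .a2, .a3, .a4, .a6, .a8, .a9, .a10, .a11]⟩,
  ⟨P694, 3, [.a0, .a1], [.a0, .a1, .a2]⟩,
  ⟨P736, 0, [.a0, .a1], [.a0, .a1, .a2]⟩,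
  ⟨P839, 1, [], []⟩,
  ⟨P845, 0, [.a10], [.a10, .a11]⟩,
  ⟨P788, 2, [], []⟩,
  ⟨P803, 0, [], []⟩,
  ⟨P815, 1, [.a0, .a1], [.a0, .a1, .a2]⟩,
  ⟨P828, 0, [.a0, .a1, .a3, .a5, .a6, .a7, .a8, .a9, .a10], [.a0, .a10, .a11]⟩]
def N1200 : List Ent := [⟨1, [.a0, .a1], [.a0, .a1, .a2]⟩,
  ⟨4, [.a2], [.a2]⟩,
  ⟨8, [.a3], [.a3]⟩,
  ⟨16, [.a4, .a11], [.a4, .a5, .a11]⟩,
  ⟨32, [.a5], [.a5]⟩,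
  ⟨64, [.a6], [.a6]⟩,
  ⟨128, [.a7, .a11], [.a7, .a8, .a11]⟩,
  ⟨256, [.a8], [.a8]⟩,
  ⟨512, [.a9], [.a9]⟩,
  ⟨2048, [.a11], [.a11]⟩]
theorem bad1200 (c : CtxF Goal γ) : Bad Goal γ [] P1200 :=
  c.toCtx.bnd (B := B1200) (D := D1200) (I := [5, 6, 7, 0, 1, 8, 3]) (r := 4) (C := C1200) (N := N1200) (by decide +kernel) (by decide +kernel) (by decide +kernel) (by decide +kernel)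
    (allB_cons (bad644 c) (allB_cons (bad815 c) (allB_cons (bad828 c) (allB_cons (bad694 c) (allB_cons (bad736 c) (allB_cons (bad835 c) (allB_cons (bad823 c) (allB_cons (bad694 c) (allB_cons (bad736 c) (allB_cons (bad839 c) (allB_cons (bad845 c) (allB_cons (bad788 c) (allB_cons (bad803 c) (allB_cons (bad815 c) (allB_cons (bad828 c) (allB_nil))))))))))))))))

def P1201 : List Ent := [⟨4, [.a2, .a9], [.a2, .a5, .a9]⟩,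
  ⟨8, [.a3], [.a3]⟩,
  ⟨16, [.a4], [.a4, .a5]⟩,
  ⟨32, [.a5], [.a5]⟩,
  ⟨64, [.a6], [.a6]⟩,
  ⟨128, [.a7], [.a7, .a8]⟩,
  ⟨256, [.a8], [.a8]⟩]
def B1201 : List Gv := [⟨[.a2, .a9], [.a2, .a5, .a9]⟩, ⟨[.a3], [.a3]⟩, ⟨[.a4], [.a4, .a5]⟩, ⟨[.a7], [.a7, .a8]⟩]
def D1201 : List Dv := [⟨[.a5], [0, 0], []⟩,
  ⟨[.a8], [3, 1], [1, 3]⟩,
  ⟨[.a6], [5, 4], [4, 5]⟩]
def C1201 : List Ch := [⟨P638, 0, [], []⟩,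
  ⟨P816, 1, [], []⟩,
  ⟨P829, 0, [.a10], [.a10, .a11]⟩,
  ⟨P697, 2, [], []⟩,
  ⟨P739, 0, [], []⟩,
  ⟨P816, 1, [.a1], [.a1, .a2]⟩,
  ⟨P829, 0, [.a1, .a10], [.a1, .a2, .a4, .a5, .a7, .a9, .a10, .a11]⟩,
  ⟨P758, 3, [], []⟩,
  ⟨P733, 0, [.a0, .a1, .a3, .a5, .a6, .a7, .a8, .a9, .a10], [.a0, .a10, .a11]⟩,
  ⟨P840, 1, [], []⟩,
  ⟨P836, 0, [.a0], [.a0]⟩,
  ⟨P792, 2, [], []⟩,
  ⟨P651, 0, [.a0, .a1, .a3, .a5, .a6, .a7, .a8, .a9, .a10], [.a0, .a10, .a11]⟩,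
  ⟨P840, 1, [.a1], [.a1, .a2]⟩,
  ⟨P836, 0, [.a0, .a1], [.a0, .a1, .a2]⟩]
def N1201 : List Ent := [⟨2, [.a1], [.a1, .a2]⟩,
  ⟨4, [.a2, .a9], [.a2, .a5, .a9]⟩,
  ⟨8, [.a3], [.a3]⟩,
  ⟨16, [.a4], [.a4, .a5]⟩,
  ⟨32, [.a5], [.a5]⟩,
  ⟨64, [.a6], [.a6]⟩,
  ⟨128, [.a7], [.a7, .a8]⟩,
  ⟨256, [.a8], [.a8]⟩,
  ⟨512, [.a9], [.a9]⟩,
  ⟨2048, [.a11], [.a11]⟩]
theorem bad1201 (c : CtxF Goal γ) : Bad Goal γ [] P1201 :=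
  c.toCtx.bnd (B := B1201) (D := D1201) (I := [3, 4, 5, 2, 0, 6, 1]) (r := 4) (C := C1201) (N := N1201) (by decide +kernel) (by decide +kernel) (by decide +kernel) (by decide +kernel)
    (allB_cons (bad638 c) (allB_cons (bad816 c) (allB_cons (bad829 c) (allB_cons (bad697 c) (allB_cons (bad739 c) (allB_cons (bad816 c) (allB_cons (bad829 c) (allB_cons (bad758 c) (allB_cons (bad733 c) (allB_cons (bad840 c) (allB_cons (bad836 c) (allB_cons (bad792 c) (allB_cons (bad651 c) (allB_cons (bad840 c) (allB_cons (bad836 c) (allB_nil))))))))))))))))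

def P1202 : List Ent := [⟨4, [.a2, .a9, .a11], [.a2, .a6, .a8, .a9, .a11]⟩,
  ⟨8, [.a3, .a11], [.a3, .a8, .a11]⟩,
  ⟨16, [.a4], [.a4, .a5]⟩,
  ⟨32, [.a5], [.a5]⟩,
  ⟨64, [.a6], [.a6]⟩,
  ⟨128, [.a7], [.a7, .a8]⟩,
  ⟨256, [.a8], [.a8]⟩]
def B1202 : List Gv := [⟨[.a2, .a9, .a11], [.a2, .a6, .a8, .a9, .a11]⟩, ⟨[.a3, .a11], [.a3, .a8, .a11]⟩, ⟨[.a4], [.a4, .a5]⟩, ⟨[.a7], [.a7, .a8]⟩]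
def D1202 : List Dv := [⟨[.a6, .a8], [0, 0], []⟩,
  ⟨[.a5, .a6], [2, 1], [1, 2]⟩,
  ⟨[.a8], [3, 3], []⟩,
  ⟨[.a6], [2], [0]⟩,
  ⟨[.a5], [2], [0]⟩]
def C1202 : List Ch := [⟨P639, 0, [], []⟩,
  ⟨P807, 1, [.a0], [.a0]⟩,
  ⟨P829, 0, [.a10], [.a10, .a11]⟩,
  ⟨P699, 2, [], []⟩,
  ⟨P741, 0, [], []⟩,
  ⟨P821, 1, [.a1], [.a1, .a2]⟩,
  ⟨P702, 0, [.a0, .a10], [.a0, .a1, .a2, .a3, .a4, .a6, .a8, .a9, .a10, .a11]⟩,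
  ⟨P759, 3, [.a10], [.a10, .a11]⟩,
  ⟨P738, 0, [.a0, .a10], [.a0, .a1, .a2, .a3, .a4, .a6, .a8, .a9, .a10, .a11]⟩,
  ⟨P838, 1, [.a0, .a1, .a3, .a5, .a6, .a7, .a8, .a9, .a10], [.a0, .a10, .a11]⟩,
  ⟨P771, 0, [.a0], [.a0]⟩,
  ⟨P793, 2, [], []⟩,
  ⟨P809, 0, [], []⟩,
  ⟨P650, 1, [.a0, .a1], [.a0, .a1, .a2]⟩,
  ⟨P819, 0, [.a0, .a1], [.a0, .a1, .a2]⟩]
def S1202 : List St := [.cent 1 1 0 [⟨32, [.a5], [.a5]⟩,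
  ⟨64, [.a6], [.a6]⟩,
  ⟨256, [.a8], [.a8]⟩]]
theorem bad1202 (c : CtxF Goal γ) : Bad Goal γ [] P1202 :=
  c.toCtx.chn (B := B1202) (D := D1202) (I := [5, 6, 7, 0, 1, 8, 2]) (r := 4) (C := C1202) (l := S1202) (x := ⟨[.a11], [.a11]⟩) (ix := [0]) (by decide +kernel) (by decide +kernel) (by decide +kernel) (by decide +kernel)
    (allB_cons (bad639 c) (allB_cons (bad807 c) (allB_cons (bad829 c) (allB_cons (bad699 c) (allB_cons (bad741 c) (allB_cons (bad821 c) (allB_cons (bad702 c) (allB_cons (bad759 c) (allB_cons (bad738 c) (allB_cons (bad838 c) (allB_cons (bad771 c) (allB_cons (bad793 c) (allB_cons (bad809 c) (allB_cons (bad650 c) (allB_cons (bad819 c) (allB_nil))))))))))))))))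

def P1203 : List Ent := [⟨4, [.a2, .a9, .a11], [.a2, .a6, .a8, .a9, .a11]⟩,
  ⟨8, [.a3], [.a3]⟩,
  ⟨16, [.a4, .a11], [.a4, .a5, .a11]⟩,
  ⟨32, [.a5], [.a5]⟩,
  ⟨64, [.a6], [.a6]⟩,
  ⟨128, [.a7], [.a7, .a8]⟩,
  ⟨256, [.a8], [.a8]⟩]
def B1203 : List Gv := [⟨[.a2, .a9, .a11], [.a2, .a6, .a8, .a9, .a11]⟩, ⟨[.a3], [.a3]⟩, ⟨[.a4, .a11], [.a4, .a5, .a11]⟩, ⟨[.a7], [.a7, .a8]⟩]
def D1203 : List Dv := [⟨[.a6, .a8], [0, 0], []⟩,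
  ⟨[.a8], [2, 1], [1, 2]⟩,
  ⟨[.a5, .a6], [4, 2], [2, 4]⟩,
  ⟨[.a6], [2], [1]⟩,
  ⟨[.a5], [1], [0]⟩]
def C1203 : List Ch := [⟨P640, 0, [], []⟩,
  ⟨P817, 1, [], []⟩,
  ⟨P830, 0, [.a10], [.a10, .a11]⟩,
  ⟨P691, 2, [.a1], [.a1, .a2]⟩,
  ⟨P739, 0, [], []⟩,
  ⟨P821, 1, [.a1], [.a1, .a2]⟩,
  ⟨P834, 0, [.a1, .a10], [.a1, .a2, .a4, .a5, .a7, .a9, .a10, .a11]⟩,
  ⟨P653, 3, [.a0, .a1], [.a0, .a1, .a2]⟩,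
  ⟨P736, 0, [.a0, .a10], [.a0, .a1, .a2, .a3, .a4, .a6, .a8, .a9, .a10, .a11]⟩,
  ⟨P841, 1, [], []⟩,
  ⟨P846, 0, [.a10], [.a10, .a11]⟩,
  ⟨P790, 2, [.a0, .a1, .a3, .a5, .a6, .a7, .a8, .a9, .a10], [.a0, .a10, .a11]⟩,
  ⟨P764, 0, [.a0, .a1, .a3, .a5, .a6, .a7, .a8, .a9, .a10], [.a0, .a10, .a11]⟩,
  ⟨P837, 1, [.a0], [.a0]⟩,
  ⟨P822, 0, [.a0, .a1], [.a0, .a1, .a2]⟩]
def S1203 : List St := [.cent 1 1 0 [⟨32, [.a5], [.a5]⟩,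
  ⟨64, [.a6], [.a6]⟩,
  ⟨256, [.a8], [.a8]⟩]]
theorem bad1203 (c : CtxF Goal γ) : Bad Goal γ [] P1203 :=
  c.toCtx.chn (B := B1203) (D := D1203) (I := [5, 6, 7, 0, 1, 8, 3]) (r := 4) (C := C1203) (l := S1203) (x := ⟨[.a11], [.a11]⟩) (ix := [0]) (by decide +kernel) (by decide +kernel) (by decide +kernel) (by decide +kernel)
    (allB_cons (bad640 c) (allB_cons (bad817 c) (allB_cons (bad830 c) (allB_cons (bad691 c) (allB_cons (bad739 c) (allB_cons (bad821 c) (allB_cons (bad834 c) (allB_cons (bad653 c) (allB_cons (bad736 c) (allB_cons (bad841 c) (allB_cons (bad846 c) (allB_cons (bad790 c) (allB_cons (bad764 c) (allB_cons (bad837 c) (allB_cons (bad822 c) (allB_nil))))))))))))))))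

def P1204 : List Ent := [⟨4, [.a2, .a9], [.a2, .a5, .a9]⟩,
  ⟨8, [.a3, .a11], [.a3, .a8, .a11]⟩,
  ⟨16, [.a4, .a11], [.a4, .a5, .a11]⟩,
  ⟨32, [.a5], [.a5]⟩,
  ⟨64, [.a6], [.a6]⟩,
  ⟨128, [.a7], [.a7, .a8]⟩,
  ⟨256, [.a8], [.a8]⟩]
def B1204 : List Gv := [⟨[.a2, .a9], [.a2, .a5, .a9]⟩, ⟨[.a3, .a11], [.a3, .a8, .a11]⟩, ⟨[.a4, .a11], [.a4, .a5, .a11]⟩, ⟨[.a7], [.a7, .a8]⟩]
def D1204 : List Dv := [⟨[.a5], [0, 0], []⟩,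
  ⟨[.a6, .a8], [0, 2, 1], [1, 2]⟩,
  ⟨[.a8], [3, 3], []⟩,
  ⟨[.a6], [1], [0]⟩]
def C1204 : List Ch := [⟨P641, 0, [], []⟩,
  ⟨P698, 1, [.a0, .a10], [.a0, .a1, .a2, .a3, .a4, .a6, .a8, .a9, .a10, .a11]⟩,
  ⟨P830, 0, [.a10], [.a10, .a11]⟩,
  ⟨P698, 2, [], []⟩,
  ⟨P741, 0, [], []⟩,
  ⟨P816, 1, [.a1], [.a1, .a2]⟩,
  ⟨P805, 0, [.a0], [.a0]⟩,
  ⟨P760, 3, [], []⟩,
  ⟨P734, 0, [.a0, .a10], [.a0, .a1, .a2, .a3, .a4, .a6, .a8, .a9, .a10, .a11]⟩,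
  ⟨P842, 1, [], []⟩,
  ⟨P648, 0, [.a0, .a1, .a3, .a5, .a6, .a7, .a8, .a9, .a10], [.a0, .a10, .a11]⟩,
  ⟨P793, 2, [.a0], [.a0]⟩,
  ⟨P810, 0, [], []⟩,
  ⟨P771, 1, [.a0, .a10], [.a0, .a1, .a2, .a3, .a4, .a6, .a8, .a9, .a10, .a11]⟩,
  ⟨P827, 0, [.a0, .a1], [.a0, .a1, .a2]⟩]
def S1204 : List St := [.cent 1 1 0 [⟨32, [.a5], [.a5]⟩,
  ⟨64, [.a6], [.a6]⟩,
  ⟨256, [.a8], [.a8]⟩]]
theorem bad1204 (c : CtxF Goal γ) : Bad Goal γ [] P1204 :=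
  c.toCtx.chn (B := B1204) (D := D1204) (I := [4, 5, 6, 3, 0, 7, 1]) (r := 4) (C := C1204) (l := S1204) (x := ⟨[.a11], [.a11]⟩) (ix := [0]) (by decide +kernel) (by decide +kernel) (by decide +kernel) (by decide +kernel)
    (allB_cons (bad641 c) (allB_cons (bad698 c) (allB_cons (bad830 c) (allB_cons (bad698 c) (allB_cons (bad741 c) (allB_cons (bad816 c) (allB_cons (bad805 c) (allB_cons (bad760 c) (allB_cons (bad734 c) (allB_cons (bad842 c) (allB_cons (bad648 c) (allB_cons (bad793 c) (allB_cons (bad810 c) (allB_cons (bad771 c) (allB_cons (bad827 c) (allB_nil))))))))))))))))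

def P1205 : List Ent := [⟨4, [.a2, .a9], [.a2, .a5, .a9]⟩,
  ⟨8, [.a3, .a11], [.a3, .a8, .a11]⟩,
  ⟨16, [.a4], [.a4, .a5]⟩,
  ⟨32, [.a5], [.a5]⟩,
  ⟨64, [.a6], [.a6]⟩,
  ⟨128, [.a7, .a11], [.a7, .a8, .a11]⟩,
  ⟨256, [.a8], [.a8]⟩]
def B1205 : List Gv := [⟨[.a2, .a9], [.a2, .a5, .a9]⟩, ⟨[.a3, .a11], [.a3, .a8, .a11]⟩, ⟨[.a4], [.a4, .a5]⟩, ⟨[.a7, .a11], [.a7, .a8, .a11]⟩]
def D1205 : List Dv := [⟨[.a5], [0, 0], []⟩,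
  ⟨[.a6, .a8], [0, 2, 1], [1, 2]⟩,
  ⟨[.a8], [3, 3], []⟩,
  ⟨[.a6], [1], [0]⟩]
def C1205 : List Ch := [⟨P643, 0, [], []⟩,
  ⟨P772, 1, [.a0, .a10], [.a0, .a1, .a2, .a3, .a4, .a6, .a8, .a9, .a10, .a11]⟩,
  ⟨P831, 0, [.a10], [.a10, .a11]⟩,
  ⟨P701, 2, [], []⟩,
  ⟨P742, 0, [], []⟩,
  ⟨P825, 1, [.a0, .a10], [.a0, .a1, .a2, .a3, .a4, .a6, .a8, .a9, .a10, .a11]⟩,
  ⟨P654, 0, [.a0, .a10], [.a0, .a1, .a2, .a3, .a4, .a6, .a8, .a9, .a10, .a11]⟩,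
  ⟨P759, 3, [], []⟩,
  ⟨P738, 0, [.a0, .a10], [.a0, .a1, .a2, .a3, .a4, .a6, .a8, .a9, .a10, .a11]⟩,
  ⟨P840, 1, [], []⟩,
  ⟨P804, 0, [.a0], [.a0]⟩,
  ⟨P793, 2, [.a0], [.a0]⟩,
  ⟨P811, 0, [], []⟩,
  ⟨P701, 1, [.a0, .a10], [.a0, .a1, .a2, .a3, .a4, .a6, .a8, .a9, .a10, .a11]⟩,
  ⟨P822, 0, [.a0, .a1], [.a0, .a1, .a2]⟩]
def S1205 : List St := [.cent 1 1 0 [⟨32, [.a5], [.a5]⟩,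
  ⟨64, [.a6], [.a6]⟩,
  ⟨256, [.a8], [.a8]⟩]]
theorem bad1205 (c : CtxF Goal γ) : Bad Goal γ [] P1205 :=
  c.toCtx.chn (B := B1205) (D := D1205) (I := [4, 5, 6, 3, 0, 7, 1]) (r := 4) (C := C1205) (l := S1205) (x := ⟨[.a11], [.a11]⟩) (ix := [0]) (by decide +kernel) (by decide +kernel) (by decide +kernel) (by decide +kernel)
    (allB_cons (bad643 c) (allB_cons (bad772 c) (allB_cons (bad831 c) (allB_cons (bad701 c) (allB_cons (bad742 c) (allB_cons (bad825 c) (allB_cons (bad654 c) (allB_cons (bad759 c) (allB_cons (bad738 c) (allB_cons (bad840 c) (allB_cons (bad804 c) (allB_cons (bad793 c) (allB_cons (bad811 c) (allB_cons (bad701 c) (allB_cons (bad822 c) (allB_nil))))))))))))))))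

def P1206 : List Ent := [⟨4, [.a2, .a9], [.a2, .a5, .a9]⟩,
  ⟨8, [.a3], [.a3]⟩,
  ⟨16, [.a4, .a11], [.a4, .a5, .a11]⟩,
  ⟨32, [.a5], [.a5]⟩,
  ⟨64, [.a6], [.a6]⟩,
  ⟨128, [.a7, .a11], [.a7, .a8, .a11]⟩,
  ⟨256, [.a8], [.a8]⟩]
def B1206 : List Gv := [⟨[.a2, .a9], [.a2, .a5, .a9]⟩, ⟨[.a3], [.a3]⟩, ⟨[.a4, .a11], [.a4, .a5, .a11]⟩, ⟨[.a7, .a11], [.a7, .a8, .a11]⟩]
def D1206 : List Dv := [⟨[.a5], [0, 0], []⟩,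
  ⟨[.a6], [0, 3, 1], [1, 3]⟩,
  ⟨[.a8], [4, 3], [3, 4]⟩]
def C1206 : List Ch := [⟨P644, 0, [], []⟩,
  ⟨P819, 1, [], []⟩,
  ⟨P832, 0, [.a10], [.a10, .a11]⟩,
  ⟨P700, 2, [], []⟩,
  ⟨P736, 0, [.a1, .a10], [.a1, .a2, .a4, .a5, .a7, .a9, .a10, .a11]⟩,
  ⟨P825, 1, [.a0, .a10], [.a0, .a1, .a2, .a3, .a4, .a6, .a8, .a9, .a10, .a11]⟩,
  ⟨P825, 0, [.a1, .a10], [.a1, .a2, .a4, .a5, .a7, .a9, .a10, .a11]⟩,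
  ⟨P700, 3, [.a0, .a1], [.a0, .a1, .a2]⟩,
  ⟨P736, 0, [.a0, .a10], [.a0, .a1, .a2, .a3, .a4, .a6, .a8, .a9, .a10, .a11]⟩,
  ⟨P842, 1, [], []⟩,
  ⟨P842, 0, [.a0, .a1], [.a0, .a1, .a2]⟩,
  ⟨P792, 2, [], []⟩,
  ⟨P803, 0, [.a0], [.a0]⟩,
  ⟨P832, 1, [.a0, .a1, .a3, .a5, .a6, .a7, .a8, .a9, .a10], [.a0, .a10, .a11]⟩,
  ⟨P819, 0, [.a0, .a1], [.a0, .a1, .a2]⟩]
def N1206 : List Ent := [⟨1, [.a0, .a1], [.a0, .a1, .a2]⟩,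
  ⟨4, [.a2, .a9], [.a2, .a5, .a9]⟩,
  ⟨8, [.a3], [.a3]⟩,
  ⟨16, [.a4, .a11], [.a4, .a5, .a11]⟩,
  ⟨32, [.a5], [.a5]⟩,
  ⟨64, [.a6], [.a6]⟩,
  ⟨128, [.a7, .a11], [.a7, .a8, .a11]⟩,
  ⟨256, [.a8], [.a8]⟩,
  ⟨512, [.a9], [.a9]⟩,
  ⟨2048, [.a11], [.a11]⟩]
theorem bad1206 (c : CtxF Goal γ) : Bad Goal γ [] P1206 :=
  c.toCtx.bnd (B := B1206) (D := D1206) (I := [3, 4, 5, 2, 1, 6, 0]) (r := 4) (C := C1206) (N := N1206) (by decide +kernel) (by decide +kernel) (by decide +kernel) (by decide +kernel)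
    (allB_cons (bad644 c) (allB_cons (bad819 c) (allB_cons (bad832 c) (allB_cons (bad700 c) (allB_cons (bad736 c) (allB_cons (bad825 c) (allB_cons (bad825 c) (allB_cons (bad700 c) (allB_cons (bad736 c) (allB_cons (bad842 c) (allB_cons (bad842 c) (allB_cons (bad792 c) (allB_cons (bad803 c) (allB_cons (bad832 c) (allB_cons (bad819 c) (allB_nil))))))))))))))))

def P1207 : List Ent := [⟨4, [.a2, .a9, .a11], [.a2, .a6, .a8, .a9, .a11]⟩,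
  ⟨8, [.a3, .a11], [.a3, .a8, .a11]⟩,
  ⟨16, [.a4, .a11], [.a4, .a5, .a11]⟩,
  ⟨32, [.a5], [.a5]⟩,
  ⟨64, [.a6], [.a6]⟩,
  ⟨128, [.a7, .a11], [.a7, .a8, .a11]⟩,
  ⟨256, [.a8], [.a8]⟩]
def B1207 : List Gv := [⟨[.a2, .a9, .a11], [.a2, .a6, .a8, .a9, .a11]⟩, ⟨[.a3, .a11], [.a3, .a8, .a11]⟩, ⟨[.a4, .a11], [.a4, .a5, .a11]⟩, ⟨[.a7, .a11], [.a7, .a8, .a11]⟩]
def D1207 : List Dv := [⟨[.a6, .a8], [0, 0], []⟩,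
  ⟨[.a5, .a6], [2, 1], [1, 2]⟩,
  ⟨[.a8], [3, 3], []⟩,
  ⟨[.a6], [2], [0]⟩,
  ⟨[.a5], [2], [0]⟩]
def C1207 : List Ch := [⟨P645, 0, [], []⟩,
  ⟨P652, 1, [.a0, .a10], [.a0, .a1, .a2, .a3, .a4, .a6, .a8, .a9, .a10, .a11]⟩,
  ⟨P832, 0, [.a10], [.a10, .a11]⟩,
  ⟨P702, 2, [], []⟩,
  ⟨P742, 0, [], []⟩,
  ⟨P824, 1, [.a0, .a10], [.a0, .a1, .a2, .a3, .a4, .a6, .a8, .a9, .a10, .a11]⟩,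
  ⟨P772, 0, [.a0], [.a0]⟩,
  ⟨P760, 3, [.a10], [.a10, .a11]⟩,
  ⟨P734, 0, [.a0, .a10], [.a0, .a1, .a2, .a3, .a4, .a6, .a8, .a9, .a10, .a11]⟩,
  ⟨P841, 1, [], []⟩,
  ⟨P699, 0, [.a0, .a10], [.a0, .a1, .a2, .a3, .a4, .a6, .a8, .a9, .a10, .a11]⟩,
  ⟨P793, 2, [], []⟩,
  ⟨P808, 0, [], []⟩,
  ⟨P806, 1, [.a0], [.a0]⟩,
  ⟨P836, 0, [.a0, .a1], [.a0, .a1, .a2]⟩]
def S1207 : List St := [.cent 1 1 0 [⟨32, [.a5], [.a5]⟩,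
  ⟨64, [.a6], [.a6]⟩,
  ⟨256, [.a8], [.a8]⟩]]
theorem bad1207 (c : CtxF Goal γ) : Bad Goal γ [] P1207 :=
  c.toCtx.chn (B := B1207) (D := D1207) (I := [5, 6, 7, 0, 1, 8, 2]) (r := 4) (C := C1207) (l := S1207) (x := ⟨[.a11], [.a11]⟩) (ix := [0]) (by decide +kernel) (by decide +kernel) (by decide +kernel) (by decide +kernel)
    (allB_cons (bad645 c) (allB_cons (bad652 c) (allB_cons (bad832 c) (allB_cons (bad702 c) (allB_cons (bad742 c) (allB_cons (bad824 c) (allB_cons (bad772 c) (allB_cons (bad760 c) (allB_cons (bad734 c) (allB_cons (bad841 c) (allB_cons (bad699 c) (allB_cons (bad793 c) (allB_cons (bad808 c) (allB_cons (bad806 c) (allB_cons (bad836 c) (allB_nil))))))))))))))))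

def P1208 : List Ent := [⟨4, [.a2, .a9, .a11], [.a2, .a6, .a8, .a9, .a11]⟩,
  ⟨8, [.a3, .a9, .a11], [.a3, .a8, .a9, .a11]⟩,
  ⟨16, [.a4, .a11], [.a4, .a5, .a11]⟩,
  ⟨32, [.a5], [.a5]⟩,
  ⟨64, [.a6], [.a6]⟩,
  ⟨128, [.a7], [.a7, .a8]⟩,
  ⟨256, [.a8], [.a8]⟩]
def B1208 : List Gv := [⟨[.a2, .a9, .a11], [.a2, .a6, .a8, .a9, .a11]⟩, ⟨[.a3, .a9, .a11], [.a3, .a8, .a9, .a11]⟩, ⟨[.a4, .a11], [.a4, .a5, .a11]⟩, ⟨[.a7], [.a7, .a8]⟩]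
def D1208 : List Dv := [⟨[.a6, .a8], [0, 0], []⟩,
  ⟨[.a8], [0, 2, 1], [1, 2]⟩,
  ⟨[.a5, .a6], [4, 2], [2, 4]⟩,
  ⟨[.a6], [2], [1]⟩,
  ⟨[.a5], [1], [0]⟩]
def C1208 : List Ch := [⟨P648, 0, [], []⟩,
  ⟨P817, 1, [], []⟩,
  ⟨P693, 0, [.a0, .a1], [.a0, .a1, .a2]⟩,
  ⟨P693, 2, [.a1], [.a1, .a2]⟩,
  ⟨P741, 0, [.a1], [.a1, .a2]⟩,
  ⟨P808, 1, [.a0, .a1, .a3, .a5, .a6, .a7, .a8, .a9, .a10], [.a0, .a10, .a11]⟩,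
  ⟨P833, 0, [.a0, .a1, .a3, .a5, .a6, .a7, .a8, .a9, .a10], [.a0, .a10, .a11]⟩,
  ⟨P765, 3, [.a1, .a10], [.a1, .a2, .a4, .a5, .a7, .a9, .a10, .a11]⟩,
  ⟨P741, 0, [.a0, .a1], [.a0, .a1, .a2]⟩,
  ⟨P648, 1, [.a0], [.a0]⟩,
  ⟨P839, 0, [.a10], [.a10, .a11]⟩,
  ⟨P789, 2, [.a0, .a1, .a3, .a5, .a6, .a7, .a8, .a9, .a10], [.a0, .a10, .a11]⟩,
  ⟨P808, 0, [.a1, .a10], [.a1, .a2, .a4, .a5, .a7, .a9, .a10, .a11]⟩,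
  ⟨P817, 1, [.a0], [.a0]⟩,
  ⟨P765, 0, [.a0, .a1, .a3, .a5, .a6, .a7, .a8, .a9, .a10], [.a0, .a10, .a11]⟩]
def N1208 : List Ent := [⟨1, [.a0], [.a0]⟩,
  ⟨4, [.a2, .a9, .a11], [.a2, .a6, .a8, .a9, .a11]⟩,
  ⟨8, [.a3, .a9, .a11], [.a3, .a8, .a9, .a11]⟩,
  ⟨16, [.a4, .a11], [.a4, .a5, .a11]⟩,
  ⟨32, [.a5], [.a5]⟩,
  ⟨64, [.a6], [.a6]⟩,
  ⟨128, [.a7], [.a7, .a8]⟩,
  ⟨256, [.a8], [.a8]⟩,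
  ⟨512, [.a9], [.a9]⟩,
  ⟨2048, [.a11], [.a11]⟩]
theorem bad1208 (c : CtxF Goal γ) : Bad Goal γ [] P1208 :=
  c.toCtx.bnd (B := B1208) (D := D1208) (I := [5, 6, 7, 0, 1, 8, 3]) (r := 4) (C := C1208) (N := N1208) (by decide +kernel) (by decide +kernel) (by decide +kernel) (by decide +kernel)
    (allB_cons (bad648 c) (allB_cons (bad817 c) (allB_cons (bad693 c) (allB_cons (bad693 c) (allB_cons (bad741 c) (allB_cons (bad808 c) (allB_cons (bad833 c) (allB_cons (bad765 c) (allB_cons (bad741 c) (allB_cons (bad648 c) (allB_cons (bad839 c) (allB_cons (bad789 c) (allB_cons (bad808 c) (allB_cons (bad817 c) (allB_cons (bad765 c) (allB_nil))))))))))))))))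

def P1209 : List Ent := [⟨4, [.a2, .a9, .a11], [.a2, .a6, .a8, .a9, .a11]⟩,
  ⟨8, [.a3, .a9, .a11], [.a3, .a8, .a9, .a11]⟩,
  ⟨16, [.a4, .a11], [.a4, .a5, .a11]⟩,
  ⟨32, [.a5], [.a5]⟩,
  ⟨64, [.a6], [.a6]⟩,
  ⟨128, [.a7, .a11], [.a7, .a8, .a11]⟩,
  ⟨256, [.a8], [.a8]⟩]
def B1209 : List Gv := [⟨[.a2, .a9, .a11], [.a2, .a6, .a8, .a9, .a11]⟩, ⟨[.a3, .a9, .a11], [.a3, .a8, .a9, .a11]⟩, ⟨[.a4, .a11], [.a4, .a5, .a11]⟩, ⟨[.a7, .a11], [.a7, .a8, .a11]⟩]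
def D1209 : List Dv := [⟨[.a6, .a8], [0, 0], []⟩,
  ⟨[.a8], [0, 2, 1], [1, 2]⟩,
  ⟨[.a5, .a6], [4, 2], [2, 4]⟩,
  ⟨[.a6], [2], [1]⟩,
  ⟨[.a5], [1], [0]⟩]
def C1209 : List Ch := [⟨P650, 0, [], []⟩,
  ⟨P652, 1, [.a0, .a10], [.a0, .a1, .a2, .a3, .a4, .a6, .a8, .a9, .a10, .a11]⟩,
  ⟨P828, 0, [.a10], [.a10, .a11]⟩,
  ⟨P695, 2, [.a1, .a10], [.a1, .a2, .a4, .a5, .a7, .a9, .a10, .a11]⟩,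
  ⟨P742, 0, [.a1, .a10], [.a1, .a2, .a4, .a5, .a7, .a9, .a10, .a11]⟩,
  ⟨P834, 1, [.a0], [.a0]⟩,
  ⟨P766, 0, [.a0, .a10], [.a0, .a1, .a2, .a3, .a4, .a6, .a8, .a9, .a10, .a11]⟩,
  ⟨P765, 3, [.a1, .a10], [.a1, .a2, .a4, .a5, .a7, .a9, .a10, .a11]⟩,
  ⟨P741, 0, [.a0, .a10], [.a0, .a1, .a2, .a3, .a4, .a6, .a8, .a9, .a10, .a11]⟩,
  ⟨P846, 1, [], []⟩,
  ⟨P692, 0, [.a0, .a10], [.a0, .a1, .a2, .a3, .a4, .a6, .a8, .a9, .a10, .a11]⟩,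
  ⟨P791, 2, [.a0], [.a0]⟩,
  ⟨P810, 0, [.a1], [.a1, .a2]⟩,
  ⟨P811, 1, [.a0], [.a0]⟩,
  ⟨P820, 0, [.a0, .a1, .a3, .a5, .a6, .a7, .a8, .a9, .a10], [.a0, .a10, .a11]⟩]
def S1209 : List St := [.cent 1 1 0 [⟨32, [.a5], [.a5]⟩,
  ⟨64, [.a6], [.a6]⟩,
  ⟨256, [.a8], [.a8]⟩]]
theorem bad1209 (c : CtxF Goal γ) : Bad Goal γ [] P1209 :=
  c.toCtx.chn (B := B1209) (D := D1209) (I := [5, 6, 7, 0, 1, 8, 3]) (r := 4) (C := C1209) (l := S1209) (x := ⟨[.a11], [.a11]⟩) (ix := [0]) (by decide +kernel) (by decide +kernel) (by decide +kernel) (by decide +kernel)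
    (allB_cons (bad650 c) (allB_cons (bad652 c) (allB_cons (bad828 c) (allB_cons (bad695 c) (allB_cons (bad742 c) (allB_cons (bad834 c) (allB_cons (bad766 c) (allB_cons (bad765 c) (allB_cons (bad741 c) (allB_cons (bad846 c) (allB_cons (bad692 c) (allB_cons (bad791 c) (allB_cons (bad810 c) (allB_cons (bad811 c) (allB_cons (bad820 c) (allB_nil))))))))))))))))

def P1210 : List Ent := [⟨4, [.a2], [.a2]⟩,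
  ⟨8, [.a3], [.a3]⟩,
  ⟨16, [.a4, .a9], [.a4, .a5, .a8, .a9]⟩,
  ⟨32, [.a5], [.a5]⟩,
  ⟨64, [.a6], [.a6]⟩,
  ⟨128, [.a7], [.a7, .a8]⟩,
  ⟨256, [.a8], [.a8]⟩]
def B1210 : List Gv := [⟨[.a2], [.a2]⟩, ⟨[.a3], [.a3]⟩, ⟨[.a4, .a9], [.a4, .a5, .a8, .a9]⟩, ⟨[.a7], [.a7, .a8]⟩]
def D1210 : List Dv := [⟨[.a5], [2, 0], [0, 2]⟩,
  ⟨[.a8], [0, 3, 3], []⟩,
  ⟨[.a6], [5, 4], [4, 5]⟩]
def C1210 : List Ch := [⟨P651, 0, [], []⟩,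
  ⟨P820, 1, [], []⟩,
  ⟨P833, 0, [.a10], [.a10, .a11]⟩,
  ⟨P690, 2, [], []⟩,
  ⟨P739, 0, [], []⟩,
  ⟨P820, 1, [.a1], [.a1, .a2]⟩,
  ⟨P833, 0, [.a0, .a1, .a3, .a5, .a6, .a7, .a8, .a9, .a10], [.a0, .a10, .a11]⟩,
  ⟨P763, 3, [], []⟩,
  ⟨P739, 0, [.a0], [.a0]⟩,
  ⟨P820, 1, [.a0, .a1], [.a0, .a1, .a2]⟩,
  ⟨P847, 0, [.a10], [.a10, .a11]⟩,
  ⟨P788, 2, [.a10], [.a10, .a11]⟩,
  ⟨P651, 0, [.a0], [.a0]⟩,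
  ⟨P820, 1, [.a0], [.a0]⟩,
  ⟨P847, 0, [.a0, .a1, .a3, .a5, .a6, .a7, .a8, .a9, .a10], [.a0, .a10, .a11]⟩]
def N1210 : List Ent := [⟨1, [.a0], [.a0]⟩,
  ⟨2, [.a1], [.a1, .a2]⟩,
  ⟨4, [.a2], [.a2]⟩,
  ⟨8, [.a3], [.a3]⟩,
  ⟨16, [.a4, .a9], [.a4, .a5, .a8, .a9]⟩,
  ⟨32, [.a5], [.a5]⟩,
  ⟨64, [.a6], [.a6]⟩,
  ⟨128, [.a7], [.a7, .a8]⟩,
  ⟨256, [.a8], [.a8]⟩,
  ⟨512, [.a9], [.a9]⟩,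
  ⟨2048, [.a11], [.a11]⟩]
theorem bad1210 (c : CtxF Goal γ) : Bad Goal γ [] P1210 :=
  c.toCtx.bnd (B := B1210) (D := D1210) (I := [3, 4, 5, 2, 0, 6, 1]) (r := 4) (C := C1210) (N := N1210) (by decide +kernel) (by decide +kernel) (by decide +kernel) (by decide +kernel)
    (allB_cons (bad651 c) (allB_cons (bad820 c) (allB_cons (bad833 c) (allB_cons (bad690 c) (allB_cons (bad739 c) (allB_cons (bad820 c) (allB_cons (bad833 c) (allB_cons (bad763 c) (allB_cons (bad739 c) (allB_cons (bad820 c) (allB_cons (bad847 c) (allB_cons (bad788 c) (allB_cons (bad651 c) (allB_cons (bad820 c) (allB_cons (bad847 c) (allB_nil))))))))))))))))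

def P1211 : List Ent := [⟨4, [.a2, .a11], [.a2, .a5, .a6, .a8, .a11]⟩,
  ⟨8, [.a3, .a11], [.a3, .a8, .a11]⟩,
  ⟨16, [.a4, .a9, .a11], [.a4, .a5, .a8, .a9, .a11]⟩,
  ⟨32, [.a5], [.a5]⟩,
  ⟨64, [.a6], [.a6]⟩,
  ⟨128, [.a7, .a11], [.a7, .a8, .a11]⟩,
  ⟨256, [.a8], [.a8]⟩]
def B1211 : List Gv := [⟨[.a2, .a11], [.a2, .a5, .a6, .a8, .a11]⟩, ⟨[.a3, .a11], [.a3, .a8, .a11]⟩, ⟨[.a4, .a9, .a11], [.a4, .a5, .a8, .a9, .a11]⟩, ⟨[.a7, .a11], [.a7, .a8, .a11]⟩]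
def D1211 : List Dv := [⟨[.a5, .a6, .a8], [0, 0], []⟩,
  ⟨[.a8], [0, 2, 1], [1, 2]⟩,
  ⟨[.a6, .a8], [4, 2], [2, 4]⟩,
  ⟨[.a6], [0], [1]⟩,
  ⟨[.a5], [3], [0, 2]⟩]
def C1211 : List Ch := [⟨P654, 0, [], []⟩,
  ⟨P654, 1, [.a0], [.a0]⟩,
  ⟨P835, 0, [.a10], [.a10, .a11]⟩,
  ⟨P696, 2, [], []⟩,
  ⟨P742, 0, [], []⟩,
  ⟨P837, 1, [.a1], [.a1, .a2]⟩,
  ⟨P766, 0, [.a0, .a10], [.a0, .a1, .a2, .a3, .a4, .a6, .a8, .a9, .a10, .a11]⟩,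
  ⟨P766, 3, [.a10], [.a10, .a11]⟩,
  ⟨P742, 0, [.a0], [.a0]⟩,
  ⟨P837, 1, [.a0, .a1], [.a0, .a1, .a2]⟩,
  ⟨P696, 0, [.a0], [.a0]⟩,
  ⟨P789, 2, [.a10], [.a10, .a11]⟩,
  ⟨P809, 0, [.a10], [.a10, .a11]⟩,
  ⟨P809, 1, [.a0, .a10], [.a0, .a1, .a2, .a3, .a4, .a6, .a8, .a9, .a10, .a11]⟩,
  ⟨P847, 0, [.a0, .a1, .a3, .a5, .a6, .a7, .a8, .a9, .a10], [.a0, .a10, .a11]⟩]
def N1211 : List Ent := [⟨1, [.a0], [.a0]⟩,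
  ⟨4, [.a2, .a11], [.a2, .a5, .a6, .a8, .a11]⟩,
  ⟨8, [.a3, .a11], [.a3, .a8, .a11]⟩,
  ⟨16, [.a4, .a9, .a11], [.a4, .a5, .a8, .a9, .a11]⟩,
  ⟨32, [.a5], [.a5]⟩,
  ⟨64, [.a6], [.a6]⟩,
  ⟨128, [.a7, .a11], [.a7, .a8, .a11]⟩,
  ⟨256, [.a8], [.a8]⟩,
  ⟨512, [.a9], [.a9]⟩,
  ⟨2048, [.a11], [.a11]⟩]
theorem bad1211 (c : CtxF Goal γ) : Bad Goal γ [] P1211 :=
  c.toCtx.bnd (B := B1211) (D := D1211) (I := [5, 6, 7, 0, 1, 8, 3]) (r := 4) (C := C1211) (N := N1211) (by decide +kernel) (by decide +kernel) (by decide +kernel) (by decide +kernel)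
    (allB_cons (bad654 c) (allB_cons (bad654 c) (allB_cons (bad835 c) (allB_cons (bad696 c) (allB_cons (bad742 c) (allB_cons (bad837 c) (allB_cons (bad766 c) (allB_cons (bad766 c) (allB_cons (bad742 c) (allB_cons (bad837 c) (allB_cons (bad696 c) (allB_cons (bad789 c) (allB_cons (bad809 c) (allB_cons (bad809 c) (allB_cons (bad847 c) (allB_nil))))))))))))))))

def P1212 : List Ent := [⟨2, [.a1], [.a1, .a2]⟩,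
  ⟨4, [.a2], [.a2]⟩,
  ⟨32, [.a5], [.a5]⟩,
  ⟨64, [.a6], [.a6]⟩,
  ⟨256, [.a8], [.a8]⟩,
  ⟨512, [.a9], [.a9]⟩,
  ⟨2048, [.a11], [.a11]⟩]
def B1212 : List Gv := [⟨[.a1], [.a1, .a2]⟩, ⟨[.a6], [.a6]⟩, ⟨[.a11], [.a11]⟩]
def D1212 : List Dv := [⟨[.a2], [0, 0], []⟩,
  ⟨[.a5], [2, 1], [1, 2]⟩,
  ⟨[.a9], [3, 0, 4, 2], [2, 4]⟩,
  ⟨[.a8], [4, 1, 2, 5], [5, 2]⟩]
theorem bad1212 (c : CtxF Goal γ) : Bad Goal γ [] P1212 :=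
  c.toCtx.cent (B := B1212) (D := D1212) (I := [4, 3, 2, 5, 0, 1, 6]) (z := [.a7]) (by decide +kernel) (by decide +kernel)

def P1213 : List Ent := [⟨2, [.a1], [.a1, .a2]⟩,
  ⟨4, [.a2], [.a2]⟩,
  ⟨8, [.a3], [.a3]⟩,
  ⟨32, [.a5], [.a5]⟩,
  ⟨64, [.a6], [.a6]⟩,
  ⟨256, [.a8], [.a8]⟩,
  ⟨512, [.a9], [.a9]⟩]
def B1213 : List Gv := [⟨[.a1], [.a1, .a2]⟩, ⟨[.a3], [.a3]⟩, ⟨[.a6], [.a6]⟩, ⟨[.a9], [.a9]⟩]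
def D1213 : List Dv := [⟨[.a2], [0, 0], []⟩,
  ⟨[.a5], [3, 1], [1, 3]⟩,
  ⟨[.a8], [4, 5, 2], [2, 5]⟩]
def C1213 : List Ch := [⟨P661, 0, [], []⟩,
  ⟨P848, 1, [], []⟩,
  ⟨P848, 0, [.a4], [.a4, .a5]⟩,
  ⟨P849, 2, [], []⟩,
  ⟨P850, 0, [], []⟩,
  ⟨P850, 1, [.a11], [.a11]⟩,
  ⟨P849, 0, [.a11], [.a11]⟩,
  ⟨P851, 3, [], []⟩,
  ⟨P851, 0, [.a11], [.a11]⟩,
  ⟨P848, 1, [.a0], [.a0]⟩,
  ⟨P848, 0, [.a0, .a2, .a4], [.a0, .a4, .a5]⟩,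
  ⟨P849, 2, [.a0], [.a0]⟩,
  ⟨P850, 0, [.a0], [.a0]⟩,
  ⟨P849, 1, [.a0, .a2, .a3, .a4, .a5, .a6, .a7, .a9, .a11], [.a0, .a11]⟩,
  ⟨P850, 0, [.a0, .a2, .a3, .a4, .a5, .a6, .a7, .a9, .a11], [.a0, .a11]⟩]
def N1213 : List Ent := [⟨1, [.a0], [.a0]⟩,
  ⟨2, [.a1], [.a1, .a2]⟩,
  ⟨4, [.a2], [.a2]⟩,
  ⟨8, [.a3], [.a3]⟩,
  ⟨16, [.a4], [.a4, .a5]⟩,
  ⟨32, [.a5], [.a5]⟩,
  ⟨64, [.a6], [.a6]⟩,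
  ⟨128, [.a7], [.a7, .a8]⟩,
  ⟨256, [.a8], [.a8]⟩,
  ⟨512, [.a9], [.a9]⟩,
  ⟨2048, [.a11], [.a11]⟩]
theorem bad1213 (c : CtxF Goal γ) : Bad Goal γ [] P1213 :=
  c.toCtx.bnd (B := B1213) (D := D1213) (I := [3, 2, 4, 1, 5, 0, 6]) (r := 4) (C := C1213) (N := N1213) (by decide +kernel) (by decide +kernel) (by decide +kernel) (by decide +kernel)
    (allB_cons (bad661 c) (allB_cons (bad848 c) (allB_cons (bad848 c) (allB_cons (bad849 c) (allB_cons (bad850 c) (allB_cons (bad850 c) (allB_cons (bad849 c) (allB_cons (bad851 c) (allB_cons (bad851 c) (allB_cons (bad848 c) (allB_cons (bad848 c) (allB_cons (bad849 c) (allB_cons (bad850 c) (allB_cons (bad849 c) (allB_cons (bad850 c) (allB_nil))))))))))))))))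

def P1214 : List Ent := [⟨2, [.a1, .a11], [.a1, .a2, .a5, .a6, .a9, .a11]⟩,
  ⟨4, [.a2], [.a2]⟩,
  ⟨8, [.a3], [.a3]⟩,
  ⟨32, [.a5], [.a5]⟩,
  ⟨64, [.a6], [.a6]⟩,
  ⟨256, [.a8], [.a8]⟩,
  ⟨512, [.a9], [.a9]⟩]
def B1214 : List Gv := [⟨[.a1, .a11], [.a1, .a2, .a5, .a6, .a9, .a11]⟩, ⟨[.a2], [.a2]⟩, ⟨[.a3], [.a3]⟩]
def D1214 : List Dv := [⟨[.a5, .a8, .a9], [1, 0, 0], []⟩,
  ⟨[.a6, .a8], [2, 1], [1, 2]⟩,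
  ⟨[.a8], [4, 2], [2, 4]⟩,
  ⟨[.a9], [0, 2, 2, 4], [4, 2]⟩,
  ⟨[.a6], [2], [1]⟩,
  ⟨[.a5], [4], [2, 1]⟩]
def C1214 : List Ch := [⟨P661, 0, [], []⟩,
  ⟨P852, 1, [], []⟩,
  ⟨P852, 0, [.a1], [.a1, .a2]⟩,
  ⟨P853, 2, [], []⟩,
  ⟨P853, 0, [.a4], [.a4, .a5]⟩,
  ⟨P853, 1, [.a0, .a1, .a3, .a5, .a6, .a7, .a8, .a9, .a10], [.a0, .a10, .a11]⟩,
  ⟨P853, 0, [.a0, .a10], [.a0, .a1, .a2, .a3, .a4, .a6, .a8, .a9, .a10, .a11]⟩]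
def N1214 : List Ent := [⟨1, [.a0, .a10], [.a0, .a1, .a2, .a3, .a4, .a6, .a8, .a9, .a10, .a11]⟩,
  ⟨2, [.a1, .a11], [.a1, .a2, .a5, .a6, .a9, .a11]⟩,
  ⟨4, [.a2], [.a2]⟩,
  ⟨8, [.a3], [.a3]⟩,
  ⟨16, [.a4], [.a4, .a5]⟩,
  ⟨32, [.a5], [.a5]⟩,
  ⟨64, [.a6], [.a6]⟩,
  ⟨128, [.a7], [.a7, .a8]⟩,
  ⟨256, [.a8], [.a8]⟩,
  ⟨512, [.a9], [.a9]⟩,
  ⟨2048, [.a11], [.a11]⟩]
theorem bad1214 (c : CtxF Goal γ) : Bad Goal γ [] P1214 :=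
  c.toCtx.bnd (B := B1214) (D := D1214) (I := [6, 7, 8, 0, 1, 3, 2]) (r := 3) (C := C1214) (N := N1214) (by decide +kernel) (by decide +kernel) (by decide +kernel) (by decide +kernel)
    (allB_cons (bad661 c) (allB_cons (bad852 c) (allB_cons (bad852 c) (allB_cons (bad853 c) (allB_cons (bad853 c) (allB_cons (bad853 c) (allB_cons (bad853 c) (allB_nil))))))))

def P1215 : List Ent := [⟨2, [.a1], [.a1, .a2]⟩,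
  ⟨4, [.a2], [.a2]⟩,
  ⟨8, [.a3, .a11], [.a3, .a8, .a11]⟩,
  ⟨32, [.a5], [.a5]⟩,
  ⟨64, [.a6], [.a6]⟩,
  ⟨256, [.a8], [.a8]⟩,
  ⟨512, [.a9], [.a9]⟩]
def B1215 : List Gv := [⟨[.a1], [.a1, .a2]⟩, ⟨[.a3, .a11], [.a3, .a8, .a11]⟩]
def D1215 : List Dv := [⟨[.a2], [0, 0], []⟩,
  ⟨[.a5, .a6, .a9], [2, 1], [1, 2]⟩,
  ⟨[.a8], [3, 3], []⟩,
  ⟨[.a9], [0, 1, 2, 4], [4, 2]⟩,
  ⟨[.a6, .a9], [2, 2, 3], [3, 2]⟩,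
  ⟨[.a6], [0], [1]⟩,
  ⟨[.a5], [4], [0, 2]⟩]
def C1215 : List Ch := [⟨P662, 0, [], []⟩,
  ⟨P848, 1, [], []⟩,
  ⟨P853, 0, [.a4], [.a4, .a5]⟩]
def N1215 : List Ent := [⟨2, [.a1], [.a1, .a2]⟩,
  ⟨4, [.a2], [.a2]⟩,
  ⟨8, [.a3, .a11], [.a3, .a8, .a11]⟩,
  ⟨32, [.a5], [.a5]⟩,
  ⟨64, [.a6], [.a6]⟩,
  ⟨128, [.a7], [.a7, .a8]⟩,
  ⟨256, [.a8], [.a8]⟩,
  ⟨512, [.a9], [.a9]⟩,
  ⟨2048, [.a11], [.a11]⟩]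
theorem bad1215 (c : CtxF Goal γ) : Bad Goal γ [] P1215 :=
  c.toCtx.bnd (B := B1215) (D := D1215) (I := [7, 6, 8, 0, 1, 4, 3]) (r := 2) (C := C1215) (N := N1215) (by decide +kernel) (by decide +kernel) (by decide +kernel) (by decide +kernel)
    (allB_cons (bad662 c) (allB_cons (bad848 c) (allB_cons (bad853 c) (allB_nil))))

def P1216 : List Ent := [⟨2, [.a1], [.a1, .a2]⟩,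
  ⟨4, [.a2], [.a2]⟩,
  ⟨8, [.a3], [.a3]⟩,
  ⟨16, [.a4, .a7], [.a4, .a5, .a6, .a7, .a8]⟩,
  ⟨32, [.a5], [.a5]⟩,
  ⟨64, [.a6], [.a6]⟩,
  ⟨256, [.a8], [.a8]⟩]
def B1216 : List Gv := [⟨[.a1], [.a1, .a2]⟩, ⟨[.a4, .a7], [.a4, .a5, .a6, .a7, .a8]⟩, ⟨[.a6], [.a6]⟩]
def D1216 : List Dv := [⟨[.a2], [0, 0], []⟩,
  ⟨[.a3], [2, 1], [1, 2]⟩,
  ⟨[.a5, .a6, .a8], [3, 3], []⟩,
  ⟨[.a8], [5, 0, 5, 3], [3, 5]⟩,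
  ⟨[.a5], [1], [6, 0]⟩]
def C1216 : List Ch := [⟨P788, 0, [], []⟩,
  ⟨P851, 1, [], []⟩,
  ⟨P851, 0, [.a10], [.a10, .a11]⟩,
  ⟨P854, 2, [], []⟩,
  ⟨P855, 0, [], []⟩,
  ⟨P854, 1, [.a4], [.a4, .a5]⟩,
  ⟨P855, 0, [.a4], [.a4, .a5]⟩]
def N1216 : List Ent := [⟨1, [.a0], [.a0]⟩,
  ⟨2, [.a1], [.a1, .a2]⟩,
  ⟨4, [.a2], [.a2]⟩,
  ⟨8, [.a3], [.a3]⟩,
  ⟨16, [.a4, .a7], [.a4, .a5, .a6, .a7, .a8]⟩,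
  ⟨32, [.a5], [.a5]⟩,
  ⟨64, [.a6], [.a6]⟩,
  ⟨128, [.a7], [.a7, .a8]⟩,
  ⟨256, [.a8], [.a8]⟩,
  ⟨512, [.a9], [.a9]⟩]
theorem bad1216 (c : CtxF Goal γ) : Bad Goal γ [] P1216 :=
  c.toCtx.bnd (B := B1216) (D := D1216) (I := [5, 4, 3, 6, 0, 7, 1]) (r := 3) (C := C1216) (N := N1216) (by decide +kernel) (by decide +kernel) (by decide +kernel) (by decide +kernel)
    (allB_cons (bad788 c) (allB_cons (bad851 c) (allB_cons (bad851 c) (allB_cons (bad854 c) (allB_cons (bad855 c) (allB_cons (bad854 c) (allB_cons (bad855 c) (allB_nil))))))))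

def P1217 : List Ent := [⟨2, [.a1, .a11], [.a1, .a2, .a5, .a6, .a9, .a11]⟩,
  ⟨4, [.a2, .a9], [.a2, .a5, .a9]⟩,
  ⟨8, [.a3], [.a3]⟩,
  ⟨16, [.a4, .a7], [.a4, .a5, .a6, .a7, .a8]⟩,
  ⟨32, [.a5], [.a5]⟩,
  ⟨64, [.a6], [.a6]⟩,
  ⟨256, [.a8], [.a8]⟩]
def B1217 : List Gv := [⟨[.a1, .a11], [.a1, .a2, .a5, .a6, .a9, .a11]⟩, ⟨[.a4, .a7], [.a4, .a5, .a6, .a7, .a8]⟩]
def D1217 : List Dv := [⟨[.a2, .a5, .a8, .a9], [0, 0], []⟩,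
  ⟨[.a3], [2, 1], [1, 2]⟩,
  ⟨[.a5, .a6, .a8], [3, 3], []⟩,
  ⟨[.a8], [2, 4], [4, 2]⟩,
  ⟨[.a6, .a8], [1, 3, 3], []⟩,
  ⟨[.a6], [0], [1]⟩,
  ⟨[.a5], [3], [0, 2]⟩,
  ⟨[.a2, .a9], [6], [0, 3]⟩]
def C1217 : List Ch := [⟨P792, 0, [], []⟩,
  ⟨P852, 1, [], []⟩,
  ⟨P852, 0, [.a0], [.a0]⟩]
def N1217 : List Ent := [⟨1, [.a0], [.a0]⟩,
  ⟨2, [.a1, .a11], [.a1, .a2, .a5, .a6, .a9, .a11]⟩,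
  ⟨4, [.a2, .a9], [.a2, .a5, .a9]⟩,
  ⟨8, [.a3], [.a3]⟩,
  ⟨16, [.a4, .a7], [.a4, .a5, .a6, .a7, .a8]⟩,
  ⟨32, [.a5], [.a5]⟩,
  ⟨64, [.a6], [.a6]⟩,
  ⟨128, [.a7], [.a7, .a8]⟩,
  ⟨256, [.a8], [.a8]⟩,
  ⟨512, [.a9], [.a9]⟩]
theorem bad1217 (c : CtxF Goal γ) : Bad Goal γ [] P1217 :=
  c.toCtx.bnd (B := B1217) (D := D1217) (I := [8, 0, 6, 9, 1, 2, 4]) (r := 2) (C := C1217) (N := N1217) (by decide +kernel) (by decide +kernel) (by decide +kernel) (by decide +kernel)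
    (allB_cons (bad792 c) (allB_cons (bad852 c) (allB_cons (bad852 c) (allB_nil))))

def P1218 : List Ent := [⟨2, [.a1, .a7], [.a1, .a2, .a7, .a8]⟩,
  ⟨4, [.a2], [.a2]⟩,
  ⟨32, [.a5], [.a5]⟩,
  ⟨64, [.a6], [.a6]⟩,
  ⟨256, [.a8], [.a8]⟩,
  ⟨512, [.a9], [.a9]⟩,
  ⟨2048, [.a11], [.a11]⟩]
def B1218 : List Gv := [⟨[.a1, .a7], [.a1, .a2, .a7, .a8]⟩, ⟨[.a2], [.a2]⟩, ⟨[.a11], [.a11]⟩]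
def D1218 : List Dv := [⟨[.a8], [1, 0, 0], []⟩,
  ⟨[.a5, .a6, .a9], [3, 1], [1, 3]⟩,
  ⟨[.a9], [1, 0, 4, 3], [3, 4]⟩,
  ⟨[.a6, .a9], [1, 1, 4], [4, 1]⟩,
  ⟨[.a6], [0], [1]⟩,
  ⟨[.a5], [3], [0, 2]⟩]
theorem bad1218 (c : CtxF Goal γ) : Bad Goal γ [] P1218 :=
  c.toCtx.cent (B := B1218) (D := D1218) (I := [6, 7, 0, 1, 5, 3, 8]) (z := [.a7]) (by decide +kernel) (by decide +kernel)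

def P1219 : List Ent := [⟨2, [.a1, .a7], [.a1, .a2, .a7, .a8]⟩,
  ⟨4, [.a2], [.a2]⟩,
  ⟨8, [.a3], [.a3]⟩,
  ⟨32, [.a5], [.a5]⟩,
  ⟨64, [.a6], [.a6]⟩,
  ⟨256, [.a8], [.a8]⟩,
  ⟨512, [.a9], [.a9]⟩]
def B1219 : List Gv := [⟨[.a1, .a7], [.a1, .a2, .a7, .a8]⟩, ⟨[.a2], [.a2]⟩, ⟨[.a3], [.a3]⟩, ⟨[.a9], [.a9]⟩]
def D1219 : List Dv := [⟨[.a8], [1, 0, 0], []⟩,
  ⟨[.a5], [3, 1], [1, 3]⟩,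
  ⟨[.a6, .a8], [5, 2], [2, 5]⟩,
  ⟨[.a6], [0], [2]⟩]
def C1219 : List Ch := [⟨P661, 0, [], []⟩,
  ⟨P856, 1, [], []⟩,
  ⟨P857, 0, [], []⟩,
  ⟨P858, 2, [], []⟩,
  ⟨P858, 0, [.a4], [.a4, .a5]⟩,
  ⟨P857, 1, [.a11], [.a11]⟩,
  ⟨P856, 0, [.a11], [.a11]⟩,
  ⟨P859, 3, [], []⟩,
  ⟨P859, 0, [.a11], [.a11]⟩,
  ⟨P857, 1, [.a0], [.a0]⟩,
  ⟨P856, 0, [.a0], [.a0]⟩,
  ⟨P858, 2, [.a0, .a2, .a4], [.a0, .a4, .a5]⟩,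
  ⟨P858, 0, [.a0], [.a0]⟩,
  ⟨P857, 1, [.a0, .a2, .a3, .a4, .a5, .a6, .a7, .a9, .a11], [.a0, .a11]⟩,
  ⟨P856, 0, [.a0, .a2, .a3, .a4, .a5, .a6, .a7, .a9, .a11], [.a0, .a11]⟩]
def N1219 : List Ent := [⟨1, [.a0], [.a0]⟩,
  ⟨2, [.a1, .a7], [.a1, .a2, .a7, .a8]⟩,
  ⟨4, [.a2], [.a2]⟩,
  ⟨8, [.a3], [.a3]⟩,
  ⟨16, [.a4], [.a4, .a5]⟩,
  ⟨32, [.a5], [.a5]⟩,
  ⟨64, [.a6], [.a6]⟩,
  ⟨128, [.a7], [.a7, .a8]⟩,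
  ⟨256, [.a8], [.a8]⟩,
  ⟨512, [.a9], [.a9]⟩,
  ⟨2048, [.a11], [.a11]⟩]
theorem bad1219 (c : CtxF Goal γ) : Bad Goal γ [] P1219 :=
  c.toCtx.bnd (B := B1219) (D := D1219) (I := [4, 5, 6, 2, 0, 3, 7]) (r := 4) (C := C1219) (N := N1219) (by decide +kernel) (by decide +kernel) (by decide +kernel) (by decide +kernel)
    (allB_cons (bad661 c) (allB_cons (bad856 c) (allB_cons (bad857 c) (allB_cons (bad858 c) (allB_cons (bad858 c) (allB_cons (bad857 c) (allB_cons (bad856 c) (allB_cons (bad859 c) (allB_cons (bad859 c) (allB_cons (bad857 c) (allB_cons (bad856 c) (allB_cons (bad858 c) (allB_cons (bad858 c) (allB_cons (bad857 c) (allB_cons (bad856 c) (allB_nil))))))))))))))))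

def P1220 : List Ent := [⟨2, [.a1, .a7, .a11], [.a1, .a2, .a5, .a6, .a7, .a8, .a9, .a11]⟩,
  ⟨4, [.a2], [.a2]⟩,
  ⟨8, [.a3], [.a3]⟩,
  ⟨32, [.a5], [.a5]⟩,
  ⟨64, [.a6], [.a6]⟩,
  ⟨256, [.a8], [.a8]⟩,
  ⟨512, [.a9], [.a9]⟩]
def B1220 : List Gv := [⟨[.a1, .a7, .a11], [.a1, .a2, .a5, .a6, .a7, .a8, .a9, .a11]⟩, ⟨[.a2], [.a2]⟩, ⟨[.a3], [.a3]⟩]
def D1220 : List Dv := [⟨[.a5, .a9], [1, 0, 0], []⟩,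
  ⟨[.a6, .a8], [2, 1], [1, 2]⟩,
  ⟨[.a8, .a9], [1, 4, 2], [2, 4]⟩,
  ⟨[.a9], [2, 2, 4], [4, 2]⟩,
  ⟨[.a8], [1], [0]⟩,
  ⟨[.a6], [3], [0]⟩,
  ⟨[.a5], [5], [2]⟩]
def C1220 : List Ch := [⟨P661, 0, [], []⟩,
  ⟨P860, 1, [], []⟩,
  ⟨P860, 0, [.a1], [.a1, .a2]⟩,
  ⟨P861, 2, [], []⟩,
  ⟨P861, 0, [.a4], [.a4, .a5]⟩,
  ⟨P861, 1, [.a0, .a1, .a3, .a5, .a6, .a7, .a8, .a9, .a10], [.a0, .a10, .a11]⟩,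
  ⟨P861, 0, [.a0, .a10], [.a0, .a1, .a2, .a3, .a4, .a6, .a8, .a9, .a10, .a11]⟩]
def N1220 : List Ent := [⟨1, [.a0, .a10], [.a0, .a1, .a2, .a3, .a4, .a6, .a8, .a9, .a10, .a11]⟩,
  ⟨2, [.a1, .a7, .a11], [.a1, .a2, .a5, .a6, .a7, .a8, .a9, .a11]⟩,
  ⟨4, [.a2], [.a2]⟩,
  ⟨8, [.a3], [.a3]⟩,
  ⟨16, [.a4], [.a4, .a5]⟩,
  ⟨32, [.a5], [.a5]⟩,
  ⟨64, [.a6], [.a6]⟩,
  ⟨128, [.a7], [.a7, .a8]⟩,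
  ⟨256, [.a8], [.a8]⟩,
  ⟨512, [.a9], [.a9]⟩,
  ⟨2048, [.a11], [.a11]⟩]
theorem bad1220 (c : CtxF Goal γ) : Bad Goal γ [] P1220 :=
  c.toCtx.bnd (B := B1220) (D := D1220) (I := [7, 8, 9, 0, 1, 2, 3]) (r := 3) (C := C1220) (N := N1220) (by decide +kernel) (by decide +kernel) (by decide +kernel) (by decide +kernel)
    (allB_cons (bad661 c) (allB_cons (bad860 c) (allB_cons (bad860 c) (allB_cons (bad861 c) (allB_cons (bad861 c) (allB_cons (bad861 c) (allB_cons (bad861 c) (allB_nil))))))))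

def P1221 : List Ent := [⟨2, [.a1, .a7], [.a1, .a2, .a7, .a8]⟩,
  ⟨4, [.a2], [.a2]⟩,
  ⟨8, [.a3, .a11], [.a3, .a8, .a11]⟩,
  ⟨32, [.a5], [.a5]⟩,
  ⟨64, [.a6], [.a6]⟩,
  ⟨256, [.a8], [.a8]⟩,
  ⟨512, [.a9], [.a9]⟩]
def B1221 : List Gv := [⟨[.a1, .a7], [.a1, .a2, .a7, .a8]⟩, ⟨[.a3, .a11], [.a3, .a8, .a11]⟩]
def D1221 : List Dv := [⟨[.a2, .a8], [0, 0], []⟩,
  ⟨[.a6, .a9], [2, 1], [1, 2]⟩,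
  ⟨[.a8], [3, 3], []⟩,
  ⟨[.a5, .a6, .a8], [2, 4], [4, 2]⟩,
  ⟨[.a9], [1, 2, 0, 2, 3], [3, 2]⟩,
  ⟨[.a6], [3], [0]⟩,
  ⟨[.a5], [2], [0, 3]⟩,
  ⟨[.a2], [6], [4]⟩]
def C1221 : List Ch := [⟨P662, 0, [], []⟩,
  ⟨P858, 1, [], []⟩,
  ⟨P861, 0, [.a4], [.a4, .a5]⟩]
def N1221 : List Ent := [⟨2, [.a1, .a7], [.a1, .a2, .a7, .a8]⟩,
  ⟨4, [.a2], [.a2]⟩,
  ⟨8, [.a3, .a11], [.a3, .a8, .a11]⟩,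
  ⟨32, [.a5], [.a5]⟩,
  ⟨64, [.a6], [.a6]⟩,
  ⟨128, [.a7], [.a7, .a8]⟩,
  ⟨256, [.a8], [.a8]⟩,
  ⟨512, [.a9], [.a9]⟩,
  ⟨2048, [.a11], [.a11]⟩]
theorem bad1221 (c : CtxF Goal γ) : Bad Goal γ [] P1221 :=
  c.toCtx.bnd (B := B1221) (D := D1221) (I := [8, 0, 9, 1, 2, 5, 3]) (r := 2) (C := C1221) (N := N1221) (by decide +kernel) (by decide +kernel) (by decide +kernel) (by decide +kernel)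
    (allB_cons (bad662 c) (allB_cons (bad858 c) (allB_cons (bad861 c) (allB_nil))))

def P1222 : List Ent := [⟨2, [.a1, .a7], [.a1, .a2, .a7, .a8]⟩,
  ⟨4, [.a2], [.a2]⟩,
  ⟨8, [.a3], [.a3]⟩,
  ⟨16, [.a4, .a7], [.a4, .a5, .a6, .a7, .a8]⟩,
  ⟨32, [.a5], [.a5]⟩,
  ⟨64, [.a6], [.a6]⟩,
  ⟨256, [.a8], [.a8]⟩]
def B1222 : List Gv := [⟨[.a1, .a7], [.a1, .a2, .a7, .a8]⟩, ⟨[.a2], [.a2]⟩, ⟨[.a4, .a7], [.a4, .a5, .a6, .a7, .a8]⟩]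
def D1222 : List Dv := [⟨[.a8], [1, 0, 0], []⟩,
  ⟨[.a3, .a5, .a6], [3, 1], [1, 3]⟩,
  ⟨[.a5, .a6, .a8], [4, 4], []⟩,
  ⟨[.a6, .a8], [0, 1, 5], [5, 1]⟩,
  ⟨[.a6], [0], [3]⟩,
  ⟨[.a5], [2], [0, 4]⟩,
  ⟨[.a3], [4], [0, 1]⟩]
def C1222 : List Ch := [⟨P788, 0, [], []⟩,
  ⟨P862, 1, [], []⟩,
  ⟨P863, 0, [], []⟩,
  ⟨P859, 2, [], []⟩,
  ⟨P859, 0, [.a10, .a11], [.a10]⟩,
  ⟨P862, 1, [.a0], [.a0]⟩,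
  ⟨P863, 0, [.a0], [.a0]⟩]
def N1222 : List Ent := [⟨1, [.a0], [.a0]⟩,
  ⟨2, [.a1, .a7], [.a1, .a2, .a7, .a8]⟩,
  ⟨4, [.a2], [.a2]⟩,
  ⟨8, [.a3], [.a3]⟩,
  ⟨16, [.a4, .a7], [.a4, .a5, .a6, .a7, .a8]⟩,
  ⟨32, [.a5], [.a5]⟩,
  ⟨64, [.a6], [.a6]⟩,
  ⟨128, [.a7], [.a7, .a8]⟩,
  ⟨256, [.a8], [.a8]⟩,
  ⟨512, [.a9], [.a9]⟩]
theorem bad1222 (c : CtxF Goal γ) : Bad Goal γ [] P1222 :=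
  c.toCtx.bnd (B := B1222) (D := D1222) (I := [7, 8, 0, 9, 1, 2, 6]) (r := 3) (C := C1222) (N := N1222) (by decide +kernel) (by decide +kernel) (by decide +kernel) (by decide +kernel)
    (allB_cons (bad788 c) (allB_cons (bad862 c) (allB_cons (bad863 c) (allB_cons (bad859 c) (allB_cons (bad859 c) (allB_cons (bad862 c) (allB_cons (bad863 c) (allB_nil))))))))

def P1223 : List Ent := [⟨2, [.a1, .a7, .a11], [.a1, .a2, .a5, .a6, .a7, .a8, .a9, .a11]⟩,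
  ⟨4, [.a2, .a9], [.a2, .a5, .a9]⟩,
  ⟨8, [.a3], [.a3]⟩,
  ⟨16, [.a4, .a7], [.a4, .a5, .a6, .a7, .a8]⟩,
  ⟨32, [.a5], [.a5]⟩,
  ⟨64, [.a6], [.a6]⟩,
  ⟨256, [.a8], [.a8]⟩]
def B1223 : List Gv := [⟨[.a1, .a7, .a11], [.a1, .a2, .a5, .a6, .a7, .a8, .a9, .a11]⟩, ⟨[.a4, .a7], [.a4, .a5, .a6, .a7, .a8]⟩]
def D1223 : List Dv := [⟨[.a2, .a5, .a9], [0, 0], []⟩,
  ⟨[.a3, .a5, .a6], [2, 1], [1, 2]⟩,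
  ⟨[.a5, .a6, .a8], [3, 3], []⟩,
  ⟨[.a8], [2, 4], [4, 2]⟩,
  ⟨[.a6, .a8], [1, 3, 3], []⟩,
  ⟨[.a6], [0], [1]⟩,
  ⟨[.a5], [3], [0, 2]⟩,
  ⟨[.a3], [5], [0, 1]⟩,
  ⟨[.a2, .a9], [7], [1]⟩]
def C1223 : List Ch := [⟨P792, 0, [], []⟩,
  ⟨P860, 1, [], []⟩,
  ⟨P860, 0, [.a0, .a1], [.a0, .a1, .a2]⟩]
def N1223 : List Ent := [⟨1, [.a0, .a11], [.a0, .a2, .a3, .a4, .a5, .a6, .a7, .a9, .a11]⟩,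
  ⟨2, [.a1, .a7, .a11], [.a1, .a2, .a5, .a6, .a7, .a8, .a9, .a11]⟩,
  ⟨4, [.a2, .a9], [.a2, .a5, .a9]⟩,
  ⟨8, [.a3], [.a3]⟩,
  ⟨16, [.a4, .a7], [.a4, .a5, .a6, .a7, .a8]⟩,
  ⟨32, [.a5], [.a5]⟩,
  ⟨64, [.a6], [.a6]⟩,
  ⟨128, [.a7], [.a7, .a8]⟩,
  ⟨256, [.a8], [.a8]⟩,
  ⟨512, [.a9], [.a9]⟩]
theorem bad1223 (c : CtxF Goal γ) : Bad Goal γ [] P1223 :=
  c.toCtx.bnd (B := B1223) (D := D1223) (I := [9, 0, 1, 10, 2, 3, 5]) (r := 2) (C := C1223) (N := N1223) (by decide +kernel) (by decide +kernel) (by decide +kernel) (by decide +kernel)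
    (allB_cons (bad792 c) (allB_cons (bad860 c) (allB_cons (bad860 c) (allB_nil))))

def P1224 : List Ent := [⟨2, [.a1], [.a1, .a2]⟩,
  ⟨4, [.a2], [.a2]⟩,
  ⟨32, [.a5], [.a5]⟩,
  ⟨64, [.a6], [.a6]⟩,
  ⟨128, [.a7], [.a7, .a8]⟩,
  ⟨256, [.a8], [.a8]⟩,
  ⟨512, [.a9], [.a9]⟩]
def B1224 : List Gv := [⟨[.a1], [.a1, .a2]⟩, ⟨[.a7], [.a7, .a8]⟩, ⟨[.a9], [.a9]⟩]
def D1224 : List Dv := [⟨[.a2], [0, 0], []⟩,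
  ⟨[.a8], [2, 2], []⟩,
  ⟨[.a6, .a8], [4, 2], [2, 4]⟩,
  ⟨[.a5], [2, 5], [5, 2]⟩,
  ⟨[.a6], [1], [2]⟩]
def C1224 : List Ch := [⟨P680, 0, [], []⟩,
  ⟨P848, 1, [], []⟩,
  ⟨P858, 0, [], []⟩,
  ⟨P864, 2, [], []⟩,
  ⟨P864, 0, [.a11], [.a11]⟩,
  ⟨P865, 1, [], []⟩,
  ⟨P865, 0, [.a11], [.a11]⟩]
def N1224 : List Ent := [⟨2, [.a1], [.a1, .a2]⟩,
  ⟨4, [.a2], [.a2]⟩,
  ⟨8, [.a3], [.a3]⟩,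
  ⟨32, [.a5], [.a5]⟩,
  ⟨64, [.a6], [.a6]⟩,
  ⟨128, [.a7], [.a7, .a8]⟩,
  ⟨256, [.a8], [.a8]⟩,
  ⟨512, [.a9], [.a9]⟩,
  ⟨2048, [.a11], [.a11]⟩]
theorem bad1224 (c : CtxF Goal γ) : Bad Goal γ [] P1224 :=
  c.toCtx.bnd (B := B1224) (D := D1224) (I := [5, 4, 1, 0, 6, 3, 7]) (r := 3) (C := C1224) (N := N1224) (by decide +kernel) (by decide +kernel) (by decide +kernel) (by decide +kernel)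
    (allB_cons (bad680 c) (allB_cons (bad848 c) (allB_cons (bad858 c) (allB_cons (bad864 c) (allB_cons (bad864 c) (allB_cons (bad865 c) (allB_cons (bad865 c) (allB_nil))))))))

def P1225 : List Ent := [⟨2, [.a1, .a11], [.a1, .a2, .a5, .a6, .a9, .a11]⟩,
  ⟨4, [.a2], [.a2]⟩,
  ⟨32, [.a5], [.a5]⟩,
  ⟨64, [.a6], [.a6]⟩,
  ⟨128, [.a7], [.a7, .a8]⟩,
  ⟨256, [.a8], [.a8]⟩,
  ⟨512, [.a9], [.a9]⟩]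
def B1225 : List Gv := [⟨[.a1, .a11], [.a1, .a2, .a5, .a6, .a9, .a11]⟩, ⟨[.a2], [.a2]⟩, ⟨[.a7], [.a7, .a8]⟩]
def D1225 : List Dv := [⟨[.a5, .a8, .a9], [1, 0, 0], []⟩,
  ⟨[.a6, .a8], [2, 1], [1, 2]⟩,
  ⟨[.a8], [4, 4], []⟩,
  ⟨[.a9], [0, 2, 2, 4], [4, 2]⟩,
  ⟨[.a6], [2], [1]⟩,
  ⟨[.a5], [4], [2, 1]⟩]
def C1225 : List Ch := [⟨P680, 0, [], []⟩,
  ⟨P866, 1, [], []⟩,
  ⟨P866, 0, [.a1], [.a1, .a2]⟩,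
  ⟨P853, 2, [], []⟩,
  ⟨P861, 0, [], []⟩,
  ⟨P867, 1, [], []⟩,
  ⟨P867, 0, [.a1], [.a1, .a2]⟩]
def N1225 : List Ent := [⟨2, [.a1, .a11], [.a1, .a2, .a5, .a6, .a9, .a11]⟩,
  ⟨4, [.a2], [.a2]⟩,
  ⟨8, [.a3], [.a3]⟩,
  ⟨32, [.a5], [.a5]⟩,
  ⟨64, [.a6], [.a6]⟩,
  ⟨128, [.a7], [.a7, .a8]⟩,
  ⟨256, [.a8], [.a8]⟩,
  ⟨512, [.a9], [.a9]⟩,
  ⟨2048, [.a11], [.a11]⟩]
theorem bad1225 (c : CtxF Goal γ) : Bad Goal γ [] P1225 :=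
  c.toCtx.bnd (B := B1225) (D := D1225) (I := [6, 7, 0, 1, 8, 3, 2]) (r := 3) (C := C1225) (N := N1225) (by decide +kernel) (by decide +kernel) (by decide +kernel) (by decide +kernel)
    (allB_cons (bad680 c) (allB_cons (bad866 c) (allB_cons (bad866 c) (allB_cons (bad853 c) (allB_cons (bad861 c) (allB_cons (bad867 c) (allB_cons (bad867 c) (allB_nil))))))))

def P1226 : List Ent := [⟨2, [.a1], [.a1, .a2]⟩,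
  ⟨4, [.a2], [.a2]⟩,
  ⟨32, [.a5], [.a5]⟩,
  ⟨64, [.a6], [.a6]⟩,
  ⟨128, [.a7, .a11], [.a7, .a8, .a11]⟩,
  ⟨256, [.a8], [.a8]⟩,
  ⟨512, [.a9], [.a9]⟩]
def B1226 : List Gv := [⟨[.a1], [.a1, .a2]⟩, ⟨[.a7, .a11], [.a7, .a8, .a11]⟩]
def D1226 : List Dv := [⟨[.a2], [0, 0], []⟩,
  ⟨[.a5, .a6, .a9], [2, 1], [1, 2]⟩,
  ⟨[.a8], [3, 3], []⟩,
  ⟨[.a9], [0, 1, 2, 4], [4, 2]⟩,
  ⟨[.a6, .a9], [2, 2, 3], [3, 2]⟩,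
  ⟨[.a6], [0], [1]⟩,
  ⟨[.a5], [4], [0, 2]⟩]
theorem bad1226 (c : CtxF Goal γ) : Bad Goal γ [] P1226 :=
  c.toCtx.cent (B := B1226) (D := D1226) (I := [7, 6, 0, 1, 8, 4, 3]) (z := [.a7]) (by decide +kernel) (by decide +kernel)

def P1227 : List Ent := [⟨2, [.a1, .a11], [.a1, .a2, .a5, .a6, .a9, .a11]⟩,
  ⟨4, [.a2], [.a2]⟩,
  ⟨32, [.a5], [.a5]⟩,
  ⟨64, [.a6], [.a6]⟩,
  ⟨128, [.a7, .a11], [.a7, .a8, .a11]⟩,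
  ⟨256, [.a8], [.a8]⟩,
  ⟨512, [.a9], [.a9]⟩]
def B1227 : List Gv := [⟨[.a1, .a11], [.a1, .a2, .a5, .a6, .a9, .a11]⟩, ⟨[.a7, .a11], [.a7, .a8, .a11]⟩]
def D1227 : List Dv := [⟨[.a2, .a5, .a8, .a9], [0, 0], []⟩,
  ⟨[.a5, .a6, .a9], [2, 1], [1, 2]⟩,
  ⟨[.a8], [3, 3], []⟩,
  ⟨[.a9], [0, 1, 2, 4], [4, 2]⟩,
  ⟨[.a6, .a9], [2, 3, 3], []⟩,
  ⟨[.a6], [0], [1]⟩,
  ⟨[.a5], [4], [0, 2]⟩,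
  ⟨[.a2], [6], [0, 4, 3]⟩]
theorem bad1227 (c : CtxF Goal γ) : Bad Goal γ [] P1227 :=
  c.toCtx.cent (B := B1227) (D := D1227) (I := [8, 0, 1, 2, 9, 5, 4]) (z := [.a7]) (by decide +kernel) (by decide +kernel)

def P1228 : List Ent := [⟨2, [.a1], [.a1, .a2]⟩,
  ⟨4, [.a2], [.a2]⟩,
  ⟨8, [.a3, .a7], [.a3, .a5, .a7, .a8]⟩,
  ⟨32, [.a5], [.a5]⟩,
  ⟨64, [.a6], [.a6]⟩,
  ⟨256, [.a8], [.a8]⟩,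
  ⟨512, [.a9], [.a9]⟩]
def B1228 : List Gv := [⟨[.a1], [.a1, .a2]⟩, ⟨[.a3, .a7], [.a3, .a5, .a7, .a8]⟩, ⟨[.a9], [.a9]⟩]
def D1228 : List Dv := [⟨[.a2], [0, 0], []⟩,
  ⟨[.a5, .a8], [2, 2], []⟩,
  ⟨[.a6, .a8], [4, 2], [2, 4]⟩,
  ⟨[.a8], [1, 2, 5], [5, 2]⟩,
  ⟨[.a6], [1], [0]⟩,
  ⟨[.a5], [3], [1]⟩]
def C1228 : List Ch := [⟨P687, 0, [], []⟩,
  ⟨P848, 1, [], []⟩,
  ⟨P858, 0, [.a4], [.a4, .a5]⟩,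
  ⟨P864, 2, [.a0], [.a0]⟩,
  ⟨P864, 0, [.a0, .a2, .a3, .a4, .a5, .a6, .a7, .a9, .a11], [.a0, .a11]⟩,
  ⟨P868, 1, [], []⟩,
  ⟨P868, 0, [.a11], [.a11]⟩]
def N1228 : List Ent := [⟨2, [.a1], [.a1, .a2]⟩,
  ⟨4, [.a2], [.a2]⟩,
  ⟨8, [.a3, .a7], [.a3, .a5, .a7, .a8]⟩,
  ⟨32, [.a5], [.a5]⟩,
  ⟨64, [.a6], [.a6]⟩,
  ⟨128, [.a7], [.a7, .a8]⟩,
  ⟨256, [.a8], [.a8]⟩,
  ⟨512, [.a9], [.a9]⟩,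
  ⟨2048, [.a11], [.a11]⟩]
theorem bad1228 (c : CtxF Goal γ) : Bad Goal γ [] P1228 :=
  c.toCtx.bnd (B := B1228) (D := D1228) (I := [6, 5, 7, 0, 1, 2, 8]) (r := 3) (C := C1228) (N := N1228) (by decide +kernel) (by decide +kernel) (by decide +kernel) (by decide +kernel)
    (allB_cons (bad687 c) (allB_cons (bad848 c) (allB_cons (bad858 c) (allB_cons (bad864 c) (allB_cons (bad864 c) (allB_cons (bad868 c) (allB_cons (bad868 c) (allB_nil))))))))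

def P1229 : List Ent := [⟨2, [.a1, .a11], [.a1, .a2, .a5, .a6, .a9, .a11]⟩,
  ⟨4, [.a2], [.a2]⟩,
  ⟨8, [.a3, .a7], [.a3, .a5, .a7, .a8]⟩,
  ⟨32, [.a5], [.a5]⟩,
  ⟨64, [.a6], [.a6]⟩,
  ⟨256, [.a8], [.a8]⟩,
  ⟨512, [.a9], [.a9]⟩]
def B1229 : List Gv := [⟨[.a1, .a11], [.a1, .a2, .a5, .a6, .a9, .a11]⟩, ⟨[.a2], [.a2]⟩, ⟨[.a3, .a7], [.a3, .a5, .a7, .a8]⟩]
def D1229 : List Dv := [⟨[.a5, .a8, .a9], [1, 0, 0], []⟩,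
  ⟨[.a6, .a8], [2, 1], [1, 2]⟩,
  ⟨[.a8], [4, 2], [2, 4]⟩,
  ⟨[.a9], [2, 5, 5], []⟩,
  ⟨[.a6], [2], [1]⟩,
  ⟨[.a5], [4], [2, 1]⟩]
def C1229 : List Ch := [⟨P687, 0, [], []⟩,
  ⟨P869, 1, [], []⟩,
  ⟨P869, 0, [.a1], [.a1, .a2]⟩,
  ⟨P853, 2, [], []⟩,
  ⟨P861, 0, [.a4], [.a4, .a5]⟩,
  ⟨P867, 1, [.a0, .a2, .a4, .a5, .a6, .a9, .a10], [.a0, .a1, .a2, .a10, .a11]⟩,
  ⟨P867, 0, [.a0, .a1, .a2, .a4, .a5, .a6, .a7, .a8, .a9, .a10], [.a0, .a4, .a5, .a10, .a11]⟩]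
def N1229 : List Ent := [⟨2, [.a1, .a11], [.a1, .a2, .a5, .a6, .a9, .a11]⟩,
  ⟨4, [.a2], [.a2]⟩,
  ⟨8, [.a3, .a7], [.a3, .a5, .a7, .a8]⟩,
  ⟨32, [.a5], [.a5]⟩,
  ⟨64, [.a6], [.a6]⟩,
  ⟨128, [.a7], [.a7, .a8]⟩,
  ⟨256, [.a8], [.a8]⟩,
  ⟨512, [.a9], [.a9]⟩,
  ⟨2048, [.a11], [.a11]⟩]
theorem bad1229 (c : CtxF Goal γ) : Bad Goal γ [] P1229 :=
  c.toCtx.bnd (B := B1229) (D := D1229) (I := [6, 7, 8, 0, 1, 3, 2]) (r := 3) (C := C1229) (N := N1229) (by decide +kernel) (by decide +kernel) (by decide +kernel) (by decide +kernel)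
    (allB_cons (bad687 c) (allB_cons (bad869 c) (allB_cons (bad869 c) (allB_cons (bad853 c) (allB_cons (bad861 c) (allB_cons (bad867 c) (allB_cons (bad867 c) (allB_nil))))))))

def P1230 : List Ent := [⟨2, [.a1], [.a1, .a2]⟩,
  ⟨4, [.a2], [.a2]⟩,
  ⟨8, [.a3, .a7, .a11], [.a3, .a5, .a7, .a11]⟩,
  ⟨32, [.a5], [.a5]⟩,
  ⟨64, [.a6], [.a6]⟩,
  ⟨256, [.a8], [.a8]⟩,
  ⟨512, [.a9], [.a9]⟩]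
def B1230 : List Gv := [⟨[.a1], [.a1, .a2]⟩, ⟨[.a3, .a7, .a11], [.a3, .a5, .a7, .a11]⟩, ⟨[.a6], [.a6]⟩]
def D1230 : List Dv := [⟨[.a2], [0, 0], []⟩,
  ⟨[.a5, .a6, .a9], [2, 1], [1, 2]⟩,
  ⟨[.a9], [4, 0, 3, 3], []⟩,
  ⟨[.a8, .a9], [1, 2, 4], [4, 2]⟩,
  ⟨[.a8], [0], [1]⟩,
  ⟨[.a5], [3], [7, 2]⟩]
def C1230 : List Ch := [⟨P689, 0, [], []⟩,
  ⟨P848, 1, [], []⟩,
  ⟨P861, 0, [.a4], [.a4, .a5]⟩,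
  ⟨P870, 2, [], []⟩,
  ⟨P871, 0, [], []⟩,
  ⟨P870, 1, [.a3], [.a3]⟩,
  ⟨P871, 0, [.a3], [.a3]⟩]
def N1230 : List Ent := [⟨2, [.a1], [.a1, .a2]⟩,
  ⟨4, [.a2], [.a2]⟩,
  ⟨8, [.a3, .a7, .a11], [.a3, .a5, .a7, .a11]⟩,
  ⟨32, [.a5], [.a5]⟩,
  ⟨64, [.a6], [.a6]⟩,
  ⟨128, [.a7], [.a7, .a8]⟩,
  ⟨256, [.a8], [.a8]⟩,
  ⟨512, [.a9], [.a9]⟩,
  ⟨2048, [.a11], [.a11]⟩]
theorem bad1230 (c : CtxF Goal γ) : Bad Goal γ [] P1230 :=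
  c.toCtx.bnd (B := B1230) (D := D1230) (I := [6, 5, 7, 0, 8, 1, 3]) (r := 3) (C := C1230) (N := N1230) (by decide +kernel) (by decide +kernel) (by decide +kernel) (by decide +kernel)
    (allB_cons (bad689 c) (allB_cons (bad848 c) (allB_cons (bad861 c) (allB_cons (bad870 c) (allB_cons (bad871 c) (allB_cons (bad870 c) (allB_cons (bad871 c) (allB_nil))))))))

def P1231 : List Ent := [⟨2, [.a1, .a11], [.a1, .a2, .a5, .a6, .a9, .a11]⟩,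
  ⟨4, [.a2], [.a2]⟩,
  ⟨8, [.a3, .a7, .a11], [.a3, .a5, .a7, .a11]⟩,
  ⟨32, [.a5], [.a5]⟩,
  ⟨64, [.a6], [.a6]⟩,
  ⟨256, [.a8], [.a8]⟩,
  ⟨512, [.a9], [.a9]⟩]
def B1231 : List Gv := [⟨[.a1, .a11], [.a1, .a2, .a5, .a6, .a9, .a11]⟩, ⟨[.a2], [.a2]⟩, ⟨[.a3, .a7, .a11], [.a3, .a5, .a7, .a11]⟩]
def D1231 : List Dv := [⟨[.a5, .a8, .a9], [1, 0, 0], []⟩,
  ⟨[.a6, .a8], [2, 1], [1, 2]⟩,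
  ⟨[.a8], [0, 1, 4, 2], [2, 4]⟩,
  ⟨[.a9], [0, 1, 2, 5, 4], [4, 5]⟩,
  ⟨[.a6], [2], [1]⟩,
  ⟨[.a5], [4], [2, 1]⟩]
def C1231 : List Ch := [⟨P689, 0, [], []⟩,
  ⟨P872, 1, [], []⟩,
  ⟨P873, 0, [], []⟩,
  ⟨P853, 2, [], []⟩,
  ⟨P858, 0, [.a4], [.a4, .a5]⟩,
  ⟨P873, 1, [.a1], [.a1, .a2]⟩,
  ⟨P872, 0, [.a1], [.a1, .a2]⟩]
def N1231 : List Ent := [⟨2, [.a1, .a11], [.a1, .a2, .a5, .a6, .a9, .a11]⟩,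
  ⟨4, [.a2], [.a2]⟩,
  ⟨8, [.a3, .a7, .a11], [.a3, .a5, .a7, .a11]⟩,
  ⟨32, [.a5], [.a5]⟩,
  ⟨64, [.a6], [.a6]⟩,
  ⟨128, [.a7], [.a7, .a8]⟩,
  ⟨256, [.a8], [.a8]⟩,
  ⟨512, [.a9], [.a9]⟩,
  ⟨2048, [.a11], [.a11]⟩]
theorem bad1231 (c : CtxF Goal γ) : Bad Goal γ [] P1231 :=
  c.toCtx.bnd (B := B1231) (D := D1231) (I := [6, 7, 8, 0, 1, 3, 2]) (r := 3) (C := C1231) (N := N1231) (by decide +kernel) (by decide +kernel) (by decide +kernel) (by decide +kernel)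
    (allB_cons (bad689 c) (allB_cons (bad872 c) (allB_cons (bad873 c) (allB_cons (bad853 c) (allB_cons (bad858 c) (allB_cons (bad873 c) (allB_cons (bad872 c) (allB_nil))))))))

def P1232 : List Ent := [⟨2, [.a1], [.a1, .a2]⟩,
  ⟨4, [.a2], [.a2]⟩,
  ⟨8, [.a3], [.a3]⟩,
  ⟨32, [.a5], [.a5]⟩,
  ⟨64, [.a6], [.a6]⟩,
  ⟨128, [.a7], [.a7, .a8]⟩,
  ⟨256, [.a8], [.a8]⟩]
def B1232 : List Gv := [⟨[.a1], [.a1, .a2]⟩, ⟨[.a3], [.a3]⟩, ⟨[.a6], [.a6]⟩, ⟨[.a7], [.a7, .a8]⟩]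
def D1232 : List Dv := [⟨[.a2], [0, 0], []⟩,
  ⟨[.a5], [3, 1], [1, 3]⟩,
  ⟨[.a8], [5, 5], []⟩]
def C1232 : List Ch := [⟨P690, 0, [], []⟩,
  ⟨P864, 1, [], []⟩,
  ⟨P864, 0, [.a4], [.a4, .a5]⟩,
  ⟨P874, 2, [], []⟩,
  ⟨P874, 0, [.a9], [.a9]⟩,
  ⟨P875, 1, [], []⟩,
  ⟨P875, 0, [.a9], [.a9]⟩,
  ⟨P851, 3, [], []⟩,
  ⟨P859, 0, [], []⟩,
  ⟨P864, 1, [.a0], [.a0]⟩,
  ⟨P864, 0, [.a0, .a2, .a4], [.a0, .a4, .a5]⟩,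
  ⟨P874, 2, [.a4], [.a4, .a5]⟩,
  ⟨P874, 0, [.a4, .a8, .a9], [.a4, .a5, .a9]⟩,
  ⟨P875, 1, [.a0], [.a0]⟩,
  ⟨P875, 0, [.a4], [.a4, .a5]⟩]
def N1232 : List Ent := [⟨1, [.a0], [.a0]⟩,
  ⟨2, [.a1], [.a1, .a2]⟩,
  ⟨4, [.a2], [.a2]⟩,
  ⟨8, [.a3], [.a3]⟩,
  ⟨16, [.a4], [.a4, .a5]⟩,
  ⟨32, [.a5], [.a5]⟩,
  ⟨64, [.a6], [.a6]⟩,
  ⟨128, [.a7], [.a7, .a8]⟩,
  ⟨256, [.a8], [.a8]⟩,
  ⟨512, [.a9], [.a9]⟩]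
theorem bad1232 (c : CtxF Goal γ) : Bad Goal γ [] P1232 :=
  c.toCtx.bnd (B := B1232) (D := D1232) (I := [3, 2, 4, 1, 5, 6, 0]) (r := 4) (C := C1232) (N := N1232) (by decide +kernel) (by decide +kernel) (by decide +kernel) (by decide +kernel)
    (allB_cons (bad690 c) (allB_cons (bad864 c) (allB_cons (bad864 c) (allB_cons (bad874 c) (allB_cons (bad874 c) (allB_cons (bad875 c) (allB_cons (bad875 c) (allB_cons (bad851 c) (allB_cons (bad859 c) (allB_cons (bad864 c) (allB_cons (bad864 c) (allB_cons (bad874 c) (allB_cons (bad874 c) (allB_cons (bad875 c) (allB_cons (bad875 c) (allB_nil))))))))))))))))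

def P1233 : List Ent := [⟨2, [.a1], [.a1, .a2]⟩,
  ⟨4, [.a2], [.a2]⟩,
  ⟨8, [.a3], [.a3]⟩,
  ⟨32, [.a5], [.a5]⟩,
  ⟨64, [.a6], [.a6]⟩,
  ⟨128, [.a7, .a9], [.a7, .a8, .a9]⟩,
  ⟨256, [.a8], [.a8]⟩]
def B1233 : List Gv := [⟨[.a1], [.a1, .a2]⟩, ⟨[.a3], [.a3]⟩, ⟨[.a7, .a9], [.a7, .a8, .a9]⟩]
def D1233 : List Dv := [⟨[.a2], [0, 0], []⟩,
  ⟨[.a6, .a8], [3, 1], [1, 3]⟩,
  ⟨[.a5], [4, 3], [3, 4]⟩,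
  ⟨[.a8], [5, 5], []⟩,
  ⟨[.a6], [2], [0]⟩]
def C1233 : List Ch := [⟨P690, 0, [.a10], [.a10, .a11]⟩,
  ⟨P865, 1, [], []⟩,
  ⟨P865, 0, [.a4], [.a4, .a5]⟩,
  ⟨P851, 2, [], []⟩,
  ⟨P859, 0, [.a11], [.a11]⟩,
  ⟨P868, 1, [], []⟩,
  ⟨P868, 0, [.a4], [.a4, .a5]⟩]
def N1233 : List Ent := [⟨1, [.a0], [.a0]⟩,
  ⟨2, [.a1], [.a1, .a2]⟩,
  ⟨4, [.a2], [.a2]⟩,
  ⟨8, [.a3], [.a3]⟩,
  ⟨16, [.a4], [.a4, .a5]⟩,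
  ⟨32, [.a5], [.a5]⟩,
  ⟨64, [.a6], [.a6]⟩,
  ⟨128, [.a7, .a9], [.a7, .a8, .a9]⟩,
  ⟨256, [.a8], [.a8]⟩,
  ⟨512, [.a9], [.a9]⟩]
theorem bad1233 (c : CtxF Goal γ) : Bad Goal γ [] P1233 :=
  c.toCtx.bnd (B := B1233) (D := D1233) (I := [5, 4, 6, 2, 0, 7, 1]) (r := 3) (C := C1233) (N := N1233) (by decide +kernel) (by decide +kernel) (by decide +kernel) (by decide +kernel)
    (allB_cons (bad690 c) (allB_cons (bad865 c) (allB_cons (bad865 c) (allB_cons (bad851 c) (allB_cons (bad859 c) (allB_cons (bad868 c) (allB_cons (bad868 c) (allB_nil))))))))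

def P1234 : List Ent := [⟨2, [.a1, .a11], [.a1, .a2, .a5, .a6, .a9, .a11]⟩,
  ⟨4, [.a2, .a9], [.a2, .a5, .a9]⟩,
  ⟨8, [.a3], [.a3]⟩,
  ⟨32, [.a5], [.a5]⟩,
  ⟨64, [.a6], [.a6]⟩,
  ⟨128, [.a7], [.a7, .a8]⟩,
  ⟨256, [.a8], [.a8]⟩]
def B1234 : List Gv := [⟨[.a1, .a11], [.a1, .a2, .a5, .a6, .a9, .a11]⟩, ⟨[.a3], [.a3]⟩, ⟨[.a6], [.a6]⟩, ⟨[.a7], [.a7, .a8]⟩]
def D1234 : List Dv := [⟨[.a2, .a5, .a8, .a9], [0, 0], []⟩,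
  ⟨[.a8], [2, 1], [1, 2]⟩,
  ⟨[.a5], [4, 2], [2, 4]⟩,
  ⟨[.a2, .a9], [2], [0, 1]⟩]
def C1234 : List Ch := [⟨P697, 0, [], []⟩,
  ⟨P866, 1, [], []⟩,
  ⟨P866, 0, [.a4], [.a4, .a5]⟩,
  ⟨P876, 2, [], []⟩,
  ⟨P876, 0, [.a9], [.a9]⟩,
  ⟨P876, 1, [.a0, .a2, .a4, .a5, .a6, .a9, .a10], [.a0, .a1, .a2, .a10, .a11]⟩,
  ⟨P876, 0, [.a0, .a2, .a4, .a10], [.a0, .a1, .a2, .a3, .a6, .a9, .a10, .a11]⟩,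
  ⟨P852, 3, [], []⟩,
  ⟨P860, 0, [], []⟩,
  ⟨P869, 1, [], []⟩,
  ⟨P869, 0, [.a4], [.a4, .a5]⟩,
  ⟨P876, 2, [.a4], [.a4, .a5]⟩,
  ⟨P876, 0, [.a4, .a8, .a9], [.a4, .a5, .a9]⟩,
  ⟨P876, 1, [.a0, .a10], [.a0, .a1, .a2, .a3, .a4, .a6, .a8, .a9, .a10, .a11]⟩,
  ⟨P876, 0, [.a0, .a2, .a3, .a5, .a6, .a7, .a8, .a9, .a10], [.a0, .a1, .a2, .a4, .a5, .a7, .a9, .a10, .a11]⟩]
def N1234 : List Ent := [⟨1, [.a0, .a10], [.a0, .a1, .a2, .a3, .a4, .a6, .a8, .a9, .a10, .a11]⟩,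
  ⟨2, [.a1, .a11], [.a1, .a2, .a5, .a6, .a9, .a11]⟩,
  ⟨4, [.a2, .a9], [.a2, .a5, .a9]⟩,
  ⟨8, [.a3], [.a3]⟩,
  ⟨16, [.a4], [.a4, .a5]⟩,
  ⟨32, [.a5], [.a5]⟩,
  ⟨64, [.a6], [.a6]⟩,
  ⟨128, [.a7], [.a7, .a8]⟩,
  ⟨256, [.a8], [.a8]⟩,
  ⟨512, [.a9], [.a9]⟩]
theorem bad1234 (c : CtxF Goal γ) : Bad Goal γ [] P1234 :=
  c.toCtx.bnd (B := B1234) (D := D1234) (I := [4, 0, 5, 1, 6, 7, 2]) (r := 4) (C := C1234) (N := N1234) (by decide +kernel) (by decide +kernel) (by decide +kernel) (by decide +kernel)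
    (allB_cons (bad697 c) (allB_cons (bad866 c) (allB_cons (bad866 c) (allB_cons (bad876 c) (allB_cons (bad876 c) (allB_cons (bad876 c) (allB_cons (bad876 c) (allB_cons (bad852 c) (allB_cons (bad860 c) (allB_cons (bad869 c) (allB_cons (bad869 c) (allB_cons (bad876 c) (allB_cons (bad876 c) (allB_cons (bad876 c) (allB_cons (bad876 c) (allB_nil))))))))))))))))

def P1235 : List Ent := [⟨2, [.a1, .a11], [.a1, .a2, .a5, .a6, .a9, .a11]⟩,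
  ⟨4, [.a2, .a9], [.a2, .a5, .a9]⟩,
  ⟨8, [.a3], [.a3]⟩,
  ⟨32, [.a5], [.a5]⟩,
  ⟨64, [.a6], [.a6]⟩,
  ⟨128, [.a7, .a9], [.a7, .a8, .a9]⟩,
  ⟨256, [.a8], [.a8]⟩]
def B1235 : List Gv := [⟨[.a1, .a11], [.a1, .a2, .a5, .a6, .a9, .a11]⟩, ⟨[.a3], [.a3]⟩, ⟨[.a7, .a9], [.a7, .a8, .a9]⟩]
def D1235 : List Dv := [⟨[.a2, .a5, .a8, .a9], [0, 0], []⟩,
  ⟨[.a8], [2, 1], [1, 2]⟩,
  ⟨[.a6, .a8], [4, 2], [2, 4]⟩,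
  ⟨[.a5], [5, 4], [4, 5]⟩,
  ⟨[.a6], [1], [2]⟩,
  ⟨[.a2, .a9], [4], [1, 3]⟩]
def C1235 : List Ch := [⟨P697, 0, [.a0], [.a0]⟩,
  ⟨P867, 1, [], []⟩,
  ⟨P867, 0, [.a4], [.a4, .a5]⟩,
  ⟨P852, 2, [], []⟩,
  ⟨P860, 0, [.a1], [.a1, .a2]⟩,
  ⟨P867, 1, [.a0, .a2, .a4, .a5, .a6, .a9, .a10], [.a0, .a1, .a2, .a10, .a11]⟩,
  ⟨P867, 0, [.a0, .a10], [.a0, .a1, .a2, .a3, .a4, .a6, .a8, .a9, .a10, .a11]⟩]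
def N1235 : List Ent := [⟨1, [.a0, .a10], [.a0, .a1, .a2, .a3, .a4, .a6, .a8, .a9, .a10, .a11]⟩,
  ⟨2, [.a1, .a11], [.a1, .a2, .a5, .a6, .a9, .a11]⟩,
  ⟨4, [.a2, .a9], [.a2, .a5, .a9]⟩,
  ⟨8, [.a3], [.a3]⟩,
  ⟨16, [.a4], [.a4, .a5]⟩,
  ⟨32, [.a5], [.a5]⟩,
  ⟨64, [.a6], [.a6]⟩,
  ⟨128, [.a7, .a9], [.a7, .a8, .a9]⟩,
  ⟨256, [.a8], [.a8]⟩,
  ⟨512, [.a9], [.a9]⟩]
theorem bad1235 (c : CtxF Goal γ) : Bad Goal γ [] P1235 :=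
  c.toCtx.bnd (B := B1235) (D := D1235) (I := [6, 0, 7, 2, 1, 8, 4]) (r := 3) (C := C1235) (N := N1235) (by decide +kernel) (by decide +kernel) (by decide +kernel) (by decide +kernel)
    (allB_cons (bad697 c) (allB_cons (bad867 c) (allB_cons (bad867 c) (allB_cons (bad852 c) (allB_cons (bad860 c) (allB_cons (bad867 c) (allB_cons (bad867 c) (allB_nil))))))))

def P1236 : List Ent := [⟨2, [.a1], [.a1, .a2]⟩,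
  ⟨4, [.a2], [.a2]⟩,
  ⟨8, [.a3], [.a3]⟩,
  ⟨16, [.a4], [.a4, .a5]⟩,
  ⟨32, [.a5], [.a5]⟩,
  ⟨64, [.a6], [.a6]⟩,
  ⟨256, [.a8], [.a8]⟩]
def B1236 : List Gv := [⟨[.a1], [.a1, .a2]⟩, ⟨[.a4], [.a4, .a5]⟩, ⟨[.a6], [.a6]⟩, ⟨[.a8], [.a8]⟩]
def D1236 : List Dv := [⟨[.a2], [0, 0], []⟩,
  ⟨[.a3], [2, 1], [1, 2]⟩,
  ⟨[.a5], [3, 3], []⟩]
def C1236 : List Ch := [⟨P750, 0, [], []⟩,
  ⟨P851, 1, [], []⟩,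
  ⟨P859, 0, [.a10, .a11], [.a10]⟩,
  ⟨P877, 2, [], []⟩,
  ⟨P877, 0, [.a9], [.a9]⟩,
  ⟨P877, 1, [.a7], [.a7, .a8]⟩,
  ⟨P877, 0, [.a7, .a9], [.a7, .a8, .a9]⟩,
  ⟨P878, 3, [], []⟩,
  ⟨P879, 0, [], []⟩,
  ⟨P879, 1, [.a9], [.a9]⟩,
  ⟨P878, 0, [.a9], [.a9]⟩,
  ⟨P880, 2, [], []⟩,
  ⟨P881, 0, [], []⟩,
  ⟨P880, 1, [.a7], [.a7, .a8]⟩,
  ⟨P881, 0, [.a7], [.a7, .a8]⟩]
def N1236 : List Ent := [⟨1, [.a0], [.a0]⟩,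
  ⟨2, [.a1], [.a1, .a2]⟩,
  ⟨4, [.a2], [.a2]⟩,
  ⟨8, [.a3], [.a3]⟩,
  ⟨16, [.a4], [.a4, .a5]⟩,
  ⟨32, [.a5], [.a5]⟩,
  ⟨64, [.a6], [.a6]⟩,
  ⟨128, [.a7], [.a7, .a8]⟩,
  ⟨256, [.a8], [.a8]⟩,
  ⟨512, [.a9], [.a9]⟩]
theorem bad1236 (c : CtxF Goal γ) : Bad Goal γ [] P1236 :=
  c.toCtx.bnd (B := B1236) (D := D1236) (I := [3, 2, 1, 4, 0, 5, 6]) (r := 4) (C := C1236) (N := N1236) (by decide +kernel) (by decide +kernel) (by decide +kernel) (by decide +kernel)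
    (allB_cons (bad750 c) (allB_cons (bad851 c) (allB_cons (bad859 c) (allB_cons (bad877 c) (allB_cons (bad877 c) (allB_cons (bad877 c) (allB_cons (bad877 c) (allB_cons (bad878 c) (allB_cons (bad879 c) (allB_cons (bad879 c) (allB_cons (bad878 c) (allB_cons (bad880 c) (allB_cons (bad881 c) (allB_cons (bad880 c) (allB_cons (bad881 c) (allB_nil))))))))))))))))

def P1237 : List Ent := [⟨2, [.a1], [.a1, .a2]⟩,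
  ⟨4, [.a2], [.a2]⟩,
  ⟨8, [.a3], [.a3]⟩,
  ⟨16, [.a4, .a9], [.a4, .a5, .a8, .a9]⟩,
  ⟨32, [.a5], [.a5]⟩,
  ⟨64, [.a6], [.a6]⟩,
  ⟨256, [.a8], [.a8]⟩]
def B1237 : List Gv := [⟨[.a1], [.a1, .a2]⟩, ⟨[.a3], [.a3]⟩, ⟨[.a4, .a9], [.a4, .a5, .a8, .a9]⟩]
def D1237 : List Dv := [⟨[.a2], [0, 0], []⟩,
  ⟨[.a6, .a8], [2, 3, 1], [1, 3]⟩,
  ⟨[.a5, .a8], [4, 4], []⟩,
  ⟨[.a8], [0, 2, 5], [5, 2]⟩,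
  ⟨[.a6], [2], [0]⟩,
  ⟨[.a5], [2], [1]⟩]
def C1237 : List Ch := [⟨P763, 0, [], []⟩,
  ⟨P882, 1, [], []⟩,
  ⟨P882, 0, [.a4], [.a4, .a5]⟩,
  ⟨P851, 2, [], []⟩,
  ⟨P859, 0, [.a10], [.a10, .a11]⟩,
  ⟨P882, 1, [.a7], [.a7, .a8]⟩,
  ⟨P882, 0, [.a4, .a6, .a7], [.a4, .a5, .a7, .a8]⟩]
def N1237 : List Ent := [⟨1, [.a0], [.a0]⟩,
  ⟨2, [.a1], [.a1, .a2]⟩,
  ⟨4, [.a2], [.a2]⟩,
  ⟨8, [.a3], [.a3]⟩,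
  ⟨16, [.a4, .a9], [.a4, .a5, .a8, .a9]⟩,
  ⟨32, [.a5], [.a5]⟩,
  ⟨64, [.a6], [.a6]⟩,
  ⟨128, [.a7], [.a7, .a8]⟩,
  ⟨256, [.a8], [.a8]⟩,
  ⟨512, [.a9], [.a9]⟩]
theorem bad1237 (c : CtxF Goal γ) : Bad Goal γ [] P1237 :=
  c.toCtx.bnd (B := B1237) (D := D1237) (I := [6, 5, 7, 8, 0, 1, 2]) (r := 3) (C := C1237) (N := N1237) (by decide +kernel) (by decide +kernel) (by decide +kernel) (by decide +kernel)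
    (allB_cons (bad763 c) (allB_cons (bad882 c) (allB_cons (bad882 c) (allB_cons (bad851 c) (allB_cons (bad859 c) (allB_cons (bad882 c) (allB_cons (bad882 c) (allB_nil))))))))

def P1238 : List Ent := [⟨2, [.a1, .a11], [.a1, .a2, .a5, .a6, .a9, .a11]⟩,
  ⟨4, [.a2, .a9], [.a2, .a5, .a9]⟩,
  ⟨8, [.a3], [.a3]⟩,
  ⟨16, [.a4], [.a4, .a5]⟩,
  ⟨32, [.a5], [.a5]⟩,
  ⟨64, [.a6], [.a6]⟩,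
  ⟨256, [.a8], [.a8]⟩]
def B1238 : List Gv := [⟨[.a1, .a11], [.a1, .a2, .a5, .a6, .a9, .a11]⟩, ⟨[.a4], [.a4, .a5]⟩, ⟨[.a6], [.a6]⟩]
def D1238 : List Dv := [⟨[.a2, .a5, .a8, .a9], [0, 0], []⟩,
  ⟨[.a3], [2, 1], [1, 2]⟩,
  ⟨[.a5], [3, 3], []⟩,
  ⟨[.a8], [2, 4], [4, 2]⟩,
  ⟨[.a2, .a9], [3], [1, 0]⟩]
def C1238 : List Ch := [⟨P758, 0, [], []⟩,
  ⟨P852, 1, [], []⟩,
  ⟨P860, 0, [.a0, .a1], [.a0, .a1, .a2]⟩,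
  ⟨P883, 2, [], []⟩,
  ⟨P883, 0, [.a9], [.a9]⟩,
  ⟨P883, 1, [.a7], [.a7, .a8]⟩,
  ⟨P883, 0, [.a7, .a9], [.a7, .a8, .a9]⟩]
def N1238 : List Ent := [⟨2, [.a1, .a11], [.a1, .a2, .a5, .a6, .a9, .a11]⟩,
  ⟨4, [.a2, .a9], [.a2, .a5, .a9]⟩,
  ⟨8, [.a3], [.a3]⟩,
  ⟨16, [.a4], [.a4, .a5]⟩,
  ⟨32, [.a5], [.a5]⟩,
  ⟨64, [.a6], [.a6]⟩,
  ⟨128, [.a7], [.a7, .a8]⟩,
  ⟨256, [.a8], [.a8]⟩,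
  ⟨512, [.a9], [.a9]⟩]
theorem bad1238 (c : CtxF Goal γ) : Bad Goal γ [] P1238 :=
  c.toCtx.bnd (B := B1238) (D := D1238) (I := [5, 0, 3, 6, 2, 7, 1]) (r := 3) (C := C1238) (N := N1238) (by decide +kernel) (by decide +kernel) (by decide +kernel) (by decide +kernel)
    (allB_cons (bad758 c) (allB_cons (bad852 c) (allB_cons (bad860 c) (allB_cons (bad883 c) (allB_cons (bad883 c) (allB_cons (bad883 c) (allB_cons (bad883 c) (allB_nil))))))))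

def P1239 : List Ent := [⟨1, [.a0], [.a0]⟩,
  ⟨4, [.a2, .a4, .a7, .a9], [.a2, .a4, .a6, .a7, .a9]⟩,
  ⟨8, [.a3], [.a3]⟩,
  ⟨32, [.a5], [.a5]⟩,
  ⟨64, [.a6], [.a6]⟩,
  ⟨256, [.a8], [.a8]⟩,
  ⟨2048, [.a11], [.a11]⟩]
def B1239 : List Gv := [⟨[.a0], [.a0]⟩, ⟨[.a2, .a4, .a7, .a9], [.a2, .a4, .a6, .a7, .a9]⟩, ⟨[.a11], [.a11]⟩]
def D1239 : List Dv := [⟨[.a5, .a6], [1, 0], [0, 1]⟩,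
  ⟨[.a6], [2, 2], []⟩,
  ⟨[.a3, .a5, .a6], [3, 4, 2], [2, 4]⟩,
  ⟨[.a8], [2, 5, 4], [4, 5]⟩,
  ⟨[.a5], [3], [2]⟩,
  ⟨[.a3], [2], [0, 3]⟩]
def C1239 : List Ch := [⟨P719, 0, [.a10], [.a10, .a11]⟩,
  ⟨P884, 1, [], []⟩,
  ⟨P884, 0, [.a9], [.a9]⟩,
  ⟨P885, 2, [], []⟩,
  ⟨P886, 0, [], []⟩,
  ⟨P887, 1, [], []⟩,
  ⟨P887, 0, [.a9], [.a9]⟩]
def N1239 : List Ent := [⟨1, [.a0], [.a0]⟩,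
  ⟨4, [.a2, .a4, .a7, .a9], [.a2, .a4, .a6, .a7, .a9]⟩,
  ⟨8, [.a3], [.a3]⟩,
  ⟨16, [.a4, .a7], [.a4, .a5, .a6, .a7, .a8]⟩,
  ⟨32, [.a5], [.a5]⟩,
  ⟨64, [.a6], [.a6]⟩,
  ⟨256, [.a8], [.a8]⟩,
  ⟨512, [.a9], [.a9]⟩,
  ⟨2048, [.a11], [.a11]⟩]
theorem bad1239 (c : CtxF Goal γ) : Bad Goal γ [] P1239 :=
  c.toCtx.bnd (B := B1239) (D := D1239) (I := [6, 7, 0, 1, 4, 2, 8]) (r := 3) (C := C1239) (N := N1239) (by decide +kernel) (by decide +kernel) (by decide +kernel) (by decide +kernel)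
    (allB_cons (bad719 c) (allB_cons (bad884 c) (allB_cons (bad884 c) (allB_cons (bad885 c) (allB_cons (bad886 c) (allB_cons (bad887 c) (allB_cons (bad887 c) (allB_nil))))))))

def P1240 : List Ent := [⟨1, [.a0, .a4, .a7], [.a0, .a3, .a4, .a6, .a7, .a8]⟩,
  ⟨4, [.a2, .a4, .a7, .a9], [.a2, .a4, .a6, .a7, .a9]⟩,
  ⟨8, [.a3], [.a3]⟩,
  ⟨32, [.a5], [.a5]⟩,
  ⟨64, [.a6], [.a6]⟩,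
  ⟨256, [.a8], [.a8]⟩,
  ⟨2048, [.a11], [.a11]⟩]
def B1240 : List Gv := [⟨[.a0, .a4, .a7], [.a0, .a3, .a4, .a6, .a7, .a8]⟩, ⟨[.a11], [.a11]⟩]
def D1240 : List Dv := [⟨[.a3, .a5, .a6, .a8], [0, 0], []⟩,
  ⟨[.a2, .a3, .a4, .a7, .a9], [2, 1], [1, 2]⟩,
  ⟨[.a8], [1, 3], [3, 1]⟩,
  ⟨[.a5, .a6, .a8], [1, 3], [3, 1]⟩,
  ⟨[.a6, .a8], [0, 2, 3], [3, 2]⟩,
  ⟨[.a6], [0], [2]⟩,
  ⟨[.a5], [2], [0, 3]⟩,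
  ⟨[.a3], [6], [0, 1, 4]⟩,
  ⟨[.a2, .a4, .a7, .a9], [6], [0, 1]⟩]
def C1240 : List Ch := [⟨P719, 0, [.a10], [.a10, .a11]⟩,
  ⟨P888, 1, [], []⟩,
  ⟨P886, 0, [.a1, .a3, .a4], [.a1, .a2, .a4, .a5]⟩]
def N1240 : List Ent := [⟨1, [.a0, .a4, .a7], [.a0, .a3, .a4, .a6, .a7, .a8]⟩,
  ⟨4, [.a2, .a4, .a7, .a9], [.a2, .a4, .a6, .a7, .a9]⟩,
  ⟨8, [.a3], [.a3]⟩,
  ⟨16, [.a4, .a7], [.a4, .a5, .a6, .a7, .a8]⟩,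
  ⟨32, [.a5], [.a5]⟩,
  ⟨64, [.a6], [.a6]⟩,
  ⟨256, [.a8], [.a8]⟩,
  ⟨512, [.a9], [.a9]⟩,
  ⟨2048, [.a11], [.a11]⟩]
theorem bad1240 (c : CtxF Goal γ) : Bad Goal γ [] P1240 :=
  c.toCtx.bnd (B := B1240) (D := D1240) (I := [9, 0, 1, 2, 3, 6, 10]) (r := 2) (C := C1240) (N := N1240) (by decide +kernel) (by decide +kernel) (by decide +kernel) (by decide +kernel)
    (allB_cons (bad719 c) (allB_cons (bad888 c) (allB_cons (bad886 c) (allB_nil))))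

def P1241 : List Ent := [⟨1, [.a0], [.a0]⟩,
  ⟨4, [.a2, .a9], [.a2, .a5, .a9]⟩,
  ⟨8, [.a3], [.a3]⟩,
  ⟨16, [.a4, .a7], [.a4, .a5, .a6, .a7, .a8]⟩,
  ⟨32, [.a5], [.a5]⟩,
  ⟨64, [.a6], [.a6]⟩,
  ⟨256, [.a8], [.a8]⟩]
def B1241 : List Gv := [⟨[.a0], [.a0]⟩, ⟨[.a2, .a9], [.a2, .a5, .a9]⟩, ⟨[.a4, .a7], [.a4, .a5, .a6, .a7, .a8]⟩]
def D1241 : List Dv := [⟨[.a3, .a6], [1, 0], [0, 1]⟩,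
  ⟨[.a5], [2, 2], []⟩,
  ⟨[.a6], [1, 4, 2], [2, 4]⟩,
  ⟨[.a8], [5, 4], [4, 5]⟩,
  ⟨[.a3], [3], [1]⟩]
def C1241 : List Ch := [⟨P792, 0, [], []⟩,
  ⟨P889, 1, [], []⟩,
  ⟨P889, 0, [.a11], [.a11]⟩,
  ⟨P890, 2, [], []⟩,
  ⟨P890, 0, [.a11], [.a11]⟩,
  ⟨P885, 1, [], []⟩,
  ⟨P888, 0, [], []⟩]
def N1241 : List Ent := [⟨1, [.a0], [.a0]⟩,
  ⟨2, [.a1], [.a1, .a2]⟩,
  ⟨4, [.a2, .a9], [.a2, .a5, .a9]⟩,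
  ⟨8, [.a3], [.a3]⟩,
  ⟨16, [.a4, .a7], [.a4, .a5, .a6, .a7, .a8]⟩,
  ⟨32, [.a5], [.a5]⟩,
  ⟨64, [.a6], [.a6]⟩,
  ⟨256, [.a8], [.a8]⟩,
  ⟨512, [.a9], [.a9]⟩,
  ⟨2048, [.a11], [.a11]⟩]
theorem bad1241 (c : CtxF Goal γ) : Bad Goal γ [] P1241 :=
  c.toCtx.bnd (B := B1241) (D := D1241) (I := [5, 6, 0, 7, 3, 2, 1]) (r := 3) (C := C1241) (N := N1241) (by decide +kernel) (by decide +kernel) (by decide +kernel) (by decide +kernel)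
    (allB_cons (bad792 c) (allB_cons (bad889 c) (allB_cons (bad889 c) (allB_cons (bad890 c) (allB_cons (bad890 c) (allB_cons (bad885 c) (allB_cons (bad888 c) (allB_nil))))))))

def P1242 : List Ent := [⟨1, [.a0, .a11], [.a0, .a2, .a3, .a4, .a5, .a6, .a7, .a9, .a11]⟩,
  ⟨4, [.a2, .a9], [.a2, .a5, .a9]⟩,
  ⟨8, [.a3], [.a3]⟩,
  ⟨16, [.a4, .a7], [.a4, .a5, .a6, .a7, .a8]⟩,
  ⟨32, [.a5], [.a5]⟩,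
  ⟨64, [.a6], [.a6]⟩,
  ⟨256, [.a8], [.a8]⟩]
def B1242 : List Gv := [⟨[.a0, .a11], [.a0, .a2, .a3, .a4, .a5, .a6, .a7, .a9, .a11]⟩, ⟨[.a2, .a9], [.a2, .a5, .a9]⟩]
def D1242 : List Dv := [⟨[.a3, .a4, .a6, .a7, .a8], [1, 0, 0], []⟩,
  ⟨[.a4, .a5, .a6, .a7], [0, 2, 1], [1, 2]⟩,
  ⟨[.a5], [3, 3], []⟩,
  ⟨[.a6, .a8], [0, 1, 2, 2, 3], [3, 2]⟩,
  ⟨[.a8], [3, 5], [5, 3]⟩,
  ⟨[.a6], [1], [0]⟩,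
  ⟨[.a4, .a7], [4], [3, 0]⟩,
  ⟨[.a3], [6], [0, 1, 2]⟩]
def C1242 : List Ch := [⟨P792, 0, [], []⟩,
  ⟨P886, 1, [], []⟩,
  ⟨P886, 0, [.a1, .a3, .a4], [.a1, .a2, .a4, .a5]⟩]
def N1242 : List Ent := [⟨1, [.a0, .a11], [.a0, .a2, .a3, .a4, .a5, .a6, .a7, .a9, .a11]⟩,
  ⟨2, [.a1, .a7], [.a1, .a2, .a7, .a8]⟩,
  ⟨4, [.a2, .a9], [.a2, .a5, .a9]⟩,
  ⟨8, [.a3], [.a3]⟩,
  ⟨16, [.a4, .a7], [.a4, .a5, .a6, .a7, .a8]⟩,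
  ⟨32, [.a5], [.a5]⟩,
  ⟨64, [.a6], [.a6]⟩,
  ⟨256, [.a8], [.a8]⟩,
  ⟨512, [.a9], [.a9]⟩,
  ⟨2048, [.a11], [.a11]⟩]
theorem bad1242 (c : CtxF Goal γ) : Bad Goal γ [] P1242 :=
  c.toCtx.bnd (B := B1242) (D := D1242) (I := [8, 9, 0, 1, 5, 2, 3]) (r := 2) (C := C1242) (N := N1242) (by decide +kernel) (by decide +kernel) (by decide +kernel) (by decide +kernel)
    (allB_cons (bad792 c) (allB_cons (bad886 c) (allB_cons (bad886 c) (allB_nil))))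

def P1243 : List Ent := [⟨1, [.a0], [.a0]⟩,
  ⟨4, [.a2, .a9, .a11], [.a2, .a6, .a8, .a9, .a11]⟩,
  ⟨8, [.a3], [.a3]⟩,
  ⟨16, [.a4, .a7, .a11], [.a4, .a5, .a6, .a7, .a8, .a11]⟩,
  ⟨32, [.a5], [.a5]⟩,
  ⟨64, [.a6], [.a6]⟩,
  ⟨256, [.a8], [.a8]⟩]
def B1243 : List Gv := [⟨[.a0], [.a0]⟩, ⟨[.a2, .a9, .a11], [.a2, .a6, .a8, .a9, .a11]⟩, ⟨[.a3], [.a3]⟩]
def D1243 : List Dv := [⟨[.a4, .a5, .a7, .a8, .a11], [1, 1, 0], [0, 1]⟩,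
  ⟨[.a6, .a8], [2, 2], []⟩,
  ⟨[.a8], [4, 3], [3, 4]⟩,
  ⟨[.a5, .a8], [2, 4, 2, 3], [3, 2]⟩,
  ⟨[.a6], [2], [1]⟩,
  ⟨[.a5], [1], [2]⟩,
  ⟨[.a4, .a7, .a11], [5], [0, 3]⟩]
def C1243 : List Ch := [⟨P790, 0, [.a0, .a1, .a3, .a5, .a6, .a7, .a8, .a9, .a10], [.a0, .a10, .a11]⟩,
  ⟨P885, 1, [], []⟩,
  ⟨P886, 0, [.a1, .a3, .a4], [.a1, .a2, .a4, .a5]⟩,
  ⟨P891, 2, [], []⟩,
  ⟨P891, 0, [.a9], [.a9]⟩,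
  ⟨P892, 1, [], []⟩,
  ⟨P892, 0, [.a9], [.a9]⟩]
def N1243 : List Ent := [⟨1, [.a0], [.a0]⟩,
  ⟨4, [.a2, .a9, .a11], [.a2, .a6, .a8, .a9, .a11]⟩,
  ⟨8, [.a3], [.a3]⟩,
  ⟨16, [.a4, .a7, .a11], [.a4, .a5, .a6, .a7, .a8, .a11]⟩,
  ⟨32, [.a5], [.a5]⟩,
  ⟨64, [.a6], [.a6]⟩,
  ⟨256, [.a8], [.a8]⟩,
  ⟨512, [.a9], [.a9]⟩,
  ⟨2048, [.a11], [.a11]⟩]
theorem bad1243 (c : CtxF Goal γ) : Bad Goal γ [] P1243 :=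
  c.toCtx.bnd (B := B1243) (D := D1243) (I := [7, 8, 9, 0, 1, 2, 4]) (r := 3) (C := C1243) (N := N1243) (by decide +kernel) (by decide +kernel) (by decide +kernel) (by decide +kernel)
    (allB_cons (bad790 c) (allB_cons (bad885 c) (allB_cons (bad886 c) (allB_cons (bad891 c) (allB_cons (bad891 c) (allB_cons (bad892 c) (allB_cons (bad892 c) (allB_nil))))))))

def P1244 : List Ent := [⟨1, [.a0, .a11], [.a0, .a2, .a3, .a4, .a5, .a6, .a7, .a9, .a11]⟩,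
  ⟨4, [.a2, .a9, .a11], [.a2, .a6, .a8, .a9, .a11]⟩,
  ⟨8, [.a3], [.a3]⟩,
  ⟨16, [.a4, .a7, .a11], [.a4, .a5, .a6, .a7, .a8, .a11]⟩,
  ⟨32, [.a5], [.a5]⟩,
  ⟨64, [.a6], [.a6]⟩,
  ⟨256, [.a8], [.a8]⟩]
def B1244 : List Gv := [⟨[.a0, .a11], [.a0, .a2, .a3, .a4, .a5, .a6, .a7, .a9, .a11]⟩, ⟨[.a2, .a9, .a11], [.a2, .a6, .a8, .a9, .a11]⟩]
def D1244 : List Dv := [⟨[.a3, .a4, .a5, .a7, .a8, .a11], [1, 0, 0], []⟩,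
  ⟨[.a4, .a5, .a6, .a7, .a11], [2, 2, 1], [1, 2]⟩,
  ⟨[.a6, .a8], [3, 3], []⟩,
  ⟨[.a5, .a6, .a8], [1, 4, 2, 3], [3, 2]⟩,
  ⟨[.a8], [1, 3, 3], []⟩,
  ⟨[.a6], [2], [0]⟩,
  ⟨[.a5], [2], [0, 1]⟩,
  ⟨[.a4, .a7, .a11], [5], [0, 1]⟩,
  ⟨[.a3], [7], [0, 1, 3]⟩]
def C1244 : List Ch := [⟨P790, 0, [.a0, .a1, .a3, .a5, .a6, .a7, .a8, .a9, .a10], [.a0, .a10, .a11]⟩,
  ⟨P886, 1, [], []⟩,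
  ⟨P888, 0, [], []⟩]
def N1244 : List Ent := [⟨1, [.a0, .a11], [.a0, .a2, .a3, .a4, .a5, .a6, .a7, .a9, .a11]⟩,
  ⟨4, [.a2, .a9, .a11], [.a2, .a6, .a8, .a9, .a11]⟩,
  ⟨8, [.a3], [.a3]⟩,
  ⟨16, [.a4, .a7, .a11], [.a4, .a5, .a6, .a7, .a8, .a11]⟩,
  ⟨32, [.a5], [.a5]⟩,
  ⟨64, [.a6], [.a6]⟩,
  ⟨256, [.a8], [.a8]⟩,
  ⟨512, [.a9], [.a9]⟩,
  ⟨2048, [.a11], [.a11]⟩]
theorem bad1244 (c : CtxF Goal γ) : Bad Goal γ [] P1244 :=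
  c.toCtx.bnd (B := B1244) (D := D1244) (I := [9, 10, 0, 1, 2, 3, 4]) (r := 2) (C := C1244) (N := N1244) (by decide +kernel) (by decide +kernel) (by decide +kernel) (by decide +kernel)
    (allB_cons (bad790 c) (allB_cons (bad886 c) (allB_cons (bad888 c) (allB_nil))))

def P1245 : List Ent := [⟨1, [.a0], [.a0]⟩,
  ⟨4, [.a2], [.a2]⟩,
  ⟨8, [.a3, .a4, .a7, .a9], [.a3, .a4, .a6, .a7, .a9]⟩,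
  ⟨32, [.a5], [.a5]⟩,
  ⟨64, [.a6], [.a6]⟩,
  ⟨256, [.a8], [.a8]⟩,
  ⟨2048, [.a11], [.a11]⟩]
def B1245 : List Gv := [⟨[.a0], [.a0]⟩, ⟨[.a2], [.a2]⟩, ⟨[.a11], [.a11]⟩]
def D1245 : List Dv := [⟨[.a3, .a4, .a7, .a9], [1, 2, 0], [0, 2]⟩,
  ⟨[.a5, .a6, .a8], [3, 2], [2, 3]⟩,
  ⟨[.a8], [0, 1, 2], [2, 1]⟩,
  ⟨[.a6, .a8], [1, 2, 4], [4, 2]⟩,
  ⟨[.a6], [0], [1]⟩,
  ⟨[.a5], [3], [0, 2]⟩]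
def C1245 : List Ch := [⟨P786, 0, [.a1], [.a1, .a2]⟩,
  ⟨P884, 1, [], []⟩,
  ⟨P884, 0, [.a4], [.a4, .a5]⟩,
  ⟨P893, 2, [], []⟩,
  ⟨P894, 0, [], []⟩,
  ⟨P891, 1, [.a1], [.a1, .a2]⟩,
  ⟨P891, 0, [.a1, .a3, .a4], [.a1, .a2, .a4, .a5]⟩]
def N1245 : List Ent := [⟨1, [.a0], [.a0]⟩,
  ⟨4, [.a2], [.a2]⟩,
  ⟨8, [.a3, .a4, .a7, .a9], [.a3, .a4, .a6, .a7, .a9]⟩,
  ⟨16, [.a4], [.a4, .a5]⟩,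
  ⟨32, [.a5], [.a5]⟩,
  ⟨64, [.a6], [.a6]⟩,
  ⟨128, [.a7, .a9], [.a7, .a8, .a9]⟩,
  ⟨256, [.a8], [.a8]⟩,
  ⟨2048, [.a11], [.a11]⟩]
theorem bad1245 (c : CtxF Goal γ) : Bad Goal γ [] P1245 :=
  c.toCtx.bnd (B := B1245) (D := D1245) (I := [6, 7, 5, 0, 1, 3, 8]) (r := 3) (C := C1245) (N := N1245) (by decide +kernel) (by decide +kernel) (by decide +kernel) (by decide +kernel)
    (allB_cons (bad786 c) (allB_cons (bad884 c) (allB_cons (bad884 c) (allB_cons (bad893 c) (allB_cons (bad894 c) (allB_cons (bad891 c) (allB_cons (bad891 c) (allB_nil))))))))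

def P1246 : List Ent := [⟨1, [.a0], [.a0]⟩,
  ⟨4, [.a2, .a3], [.a2, .a3]⟩,
  ⟨16, [.a4, .a7, .a9], [.a4, .a5, .a6, .a7, .a9]⟩,
  ⟨32, [.a5], [.a5]⟩,
  ⟨64, [.a6], [.a6]⟩,
  ⟨256, [.a8], [.a8]⟩,
  ⟨2048, [.a11], [.a11]⟩]
def B1246 : List Gv := [⟨[.a0], [.a0]⟩, ⟨[.a2, .a3], [.a2, .a3]⟩, ⟨[.a8], [.a8]⟩, ⟨[.a11], [.a11]⟩]
def D1246 : List Dv := [⟨[.a5], [2, 0], [0, 2]⟩,
  ⟨[.a4, .a7, .a9], [2, 4, 1], [1, 4]⟩,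
  ⟨[.a6], [1, 5, 3], [3, 5]⟩]
def C1246 : List Ch := [⟨P779, 0, [.a10], [.a10, .a11]⟩,
  ⟨P884, 1, [], []⟩,
  ⟨P884, 0, [.a7], [.a7, .a8]⟩,
  ⟨P895, 2, [], []⟩,
  ⟨P896, 0, [], []⟩,
  ⟨P897, 1, [], []⟩,
  ⟨P897, 0, [.a7], [.a7, .a8]⟩,
  ⟨P898, 3, [], []⟩,
  ⟨P899, 0, [], []⟩,
  ⟨P892, 1, [.a1], [.a1, .a2]⟩,
  ⟨P892, 0, [.a1, .a7], [.a1, .a2, .a7, .a8]⟩,
  ⟨P895, 2, [.a3], [.a3]⟩,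
  ⟨P896, 0, [.a3], [.a3]⟩,
  ⟨P897, 1, [.a3], [.a3]⟩,
  ⟨P897, 0, [.a3, .a7], [.a3, .a5, .a7, .a8]⟩]
def S1246 : List St := [.cent 1 1 0 [⟨32, [.a5], [.a5]⟩,
  ⟨64, [.a6], [.a6]⟩],
  .cent 2 2 0 [⟨4, [.a2, .a3], [.a2, .a3]⟩,
  ⟨16, [.a4, .a7, .a9], [.a4, .a5, .a6, .a7, .a9]⟩,
  ⟨32, [.a5], [.a5]⟩,
  ⟨64, [.a6], [.a6]⟩,
  ⟨256, [.a8], [.a8]⟩]]
theorem bad1246 (c : CtxF Goal γ) : Bad Goal γ [] P1246 :=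
  c.toCtx.chn (B := B1246) (D := D1246) (I := [3, 4, 1, 2, 0, 5, 6]) (r := 4) (C := C1246) (l := S1246) (x := ⟨[.a7], [.a7, .a8]⟩) (ix := [0, 1]) (by decide +kernel) (by decide +kernel) (by decide +kernel) (by decide +kernel)
    (allB_cons (bad779 c) (allB_cons (bad884 c) (allB_cons (bad884 c) (allB_cons (bad895 c) (allB_cons (bad896 c) (allB_cons (bad897 c) (allB_cons (bad897 c) (allB_cons (bad898 c) (allB_cons (bad899 c) (allB_cons (bad892 c) (allB_cons (bad892 c) (allB_cons (bad895 c) (allB_cons (bad896 c) (allB_cons (bad897 c) (allB_cons (bad897 c) (allB_nil))))))))))))))))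

def P1247 : List Ent := [⟨1, [.a0], [.a0]⟩,
  ⟨4, [.a2], [.a2]⟩,
  ⟨8, [.a3], [.a3]⟩,
  ⟨16, [.a4, .a7, .a9], [.a4, .a5, .a6, .a7, .a9]⟩,
  ⟨32, [.a5], [.a5]⟩,
  ⟨64, [.a6], [.a6]⟩,
  ⟨256, [.a8], [.a8]⟩]
def B1247 : List Gv := [⟨[.a0], [.a0]⟩, ⟨[.a2], [.a2]⟩, ⟨[.a3], [.a3]⟩, ⟨[.a4, .a7, .a9], [.a4, .a5, .a6, .a7, .a9]⟩, ⟨[.a8], [.a8]⟩]
def D1247 : List Dv := [⟨[.a5, .a6], [3, 0], [0, 3]⟩,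
  ⟨[.a6], [0, 4, 2], [2, 4]⟩,
  ⟨[.a5], [1], [0]⟩]
def C1247 : List Ch := [⟨P788, 0, [.a10], [.a10, .a11]⟩,
  ⟨P900, 1, [], []⟩,
  ⟨P900, 0, [.a4], [.a4, .a5]⟩,
  ⟨P893, 2, [.a1], [.a1, .a2]⟩,
  ⟨P893, 0, [.a1, .a7], [.a1, .a2, .a7, .a8]⟩,
  ⟨P898, 1, [], []⟩,
  ⟨P898, 0, [.a4], [.a4, .a5]⟩,
  ⟨P901, 3, [], []⟩,
  ⟨P901, 0, [.a11], [.a11]⟩,
  ⟨P885, 1, [], []⟩,
  ⟨P885, 0, [.a4], [.a4, .a5]⟩,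
  ⟨P893, 2, [], []⟩,
  ⟨P893, 0, [.a7], [.a7, .a8]⟩,
  ⟨P898, 1, [.a1], [.a1, .a2]⟩,
  ⟨P898, 0, [.a1, .a3, .a4], [.a1, .a2, .a4, .a5]⟩,
  ⟨P902, 4, [], []⟩,
  ⟨P903, 0, [], []⟩,
  ⟨P904, 1, [], []⟩,
  ⟨P904, 0, [.a7], [.a7, .a8]⟩,
  ⟨P904, 2, [.a7, .a11], [.a7, .a8, .a11]⟩,
  ⟨P904, 0, [.a11], [.a11]⟩,
  ⟨P902, 1, [.a11], [.a11]⟩,
  ⟨P903, 0, [.a11], [.a11]⟩,
  ⟨P902, 3, [.a1], [.a1, .a2]⟩,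
  ⟨P903, 0, [.a1], [.a1, .a2]⟩,
  ⟨P904, 1, [.a1], [.a1, .a2]⟩,
  ⟨P904, 0, [.a4], [.a4, .a5]⟩,
  ⟨P904, 2, [.a9, .a11], [.a9, .a11]⟩,
  ⟨P904, 0, [.a0, .a1, .a3, .a5, .a6, .a7, .a8, .a9, .a11], [.a0, .a1, .a2, .a3, .a4, .a6, .a8, .a9, .a11]⟩,
  ⟨P903, 1, [.a0, .a1, .a3, .a5, .a6, .a7, .a8, .a9, .a11], [.a0, .a1, .a2, .a3, .a4, .a6, .a8, .a9, .a11]⟩,
  ⟨P902, 0, [.a0, .a1, .a3, .a5, .a6, .a7, .a8, .a9, .a11], [.a0, .a1, .a2, .a3, .a4, .a6, .a8, .a9, .a11]⟩]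
def N1247 : List Ent := [⟨1, [.a0], [.a0]⟩,
  ⟨2, [.a1], [.a1, .a2]⟩,
  ⟨4, [.a2], [.a2]⟩,
  ⟨8, [.a3], [.a3]⟩,
  ⟨16, [.a4, .a7, .a9], [.a4, .a5, .a6, .a7, .a9]⟩,
  ⟨32, [.a5], [.a5]⟩,
  ⟨64, [.a6], [.a6]⟩,
  ⟨128, [.a7], [.a7, .a8]⟩,
  ⟨256, [.a8], [.a8]⟩,
  ⟨512, [.a9], [.a9]⟩,
  ⟨2048, [.a11], [.a11]⟩]
theorem bad1247 (c : CtxF Goal γ) : Bad Goal γ [] P1247 :=
  c.toCtx.bnd (B := B1247) (D := D1247) (I := [3, 4, 5, 6, 0, 1, 7]) (r := 5) (C := C1247) (N := N1247) (by decide +kernel) (by decide +kernel) (by decide +kernel) (by decide +kernel)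
    (allB_cons (bad788 c) (allB_cons (bad900 c) (allB_cons (bad900 c) (allB_cons (bad893 c) (allB_cons (bad893 c) (allB_cons (bad898 c) (allB_cons (bad898 c) (allB_cons (bad901 c) (allB_cons (bad901 c) (allB_cons (bad885 c) (allB_cons (bad885 c) (allB_cons (bad893 c) (allB_cons (bad893 c) (allB_cons (bad898 c) (allB_cons (bad898 c) (allB_cons (bad902 c) (allB_cons (bad903 c) (allB_cons (bad904 c) (allB_cons (bad904 c) (allB_cons (bad904 c) (allB_cons (bad904 c) (allB_cons (bad902 c) (allB_cons (bad903 c) (allB_cons (bad902 c) (allB_cons (bad903 c) (allB_cons (bad904 c) (allB_cons (bad904 c) (allB_cons (bad904 c) (allB_cons (bad904 c) (allB_cons (bad903 c) (allB_cons (bad902 c) (allB_nil))))))))))))))))))))))))))))))))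

def P1248 : List Ent := [⟨1, [.a0, .a11], [.a0, .a2, .a3, .a4, .a5, .a6, .a7, .a9, .a11]⟩,
  ⟨4, [.a2], [.a2]⟩,
  ⟨8, [.a3], [.a3]⟩,
  ⟨16, [.a4, .a7, .a9], [.a4, .a5, .a6, .a7, .a9]⟩,
  ⟨32, [.a5], [.a5]⟩,
  ⟨64, [.a6], [.a6]⟩,
  ⟨256, [.a8], [.a8]⟩]
def B1248 : List Gv := [⟨[.a0, .a11], [.a0, .a2, .a3, .a4, .a5, .a6, .a7, .a9, .a11]⟩, ⟨[.a2], [.a2]⟩, ⟨[.a3], [.a3]⟩]
def D1248 : List Dv := [⟨[.a4, .a5, .a6, .a7, .a9], [2, 1, 0, 0], []⟩,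
  ⟨[.a6, .a8], [2, 1], [1, 2]⟩,
  ⟨[.a5, .a8], [4, 2], [2, 4]⟩,
  ⟨[.a8], [0, 2, 4], [4, 2]⟩,
  ⟨[.a6], [2], [0]⟩,
  ⟨[.a5], [2], [1]⟩,
  ⟨[.a4, .a7, .a9], [5], [0, 1]⟩]
def C1248 : List Ch := [⟨P788, 0, [.a10], [.a10, .a11]⟩,
  ⟨P886, 1, [], []⟩,
  ⟨P886, 0, [.a4], [.a4, .a5]⟩,
  ⟨P894, 2, [], []⟩,
  ⟨P894, 0, [.a7], [.a7, .a8]⟩,
  ⟨P899, 1, [], []⟩,
  ⟨P899, 0, [.a4], [.a4, .a5]⟩]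
def N1248 : List Ent := [⟨1, [.a0, .a11], [.a0, .a2, .a3, .a4, .a5, .a6, .a7, .a9, .a11]⟩,
  ⟨4, [.a2], [.a2]⟩,
  ⟨8, [.a3], [.a3]⟩,
  ⟨16, [.a4, .a7, .a9], [.a4, .a5, .a6, .a7, .a9]⟩,
  ⟨32, [.a5], [.a5]⟩,
  ⟨64, [.a6], [.a6]⟩,
  ⟨128, [.a7], [.a7, .a8]⟩,
  ⟨256, [.a8], [.a8]⟩,
  ⟨512, [.a9], [.a9]⟩,
  ⟨2048, [.a11], [.a11]⟩]
theorem bad1248 (c : CtxF Goal γ) : Bad Goal γ [] P1248 :=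
  c.toCtx.bnd (B := B1248) (D := D1248) (I := [7, 8, 9, 0, 1, 2, 3]) (r := 3) (C := C1248) (N := N1248) (by decide +kernel) (by decide +kernel) (by decide +kernel) (by decide +kernel)
    (allB_cons (bad788 c) (allB_cons (bad886 c) (allB_cons (bad886 c) (allB_cons (bad894 c) (allB_cons (bad894 c) (allB_cons (bad899 c) (allB_cons (bad899 c) (allB_nil))))))))

def P1249 : List Ent := [⟨1, [.a0], [.a0]⟩,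
  ⟨4, [.a2], [.a2]⟩,
  ⟨8, [.a3, .a11], [.a3, .a8, .a11]⟩,
  ⟨16, [.a4, .a7, .a9, .a11], [.a4, .a5, .a6, .a7, .a9, .a11]⟩,
  ⟨32, [.a5], [.a5]⟩,
  ⟨64, [.a6], [.a6]⟩,
  ⟨256, [.a8], [.a8]⟩]
def B1249 : List Gv := [⟨[.a0], [.a0]⟩, ⟨[.a2], [.a2]⟩, ⟨[.a3, .a11], [.a3, .a8, .a11]⟩]
def D1249 : List Dv := [⟨[.a4, .a5, .a7, .a8, .a9, .a11], [2, 1, 2, 0], [0, 2]⟩,
  ⟨[.a5, .a6, .a8], [3, 2], [2, 3]⟩,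
  ⟨[.a8], [4, 4], []⟩,
  ⟨[.a6, .a8], [2, 4], [4, 2]⟩,
  ⟨[.a6], [0], [1]⟩,
  ⟨[.a5], [3], [0, 2]⟩,
  ⟨[.a4, .a7, .a9, .a11], [5], [0, 3]⟩]
def C1249 : List Ch := [⟨P791, 0, [.a10], [.a10, .a11]⟩,
  ⟨P887, 1, [], []⟩,
  ⟨P887, 0, [.a4], [.a4, .a5]⟩,
  ⟨P893, 2, [], []⟩,
  ⟨P894, 0, [.a7], [.a7, .a8]⟩,
  ⟨P892, 1, [.a1], [.a1, .a2]⟩,
  ⟨P892, 0, [.a1, .a3, .a4], [.a1, .a2, .a4, .a5]⟩]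
def N1249 : List Ent := [⟨1, [.a0], [.a0]⟩,
  ⟨4, [.a2], [.a2]⟩,
  ⟨8, [.a3, .a11], [.a3, .a8, .a11]⟩,
  ⟨16, [.a4, .a7, .a9, .a11], [.a4, .a5, .a6, .a7, .a9, .a11]⟩,
  ⟨32, [.a5], [.a5]⟩,
  ⟨64, [.a6], [.a6]⟩,
  ⟨128, [.a7, .a9], [.a7, .a8, .a9]⟩,
  ⟨256, [.a8], [.a8]⟩,
  ⟨2048, [.a11], [.a11]⟩]
theorem bad1249 (c : CtxF Goal γ) : Bad Goal γ [] P1249 :=
  c.toCtx.bnd (B := B1249) (D := D1249) (I := [7, 8, 9, 0, 1, 2, 4]) (r := 3) (C := C1249) (N := N1249) (by decide +kernel) (by decide +kernel) (by decide +kernel) (by decide +kernel)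
    (allB_cons (bad791 c) (allB_cons (bad887 c) (allB_cons (bad887 c) (allB_cons (bad893 c) (allB_cons (bad894 c) (allB_cons (bad892 c) (allB_cons (bad892 c) (allB_nil))))))))

def P1250 : List Ent := [⟨1, [.a0], [.a0]⟩,
  ⟨4, [.a2, .a11], [.a2, .a5, .a6, .a8, .a11]⟩,
  ⟨8, [.a3, .a11], [.a3, .a8, .a11]⟩,
  ⟨16, [.a4, .a7, .a9], [.a4, .a5, .a6, .a7, .a9]⟩,
  ⟨32, [.a5], [.a5]⟩,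
  ⟨64, [.a6], [.a6]⟩,
  ⟨256, [.a8], [.a8]⟩]
def B1250 : List Gv := [⟨[.a0], [.a0]⟩, ⟨[.a2, .a11], [.a2, .a5, .a6, .a8, .a11]⟩, ⟨[.a3, .a11], [.a3, .a8, .a11]⟩]
def D1250 : List Dv := [⟨[.a4, .a6, .a7, .a8, .a9], [2, 1, 1, 0], [0, 1]⟩,
  ⟨[.a5, .a6, .a8], [2, 2], []⟩,
  ⟨[.a8], [0, 1, 4, 3, 4, 2], [2, 4]⟩,
  ⟨[.a6], [2, 3], [3, 2]⟩,
  ⟨[.a5], [2], [0, 1]⟩,
  ⟨[.a4, .a7, .a9], [4], [1, 2]⟩]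
def C1250 : List Ch := [⟨P789, 0, [.a10], [.a10, .a11]⟩,
  ⟨P887, 1, [], []⟩,
  ⟨P887, 0, [.a7], [.a7, .a8]⟩,
  ⟨P891, 2, [.a1], [.a1, .a2]⟩,
  ⟨P891, 0, [.a1, .a7], [.a1, .a2, .a7, .a8]⟩,
  ⟨P898, 1, [], []⟩,
  ⟨P899, 0, [.a4], [.a4, .a5]⟩]
def N1250 : List Ent := [⟨1, [.a0], [.a0]⟩,
  ⟨4, [.a2, .a11], [.a2, .a5, .a6, .a8, .a11]⟩,
  ⟨8, [.a3, .a11], [.a3, .a8, .a11]⟩,
  ⟨16, [.a4, .a7, .a9], [.a4, .a5, .a6, .a7, .a9]⟩,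
  ⟨32, [.a5], [.a5]⟩,
  ⟨64, [.a6], [.a6]⟩,
  ⟨128, [.a7], [.a7, .a8]⟩,
  ⟨256, [.a8], [.a8]⟩,
  ⟨2048, [.a11], [.a11]⟩]
theorem bad1250 (c : CtxF Goal γ) : Bad Goal γ [] P1250 :=
  c.toCtx.bnd (B := B1250) (D := D1250) (I := [6, 7, 8, 0, 1, 2, 3]) (r := 3) (C := C1250) (N := N1250) (by decide +kernel) (by decide +kernel) (by decide +kernel) (by decide +kernel)
    (allB_cons (bad789 c) (allB_cons (bad887 c) (allB_cons (bad887 c) (allB_cons (bad891 c) (allB_cons (bad891 c) (allB_cons (bad898 c) (allB_cons (bad899 c) (allB_nil))))))))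

def P1251 : List Ent := [⟨1, [.a0, .a9], [.a0, .a3, .a6, .a9]⟩,
  ⟨4, [.a2], [.a2]⟩,
  ⟨8, [.a3], [.a3]⟩,
  ⟨16, [.a4, .a7, .a9], [.a4, .a5, .a6, .a7, .a9]⟩,
  ⟨32, [.a5], [.a5]⟩,
  ⟨64, [.a6], [.a6]⟩,
  ⟨256, [.a8], [.a8]⟩]
def B1251 : List Gv := [⟨[.a0, .a9], [.a0, .a3, .a6, .a9]⟩, ⟨[.a2], [.a2]⟩, ⟨[.a4, .a7, .a9], [.a4, .a5, .a6, .a7, .a9]⟩]
def D1251 : List Dv := [⟨[.a3, .a6], [0, 0], []⟩,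
  ⟨[.a5], [2, 1], [1, 2]⟩,
  ⟨[.a6, .a8], [4, 2], [2, 4]⟩,
  ⟨[.a8], [0, 1, 5, 5], []⟩,
  ⟨[.a6], [1], [0]⟩,
  ⟨[.a3], [4], [0]⟩]
def C1251 : List Ch := [⟨P788, 0, [.a10], [.a10, .a11]⟩,
  ⟨P905, 1, [], []⟩,
  ⟨P905, 0, [.a4], [.a4, .a5]⟩,
  ⟨P906, 2, [], []⟩,
  ⟨P906, 0, [.a11], [.a11]⟩,
  ⟨P888, 1, [.a4], [.a4, .a5]⟩,
  ⟨P888, 0, [], []⟩]
def N1251 : List Ent := [⟨1, [.a0, .a9], [.a0, .a3, .a6, .a9]⟩,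
  ⟨2, [.a1], [.a1, .a2]⟩,
  ⟨4, [.a2], [.a2]⟩,
  ⟨8, [.a3], [.a3]⟩,
  ⟨16, [.a4, .a7, .a9], [.a4, .a5, .a6, .a7, .a9]⟩,
  ⟨32, [.a5], [.a5]⟩,
  ⟨64, [.a6], [.a6]⟩,
  ⟨128, [.a7], [.a7, .a8]⟩,
  ⟨256, [.a8], [.a8]⟩,
  ⟨512, [.a9], [.a9]⟩,
  ⟨2048, [.a11], [.a11]⟩]
theorem bad1251 (c : CtxF Goal γ) : Bad Goal γ [] P1251 :=
  c.toCtx.bnd (B := B1251) (D := D1251) (I := [6, 7, 0, 8, 4, 1, 2]) (r := 3) (C := C1251) (N := N1251) (by decide +kernel) (by decide +kernel) (by decide +kernel) (by decide +kernel)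
    (allB_cons (bad788 c) (allB_cons (bad905 c) (allB_cons (bad905 c) (allB_cons (bad906 c) (allB_cons (bad906 c) (allB_cons (bad888 c) (allB_cons (bad888 c) (allB_nil))))))))

def P1252 : List Ent := [⟨1, [.a0], [.a0]⟩,
  ⟨4, [.a2, .a4, .a7], [.a2, .a4, .a5, .a6, .a7, .a8]⟩,
  ⟨8, [.a3], [.a3]⟩,
  ⟨32, [.a5], [.a5]⟩,
  ⟨64, [.a6], [.a6]⟩,
  ⟨256, [.a8], [.a8]⟩,
  ⟨512, [.a9], [.a9]⟩]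
def B1252 : List Gv := [⟨[.a0], [.a0]⟩, ⟨[.a2, .a4, .a7], [.a2, .a4, .a5, .a6, .a7, .a8]⟩, ⟨[.a9], [.a9]⟩]
def D1252 : List Dv := [⟨[.a3], [1, 0], [0, 1]⟩,
  ⟨[.a5, .a6, .a8], [2, 2], []⟩,
  ⟨[.a6], [1, 4, 2], [2, 4]⟩,
  ⟨[.a8], [0, 1, 2, 4], [4, 2]⟩,
  ⟨[.a5], [2], [1, 0]⟩]
def C1252 : List Ch := [⟨P720, 0, [], []⟩,
  ⟨P907, 1, [], []⟩,
  ⟨P907, 0, [.a11], [.a11]⟩,
  ⟨P908, 2, [], []⟩,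
  ⟨P908, 0, [.a11], [.a11]⟩,
  ⟨P885, 1, [], []⟩,
  ⟨P888, 0, [.a4], [.a4, .a5]⟩]
def N1252 : List Ent := [⟨1, [.a0], [.a0]⟩,
  ⟨2, [.a1], [.a1, .a2]⟩,
  ⟨4, [.a2, .a4, .a7], [.a2, .a4, .a5, .a6, .a7, .a8]⟩,
  ⟨8, [.a3], [.a3]⟩,
  ⟨16, [.a4, .a7], [.a4, .a5, .a6, .a7, .a8]⟩,
  ⟨32, [.a5], [.a5]⟩,
  ⟨64, [.a6], [.a6]⟩,
  ⟨256, [.a8], [.a8]⟩,
  ⟨512, [.a9], [.a9]⟩,
  ⟨2048, [.a11], [.a11]⟩]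
theorem bad1252 (c : CtxF Goal γ) : Bad Goal γ [] P1252 :=
  c.toCtx.bnd (B := B1252) (D := D1252) (I := [5, 6, 4, 0, 2, 1, 7]) (r := 3) (C := C1252) (N := N1252) (by decide +kernel) (by decide +kernel) (by decide +kernel) (by decide +kernel)
    (allB_cons (bad720 c) (allB_cons (bad907 c) (allB_cons (bad907 c) (allB_cons (bad908 c) (allB_cons (bad908 c) (allB_cons (bad885 c) (allB_cons (bad888 c) (allB_nil))))))))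

def P1253 : List Ent := [⟨1, [.a0, .a11], [.a0, .a2, .a3, .a4, .a5, .a6, .a7, .a9, .a11]⟩,
  ⟨4, [.a2, .a4, .a7], [.a2, .a4, .a5, .a6, .a7, .a8]⟩,
  ⟨8, [.a3], [.a3]⟩,
  ⟨32, [.a5], [.a5]⟩,
  ⟨64, [.a6], [.a6]⟩,
  ⟨256, [.a8], [.a8]⟩,
  ⟨512, [.a9], [.a9]⟩]
def B1253 : List Gv := [⟨[.a0, .a11], [.a0, .a2, .a3, .a4, .a5, .a6, .a7, .a9, .a11]⟩, ⟨[.a2, .a4, .a7], [.a2, .a4, .a5, .a6, .a7, .a8]⟩]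
def D1253 : List Dv := [⟨[.a3, .a5, .a8, .a9], [1, 0, 0], []⟩,
  ⟨[.a5, .a6, .a9], [0, 2, 1], [1, 2]⟩,
  ⟨[.a8, .a9], [0, 3, 3], []⟩,
  ⟨[.a9], [0, 2, 4], [4, 2]⟩,
  ⟨[.a6, .a8, .a9], [2, 2, 5], [5, 2]⟩,
  ⟨[.a8], [2], [1]⟩,
  ⟨[.a6], [1], [0, 2]⟩,
  ⟨[.a5], [5], [0, 3]⟩,
  ⟨[.a3], [7], [0, 2, 4]⟩]
def C1253 : List Ch := [⟨P720, 0, [], []⟩,
  ⟨P886, 1, [], []⟩,
  ⟨P886, 0, [.a1], [.a1, .a2]⟩]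
def N1253 : List Ent := [⟨1, [.a0, .a11], [.a0, .a2, .a3, .a4, .a5, .a6, .a7, .a9, .a11]⟩,
  ⟨2, [.a1], [.a1, .a2]⟩,
  ⟨4, [.a2, .a4, .a7], [.a2, .a4, .a5, .a6, .a7, .a8]⟩,
  ⟨8, [.a3], [.a3]⟩,
  ⟨16, [.a4, .a7], [.a4, .a5, .a6, .a7, .a8]⟩,
  ⟨32, [.a5], [.a5]⟩,
  ⟨64, [.a6], [.a6]⟩,
  ⟨256, [.a8], [.a8]⟩,
  ⟨512, [.a9], [.a9]⟩,
  ⟨2048, [.a11], [.a11]⟩]
theorem bad1253 (c : CtxF Goal γ) : Bad Goal γ [] P1253 :=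
  c.toCtx.bnd (B := B1253) (D := D1253) (I := [9, 10, 0, 1, 2, 3, 5]) (r := 2) (C := C1253) (N := N1253) (by decide +kernel) (by decide +kernel) (by decide +kernel) (by decide +kernel)
    (allB_cons (bad720 c) (allB_cons (bad886 c) (allB_cons (bad886 c) (allB_nil))))

def P1254 : List Ent := [⟨1, [.a0], [.a0]⟩,
  ⟨8, [.a3], [.a3]⟩,
  ⟨16, [.a4, .a7], [.a4, .a5, .a6, .a7, .a8]⟩,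
  ⟨32, [.a5], [.a5]⟩,
  ⟨64, [.a6], [.a6]⟩,
  ⟨256, [.a8], [.a8]⟩,
  ⟨512, [.a9], [.a9]⟩]
def B1254 : List Gv := [⟨[.a0], [.a0]⟩, ⟨[.a4, .a7], [.a4, .a5, .a6, .a7, .a8]⟩, ⟨[.a9], [.a9]⟩]
def D1254 : List Dv := [⟨[.a3], [1, 0], [0, 1]⟩,
  ⟨[.a5, .a6, .a8], [2, 2], []⟩,
  ⟨[.a6], [1, 4, 2], [2, 4]⟩,
  ⟨[.a8], [5, 4], [4, 5]⟩,
  ⟨[.a5], [2], [1, 0]⟩]
def C1254 : List Ch := [⟨P635, 0, [], []⟩,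
  ⟨P907, 1, [], []⟩,
  ⟨P907, 0, [.a0, .a1, .a3, .a5, .a6, .a7, .a8, .a9, .a11], [.a0, .a1, .a2, .a3, .a4, .a6, .a8, .a9, .a11]⟩,
  ⟨P889, 2, [], []⟩,
  ⟨P889, 0, [.a0, .a1, .a3, .a5, .a6, .a7, .a8, .a9, .a11], [.a0, .a1, .a2, .a3, .a4, .a6, .a8, .a9, .a11]⟩,
  ⟨P900, 1, [], []⟩,
  ⟨P905, 0, [], []⟩]
def N1254 : List Ent := [⟨1, [.a0], [.a0]⟩,
  ⟨2, [.a1], [.a1, .a2]⟩,
  ⟨4, [.a2], [.a2]⟩,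
  ⟨8, [.a3], [.a3]⟩,
  ⟨16, [.a4, .a7], [.a4, .a5, .a6, .a7, .a8]⟩,
  ⟨32, [.a5], [.a5]⟩,
  ⟨64, [.a6], [.a6]⟩,
  ⟨128, [.a7, .a11], [.a7, .a8, .a11]⟩,
  ⟨256, [.a8], [.a8]⟩,
  ⟨512, [.a9], [.a9]⟩]
theorem bad1254 (c : CtxF Goal γ) : Bad Goal γ [] P1254 :=
  c.toCtx.bnd (B := B1254) (D := D1254) (I := [5, 4, 6, 0, 2, 1, 7]) (r := 3) (C := C1254) (N := N1254) (by decide +kernel) (by decide +kernel) (by decide +kernel) (by decide +kernel)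
    (allB_cons (bad635 c) (allB_cons (bad907 c) (allB_cons (bad907 c) (allB_cons (bad889 c) (allB_cons (bad889 c) (allB_cons (bad900 c) (allB_cons (bad905 c) (allB_nil))))))))

def P1255 : List Ent := [⟨1, [.a0], [.a0]⟩,
  ⟨4, [.a2], [.a2]⟩,
  ⟨8, [.a3], [.a3]⟩,
  ⟨32, [.a5], [.a5]⟩,
  ⟨64, [.a6], [.a6]⟩,
  ⟨256, [.a8], [.a8]⟩,
  ⟨512, [.a9], [.a9]⟩]
def B1255 : List Gv := [⟨[.a0], [.a0]⟩, ⟨[.a2], [.a2]⟩, ⟨[.a3], [.a3]⟩, ⟨[.a8], [.a8]⟩, ⟨[.a9], [.a9]⟩]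
def D1255 : List Dv := [⟨[.a5], [3, 0], [0, 3]⟩,
  ⟨[.a6], [3, 5, 1], [1, 5]⟩]
def C1255 : List Ch := [⟨P661, 0, [], []⟩,
  ⟨P907, 1, [], []⟩,
  ⟨P907, 0, [.a4], [.a4, .a5]⟩,
  ⟨P909, 2, [], []⟩,
  ⟨P909, 0, [.a7], [.a7, .a8]⟩,
  ⟨P910, 1, [], []⟩,
  ⟨P910, 0, [.a4], [.a4, .a5]⟩,
  ⟨P911, 3, [], []⟩,
  ⟨P912, 0, [], []⟩,
  ⟨P913, 1, [], []⟩,
  ⟨P913, 0, [.a7], [.a7, .a8]⟩,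
  ⟨P914, 2, [], []⟩,
  ⟨P914, 0, [.a7], [.a7, .a8]⟩,
  ⟨P915, 1, [], []⟩,
  ⟨P916, 0, [], []⟩,
  ⟨P901, 4, [], []⟩,
  ⟨P906, 0, [], []⟩,
  ⟨P890, 1, [], []⟩,
  ⟨P890, 0, [.a4], [.a4, .a5]⟩,
  ⟨P909, 2, [.a1], [.a1, .a2]⟩,
  ⟨P909, 0, [.a1, .a7], [.a1, .a2, .a7, .a8]⟩,
  ⟨P910, 1, [.a1], [.a1, .a2]⟩,
  ⟨P910, 0, [.a1, .a3, .a4], [.a1, .a2, .a4, .a5]⟩,
  ⟨P911, 3, [.a1], [.a1, .a2]⟩,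
  ⟨P912, 0, [.a1], [.a1, .a2]⟩,
  ⟨P913, 1, [.a1], [.a1, .a2]⟩,
  ⟨P913, 0, [.a4], [.a4, .a5]⟩,
  ⟨P914, 2, [.a4], [.a4, .a5]⟩,
  ⟨P914, 0, [.a4, .a6, .a7], [.a4, .a5, .a7, .a8]⟩,
  ⟨P916, 1, [.a4], [.a4, .a5]⟩,
  ⟨P915, 0, [.a4], [.a4, .a5]⟩]
def N1255 : List Ent := [⟨1, [.a0], [.a0]⟩,
  ⟨2, [.a1], [.a1, .a2]⟩,
  ⟨4, [.a2], [.a2]⟩,
  ⟨8, [.a3], [.a3]⟩,
  ⟨16, [.a4], [.a4, .a5]⟩,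
  ⟨32, [.a5], [.a5]⟩,
  ⟨64, [.a6], [.a6]⟩,
  ⟨128, [.a7], [.a7, .a8]⟩,
  ⟨256, [.a8], [.a8]⟩,
  ⟨512, [.a9], [.a9]⟩]
theorem bad1255 (c : CtxF Goal γ) : Bad Goal γ [] P1255 :=
  c.toCtx.bnd (B := B1255) (D := D1255) (I := [2, 3, 4, 1, 0, 5, 6]) (r := 5) (C := C1255) (N := N1255) (by decide +kernel) (by decide +kernel) (by decide +kernel) (by decide +kernel)
    (allB_cons (bad661 c) (allB_cons (bad907 c) (allB_cons (bad907 c) (allB_cons (bad909 c) (allB_cons (bad909 c) (allB_cons (bad910 c) (allB_cons (bad910 c) (allB_cons (bad911 c) (allB_cons (bad912 c) (allB_cons (bad913 c) (allB_cons (bad913 c) (allB_cons (bad914 c) (allB_cons (bad914 c) (allB_cons (bad915 c) (allB_cons (bad916 c) (allB_cons (bad901 c) (allB_cons (bad906 c) (allB_cons (bad890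 c) (allB_cons (bad890 c) (allB_cons (bad909 c) (allB_cons (bad909 c) (allB_cons (bad910 c) (allB_cons (bad910 c) (allB_cons (bad911 c) (allB_cons (bad912 c) (allB_cons (bad913 c) (allB_cons (bad913 c) (allB_cons (bad914 c) (allB_cons (bad914 c) (allB_cons (bad916 c) (allB_cons (bad915 c) (allB_nil))))))))))))))))))))))))))))))))

def P1256 : List Ent := [⟨1, [.a0], [.a0]⟩,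
  ⟨4, [.a2], [.a2]⟩,
  ⟨8, [.a3], [.a3]⟩,
  ⟨16, [.a4, .a7], [.a4, .a5, .a6, .a7, .a8]⟩,
  ⟨32, [.a5], [.a5]⟩,
  ⟨64, [.a6], [.a6]⟩,
  ⟨256, [.a8], [.a8]⟩]
def B1256 : List Gv := [⟨[.a0], [.a0]⟩, ⟨[.a2], [.a2]⟩, ⟨[.a4, .a7], [.a4, .a5, .a6, .a7, .a8]⟩, ⟨[.a6], [.a6]⟩]
def D1256 : List Dv := [⟨[.a3], [2, 0], [0, 2]⟩,
  ⟨[.a5, .a6, .a8], [3, 3], []⟩,
  ⟨[.a8], [5, 0, 1, 4], [4, 1]⟩,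
  ⟨[.a5], [1], [6, 0]⟩]
def C1256 : List Ch := [⟨P788, 0, [], []⟩,
  ⟨P889, 1, [], []⟩,
  ⟨P889, 0, [.a4], [.a4, .a5]⟩,
  ⟨P901, 2, [], []⟩,
  ⟨P906, 0, [.a11], [.a11]⟩,
  ⟨P908, 1, [], []⟩,
  ⟨P908, 0, [.a4], [.a4, .a5]⟩,
  ⟨P917, 3, [], []⟩,
  ⟨P917, 0, [.a4, .a8, .a9], [.a4, .a5, .a9]⟩,
  ⟨P918, 1, [], []⟩,
  ⟨P919, 0, [], []⟩,
  ⟨P917, 2, [.a4], [.a4, .a5]⟩,
  ⟨P917, 0, [.a9], [.a9]⟩,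
  ⟨P919, 1, [.a4], [.a4, .a5]⟩,
  ⟨P918, 0, [.a4], [.a4, .a5]⟩]
def N1256 : List Ent := [⟨1, [.a0], [.a0]⟩,
  ⟨2, [.a1], [.a1, .a2]⟩,
  ⟨4, [.a2], [.a2]⟩,
  ⟨8, [.a3], [.a3]⟩,
  ⟨16, [.a4, .a7], [.a4, .a5, .a6, .a7, .a8]⟩,
  ⟨32, [.a5], [.a5]⟩,
  ⟨64, [.a6], [.a6]⟩,
  ⟨128, [.a7], [.a7, .a8]⟩,
  ⟨256, [.a8], [.a8]⟩,
  ⟨512, [.a9], [.a9]⟩]
theorem bad1256 (c : CtxF Goal γ) : Bad Goal γ [] P1256 :=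
  c.toCtx.bnd (B := B1256) (D := D1256) (I := [4, 5, 3, 6, 0, 7, 1]) (r := 4) (C := C1256) (N := N1256) (by decide +kernel) (by decide +kernel) (by decide +kernel) (by decide +kernel)
    (allB_cons (bad788 c) (allB_cons (bad889 c) (allB_cons (bad889 c) (allB_cons (bad901 c) (allB_cons (bad906 c) (allB_cons (bad908 c) (allB_cons (bad908 c) (allB_cons (bad917 c) (allB_cons (bad917 c) (allB_cons (bad918 c) (allB_cons (bad919 c) (allB_cons (bad917 c) (allB_cons (bad917 c) (allB_cons (bad919 c) (allB_cons (bad918 c) (allB_nil))))))))))))))))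

def P1257 : List Ent := [⟨1, [.a0], [.a0]⟩,
  ⟨4, [.a2, .a9], [.a2, .a5, .a9]⟩,
  ⟨8, [.a3], [.a3]⟩,
  ⟨16, [.a4, .a7, .a9], [.a4, .a5, .a6, .a7, .a9]⟩,
  ⟨32, [.a5], [.a5]⟩,
  ⟨64, [.a6], [.a6]⟩,
  ⟨256, [.a8], [.a8]⟩]
def B1257 : List Gv := [⟨[.a0], [.a0]⟩, ⟨[.a2, .a9], [.a2, .a5, .a9]⟩, ⟨[.a4, .a7, .a9], [.a4, .a5, .a6, .a7, .a9]⟩]
def D1257 : List Dv := [⟨[.a3, .a6], [1, 0], [0, 1]⟩,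
  ⟨[.a5], [2, 2], []⟩,
  ⟨[.a6], [0, 4, 2], [2, 4]⟩,
  ⟨[.a8], [1, 5, 4], [4, 5]⟩,
  ⟨[.a3], [3], [1]⟩]
def C1257 : List Ch := [⟨P792, 0, [.a10], [.a10, .a11]⟩,
  ⟨P900, 1, [], []⟩,
  ⟨P905, 0, [.a4], [.a4, .a5]⟩,
  ⟨P890, 2, [], []⟩,
  ⟨P890, 0, [.a0, .a1, .a3, .a5, .a6, .a7, .a8, .a9, .a11], [.a0, .a1, .a2, .a3, .a4, .a6, .a8, .a9, .a11]⟩,
  ⟨P908, 1, [], []⟩,
  ⟨P908, 0, [.a0, .a1, .a3, .a5, .a6, .a7, .a8, .a9, .a11], [.a0, .a1, .a2, .a3, .a4, .a6, .a8, .a9, .a11]⟩]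
def N1257 : List Ent := [⟨1, [.a0], [.a0]⟩,
  ⟨2, [.a1], [.a1, .a2]⟩,
  ⟨4, [.a2, .a9], [.a2, .a5, .a9]⟩,
  ⟨8, [.a3], [.a3]⟩,
  ⟨16, [.a4, .a7, .a9], [.a4, .a5, .a6, .a7, .a9]⟩,
  ⟨32, [.a5], [.a5]⟩,
  ⟨64, [.a6], [.a6]⟩,
  ⟨128, [.a7, .a11], [.a7, .a8, .a11]⟩,
  ⟨256, [.a8], [.a8]⟩,
  ⟨512, [.a9], [.a9]⟩]
theorem bad1257 (c : CtxF Goal γ) : Bad Goal γ [] P1257 :=
  c.toCtx.bnd (B := B1257) (D := D1257) (I := [5, 6, 0, 7, 3, 2, 1]) (r := 3) (C := C1257) (N := N1257) (by decide +kernel) (by decide +kernel) (by decide +kernel) (by decide +kernel)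
    (allB_cons (bad792 c) (allB_cons (bad900 c) (allB_cons (bad905 c) (allB_cons (bad890 c) (allB_cons (bad890 c) (allB_cons (bad908 c) (allB_cons (bad908 c) (allB_nil))))))))

def P1258 : List Ent := [⟨1, [.a0], [.a0]⟩,
  ⟨2, [.a1, .a7], [.a1, .a2, .a7, .a8]⟩,
  ⟨4, [.a2, .a8], [.a2, .a8]⟩,
  ⟨8, [.a3, .a8], [.a3, .a8]⟩,
  ⟨32, [.a5], [.a5]⟩,
  ⟨64, [.a6, .a8], [.a6, .a8]⟩,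
  ⟨512, [.a9], [.a9]⟩]
def B1258 : List Gv := [⟨[.a0], [.a0]⟩, ⟨[.a1, .a7], [.a1, .a2, .a7, .a8]⟩, ⟨[.a9], [.a9]⟩]
def D1258 : List Dv := [⟨[.a2, .a3], [1, 0], [0, 1]⟩,
  ⟨[.a3, .a8], [0, 2, 2], []⟩,
  ⟨[.a6, .a8], [0, 4, 2], [2, 4]⟩,
  ⟨[.a5], [2, 4], [4, 2]⟩,
  ⟨[.a2, .a8], [3], [2]⟩]
def C1258 : List Ch := [⟨P857, 0, [.a11], [.a11]⟩,
  ⟨P915, 1, [], []⟩,
  ⟨P912, 0, [.a10], [.a10, .a11]⟩,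
  ⟨P920, 2, [], []⟩,
  ⟨P921, 0, [], []⟩,
  ⟨P922, 1, [], []⟩,
  ⟨P923, 0, [], []⟩]
def N1258 : List Ent := [⟨1, [.a0], [.a0]⟩,
  ⟨2, [.a1, .a7], [.a1, .a2, .a7, .a8]⟩,
  ⟨4, [.a2, .a8], [.a2, .a8]⟩,
  ⟨8, [.a3, .a8], [.a3, .a8]⟩,
  ⟨32, [.a5], [.a5]⟩,
  ⟨64, [.a6, .a8], [.a6, .a8]⟩,
  ⟨128, [.a7], [.a7, .a8]⟩,
  ⟨256, [.a8], [.a8]⟩,
  ⟨512, [.a9], [.a9]⟩]
theorem bad1258 (c : CtxF Goal γ) : Bad Goal γ [] P1258 :=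
  c.toCtx.bnd (B := B1258) (D := D1258) (I := [5, 6, 0, 3, 1, 2, 7]) (r := 3) (C := C1258) (N := N1258) (by decide +kernel) (by decide +kernel) (by decide +kernel) (by decide +kernel)
    (allB_cons (bad857 c) (allB_cons (bad915 c) (allB_cons (bad912 c) (allB_cons (bad920 c) (allB_cons (bad921 c) (allB_cons (bad922 c) (allB_cons (bad923 c) (allB_nil))))))))

def P1259 : List Ent := [⟨1, [.a0, .a8], [.a0, .a5, .a8]⟩,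
  ⟨2, [.a1, .a7], [.a1, .a2, .a7, .a8]⟩,
  ⟨4, [.a2, .a8], [.a2, .a8]⟩,
  ⟨8, [.a3, .a8], [.a3, .a8]⟩,
  ⟨32, [.a5], [.a5]⟩,
  ⟨64, [.a6, .a8], [.a6, .a8]⟩,
  ⟨512, [.a9], [.a9]⟩]
def B1259 : List Gv := [⟨[.a0, .a8], [.a0, .a5, .a8]⟩, ⟨[.a1, .a7], [.a1, .a2, .a7, .a8]⟩, ⟨[.a9], [.a9]⟩]
def D1259 : List Dv := [⟨[.a5], [0, 0], []⟩,
  ⟨[.a2, .a3], [2, 1], [1, 2]⟩,
  ⟨[.a3, .a8], [0, 3, 3], []⟩,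
  ⟨[.a6, .a8], [0, 5, 3], [3, 5]⟩,
  ⟨[.a2, .a8], [2], [1]⟩]
def C1259 : List Ch := [⟨P857, 0, [.a11], [.a11]⟩,
  ⟨P916, 1, [], []⟩,
  ⟨P911, 0, [.a10], [.a10, .a11]⟩,
  ⟨P920, 2, [.a4], [.a4, .a5]⟩,
  ⟨P924, 0, [], []⟩,
  ⟨P925, 1, [], []⟩,
  ⟨P926, 0, [], []⟩]
def N1259 : List Ent := [⟨1, [.a0, .a8], [.a0, .a5, .a8]⟩,
  ⟨2, [.a1, .a7], [.a1, .a2, .a7, .a8]⟩,
  ⟨4, [.a2, .a8], [.a2, .a8]⟩,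
  ⟨8, [.a3, .a8], [.a3, .a8]⟩,
  ⟨32, [.a5], [.a5]⟩,
  ⟨64, [.a6, .a8], [.a6, .a8]⟩,
  ⟨128, [.a7], [.a7, .a8]⟩,
  ⟨256, [.a8], [.a8]⟩,
  ⟨512, [.a9], [.a9]⟩]
theorem bad1259 (c : CtxF Goal γ) : Bad Goal γ [] P1259 :=
  c.toCtx.bnd (B := B1259) (D := D1259) (I := [5, 6, 0, 2, 4, 1, 7]) (r := 3) (C := C1259) (N := N1259) (by decide +kernel) (by decide +kernel) (by decide +kernel) (by decide +kernel)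
    (allB_cons (bad857 c) (allB_cons (bad916 c) (allB_cons (bad911 c) (allB_cons (bad920 c) (allB_cons (bad924 c) (allB_cons (bad925 c) (allB_cons (bad926 c) (allB_nil))))))))

def P1260 : List Ent := [⟨1, [.a0], [.a0]⟩,
  ⟨2, [.a1, .a7, .a8], [.a1, .a2, .a7]⟩,
  ⟨4, [.a2, .a8], [.a2, .a8]⟩,
  ⟨8, [.a3, .a8], [.a3, .a8]⟩,
  ⟨32, [.a5], [.a5]⟩,
  ⟨64, [.a6, .a8], [.a6, .a8]⟩,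
  ⟨512, [.a9], [.a9]⟩]
def B1260 : List Gv := [⟨[.a0], [.a0]⟩, ⟨[.a1, .a7, .a8], [.a1, .a2, .a7]⟩, ⟨[.a9], [.a9]⟩]
def D1260 : List Dv := [⟨[.a2, .a3, .a5], [1, 0], [0, 1]⟩,
  ⟨[.a3, .a5, .a8], [0, 2, 2], []⟩,
  ⟨[.a5, .a6, .a8], [0, 4, 2], [2, 4]⟩,
  ⟨[.a6, .a8], [5, 4], [4, 5]⟩,
  ⟨[.a5], [1], [0]⟩,
  ⟨[.a3, .a8], [3], [0]⟩,
  ⟨[.a2, .a8], [5], [0, 1]⟩]
def C1260 : List Ch := [⟨P856, 0, [.a11], [.a11]⟩,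
  ⟨P915, 1, [], []⟩,
  ⟨P911, 0, [.a10], [.a10, .a11]⟩,
  ⟨P927, 2, [], []⟩,
  ⟨P928, 0, [], []⟩,
  ⟨P925, 1, [.a4], [.a4, .a5]⟩,
  ⟨P923, 0, [.a4], [.a4, .a5]⟩]
def N1260 : List Ent := [⟨1, [.a0], [.a0]⟩,
  ⟨2, [.a1, .a7, .a8], [.a1, .a2, .a7]⟩,
  ⟨4, [.a2, .a8], [.a2, .a8]⟩,
  ⟨8, [.a3, .a8], [.a3, .a8]⟩,
  ⟨32, [.a5], [.a5]⟩,
  ⟨64, [.a6, .a8], [.a6, .a8]⟩,
  ⟨128, [.a7], [.a7, .a8]⟩,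
  ⟨256, [.a8], [.a8]⟩,
  ⟨512, [.a9], [.a9]⟩]
theorem bad1260 (c : CtxF Goal γ) : Bad Goal γ [] P1260 :=
  c.toCtx.bnd (B := B1260) (D := D1260) (I := [7, 8, 0, 1, 2, 3, 9]) (r := 3) (C := C1260) (N := N1260) (by decide +kernel) (by decide +kernel) (by decide +kernel) (by decide +kernel)
    (allB_cons (bad856 c) (allB_cons (bad915 c) (allB_cons (bad911 c) (allB_cons (bad927 c) (allB_cons (bad928 c) (allB_cons (bad925 c) (allB_cons (bad923 c) (allB_nil))))))))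

def P1261 : List Ent := [⟨1, [.a0, .a8], [.a0, .a5, .a8]⟩,
  ⟨2, [.a1, .a7, .a8], [.a1, .a2, .a7]⟩,
  ⟨4, [.a2, .a8], [.a2, .a8]⟩,
  ⟨8, [.a3, .a8], [.a3, .a8]⟩,
  ⟨32, [.a5], [.a5]⟩,
  ⟨64, [.a6, .a8], [.a6, .a8]⟩,
  ⟨512, [.a9], [.a9]⟩]
def B1261 : List Gv := [⟨[.a0, .a8], [.a0, .a5, .a8]⟩, ⟨[.a1, .a7, .a8], [.a1, .a2, .a7]⟩, ⟨[.a9], [.a9]⟩]
def D1261 : List Dv := [⟨[.a5], [0, 0], []⟩,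
  ⟨[.a2, .a3, .a5], [2, 1], [1, 2]⟩,
  ⟨[.a3, .a5, .a8], [0, 3, 3], []⟩,
  ⟨[.a6, .a8], [2, 0, 5, 3], [3, 5]⟩,
  ⟨[.a3, .a8], [1], [3]⟩,
  ⟨[.a2, .a8], [3], [0, 4]⟩]
def C1261 : List Ch := [⟨P856, 0, [.a11], [.a11]⟩,
  ⟨P916, 1, [], []⟩,
  ⟨P912, 0, [.a10], [.a10, .a11]⟩,
  ⟨P927, 2, [.a4], [.a4, .a5]⟩,
  ⟨P929, 0, [], []⟩,
  ⟨P922, 1, [.a4], [.a4, .a5]⟩,
  ⟨P926, 0, [.a4], [.a4, .a5]⟩]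
def N1261 : List Ent := [⟨1, [.a0, .a8], [.a0, .a5, .a8]⟩,
  ⟨2, [.a1, .a7, .a8], [.a1, .a2, .a7]⟩,
  ⟨4, [.a2, .a8], [.a2, .a8]⟩,
  ⟨8, [.a3, .a8], [.a3, .a8]⟩,
  ⟨32, [.a5], [.a5]⟩,
  ⟨64, [.a6, .a8], [.a6, .a8]⟩,
  ⟨128, [.a7], [.a7, .a8]⟩,
  ⟨256, [.a8], [.a8]⟩,
  ⟨512, [.a9], [.a9]⟩]
theorem bad1261 (c : CtxF Goal γ) : Bad Goal γ [] P1261 :=
  c.toCtx.bnd (B := B1261) (D := D1261) (I := [6, 7, 0, 1, 5, 2, 8]) (r := 3) (C := C1261) (N := N1261) (by decide +kernel) (by decide +kernel) (by decide +kernel) (by decide +kernel)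
    (allB_cons (bad856 c) (allB_cons (bad916 c) (allB_cons (bad912 c) (allB_cons (bad927 c) (allB_cons (bad929 c) (allB_cons (bad922 c) (allB_cons (bad926 c) (allB_nil))))))))

def P1262 : List Ent := [⟨1, [.a0], [.a0]⟩,
  ⟨2, [.a1, .a7], [.a1, .a2, .a7, .a8]⟩,
  ⟨4, [.a2], [.a2]⟩,
  ⟨8, [.a3], [.a3]⟩,
  ⟨32, [.a5], [.a5]⟩,
  ⟨64, [.a6], [.a6]⟩,
  ⟨256, [.a8], [.a8]⟩]
def B1262 : List Gv := [⟨[.a0], [.a0]⟩, ⟨[.a1, .a7], [.a1, .a2, .a7, .a8]⟩, ⟨[.a2], [.a2]⟩, ⟨[.a6], [.a6]⟩]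
def D1262 : List Dv := [⟨[.a3], [2, 1, 0], [0, 1]⟩,
  ⟨[.a8], [3, 2, 2], []⟩,
  ⟨[.a5], [5, 3], [3, 5]⟩]
def C1262 : List Ch := [⟨P859, 0, [], []⟩,
  ⟨P901, 1, [], []⟩,
  ⟨P906, 0, [.a10], [.a10, .a11]⟩,
  ⟨P930, 2, [], []⟩,
  ⟨P931, 0, [], []⟩,
  ⟨P931, 1, [.a4], [.a4, .a5]⟩,
  ⟨P930, 0, [.a4], [.a4, .a5]⟩,
  ⟨P932, 3, [], []⟩,
  ⟨P932, 0, [.a4, .a8, .a9], [.a4, .a5, .a9]⟩,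
  ⟨P932, 1, [.a4], [.a4, .a5]⟩,
  ⟨P932, 0, [.a9], [.a9]⟩,
  ⟨P920, 2, [], []⟩,
  ⟨P920, 0, [.a4], [.a4, .a5]⟩,
  ⟨P927, 1, [], []⟩,
  ⟨P927, 0, [.a4], [.a4, .a5]⟩]
def N1262 : List Ent := [⟨1, [.a0], [.a0]⟩,
  ⟨2, [.a1, .a7], [.a1, .a2, .a7, .a8]⟩,
  ⟨4, [.a2], [.a2]⟩,
  ⟨8, [.a3], [.a3]⟩,
  ⟨16, [.a4], [.a4, .a5]⟩,
  ⟨32, [.a5], [.a5]⟩,
  ⟨64, [.a6], [.a6]⟩,
  ⟨128, [.a7], [.a7, .a8]⟩,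
  ⟨256, [.a8], [.a8]⟩,
  ⟨512, [.a9], [.a9]⟩]
theorem bad1262 (c : CtxF Goal γ) : Bad Goal γ [] P1262 :=
  c.toCtx.bnd (B := B1262) (D := D1262) (I := [3, 4, 5, 2, 0, 6, 1]) (r := 4) (C := C1262) (N := N1262) (by decide +kernel) (by decide +kernel) (by decide +kernel) (by decide +kernel)
    (allB_cons (bad859 c) (allB_cons (bad901 c) (allB_cons (bad906 c) (allB_cons (bad930 c) (allB_cons (bad931 c) (allB_cons (bad931 c) (allB_cons (bad930 c) (allB_cons (bad932 c) (allB_cons (bad932 c) (allB_cons (bad932 c) (allB_cons (bad932 c) (allB_cons (bad920 c) (allB_cons (bad920 c) (allB_cons (bad927 c) (allB_cons (bad927 c) (allB_nil))))))))))))))))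

def P1263 : List Ent := [⟨1, [.a0, .a9], [.a0, .a3, .a6, .a9]⟩,
  ⟨2, [.a1, .a7], [.a1, .a2, .a7, .a8]⟩,
  ⟨4, [.a2], [.a2]⟩,
  ⟨8, [.a3], [.a3]⟩,
  ⟨32, [.a5], [.a5]⟩,
  ⟨64, [.a6], [.a6]⟩,
  ⟨256, [.a8], [.a8]⟩]
def B1263 : List Gv := [⟨[.a0, .a9], [.a0, .a3, .a6, .a9]⟩, ⟨[.a1, .a7], [.a1, .a2, .a7, .a8]⟩, ⟨[.a2], [.a2]⟩, ⟨[.a3], [.a3]⟩]
def D1263 : List Dv := [⟨[.a6], [3, 0, 0], []⟩,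
  ⟨[.a5, .a6, .a8], [4, 3, 2, 1], [1, 2]⟩,
  ⟨[.a8], [4, 3, 3], []⟩,
  ⟨[.a5], [1], [2, 0]⟩]
def C1263 : List Ch := [⟨P859, 0, [], []⟩,
  ⟨P906, 1, [], []⟩,
  ⟨P901, 0, [.a10], [.a10, .a11]⟩,
  ⟨P933, 2, [], []⟩,
  ⟨P933, 0, [.a1], [.a1, .a2]⟩,
  ⟨P933, 1, [.a0], [.a0]⟩,
  ⟨P933, 0, [.a0, .a1], [.a0, .a1, .a2]⟩,
  ⟨P934, 3, [], []⟩,
  ⟨P934, 0, [.a1], [.a1, .a2]⟩,
  ⟨P934, 1, [.a0], [.a0]⟩,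
  ⟨P934, 0, [.a0, .a1], [.a0, .a1, .a2]⟩,
  ⟨P921, 2, [], []⟩,
  ⟨P924, 0, [], []⟩,
  ⟨P928, 1, [], []⟩,
  ⟨P929, 0, [], []⟩]
def N1263 : List Ent := [⟨1, [.a0, .a9], [.a0, .a3, .a6, .a9]⟩,
  ⟨2, [.a1, .a7], [.a1, .a2, .a7, .a8]⟩,
  ⟨4, [.a2], [.a2]⟩,
  ⟨8, [.a3], [.a3]⟩,
  ⟨16, [.a4], [.a4, .a5]⟩,
  ⟨32, [.a5], [.a5]⟩,
  ⟨64, [.a6], [.a6]⟩,
  ⟨128, [.a7], [.a7, .a8]⟩,
  ⟨256, [.a8], [.a8]⟩,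
  ⟨512, [.a9], [.a9]⟩]
theorem bad1263 (c : CtxF Goal γ) : Bad Goal γ [] P1263 :=
  c.toCtx.bnd (B := B1263) (D := D1263) (I := [4, 5, 6, 7, 0, 3, 1]) (r := 4) (C := C1263) (N := N1263) (by decide +kernel) (by decide +kernel) (by decide +kernel) (by decide +kernel)
    (allB_cons (bad859 c) (allB_cons (bad906 c) (allB_cons (bad901 c) (allB_cons (bad933 c) (allB_cons (bad933 c) (allB_cons (bad933 c) (allB_cons (bad933 c) (allB_cons (bad934 c) (allB_cons (bad934 c) (allB_cons (bad934 c) (allB_cons (bad934 c) (allB_cons (bad921 c) (allB_cons (bad924 c) (allB_cons (bad928 c) (allB_cons (bad929 c) (allB_nil))))))))))))))))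

def P1264 : List Ent := [⟨1, [.a0], [.a0]⟩,
  ⟨2, [.a1, .a7, .a9], [.a1, .a2, .a6, .a7, .a9]⟩,
  ⟨4, [.a2], [.a2]⟩,
  ⟨8, [.a3], [.a3]⟩,
  ⟨32, [.a5], [.a5]⟩,
  ⟨64, [.a6], [.a6]⟩,
  ⟨256, [.a8], [.a8]⟩]
def B1264 : List Gv := [⟨[.a0], [.a0]⟩, ⟨[.a1, .a7, .a9], [.a1, .a2, .a6, .a7, .a9]⟩, ⟨[.a2], [.a2]⟩, ⟨[.a3], [.a3]⟩, ⟨[.a8], [.a8]⟩]
def D1264 : List Dv := [⟨[.a6], [2, 1, 0], [0, 1]⟩,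
  ⟨[.a5, .a6], [3, 2, 2], []⟩,
  ⟨[.a5], [0], [1]⟩]
def C1264 : List Ch := [⟨P859, 0, [.a11], [.a11]⟩,
  ⟨P901, 1, [], []⟩,
  ⟨P901, 0, [.a10], [.a10, .a11]⟩,
  ⟨P935, 2, [], []⟩,
  ⟨P935, 0, [.a7], [.a7, .a8]⟩,
  ⟨P935, 1, [.a1], [.a1, .a2]⟩,
  ⟨P935, 0, [.a4], [.a4, .a5]⟩,
  ⟨P936, 3, [], []⟩,
  ⟨P936, 0, [.a7], [.a7, .a8]⟩,
  ⟨P936, 1, [.a4], [.a4, .a5]⟩,
  ⟨P936, 0, [.a4, .a6, .a7], [.a4, .a5, .a7, .a8]⟩,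
  ⟨P937, 2, [], []⟩,
  ⟨P937, 0, [.a4], [.a4, .a5]⟩,
  ⟨P937, 1, [.a1], [.a1, .a2]⟩,
  ⟨P937, 0, [.a1, .a3, .a4], [.a1, .a2, .a4, .a5]⟩,
  ⟨P938, 4, [], []⟩,
  ⟨P939, 0, [], []⟩,
  ⟨P938, 1, [.a1], [.a1, .a2]⟩,
  ⟨P939, 0, [.a1], [.a1, .a2]⟩,
  ⟨P940, 2, [], []⟩,
  ⟨P940, 0, [.a4], [.a4, .a5]⟩,
  ⟨P941, 1, [], []⟩,
  ⟨P941, 0, [.a4], [.a4, .a5]⟩,
  ⟨P942, 3, [], []⟩,
  ⟨P942, 0, [.a7], [.a7, .a8]⟩,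
  ⟨P942, 1, [.a1], [.a1, .a2]⟩,
  ⟨P942, 0, [.a9], [.a9]⟩,
  ⟨P922, 2, [], []⟩,
  ⟨P925, 0, [], []⟩,
  ⟨P925, 1, [.a4], [.a4, .a5]⟩,
  ⟨P922, 0, [.a4], [.a4, .a5]⟩]
def N1264 : List Ent := [⟨1, [.a0], [.a0]⟩,
  ⟨2, [.a1, .a7, .a9], [.a1, .a2, .a6, .a7, .a9]⟩,
  ⟨4, [.a2], [.a2]⟩,
  ⟨8, [.a3], [.a3]⟩,
  ⟨16, [.a4], [.a4, .a5]⟩,
  ⟨32, [.a5], [.a5]⟩,
  ⟨64, [.a6], [.a6]⟩,
  ⟨128, [.a7], [.a7, .a8]⟩,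
  ⟨256, [.a8], [.a8]⟩,
  ⟨512, [.a9], [.a9]⟩]
theorem bad1264 (c : CtxF Goal γ) : Bad Goal γ [] P1264 :=
  c.toCtx.bnd (B := B1264) (D := D1264) (I := [3, 4, 5, 6, 0, 2, 7]) (r := 5) (C := C1264) (N := N1264) (by decide +kernel) (by decide +kernel) (by decide +kernel) (by decide +kernel)
    (allB_cons (bad859 c) (allB_cons (bad901 c) (allB_cons (bad901 c) (allB_cons (bad935 c) (allB_cons (bad935 c) (allB_cons (bad935 c) (allB_cons (bad935 c) (allB_cons (bad936 c) (allB_cons (bad936 c) (allB_cons (bad936 c) (allB_cons (bad936 c) (allB_cons (bad937 c) (allB_cons (bad937 c) (allB_cons (bad937 c) (allB_cons (bad937 c) (allB_cons (bad938 c) (allB_cons (bad939 c) (allB_cons (bad938 c) (allB_cons (bad939 c) (allB_cons (bad940 c) (allB_cons (bad940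 c) (allB_cons (bad941 c) (allB_cons (bad941 c) (allB_cons (bad942 c) (allB_cons (bad942 c) (allB_cons (bad942 c) (allB_cons (bad942 c) (allB_cons (bad922 c) (allB_cons (bad925 c) (allB_cons (bad925 c) (allB_cons (bad922 c) (allB_nil))))))))))))))))))))))))))))))))

def P1265 : List Ent := [⟨1, [.a0, .a9], [.a0, .a3, .a6, .a9]⟩,
  ⟨2, [.a1, .a7, .a9], [.a1, .a2, .a6, .a7, .a9]⟩,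
  ⟨4, [.a2], [.a2]⟩,
  ⟨8, [.a3], [.a3]⟩,
  ⟨32, [.a5], [.a5]⟩,
  ⟨64, [.a6], [.a6]⟩,
  ⟨256, [.a8], [.a8]⟩]
def B1265 : List Gv := [⟨[.a0, .a9], [.a0, .a3, .a6, .a9]⟩, ⟨[.a1, .a7, .a9], [.a1, .a2, .a6, .a7, .a9]⟩, ⟨[.a2], [.a2]⟩]
def D1265 : List Dv := [⟨[.a3, .a6], [0, 0], []⟩,
  ⟨[.a5, .a8], [3, 2, 1], [1, 2]⟩,
  ⟨[.a6, .a8], [0, 4, 3, 3], []⟩,
  ⟨[.a8], [1, 5, 3], [3, 5]⟩,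
  ⟨[.a6], [1], [0]⟩,
  ⟨[.a5], [3], [1]⟩,
  ⟨[.a3], [5], [1]⟩]
def C1265 : List Ch := [⟨P859, 0, [.a11], [.a11]⟩,
  ⟨P906, 1, [], []⟩,
  ⟨P906, 0, [.a10], [.a10, .a11]⟩,
  ⟨P923, 2, [], []⟩,
  ⟨P926, 0, [], []⟩,
  ⟨P923, 1, [.a4], [.a4, .a5]⟩,
  ⟨P926, 0, [.a4], [.a4, .a5]⟩]
def N1265 : List Ent := [⟨1, [.a0, .a9], [.a0, .a3, .a6, .a9]⟩,
  ⟨2, [.a1, .a7, .a9], [.a1, .a2, .a6, .a7, .a9]⟩,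
  ⟨4, [.a2], [.a2]⟩,
  ⟨8, [.a3], [.a3]⟩,
  ⟨16, [.a4], [.a4, .a5]⟩,
  ⟨32, [.a5], [.a5]⟩,
  ⟨64, [.a6], [.a6]⟩,
  ⟨128, [.a7], [.a7, .a8]⟩,
  ⟨256, [.a8], [.a8]⟩,
  ⟨512, [.a9], [.a9]⟩]
theorem bad1265 (c : CtxF Goal γ) : Bad Goal γ [] P1265 :=
  c.toCtx.bnd (B := B1265) (D := D1265) (I := [7, 8, 9, 0, 1, 2, 3]) (r := 3) (C := C1265) (N := N1265) (by decide +kernel) (by decide +kernel) (by decide +kernel) (by decide +kernel)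
    (allB_cons (bad859 c) (allB_cons (bad906 c) (allB_cons (bad906 c) (allB_cons (bad923 c) (allB_cons (bad926 c) (allB_cons (bad923 c) (allB_cons (bad926 c) (allB_nil))))))))

def P1266 : List Ent := [⟨1, [.a0, .a9], [.a0, .a3, .a6, .a9]⟩,
  ⟨2, [.a1, .a7], [.a1, .a2, .a7, .a8]⟩,
  ⟨4, [.a2, .a8], [.a2, .a8]⟩,
  ⟨8, [.a3, .a8], [.a3, .a8]⟩,
  ⟨16, [.a4, .a7], [.a4, .a5, .a6, .a7, .a8]⟩,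
  ⟨32, [.a5], [.a5]⟩,
  ⟨64, [.a6, .a8], [.a6, .a8]⟩]
def B1266 : List Gv := [⟨[.a0, .a9], [.a0, .a3, .a6, .a9]⟩, ⟨[.a1, .a7], [.a1, .a2, .a7, .a8]⟩, ⟨[.a4, .a7], [.a4, .a5, .a6, .a7, .a8]⟩]
def D1266 : List Dv := [⟨[.a3, .a6], [0, 0], []⟩,
  ⟨[.a2, .a3, .a5, .a6, .a8], [2, 1], [1, 2]⟩,
  ⟨[.a5], [1, 0, 3, 3], []⟩,
  ⟨[.a6, .a8], [0, 2, 5, 3], [3, 5]⟩,
  ⟨[.a3, .a8], [3], [0]⟩,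
  ⟨[.a2, .a8], [3], [0, 2, 1]⟩]
def C1266 : List Ch := [⟨P862, 0, [], []⟩,
  ⟨P918, 1, [.a11], [.a11]⟩,
  ⟨P903, 0, [.a10], [.a10, .a11]⟩,
  ⟨P921, 2, [], []⟩,
  ⟨P941, 0, [.a11], [.a11]⟩,
  ⟨P930, 1, [.a0, .a10, .a11], [.a0, .a1, .a3, .a5, .a6, .a7, .a8, .a9, .a10]⟩,
  ⟨P939, 0, [.a10], [.a10, .a11]⟩]
def N1266 : List Ent := [⟨1, [.a0, .a9], [.a0, .a3, .a6, .a9]⟩,
  ⟨2, [.a1, .a7], [.a1, .a2, .a7, .a8]⟩,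
  ⟨4, [.a2, .a8], [.a2, .a8]⟩,
  ⟨8, [.a3, .a8], [.a3, .a8]⟩,
  ⟨16, [.a4, .a7], [.a4, .a5, .a6, .a7, .a8]⟩,
  ⟨32, [.a5], [.a5]⟩,
  ⟨64, [.a6, .a8], [.a6, .a8]⟩,
  ⟨128, [.a7, .a9], [.a7, .a8, .a9]⟩,
  ⟨256, [.a8], [.a8]⟩]
theorem bad1266 (c : CtxF Goal γ) : Bad Goal γ [] P1266 :=
  c.toCtx.bnd (B := B1266) (D := D1266) (I := [6, 7, 0, 1, 8, 3, 2]) (r := 3) (C := C1266) (N := N1266) (by decide +kernel) (by decide +kernel) (by decide +kernel) (by decide +kernel)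
    (allB_cons (bad862 c) (allB_cons (bad918 c) (allB_cons (bad903 c) (allB_cons (bad921 c) (allB_cons (bad941 c) (allB_cons (bad930 c) (allB_cons (bad939 c) (allB_nil))))))))

def P1267 : List Ent := [⟨1, [.a0, .a8, .a9], [.a0, .a3, .a5, .a6, .a8, .a9]⟩,
  ⟨2, [.a1, .a7], [.a1, .a2, .a7, .a8]⟩,
  ⟨4, [.a2, .a8], [.a2, .a8]⟩,
  ⟨8, [.a3, .a8], [.a3, .a8]⟩,
  ⟨16, [.a4, .a7], [.a4, .a5, .a6, .a7, .a8]⟩,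
  ⟨32, [.a5], [.a5]⟩,
  ⟨64, [.a6, .a8], [.a6, .a8]⟩]
def B1267 : List Gv := [⟨[.a0, .a8, .a9], [.a0, .a3, .a5, .a6, .a8, .a9]⟩, ⟨[.a1, .a7], [.a1, .a2, .a7, .a8]⟩, ⟨[.a4, .a7], [.a4, .a5, .a6, .a7, .a8]⟩]
def D1267 : List Dv := [⟨[.a3, .a5, .a6], [0, 0], []⟩,
  ⟨[.a2, .a3, .a5, .a6, .a8], [2, 1], [1, 2]⟩,
  ⟨[.a6, .a8], [1, 4, 2], [2, 4]⟩,
  ⟨[.a5, .a6, .a8], [5, 5], []⟩,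
  ⟨[.a5], [0], [1]⟩,
  ⟨[.a3, .a8], [4], [0, 2]⟩,
  ⟨[.a2, .a8], [4], [0, 1, 3]⟩]
def C1267 : List Ch := [⟨P862, 0, [], []⟩,
  ⟨P919, 1, [.a11], [.a11]⟩,
  ⟨P902, 0, [.a10], [.a10, .a11]⟩,
  ⟨P924, 2, [], []⟩,
  ⟨P941, 0, [.a0, .a11], [.a0, .a2, .a3, .a4, .a5, .a6, .a7, .a9, .a11]⟩,
  ⟨P931, 1, [.a0, .a10, .a11], [.a0, .a1, .a3, .a5, .a6, .a7, .a8, .a9, .a10]⟩,
  ⟨P938, 0, [.a10], [.a10, .a11]⟩]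
def N1267 : List Ent := [⟨1, [.a0, .a8, .a9], [.a0, .a3, .a5, .a6, .a8, .a9]⟩,
  ⟨2, [.a1, .a7], [.a1, .a2, .a7, .a8]⟩,
  ⟨4, [.a2, .a8], [.a2, .a8]⟩,
  ⟨8, [.a3, .a8], [.a3, .a8]⟩,
  ⟨16, [.a4, .a7], [.a4, .a5, .a6, .a7, .a8]⟩,
  ⟨32, [.a5], [.a5]⟩,
  ⟨64, [.a6, .a8], [.a6, .a8]⟩,
  ⟨128, [.a7, .a9], [.a7, .a8, .a9]⟩,
  ⟨256, [.a8], [.a8]⟩]
theorem bad1267 (c : CtxF Goal γ) : Bad Goal γ [] P1267 :=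
  c.toCtx.bnd (B := B1267) (D := D1267) (I := [7, 8, 0, 1, 9, 2, 4]) (r := 3) (C := C1267) (N := N1267) (by decide +kernel) (by decide +kernel) (by decide +kernel) (by decide +kernel)
    (allB_cons (bad862 c) (allB_cons (bad919 c) (allB_cons (bad902 c) (allB_cons (bad924 c) (allB_cons (bad941 c) (allB_cons (bad931 c) (allB_cons (bad938 c) (allB_nil))))))))

def P1268 : List Ent := [⟨1, [.a0, .a9], [.a0, .a3, .a6, .a9]⟩,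
  ⟨2, [.a1, .a7, .a8], [.a1, .a2, .a7]⟩,
  ⟨4, [.a2, .a8], [.a2, .a8]⟩,
  ⟨8, [.a3, .a8], [.a3, .a8]⟩,
  ⟨16, [.a4, .a7], [.a4, .a5, .a6, .a7, .a8]⟩,
  ⟨32, [.a5], [.a5]⟩,
  ⟨64, [.a6, .a8], [.a6, .a8]⟩]
def B1268 : List Gv := [⟨[.a0, .a9], [.a0, .a3, .a6, .a9]⟩, ⟨[.a1, .a7, .a8], [.a1, .a2, .a7]⟩, ⟨[.a4, .a7], [.a4, .a5, .a6, .a7, .a8]⟩]
def D1268 : List Dv := [⟨[.a3, .a6], [0, 0], []⟩,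
  ⟨[.a2, .a3, .a6, .a8], [2, 1], [1, 2]⟩,
  ⟨[.a5, .a6, .a8], [1, 4, 2], [2, 4]⟩,
  ⟨[.a6, .a8], [0, 2, 5, 4], [4, 5]⟩,
  ⟨[.a5], [1], [0]⟩,
  ⟨[.a3, .a8], [4], [1]⟩,
  ⟨[.a2, .a8], [4], [0, 2]⟩]
def C1268 : List Ch := [⟨P863, 0, [], []⟩,
  ⟨P918, 1, [.a11], [.a11]⟩,
  ⟨P902, 0, [.a10], [.a10, .a11]⟩,
  ⟨P928, 2, [], []⟩,
  ⟨P940, 0, [.a11], [.a11]⟩,
  ⟨P930, 1, [.a10, .a11], [.a10]⟩,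
  ⟨P938, 0, [.a0, .a10], [.a0, .a1, .a2, .a3, .a4, .a6, .a8, .a9, .a10, .a11]⟩]
def N1268 : List Ent := [⟨1, [.a0, .a9], [.a0, .a3, .a6, .a9]⟩,
  ⟨2, [.a1, .a7, .a8], [.a1, .a2, .a7]⟩,
  ⟨4, [.a2, .a8], [.a2, .a8]⟩,
  ⟨8, [.a3, .a8], [.a3, .a8]⟩,
  ⟨16, [.a4, .a7], [.a4, .a5, .a6, .a7, .a8]⟩,
  ⟨32, [.a5], [.a5]⟩,
  ⟨64, [.a6, .a8], [.a6, .a8]⟩,
  ⟨128, [.a7, .a9], [.a7, .a8, .a9]⟩,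
  ⟨256, [.a8], [.a8]⟩]
theorem bad1268 (c : CtxF Goal γ) : Bad Goal γ [] P1268 :=
  c.toCtx.bnd (B := B1268) (D := D1268) (I := [7, 8, 0, 1, 9, 2, 3]) (r := 3) (C := C1268) (N := N1268) (by decide +kernel) (by decide +kernel) (by decide +kernel) (by decide +kernel)
    (allB_cons (bad863 c) (allB_cons (bad918 c) (allB_cons (bad902 c) (allB_cons (bad928 c) (allB_cons (bad940 c) (allB_cons (bad930 c) (allB_cons (bad938 c) (allB_nil))))))))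

def P1269 : List Ent := [⟨1, [.a0, .a8, .a9], [.a0, .a3, .a5, .a6, .a8, .a9]⟩,
  ⟨2, [.a1, .a7, .a8], [.a1, .a2, .a7]⟩,
  ⟨4, [.a2, .a8], [.a2, .a8]⟩,
  ⟨8, [.a3, .a8], [.a3, .a8]⟩,
  ⟨16, [.a4, .a7], [.a4, .a5, .a6, .a7, .a8]⟩,
  ⟨32, [.a5], [.a5]⟩,
  ⟨64, [.a6, .a8], [.a6, .a8]⟩]
def B1269 : List Gv := [⟨[.a0, .a8, .a9], [.a0, .a3, .a5, .a6, .a8, .a9]⟩, ⟨[.a1, .a7, .a8], [.a1, .a2, .a7]⟩, ⟨[.a4, .a7], [.a4, .a5, .a6, .a7, .a8]⟩]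
def D1269 : List Dv := [⟨[.a3, .a5, .a6], [0, 0], []⟩,
  ⟨[.a2, .a3, .a6, .a8], [2, 1], [1, 2]⟩,
  ⟨[.a5], [1, 0, 3, 3], []⟩,
  ⟨[.a6, .a8], [2, 5, 3], [3, 5]⟩,
  ⟨[.a3, .a8], [3], [1, 0]⟩,
  ⟨[.a2, .a8], [3], [0, 1]⟩]
def C1269 : List Ch := [⟨P863, 0, [], []⟩,
  ⟨P919, 1, [.a11], [.a11]⟩,
  ⟨P903, 0, [.a10], [.a10, .a11]⟩,
  ⟨P929, 2, [], []⟩,
  ⟨P940, 0, [.a0, .a11], [.a0, .a2, .a3, .a4, .a5, .a6, .a7, .a9, .a11]⟩,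
  ⟨P931, 1, [.a10, .a11], [.a10]⟩,
  ⟨P939, 0, [.a0, .a10], [.a0, .a1, .a2, .a3, .a4, .a6, .a8, .a9, .a10, .a11]⟩]
def N1269 : List Ent := [⟨1, [.a0, .a8, .a9], [.a0, .a3, .a5, .a6, .a8, .a9]⟩,
  ⟨2, [.a1, .a7, .a8], [.a1, .a2, .a7]⟩,
  ⟨4, [.a2, .a8], [.a2, .a8]⟩,
  ⟨8, [.a3, .a8], [.a3, .a8]⟩,
  ⟨16, [.a4, .a7], [.a4, .a5, .a6, .a7, .a8]⟩,
  ⟨32, [.a5], [.a5]⟩,
  ⟨64, [.a6, .a8], [.a6, .a8]⟩,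
  ⟨128, [.a7, .a9], [.a7, .a8, .a9]⟩,
  ⟨256, [.a8], [.a8]⟩]
theorem bad1269 (c : CtxF Goal γ) : Bad Goal γ [] P1269 :=
  c.toCtx.bnd (B := B1269) (D := D1269) (I := [6, 7, 0, 1, 8, 3, 2]) (r := 3) (C := C1269) (N := N1269) (by decide +kernel) (by decide +kernel) (by decide +kernel) (by decide +kernel)
    (allB_cons (bad863 c) (allB_cons (bad919 c) (allB_cons (bad903 c) (allB_cons (bad929 c) (allB_cons (bad940 c) (allB_cons (bad931 c) (allB_cons (bad939 c) (allB_nil))))))))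

def P1270 : List Ent := [⟨1, [.a0, .a10], [.a0, .a1, .a2, .a3, .a4, .a6, .a8, .a9, .a10, .a11]⟩,
  ⟨2, [.a1, .a7, .a9, .a11], [.a1, .a2, .a5, .a7, .a11]⟩,
  ⟨4, [.a2, .a9], [.a2, .a5, .a9]⟩,
  ⟨8, [.a3], [.a3]⟩,
  ⟨32, [.a5], [.a5]⟩,
  ⟨64, [.a6], [.a6]⟩,
  ⟨256, [.a8], [.a8]⟩]
def B1270 : List Gv := [⟨[.a0, .a10], [.a0, .a1, .a2, .a3, .a4, .a6, .a8, .a9, .a10, .a11]⟩, ⟨[.a1, .a7, .a9, .a11], [.a1, .a2, .a5, .a7, .a11]⟩]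
def D1270 : List Dv := [⟨[.a2, .a3, .a8, .a9], [1, 0, 0], []⟩,
  ⟨[.a5, .a6, .a8], [2, 1], [1, 2]⟩,
  ⟨[.a3, .a5, .a6], [1, 3, 3], []⟩,
  ⟨[.a8], [2, 4], [4, 2]⟩,
  ⟨[.a6, .a8], [2, 3, 3], []⟩,
  ⟨[.a6], [0], [1]⟩,
  ⟨[.a5], [4], [0, 2]⟩,
  ⟨[.a3], [4], [0, 1]⟩,
  ⟨[.a2, .a9], [7], [0, 4]⟩]
def C1270 : List Ch := [⟨P860, 0, [.a1], [.a1, .a2]⟩,
  ⟨P943, 1, [], []⟩,
  ⟨P943, 0, [.a9], [.a9]⟩]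
def N1270 : List Ent := [⟨1, [.a0, .a10], [.a0, .a1, .a2, .a3, .a4, .a6, .a8, .a9, .a10, .a11]⟩,
  ⟨2, [.a1, .a7, .a9, .a11], [.a1, .a2, .a5, .a7, .a11]⟩,
  ⟨4, [.a2, .a9], [.a2, .a5, .a9]⟩,
  ⟨8, [.a3], [.a3]⟩,
  ⟨32, [.a5], [.a5]⟩,
  ⟨64, [.a6], [.a6]⟩,
  ⟨128, [.a7], [.a7, .a8]⟩,
  ⟨256, [.a8], [.a8]⟩,
  ⟨512, [.a9], [.a9]⟩]
theorem bad1270 (c : CtxF Goal γ) : Bad Goal γ [] P1270 :=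
  c.toCtx.bnd (B := B1270) (D := D1270) (I := [9, 10, 0, 1, 2, 3, 5]) (r := 2) (C := C1270) (N := N1270) (by decide +kernel) (by decide +kernel) (by decide +kernel) (by decide +kernel)
    (allB_cons (bad860 c) (allB_cons (bad943 c) (allB_cons (bad943 c) (allB_nil))))

def P1271 : List Ent := [⟨1, [.a0, .a7], [.a0, .a2, .a3, .a5, .a7, .a8]⟩,
  ⟨4, [.a2, .a3], [.a2, .a3]⟩,
  ⟨16, [.a4, .a7, .a9], [.a4, .a5, .a6, .a7, .a9]⟩,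
  ⟨32, [.a5], [.a5]⟩,
  ⟨64, [.a6], [.a6]⟩,
  ⟨256, [.a8], [.a8]⟩,
  ⟨2048, [.a11], [.a11]⟩]
def B1271 : List Gv := [⟨[.a0, .a7], [.a0, .a2, .a3, .a5, .a7, .a8]⟩, ⟨[.a2, .a3], [.a2, .a3]⟩, ⟨[.a11], [.a11]⟩]
def D1271 : List Dv := [⟨[.a8], [1, 0, 0], []⟩,
  ⟨[.a5], [2, 1], [1, 2]⟩,
  ⟨[.a4, .a7, .a9], [3, 4, 2], [2, 4]⟩,
  ⟨[.a6], [1, 5, 4], [4, 5]⟩]
def C1271 : List Ch := [⟨P779, 0, [.a10], [.a10, .a11]⟩,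
  ⟨P944, 1, [], []⟩,
  ⟨P944, 0, [.a0], [.a0]⟩,
  ⟨P945, 2, [], []⟩,
  ⟨P946, 0, [], []⟩,
  ⟨P944, 1, [.a3], [.a3]⟩,
  ⟨P944, 0, [.a0, .a3], [.a0, .a3]⟩]
def N1271 : List Ent := [⟨1, [.a0, .a7], [.a0, .a2, .a3, .a5, .a7, .a8]⟩,
  ⟨4, [.a2, .a3], [.a2, .a3]⟩,
  ⟨8, [.a3], [.a3]⟩,
  ⟨16, [.a4, .a7, .a9], [.a4, .a5, .a6, .a7, .a9]⟩,
  ⟨32, [.a5], [.a5]⟩,
  ⟨64, [.a6], [.a6]⟩,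
  ⟨128, [.a7], [.a7, .a8]⟩,
  ⟨256, [.a8], [.a8]⟩,
  ⟨2048, [.a11], [.a11]⟩]
theorem bad1271 (c : CtxF Goal γ) : Bad Goal γ [] P1271 :=
  c.toCtx.bnd (B := B1271) (D := D1271) (I := [4, 5, 1, 2, 0, 3, 6]) (r := 3) (C := C1271) (N := N1271) (by decide +kernel) (by decide +kernel) (by decide +kernel) (by decide +kernel)
    (allB_cons (bad779 c) (allB_cons (bad944 c) (allB_cons (bad944 c) (allB_cons (bad945 c) (allB_cons (bad946 c) (allB_cons (bad944 c) (allB_cons (bad944 c) (allB_nil))))))))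

def P1272 : List Ent := [⟨1, [.a0, .a7], [.a0, .a2, .a3, .a5, .a7, .a8]⟩,
  ⟨4, [.a2], [.a2]⟩,
  ⟨8, [.a3], [.a3]⟩,
  ⟨16, [.a4, .a7, .a9], [.a4, .a5, .a6, .a7, .a9]⟩,
  ⟨32, [.a5], [.a5]⟩,
  ⟨64, [.a6], [.a6]⟩,
  ⟨256, [.a8], [.a8]⟩]
def B1272 : List Gv := [⟨[.a0, .a7], [.a0, .a2, .a3, .a5, .a7, .a8]⟩, ⟨[.a2], [.a2]⟩, ⟨[.a3], [.a3]⟩, ⟨[.a4, .a7, .a9], [.a4, .a5, .a6, .a7, .a9]⟩]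
def D1272 : List Dv := [⟨[.a8], [2, 1, 0, 0], []⟩,
  ⟨[.a5], [3, 1], [1, 3]⟩,
  ⟨[.a6], [0, 5, 5], []⟩]
def C1272 : List Ch := [⟨P788, 0, [.a10], [.a10, .a11]⟩,
  ⟨P947, 1, [], []⟩,
  ⟨P947, 0, [.a0], [.a0]⟩,
  ⟨P947, 2, [.a0, .a2, .a3, .a4, .a5, .a6, .a7, .a9, .a11], [.a0, .a11]⟩,
  ⟨P947, 0, [.a11], [.a11]⟩,
  ⟨P945, 1, [], []⟩,
  ⟨P945, 0, [.a4], [.a4, .a5]⟩,
  ⟨P948, 3, [], []⟩,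
  ⟨P948, 0, [.a11], [.a11]⟩,
  ⟨P947, 1, [.a1], [.a1, .a2]⟩,
  ⟨P947, 0, [.a4], [.a4, .a5]⟩,
  ⟨P947, 2, [.a0, .a1, .a3, .a5, .a6, .a7, .a8, .a9, .a11], [.a0, .a1, .a2, .a3, .a4, .a6, .a8, .a9, .a11]⟩,
  ⟨P947, 0, [.a4, .a11], [.a4, .a5, .a11]⟩,
  ⟨P945, 1, [.a1], [.a1, .a2]⟩,
  ⟨P945, 0, [.a1, .a3, .a4], [.a1, .a2, .a4, .a5]⟩]
def N1272 : List Ent := [⟨1, [.a0, .a7], [.a0, .a2, .a3, .a5, .a7, .a8]⟩,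
  ⟨2, [.a1], [.a1, .a2]⟩,
  ⟨4, [.a2], [.a2]⟩,
  ⟨8, [.a3], [.a3]⟩,
  ⟨16, [.a4, .a7, .a9], [.a4, .a5, .a6, .a7, .a9]⟩,
  ⟨32, [.a5], [.a5]⟩,
  ⟨64, [.a6], [.a6]⟩,
  ⟨128, [.a7], [.a7, .a8]⟩,
  ⟨256, [.a8], [.a8]⟩,
  ⟨512, [.a9], [.a9]⟩,
  ⟨2048, [.a11], [.a11]⟩]
theorem bad1272 (c : CtxF Goal γ) : Bad Goal γ [] P1272 :=
  c.toCtx.bnd (B := B1272) (D := D1272) (I := [3, 4, 5, 6, 1, 0, 2]) (r := 4) (C := C1272) (N := N1272) (by decide +kernel) (by decide +kernel) (by decide +kernel) (by decide +kernel)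
    (allB_cons (bad788 c) (allB_cons (bad947 c) (allB_cons (bad947 c) (allB_cons (bad947 c) (allB_cons (bad947 c) (allB_cons (bad945 c) (allB_cons (bad945 c) (allB_cons (bad948 c) (allB_cons (bad948 c) (allB_cons (bad947 c) (allB_cons (bad947 c) (allB_cons (bad947 c) (allB_cons (bad947 c) (allB_cons (bad945 c) (allB_cons (bad945 c) (allB_nil))))))))))))))))

def P1273 : List Ent := [⟨1, [.a0, .a7, .a11], [.a0, .a4, .a5, .a9, .a11]⟩,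
  ⟨4, [.a2], [.a2]⟩,
  ⟨8, [.a3], [.a3]⟩,
  ⟨16, [.a4, .a7, .a9], [.a4, .a5, .a6, .a7, .a9]⟩,
  ⟨32, [.a5], [.a5]⟩,
  ⟨64, [.a6], [.a6]⟩,
  ⟨256, [.a8], [.a8]⟩]
def B1273 : List Gv := [⟨[.a0, .a7, .a11], [.a0, .a4, .a5, .a9, .a11]⟩, ⟨[.a2], [.a2]⟩, ⟨[.a3], [.a3]⟩]
def D1273 : List Dv := [⟨[.a4, .a7, .a8, .a9], [0, 0], []⟩,
  ⟨[.a6, .a8], [2, 1], [1, 2]⟩,
  ⟨[.a8], [4, 2], [2, 4]⟩,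
  ⟨[.a5], [2, 4], [4, 2]⟩,
  ⟨[.a6], [2], [1]⟩,
  ⟨[.a4, .a7, .a9], [4], [2]⟩]
def C1273 : List Ch := [⟨P788, 0, [.a10], [.a10, .a11]⟩,
  ⟨P949, 1, [], []⟩,
  ⟨P949, 0, [.a4], [.a4, .a5]⟩,
  ⟨P950, 2, [], []⟩,
  ⟨P950, 0, [.a7], [.a7, .a8]⟩,
  ⟨P946, 1, [], []⟩,
  ⟨P946, 0, [.a4], [.a4, .a5]⟩]
def N1273 : List Ent := [⟨1, [.a0, .a7, .a11], [.a0, .a4, .a5, .a9, .a11]⟩,
  ⟨4, [.a2], [.a2]⟩,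
  ⟨8, [.a3], [.a3]⟩,
  ⟨16, [.a4, .a7, .a9], [.a4, .a5, .a6, .a7, .a9]⟩,
  ⟨32, [.a5], [.a5]⟩,
  ⟨64, [.a6], [.a6]⟩,
  ⟨128, [.a7], [.a7, .a8]⟩,
  ⟨256, [.a8], [.a8]⟩,
  ⟨512, [.a9], [.a9]⟩,
  ⟨2048, [.a11], [.a11]⟩]
theorem bad1273 (c : CtxF Goal γ) : Bad Goal γ [] P1273 :=
  c.toCtx.bnd (B := B1273) (D := D1273) (I := [6, 7, 8, 0, 2, 1, 3]) (r := 3) (C := C1273) (N := N1273) (by decide +kernel) (by decide +kernel) (by decide +kernel) (by decide +kernel)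
    (allB_cons (bad788 c) (allB_cons (bad949 c) (allB_cons (bad949 c) (allB_cons (bad950 c) (allB_cons (bad950 c) (allB_cons (bad946 c) (allB_cons (bad946 c) (allB_nil))))))))

def P1274 : List Ent := [⟨1, [.a0, .a7], [.a0, .a2, .a3, .a5, .a7, .a8]⟩,
  ⟨4, [.a2, .a11], [.a2, .a5, .a6, .a8, .a11]⟩,
  ⟨8, [.a3, .a11], [.a3, .a8, .a11]⟩,
  ⟨16, [.a4, .a7, .a9], [.a4, .a5, .a6, .a7, .a9]⟩,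
  ⟨32, [.a5], [.a5]⟩,
  ⟨64, [.a6], [.a6]⟩,
  ⟨256, [.a8], [.a8]⟩]
def B1274 : List Gv := [⟨[.a0, .a7], [.a0, .a2, .a3, .a5, .a7, .a8]⟩, ⟨[.a2, .a11], [.a2, .a5, .a6, .a8, .a11]⟩]
def D1274 : List Dv := [⟨[.a3, .a5, .a6, .a8, .a11], [1, 0, 0], []⟩,
  ⟨[.a4, .a5, .a7, .a9], [0, 2, 2, 1], [1, 2]⟩,
  ⟨[.a5, .a6, .a8], [3, 3], []⟩,
  ⟨[.a8], [0, 1, 2, 4, 2, 3], [3, 2]⟩,
  ⟨[.a6, .a8], [1, 2, 4], [4, 2]⟩,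
  ⟨[.a6], [0], [1]⟩,
  ⟨[.a5], [3], [0, 2]⟩,
  ⟨[.a4, .a7, .a9], [5], [0]⟩,
  ⟨[.a3, .a11], [7], [1, 2, 4]⟩]
def C1274 : List Ch := [⟨P789, 0, [.a10], [.a10, .a11]⟩,
  ⟨P945, 1, [], []⟩,
  ⟨P946, 0, [.a4], [.a4, .a5]⟩]
def N1274 : List Ent := [⟨1, [.a0, .a7], [.a0, .a2, .a3, .a5, .a7, .a8]⟩,
  ⟨4, [.a2, .a11], [.a2, .a5, .a6, .a8, .a11]⟩,
  ⟨8, [.a3, .a11], [.a3, .a8, .a11]⟩,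
  ⟨16, [.a4, .a7, .a9], [.a4, .a5, .a6, .a7, .a9]⟩,
  ⟨32, [.a5], [.a5]⟩,
  ⟨64, [.a6], [.a6]⟩,
  ⟨128, [.a7], [.a7, .a8]⟩,
  ⟨256, [.a8], [.a8]⟩,
  ⟨2048, [.a11], [.a11]⟩]
theorem bad1274 (c : CtxF Goal γ) : Bad Goal γ [] P1274 :=
  c.toCtx.bnd (B := B1274) (D := D1274) (I := [9, 10, 0, 1, 2, 3, 5]) (r := 2) (C := C1274) (N := N1274) (by decide +kernel) (by decide +kernel) (by decide +kernel) (by decide +kernel)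
    (allB_cons (bad789 c) (allB_cons (bad945 c) (allB_cons (bad946 c) (allB_nil))))

def P1275 : List Ent := [⟨1, [.a0, .a7, .a9], [.a0, .a2, .a6, .a7, .a8, .a9]⟩,
  ⟨4, [.a2], [.a2]⟩,
  ⟨8, [.a3, .a4, .a7, .a9], [.a3, .a4, .a6, .a7, .a9]⟩,
  ⟨32, [.a5], [.a5]⟩,
  ⟨64, [.a6], [.a6]⟩,
  ⟨256, [.a8], [.a8]⟩,
  ⟨2048, [.a11], [.a11]⟩]
def B1275 : List Gv := [⟨[.a0, .a7, .a9], [.a0, .a2, .a6, .a7, .a8, .a9]⟩, ⟨[.a11], [.a11]⟩]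
def D1275 : List Dv := [⟨[.a2, .a5, .a6, .a8], [0, 0], []⟩,
  ⟨[.a3, .a4, .a5, .a6, .a7, .a8, .a9], [0, 2, 1], [1, 2]⟩,
  ⟨[.a5, .a6, .a8], [1, 3], [3, 1]⟩,
  ⟨[.a8], [1, 3], [3, 1]⟩,
  ⟨[.a6, .a8], [1, 2, 3], [3, 2]⟩,
  ⟨[.a6], [0], [1]⟩,
  ⟨[.a5], [3], [0, 2]⟩,
  ⟨[.a3, .a4, .a7, .a9], [5], [0, 1, 3]⟩,
  ⟨[.a2], [7], [1, 2, 4]⟩]
def C1275 : List Ch := [⟨P786, 0, [.a1], [.a1, .a2]⟩,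
  ⟨P951, 1, [], []⟩,
  ⟨P950, 0, [.a1], [.a1, .a2]⟩]
def N1275 : List Ent := [⟨1, [.a0, .a7, .a9], [.a0, .a2, .a6, .a7, .a8, .a9]⟩,
  ⟨4, [.a2], [.a2]⟩,
  ⟨8, [.a3, .a4, .a7, .a9], [.a3, .a4, .a6, .a7, .a9]⟩,
  ⟨16, [.a4], [.a4, .a5]⟩,
  ⟨32, [.a5], [.a5]⟩,
  ⟨64, [.a6], [.a6]⟩,
  ⟨128, [.a7, .a9], [.a7, .a8, .a9]⟩,
  ⟨256, [.a8], [.a8]⟩,
  ⟨2048, [.a11], [.a11]⟩]
theorem bad1275 (c : CtxF Goal γ) : Bad Goal γ [] P1275 :=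
  c.toCtx.bnd (B := B1275) (D := D1275) (I := [9, 0, 1, 2, 3, 5, 10]) (r := 2) (C := C1275) (N := N1275) (by decide +kernel) (by decide +kernel) (by decide +kernel) (by decide +kernel)
    (allB_cons (bad786 c) (allB_cons (bad951 c) (allB_cons (bad950 c) (allB_nil))))

def P1276 : List Ent := [⟨1, [.a0, .a7, .a9], [.a0, .a2, .a6, .a7, .a8, .a9]⟩,
  ⟨4, [.a2], [.a2]⟩,
  ⟨8, [.a3], [.a3]⟩,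
  ⟨16, [.a4, .a7, .a9], [.a4, .a5, .a6, .a7, .a9]⟩,
  ⟨32, [.a5], [.a5]⟩,
  ⟨64, [.a6], [.a6]⟩,
  ⟨256, [.a8], [.a8]⟩]
def B1276 : List Gv := [⟨[.a0, .a7, .a9], [.a0, .a2, .a6, .a7, .a8, .a9]⟩, ⟨[.a3], [.a3]⟩, ⟨[.a4, .a7, .a9], [.a4, .a5, .a6, .a7, .a9]⟩]
def D1276 : List Dv := [⟨[.a2, .a5, .a6, .a8], [0, 0], []⟩,
  ⟨[.a5], [2, 1], [1, 2]⟩,
  ⟨[.a8], [4, 2], [2, 4]⟩,
  ⟨[.a6], [1, 5, 5], []⟩,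
  ⟨[.a2], [3], [2, 0, 1]⟩]
def C1276 : List Ch := [⟨P788, 0, [.a10], [.a10, .a11]⟩,
  ⟨P951, 1, [.a1], [.a1, .a2]⟩,
  ⟨P951, 0, [.a1, .a7], [.a1, .a2, .a7, .a8]⟩,
  ⟨P952, 2, [], []⟩,
  ⟨P952, 0, [.a11], [.a11]⟩,
  ⟨P951, 1, [], []⟩,
  ⟨P951, 0, [.a7], [.a7, .a8]⟩]
def N1276 : List Ent := [⟨1, [.a0, .a7, .a9], [.a0, .a2, .a6, .a7, .a8, .a9]⟩,
  ⟨2, [.a1], [.a1, .a2]⟩,
  ⟨4, [.a2], [.a2]⟩,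
  ⟨8, [.a3], [.a3]⟩,
  ⟨16, [.a4, .a7, .a9], [.a4, .a5, .a6, .a7, .a9]⟩,
  ⟨32, [.a5], [.a5]⟩,
  ⟨64, [.a6], [.a6]⟩,
  ⟨128, [.a7], [.a7, .a8]⟩,
  ⟨256, [.a8], [.a8]⟩,
  ⟨512, [.a9], [.a9]⟩,
  ⟨2048, [.a11], [.a11]⟩]
theorem bad1276 (c : CtxF Goal γ) : Bad Goal γ [] P1276 :=
  c.toCtx.bnd (B := B1276) (D := D1276) (I := [5, 0, 6, 7, 3, 1, 2]) (r := 3) (C := C1276) (N := N1276) (by decide +kernel) (by decide +kernel) (by decide +kernel) (by decide +kernel)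
    (allB_cons (bad788 c) (allB_cons (bad951 c) (allB_cons (bad951 c) (allB_cons (bad952 c) (allB_cons (bad952 c) (allB_cons (bad951 c) (allB_cons (bad951 c) (allB_nil))))))))

def P1277 : List Ent := [⟨1, [.a0, .a7, .a9], [.a0, .a2, .a6, .a7, .a8, .a9]⟩,
  ⟨4, [.a2], [.a2]⟩,
  ⟨8, [.a3, .a11], [.a3, .a8, .a11]⟩,
  ⟨16, [.a4, .a7, .a9, .a11], [.a4, .a5, .a6, .a7, .a9, .a11]⟩,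
  ⟨32, [.a5], [.a5]⟩,
  ⟨64, [.a6], [.a6]⟩,
  ⟨256, [.a8], [.a8]⟩]
def B1277 : List Gv := [⟨[.a0, .a7, .a9], [.a0, .a2, .a6, .a7, .a8, .a9]⟩, ⟨[.a3, .a11], [.a3, .a8, .a11]⟩]
def D1277 : List Dv := [⟨[.a2, .a5, .a6, .a8], [0, 0], []⟩,
  ⟨[.a4, .a5, .a6, .a7, .a9, .a11], [2, 0, 2, 1], [1, 2]⟩,
  ⟨[.a8], [3, 3], []⟩,
  ⟨[.a5, .a6, .a8], [2, 4], [4, 2]⟩,
  ⟨[.a6], [0, 2, 5], [5, 2]⟩,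
  ⟨[.a5], [1], [0, 2]⟩,
  ⟨[.a4, .a7, .a9, .a11], [4], [0, 1]⟩,
  ⟨[.a2], [6], [1, 2, 4]⟩]
def C1277 : List Ch := [⟨P791, 0, [.a10], [.a10, .a11]⟩,
  ⟨P951, 1, [], []⟩,
  ⟨P950, 0, [.a1, .a7], [.a1, .a2, .a7, .a8]⟩]
def N1277 : List Ent := [⟨1, [.a0, .a7, .a9], [.a0, .a2, .a6, .a7, .a8, .a9]⟩,
  ⟨4, [.a2], [.a2]⟩,
  ⟨8, [.a3, .a11], [.a3, .a8, .a11]⟩,
  ⟨16, [.a4, .a7, .a9, .a11], [.a4, .a5, .a6, .a7, .a9, .a11]⟩,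
  ⟨32, [.a5], [.a5]⟩,
  ⟨64, [.a6], [.a6]⟩,
  ⟨128, [.a7, .a9], [.a7, .a8, .a9]⟩,
  ⟨256, [.a8], [.a8]⟩,
  ⟨2048, [.a11], [.a11]⟩]
theorem bad1277 (c : CtxF Goal γ) : Bad Goal γ [] P1277 :=
  c.toCtx.bnd (B := B1277) (D := D1277) (I := [8, 0, 9, 1, 2, 3, 5]) (r := 2) (C := C1277) (N := N1277) (by decide +kernel) (by decide +kernel) (by decide +kernel) (by decide +kernel)
    (allB_cons (bad791 c) (allB_cons (bad951 c) (allB_cons (bad950 c) (allB_nil))))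

def P1278 : List Ent := [⟨1, [.a0, .a7], [.a0, .a2, .a3, .a5, .a7, .a8]⟩,
  ⟨4, [.a2], [.a2]⟩,
  ⟨8, [.a3], [.a3]⟩,
  ⟨32, [.a5], [.a5]⟩,
  ⟨64, [.a6], [.a6]⟩,
  ⟨256, [.a8], [.a8]⟩,
  ⟨512, [.a9], [.a9]⟩]
def B1278 : List Gv := [⟨[.a0, .a7], [.a0, .a2, .a3, .a5, .a7, .a8]⟩, ⟨[.a2], [.a2]⟩, ⟨[.a3], [.a3]⟩, ⟨[.a9], [.a9]⟩]
def D1278 : List Dv := [⟨[.a8], [2, 1, 0, 0], []⟩,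
  ⟨[.a5], [3, 1], [1, 3]⟩,
  ⟨[.a6], [4, 5, 2], [2, 5]⟩]
def C1278 : List Ch := [⟨P661, 0, [], []⟩,
  ⟨P953, 1, [], []⟩,
  ⟨P953, 0, [.a0], [.a0]⟩,
  ⟨P954, 2, [], []⟩,
  ⟨P954, 0, [.a0], [.a0]⟩,
  ⟨P955, 1, [], []⟩,
  ⟨P956, 0, [], []⟩,
  ⟨P948, 3, [], []⟩,
  ⟨P952, 0, [], []⟩,
  ⟨P953, 1, [.a1], [.a1, .a2]⟩,
  ⟨P953, 0, [.a4], [.a4, .a5]⟩,
  ⟨P954, 2, [.a0, .a2, .a4], [.a0, .a4, .a5]⟩,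
  ⟨P954, 0, [.a4], [.a4, .a5]⟩,
  ⟨P955, 1, [.a1], [.a1, .a2]⟩,
  ⟨P956, 0, [.a1], [.a1, .a2]⟩]
def N1278 : List Ent := [⟨1, [.a0, .a7], [.a0, .a2, .a3, .a5, .a7, .a8]⟩,
  ⟨2, [.a1], [.a1, .a2]⟩,
  ⟨4, [.a2], [.a2]⟩,
  ⟨8, [.a3], [.a3]⟩,
  ⟨16, [.a4], [.a4, .a5]⟩,
  ⟨32, [.a5], [.a5]⟩,
  ⟨64, [.a6], [.a6]⟩,
  ⟨128, [.a7], [.a7, .a8]⟩,
  ⟨256, [.a8], [.a8]⟩,
  ⟨512, [.a9], [.a9]⟩]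
theorem bad1278 (c : CtxF Goal γ) : Bad Goal γ [] P1278 :=
  c.toCtx.bnd (B := B1278) (D := D1278) (I := [3, 4, 5, 1, 0, 2, 6]) (r := 4) (C := C1278) (N := N1278) (by decide +kernel) (by decide +kernel) (by decide +kernel) (by decide +kernel)
    (allB_cons (bad661 c) (allB_cons (bad953 c) (allB_cons (bad953 c) (allB_cons (bad954 c) (allB_cons (bad954 c) (allB_cons (bad955 c) (allB_cons (bad956 c) (allB_cons (bad948 c) (allB_cons (bad952 c) (allB_cons (bad953 c) (allB_cons (bad953 c) (allB_cons (bad954 c) (allB_cons (bad954 c) (allB_cons (bad955 c) (allB_cons (bad956 c) (allB_nil))))))))))))))))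

def P1279 : List Ent := [⟨1, [.a0, .a7], [.a0, .a2, .a3, .a5, .a7, .a8]⟩,
  ⟨4, [.a2], [.a2]⟩,
  ⟨8, [.a3], [.a3]⟩,
  ⟨16, [.a4, .a7], [.a4, .a5, .a6, .a7, .a8]⟩,
  ⟨32, [.a5], [.a5]⟩,
  ⟨64, [.a6], [.a6]⟩,
  ⟨256, [.a8], [.a8]⟩]
def B1279 : List Gv := [⟨[.a0, .a7], [.a0, .a2, .a3, .a5, .a7, .a8]⟩, ⟨[.a3], [.a3]⟩, ⟨[.a4, .a7], [.a4, .a5, .a6, .a7, .a8]⟩]
def D1279 : List Dv := [⟨[.a2, .a3, .a8], [0, 0], []⟩,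
  ⟨[.a5], [2, 1], [1, 2]⟩,
  ⟨[.a6], [3, 4, 2], [2, 4]⟩,
  ⟨[.a8], [0, 1, 5, 5], []⟩,
  ⟨[.a2], [3], [5, 0]⟩]
def C1279 : List Ch := [⟨P788, 0, [], []⟩,
  ⟨P957, 1, [], []⟩,
  ⟨P957, 0, [.a0, .a1], [.a0, .a1, .a2]⟩,
  ⟨P948, 2, [], []⟩,
  ⟨P952, 0, [.a11], [.a11]⟩,
  ⟨P957, 1, [.a1], [.a1, .a2]⟩,
  ⟨P957, 0, [.a0], [.a0]⟩]
def N1279 : List Ent := [⟨1, [.a0, .a7], [.a0, .a2, .a3, .a5, .a7, .a8]⟩,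
  ⟨2, [.a1], [.a1, .a2]⟩,
  ⟨4, [.a2], [.a2]⟩,
  ⟨8, [.a3], [.a3]⟩,
  ⟨16, [.a4, .a7], [.a4, .a5, .a6, .a7, .a8]⟩,
  ⟨32, [.a5], [.a5]⟩,
  ⟨64, [.a6], [.a6]⟩,
  ⟨128, [.a7], [.a7, .a8]⟩,
  ⟨256, [.a8], [.a8]⟩,
  ⟨512, [.a9], [.a9]⟩]
theorem bad1279 (c : CtxF Goal γ) : Bad Goal γ [] P1279 :=
  c.toCtx.bnd (B := B1279) (D := D1279) (I := [5, 0, 6, 7, 3, 2, 1]) (r := 3) (C := C1279) (N := N1279) (by decide +kernel) (by decide +kernel) (by decide +kernel) (by decide +kernel)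
    (allB_cons (bad788 c) (allB_cons (bad957 c) (allB_cons (bad957 c) (allB_cons (bad948 c) (allB_cons (bad952 c) (allB_cons (bad957 c) (allB_cons (bad957 c) (allB_nil))))))))

def P1280 : List Ent := [⟨1, [.a0, .a7, .a11], [.a0, .a4, .a5, .a9, .a11]⟩,
  ⟨8, [.a3], [.a3]⟩,
  ⟨16, [.a4, .a7], [.a4, .a5, .a6, .a7, .a8]⟩,
  ⟨32, [.a5], [.a5]⟩,
  ⟨64, [.a6], [.a6]⟩,
  ⟨256, [.a8], [.a8]⟩,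
  ⟨512, [.a9], [.a9]⟩]
def B1280 : List Gv := [⟨[.a0, .a7, .a11], [.a0, .a4, .a5, .a9, .a11]⟩, ⟨[.a4, .a7], [.a4, .a5, .a6, .a7, .a8]⟩]
def D1280 : List Dv := [⟨[.a5, .a6, .a9], [1, 0, 0], []⟩,
  ⟨[.a3, .a6], [2, 1], [1, 2]⟩,
  ⟨[.a8, .a9], [1, 3, 3], []⟩,
  ⟨[.a9], [0, 2, 4], [4, 2]⟩,
  ⟨[.a6, .a9], [3, 2, 5], [5, 2]⟩,
  ⟨[.a8], [2], [1]⟩,
  ⟨[.a6], [1], [2]⟩,
  ⟨[.a5], [6], [0, 3]⟩,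
  ⟨[.a3], [6], [1]⟩]
def C1280 : List Ch := [⟨P635, 0, [], []⟩,
  ⟨P949, 1, [], []⟩,
  ⟨P949, 0, [.a1], [.a1, .a2]⟩]
def N1280 : List Ent := [⟨1, [.a0, .a7, .a11], [.a0, .a4, .a5, .a9, .a11]⟩,
  ⟨2, [.a1], [.a1, .a2]⟩,
  ⟨4, [.a2], [.a2]⟩,
  ⟨8, [.a3], [.a3]⟩,
  ⟨16, [.a4, .a7], [.a4, .a5, .a6, .a7, .a8]⟩,
  ⟨32, [.a5], [.a5]⟩,
  ⟨64, [.a6], [.a6]⟩,
  ⟨128, [.a7, .a11], [.a7, .a8, .a11]⟩,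
  ⟨256, [.a8], [.a8]⟩,
  ⟨512, [.a9], [.a9]⟩]
theorem bad1280 (c : CtxF Goal γ) : Bad Goal γ [] P1280 :=
  c.toCtx.bnd (B := B1280) (D := D1280) (I := [9, 0, 10, 1, 2, 3, 5]) (r := 2) (C := C1280) (N := N1280) (by decide +kernel) (by decide +kernel) (by decide +kernel) (by decide +kernel)
    (allB_cons (bad635 c) (allB_cons (bad949 c) (allB_cons (bad949 c) (allB_nil))))

def P1281 : List Ent := [⟨1, [.a0, .a7, .a11], [.a0, .a4, .a5, .a9, .a11]⟩,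
  ⟨4, [.a2, .a9], [.a2, .a5, .a9]⟩,
  ⟨8, [.a3], [.a3]⟩,
  ⟨16, [.a4, .a7, .a9], [.a4, .a5, .a6, .a7, .a9]⟩,
  ⟨32, [.a5], [.a5]⟩,
  ⟨64, [.a6], [.a6]⟩,
  ⟨256, [.a8], [.a8]⟩]
def B1281 : List Gv := [⟨[.a0, .a7, .a11], [.a0, .a4, .a5, .a9, .a11]⟩, ⟨[.a2, .a9], [.a2, .a5, .a9]⟩]
def D1281 : List Dv := [⟨[.a4, .a7, .a8, .a9], [0, 0], []⟩,
  ⟨[.a3, .a8], [2, 1], [1, 2]⟩,
  ⟨[.a5], [3, 3], []⟩,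
  ⟨[.a8], [0, 2, 4], [4, 2]⟩,
  ⟨[.a6], [1, 3, 3], []⟩,
  ⟨[.a4, .a7, .a9], [4], [1]⟩,
  ⟨[.a3], [4], [2]⟩]
def C1281 : List Ch := [⟨P792, 0, [.a10], [.a10, .a11]⟩,
  ⟨P949, 1, [], []⟩,
  ⟨P949, 0, [.a1, .a3, .a4], [.a1, .a2, .a4, .a5]⟩]
def N1281 : List Ent := [⟨1, [.a0, .a7, .a11], [.a0, .a4, .a5, .a9, .a11]⟩,
  ⟨2, [.a1, .a11], [.a1, .a2, .a5, .a6, .a9, .a11]⟩,
  ⟨4, [.a2, .a9], [.a2, .a5, .a9]⟩,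
  ⟨8, [.a3], [.a3]⟩,
  ⟨16, [.a4, .a7, .a9], [.a4, .a5, .a6, .a7, .a9]⟩,
  ⟨32, [.a5], [.a5]⟩,
  ⟨64, [.a6], [.a6]⟩,
  ⟨128, [.a7, .a11], [.a7, .a8, .a11]⟩,
  ⟨256, [.a8], [.a8]⟩,
  ⟨512, [.a9], [.a9]⟩]
theorem bad1281 (c : CtxF Goal γ) : Bad Goal γ [] P1281 :=
  c.toCtx.bnd (B := B1281) (D := D1281) (I := [7, 8, 0, 1, 4, 2, 3]) (r := 2) (C := C1281) (N := N1281) (by decide +kernel) (by decide +kernel) (by decide +kernel) (by decide +kernel)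
    (allB_cons (bad792 c) (allB_cons (bad949 c) (allB_cons (bad949 c) (allB_nil))))

def P1282 : List Ent := [⟨1, [.a0, .a7], [.a0, .a2, .a3, .a5, .a7, .a8]⟩,
  ⟨2, [.a1, .a7], [.a1, .a2, .a7, .a8]⟩,
  ⟨4, [.a2], [.a2]⟩,
  ⟨8, [.a3], [.a3]⟩,
  ⟨32, [.a5], [.a5]⟩,
  ⟨64, [.a6], [.a6]⟩,
  ⟨256, [.a8], [.a8]⟩]
def B1282 : List Gv := [⟨[.a0, .a7], [.a0, .a2, .a3, .a5, .a7, .a8]⟩, ⟨[.a1, .a7], [.a1, .a2, .a7, .a8]⟩, ⟨[.a6], [.a6]⟩]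
def D1282 : List Dv := [⟨[.a2, .a3, .a8], [0, 0], []⟩,
  ⟨[.a8], [0, 2, 1], [1, 2]⟩,
  ⟨[.a3], [1, 3, 3], []⟩,
  ⟨[.a5], [5, 4], [4, 5]⟩,
  ⟨[.a2], [3], [1, 2]⟩]
def C1282 : List Ch := [⟨P859, 0, [], []⟩,
  ⟨P948, 1, [], []⟩,
  ⟨P948, 0, [.a10], [.a10, .a11]⟩,
  ⟨P958, 2, [], []⟩,
  ⟨P959, 0, [], []⟩,
  ⟨P959, 1, [.a4], [.a4, .a5]⟩,
  ⟨P958, 0, [.a4], [.a4, .a5]⟩]
def N1282 : List Ent := [⟨1, [.a0, .a7], [.a0, .a2, .a3, .a5, .a7, .a8]⟩,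
  ⟨2, [.a1, .a7], [.a1, .a2, .a7, .a8]⟩,
  ⟨4, [.a2], [.a2]⟩,
  ⟨8, [.a3], [.a3]⟩,
  ⟨16, [.a4], [.a4, .a5]⟩,
  ⟨32, [.a5], [.a5]⟩,
  ⟨64, [.a6], [.a6]⟩,
  ⟨128, [.a7], [.a7, .a8]⟩,
  ⟨256, [.a8], [.a8]⟩,
  ⟨512, [.a9], [.a9]⟩]
theorem bad1282 (c : CtxF Goal γ) : Bad Goal γ [] P1282 :=
  c.toCtx.bnd (B := B1282) (D := D1282) (I := [5, 6, 0, 2, 1, 7, 3]) (r := 3) (C := C1282) (N := N1282) (by decide +kernel) (by decide +kernel) (by decide +kernel) (by decide +kernel)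
    (allB_cons (bad859 c) (allB_cons (bad948 c) (allB_cons (bad948 c) (allB_cons (bad958 c) (allB_cons (bad959 c) (allB_cons (bad959 c) (allB_cons (bad958 c) (allB_nil))))))))

def P1283 : List Ent := [⟨1, [.a0, .a7, .a9], [.a0, .a2, .a6, .a7, .a8, .a9]⟩,
  ⟨2, [.a1, .a7], [.a1, .a2, .a7, .a8]⟩,
  ⟨4, [.a2], [.a2]⟩,
  ⟨8, [.a3], [.a3]⟩,
  ⟨32, [.a5], [.a5]⟩,
  ⟨64, [.a6], [.a6]⟩,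
  ⟨256, [.a8], [.a8]⟩]
def B1283 : List Gv := [⟨[.a0, .a7, .a9], [.a0, .a2, .a6, .a7, .a8, .a9]⟩, ⟨[.a1, .a7], [.a1, .a2, .a7, .a8]⟩, ⟨[.a2], [.a2]⟩]
def D1283 : List Dv := [⟨[.a5, .a6, .a8], [2, 0, 0], []⟩,
  ⟨[.a3, .a5, .a6, .a8], [3, 2, 1], [1, 2]⟩,
  ⟨[.a8], [4, 3, 3], []⟩,
  ⟨[.a6, .a8], [2, 5, 3], [3, 5]⟩,
  ⟨[.a6], [0], [1]⟩,
  ⟨[.a5], [4], [0, 2]⟩,
  ⟨[.a3], [4], [0, 1, 3]⟩]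
def C1283 : List Ch := [⟨P859, 0, [], []⟩,
  ⟨P952, 1, [], []⟩,
  ⟨P952, 0, [.a10], [.a10, .a11]⟩,
  ⟨P960, 2, [], []⟩,
  ⟨P960, 0, [.a1], [.a1, .a2]⟩,
  ⟨P960, 1, [.a9], [.a9]⟩,
  ⟨P960, 0, [.a0], [.a0]⟩]
def N1283 : List Ent := [⟨1, [.a0, .a7, .a9], [.a0, .a2, .a6, .a7, .a8, .a9]⟩,
  ⟨2, [.a1, .a7], [.a1, .a2, .a7, .a8]⟩,
  ⟨4, [.a2], [.a2]⟩,
  ⟨8, [.a3], [.a3]⟩,
  ⟨16, [.a4], [.a4, .a5]⟩,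
  ⟨32, [.a5], [.a5]⟩,
  ⟨64, [.a6], [.a6]⟩,
  ⟨128, [.a7], [.a7, .a8]⟩,
  ⟨256, [.a8], [.a8]⟩,
  ⟨512, [.a9], [.a9]⟩]
theorem bad1283 (c : CtxF Goal γ) : Bad Goal γ [] P1283 :=
  c.toCtx.bnd (B := B1283) (D := D1283) (I := [7, 8, 9, 0, 1, 2, 4]) (r := 3) (C := C1283) (N := N1283) (by decide +kernel) (by decide +kernel) (by decide +kernel) (by decide +kernel)
    (allB_cons (bad859 c) (allB_cons (bad952 c) (allB_cons (bad952 c) (allB_cons (bad960 c) (allB_cons (bad960 c) (allB_cons (bad960 c) (allB_cons (bad960 c) (allB_nil))))))))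

def P1284 : List Ent := [⟨1, [.a0, .a7], [.a0, .a2, .a3, .a5, .a7, .a8]⟩,
  ⟨2, [.a1, .a7, .a9], [.a1, .a2, .a6, .a7, .a9]⟩,
  ⟨4, [.a2], [.a2]⟩,
  ⟨8, [.a3], [.a3]⟩,
  ⟨32, [.a5], [.a5]⟩,
  ⟨64, [.a6], [.a6]⟩,
  ⟨256, [.a8], [.a8]⟩]
def B1284 : List Gv := [⟨[.a0, .a7], [.a0, .a2, .a3, .a5, .a7, .a8]⟩, ⟨[.a1, .a7, .a9], [.a1, .a2, .a6, .a7, .a9]⟩, ⟨[.a2], [.a2]⟩, ⟨[.a3], [.a3]⟩]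
def D1284 : List Dv := [⟨[.a8], [3, 2, 0, 0], []⟩,
  ⟨[.a6], [3, 2, 1], [1, 2]⟩,
  ⟨[.a5, .a6], [4, 3, 3], []⟩,
  ⟨[.a5], [0], [1]⟩]
def C1284 : List Ch := [⟨P859, 0, [.a11], [.a11]⟩,
  ⟨P948, 1, [], []⟩,
  ⟨P952, 0, [.a10], [.a10, .a11]⟩,
  ⟨P961, 2, [], []⟩,
  ⟨P961, 0, [.a0], [.a0]⟩,
  ⟨P962, 1, [], []⟩,
  ⟨P962, 0, [.a0], [.a0]⟩,
  ⟨P963, 3, [], []⟩,
  ⟨P963, 0, [.a0], [.a0]⟩,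
  ⟨P963, 1, [.a1], [.a1, .a2]⟩,
  ⟨P963, 0, [.a9], [.a9]⟩,
  ⟨P964, 2, [], []⟩,
  ⟨P965, 0, [], []⟩,
  ⟨P964, 1, [.a1], [.a1, .a2]⟩,
  ⟨P965, 0, [.a1], [.a1, .a2]⟩]
def N1284 : List Ent := [⟨1, [.a0, .a7], [.a0, .a2, .a3, .a5, .a7, .a8]⟩,
  ⟨2, [.a1, .a7, .a9], [.a1, .a2, .a6, .a7, .a9]⟩,
  ⟨4, [.a2], [.a2]⟩,
  ⟨8, [.a3], [.a3]⟩,
  ⟨16, [.a4], [.a4, .a5]⟩,
  ⟨32, [.a5], [.a5]⟩,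
  ⟨64, [.a6], [.a6]⟩,
  ⟨128, [.a7], [.a7, .a8]⟩,
  ⟨256, [.a8], [.a8]⟩,
  ⟨512, [.a9], [.a9]⟩]
theorem bad1284 (c : CtxF Goal γ) : Bad Goal γ [] P1284 :=
  c.toCtx.bnd (B := B1284) (D := D1284) (I := [4, 5, 6, 7, 0, 2, 3]) (r := 4) (C := C1284) (N := N1284) (by decide +kernel) (by decide +kernel) (by decide +kernel) (by decide +kernel)
    (allB_cons (bad859 c) (allB_cons (bad948 c) (allB_cons (bad952 c) (allB_cons (bad961 c) (allB_cons (bad961 c) (allB_cons (bad962 c) (allB_cons (bad962 c) (allB_cons (bad963 c) (allB_cons (bad963 c) (allB_cons (bad963 c) (allB_cons (bad963 c) (allB_cons (bad964 c) (allB_cons (bad965 c) (allB_cons (bad964 c) (allB_cons (bad965 c) (allB_nil))))))))))))))))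

def P1285 : List Ent := [⟨1, [.a0, .a7, .a9], [.a0, .a2, .a6, .a7, .a8, .a9]⟩,
  ⟨2, [.a1, .a7, .a9], [.a1, .a2, .a6, .a7, .a9]⟩,
  ⟨4, [.a2], [.a2]⟩,
  ⟨8, [.a3], [.a3]⟩,
  ⟨32, [.a5], [.a5]⟩,
  ⟨64, [.a6], [.a6]⟩,
  ⟨256, [.a8], [.a8]⟩]
def B1285 : List Gv := [⟨[.a0, .a7, .a9], [.a0, .a2, .a6, .a7, .a8, .a9]⟩, ⟨[.a1, .a7, .a9], [.a1, .a2, .a6, .a7, .a9]⟩, ⟨[.a3], [.a3]⟩]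
def D1285 : List Dv := [⟨[.a2, .a5, .a6, .a8], [0, 0], []⟩,
  ⟨[.a6], [0, 2, 1], [1, 2]⟩,
  ⟨[.a8], [1, 3, 3], []⟩,
  ⟨[.a5], [5, 3], [3, 5]⟩,
  ⟨[.a2], [3], [0, 2, 1]⟩]
def C1285 : List Ch := [⟨P859, 0, [.a11], [.a11]⟩,
  ⟨P952, 1, [], []⟩,
  ⟨P948, 0, [.a10], [.a10, .a11]⟩,
  ⟨P966, 2, [], []⟩,
  ⟨P966, 0, [.a7], [.a7, .a8]⟩,
  ⟨P966, 1, [.a4], [.a4, .a5]⟩,
  ⟨P966, 0, [.a4, .a6, .a7], [.a4, .a5, .a7, .a8]⟩]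
def N1285 : List Ent := [⟨1, [.a0, .a7, .a9], [.a0, .a2, .a6, .a7, .a8, .a9]⟩,
  ⟨2, [.a1, .a7, .a9], [.a1, .a2, .a6, .a7, .a9]⟩,
  ⟨4, [.a2], [.a2]⟩,
  ⟨8, [.a3], [.a3]⟩,
  ⟨16, [.a4], [.a4, .a5]⟩,
  ⟨32, [.a5], [.a5]⟩,
  ⟨64, [.a6], [.a6]⟩,
  ⟨128, [.a7], [.a7, .a8]⟩,
  ⟨256, [.a8], [.a8]⟩,
  ⟨512, [.a9], [.a9]⟩]
theorem bad1285 (c : CtxF Goal γ) : Bad Goal γ [] P1285 :=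
  c.toCtx.bnd (B := B1285) (D := D1285) (I := [5, 6, 0, 7, 1, 3, 2]) (r := 3) (C := C1285) (N := N1285) (by decide +kernel) (by decide +kernel) (by decide +kernel) (by decide +kernel)
    (allB_cons (bad859 c) (allB_cons (bad952 c) (allB_cons (bad948 c) (allB_cons (bad966 c) (allB_cons (bad966 c) (allB_cons (bad966 c) (allB_cons (bad966 c) (allB_nil))))))))

def P1286 : List Ent := [⟨1, [.a0, .a7, .a10], [.a0, .a1, .a3, .a4, .a7, .a10, .a11]⟩,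
  ⟨2, [.a1, .a7, .a9, .a11], [.a1, .a2, .a5, .a7, .a11]⟩,
  ⟨4, [.a2, .a9], [.a2, .a5, .a9]⟩,
  ⟨8, [.a3], [.a3]⟩,
  ⟨32, [.a5], [.a5]⟩,
  ⟨64, [.a6], [.a6]⟩,
  ⟨256, [.a8], [.a8]⟩]
def B1286 : List Gv := [⟨[.a0, .a7, .a10], [.a0, .a1, .a3, .a4, .a7, .a10, .a11]⟩, ⟨[.a3], [.a3]⟩]
def D1286 : List Dv := [⟨[.a1, .a2, .a6, .a7, .a11], [0, 0], []⟩,
  ⟨[.a6], [2, 1], [1, 2]⟩,
  ⟨[.a5, .a8], [1, 3], [3, 1]⟩,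
  ⟨[.a2, .a6, .a8, .a9], [2, 2], []⟩,
  ⟨[.a8], [1, 2, 3], [3, 2]⟩,
  ⟨[.a5], [2], [0]⟩,
  ⟨[.a2, .a9], [2], [4, 1]⟩,
  ⟨[.a1, .a7, .a9, .a11], [6], [0, 2]⟩]
def C1286 : List Ch := [⟨P860, 0, [.a1], [.a1, .a2]⟩,
  ⟨P967, 1, [], []⟩,
  ⟨P967, 0, [.a9], [.a9]⟩]
def N1286 : List Ent := [⟨1, [.a0, .a7, .a10], [.a0, .a1, .a3, .a4, .a7, .a10, .a11]⟩,
  ⟨2, [.a1, .a7, .a9, .a11], [.a1, .a2, .a5, .a7, .a11]⟩,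
  ⟨4, [.a2, .a9], [.a2, .a5, .a9]⟩,
  ⟨8, [.a3], [.a3]⟩,
  ⟨32, [.a5], [.a5]⟩,
  ⟨64, [.a6], [.a6]⟩,
  ⟨128, [.a7], [.a7, .a8]⟩,
  ⟨256, [.a8], [.a8]⟩,
  ⟨512, [.a9], [.a9]⟩]
theorem bad1286 (c : CtxF Goal γ) : Bad Goal γ [] P1286 :=
  c.toCtx.bnd (B := B1286) (D := D1286) (I := [8, 0, 1, 9, 2, 6, 3]) (r := 2) (C := C1286) (N := N1286) (by decide +kernel) (by decide +kernel) (by decide +kernel) (by decide +kernel)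
    (allB_cons (bad860 c) (allB_cons (bad967 c) (allB_cons (bad967 c) (allB_nil))))

def P1287 : List Ent := [⟨1, [.a0], [.a0]⟩,
  ⟨4, [.a2, .a3], [.a2, .a3]⟩,
  ⟨16, [.a4, .a9], [.a4, .a5, .a8, .a9]⟩,
  ⟨32, [.a5], [.a5]⟩,
  ⟨64, [.a6], [.a6]⟩,
  ⟨128, [.a7], [.a7, .a8]⟩,
  ⟨256, [.a8], [.a8]⟩]
def B1287 : List Gv := [⟨[.a0], [.a0]⟩, ⟨[.a4, .a9], [.a4, .a5, .a8, .a9]⟩, ⟨[.a7], [.a7, .a8]⟩]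
def D1287 : List Dv := [⟨[.a2, .a3, .a6], [1, 0], [0, 1]⟩,
  ⟨[.a5, .a8], [2, 2], []⟩,
  ⟨[.a6], [1, 4, 2], [2, 4]⟩,
  ⟨[.a8], [5, 5], []⟩,
  ⟨[.a5], [2], [0]⟩,
  ⟨[.a2, .a3], [4], [2]⟩]
def C1287 : List Ch := [⟨P833, 0, [.a10], [.a10, .a11]⟩,
  ⟨P968, 1, [], []⟩,
  ⟨P968, 0, [.a11], [.a11]⟩,
  ⟨P969, 2, [], []⟩,
  ⟨P969, 0, [.a11], [.a11]⟩,
  ⟨P898, 1, [], []⟩,
  ⟨P945, 0, [], []⟩]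
def N1287 : List Ent := [⟨1, [.a0], [.a0]⟩,
  ⟨4, [.a2, .a3], [.a2, .a3]⟩,
  ⟨8, [.a3], [.a3]⟩,
  ⟨16, [.a4, .a9], [.a4, .a5, .a8, .a9]⟩,
  ⟨32, [.a5], [.a5]⟩,
  ⟨64, [.a6], [.a6]⟩,
  ⟨128, [.a7], [.a7, .a8]⟩,
  ⟨256, [.a8], [.a8]⟩,
  ⟨2048, [.a11], [.a11]⟩]
theorem bad1287 (c : CtxF Goal γ) : Bad Goal γ [] P1287 :=
  c.toCtx.bnd (B := B1287) (D := D1287) (I := [6, 0, 7, 1, 3, 8, 2]) (r := 3) (C := C1287) (N := N1287) (by decide +kernel) (by decide +kernel) (by decide +kernel) (by decide +kernel)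
    (allB_cons (bad833 c) (allB_cons (bad968 c) (allB_cons (bad968 c) (allB_cons (bad969 c) (allB_cons (bad969 c) (allB_cons (bad898 c) (allB_cons (bad945 c) (allB_nil))))))))

def P1288 : List Ent := [⟨1, [.a0, .a11], [.a0, .a2, .a3, .a4, .a5, .a6, .a7, .a9, .a11]⟩,
  ⟨4, [.a2, .a3], [.a2, .a3]⟩,
  ⟨16, [.a4, .a9], [.a4, .a5, .a8, .a9]⟩,
  ⟨32, [.a5], [.a5]⟩,
  ⟨64, [.a6], [.a6]⟩,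
  ⟨128, [.a7], [.a7, .a8]⟩,
  ⟨256, [.a8], [.a8]⟩]
def B1288 : List Gv := [⟨[.a0, .a11], [.a0, .a2, .a3, .a4, .a5, .a6, .a7, .a9, .a11]⟩, ⟨[.a4, .a9], [.a4, .a5, .a8, .a9]⟩]
def D1288 : List Dv := [⟨[.a2, .a3, .a4, .a5, .a6, .a7, .a9], [0, 0], []⟩,
  ⟨[.a7, .a8], [2, 0, 2, 1], [1, 2]⟩,
  ⟨[.a5, .a8], [3, 3], []⟩,
  ⟨[.a6, .a8], [0, 2, 4], [4, 2]⟩,
  ⟨[.a8], [2, 0, 1, 5, 3, 2, 4], [4, 2]⟩,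
  ⟨[.a7], [3], [0]⟩,
  ⟨[.a6], [2], [1]⟩,
  ⟨[.a5], [4], [2]⟩,
  ⟨[.a2, .a3], [7], [9, 0, 1, 2]⟩]
def C1288 : List Ch := [⟨P833, 0, [.a10], [.a10, .a11]⟩,
  ⟨P899, 1, [], []⟩,
  ⟨P946, 0, [], []⟩]
def N1288 : List Ent := [⟨1, [.a0, .a11], [.a0, .a2, .a3, .a4, .a5, .a6, .a7, .a9, .a11]⟩,
  ⟨4, [.a2, .a3], [.a2, .a3]⟩,
  ⟨8, [.a3], [.a3]⟩,
  ⟨16, [.a4, .a9], [.a4, .a5, .a8, .a9]⟩,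
  ⟨32, [.a5], [.a5]⟩,
  ⟨64, [.a6], [.a6]⟩,
  ⟨128, [.a7], [.a7, .a8]⟩,
  ⟨256, [.a8], [.a8]⟩,
  ⟨2048, [.a11], [.a11]⟩]
theorem bad1288 (c : CtxF Goal γ) : Bad Goal γ [] P1288 :=
  c.toCtx.bnd (B := B1288) (D := D1288) (I := [9, 0, 10, 1, 2, 3, 4]) (r := 2) (C := C1288) (N := N1288) (by decide +kernel) (by decide +kernel) (by decide +kernel) (by decide +kernel)
    (allB_cons (bad833 c) (allB_cons (bad899 c) (allB_cons (bad946 c) (allB_nil))))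

def P1289 : List Ent := [⟨1, [.a0], [.a0]⟩,
  ⟨4, [.a2, .a3], [.a2, .a3]⟩,
  ⟨16, [.a4, .a9, .a11], [.a4, .a5, .a8, .a9, .a11]⟩,
  ⟨32, [.a5], [.a5]⟩,
  ⟨64, [.a6], [.a6]⟩,
  ⟨128, [.a7, .a11], [.a7, .a8, .a11]⟩,
  ⟨256, [.a8], [.a8]⟩]
def B1289 : List Gv := [⟨[.a0], [.a0]⟩, ⟨[.a2, .a3], [.a2, .a3]⟩, ⟨[.a4, .a9, .a11], [.a4, .a5, .a8, .a9, .a11]⟩]
def D1289 : List Dv := [⟨[.a7, .a8, .a11], [2, 2, 0], [0, 2]⟩,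
  ⟨[.a6], [3, 2], [2, 3]⟩,
  ⟨[.a5, .a8], [4, 4], []⟩,
  ⟨[.a8], [2, 2], []⟩,
  ⟨[.a7, .a11], [3], [0]⟩,
  ⟨[.a5], [2], [1]⟩]
def C1289 : List Ch := [⟨P835, 0, [.a10], [.a10, .a11]⟩,
  ⟨P970, 1, [], []⟩,
  ⟨P970, 0, [.a7], [.a7, .a8]⟩,
  ⟨P898, 2, [], []⟩,
  ⟨P946, 0, [], []⟩,
  ⟨P971, 1, [], []⟩,
  ⟨P971, 0, [.a7], [.a7, .a8]⟩]
def N1289 : List Ent := [⟨1, [.a0], [.a0]⟩,
  ⟨4, [.a2, .a3], [.a2, .a3]⟩,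
  ⟨8, [.a3], [.a3]⟩,
  ⟨16, [.a4, .a9, .a11], [.a4, .a5, .a8, .a9, .a11]⟩,
  ⟨32, [.a5], [.a5]⟩,
  ⟨64, [.a6], [.a6]⟩,
  ⟨128, [.a7, .a11], [.a7, .a8, .a11]⟩,
  ⟨256, [.a8], [.a8]⟩,
  ⟨2048, [.a11], [.a11]⟩]
theorem bad1289 (c : CtxF Goal γ) : Bad Goal γ [] P1289 :=
  c.toCtx.bnd (B := B1289) (D := D1289) (I := [6, 7, 8, 0, 4, 1, 2]) (r := 3) (C := C1289) (N := N1289) (by decide +kernel) (by decide +kernel) (by decide +kernel) (by decide +kernel)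
    (allB_cons (bad835 c) (allB_cons (bad970 c) (allB_cons (bad970 c) (allB_cons (bad898 c) (allB_cons (bad946 c) (allB_cons (bad971 c) (allB_cons (bad971 c) (allB_nil))))))))

def P1290 : List Ent := [⟨1, [.a0, .a11], [.a0, .a2, .a3, .a4, .a5, .a6, .a7, .a9, .a11]⟩,
  ⟨4, [.a2, .a3], [.a2, .a3]⟩,
  ⟨16, [.a4, .a9, .a11], [.a4, .a5, .a8, .a9, .a11]⟩,
  ⟨32, [.a5], [.a5]⟩,
  ⟨64, [.a6], [.a6]⟩,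
  ⟨128, [.a7, .a11], [.a7, .a8, .a11]⟩,
  ⟨256, [.a8], [.a8]⟩]
def B1290 : List Gv := [⟨[.a0, .a11], [.a0, .a2, .a3, .a4, .a5, .a6, .a7, .a9, .a11]⟩, ⟨[.a4, .a9, .a11], [.a4, .a5, .a8, .a9, .a11]⟩]
def D1290 : List Dv := [⟨[.a2, .a3, .a4, .a5, .a6, .a7, .a9], [0, 0], []⟩,
  ⟨[.a7, .a8, .a11], [2, 2, 1], [1, 2]⟩,
  ⟨[.a5, .a8], [3, 3], []⟩,
  ⟨[.a6, .a8], [0, 2, 2], []⟩,
  ⟨[.a8], [2, 0, 1, 5, 2, 4], [4, 2]⟩,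
  ⟨[.a7, .a11], [3], [0]⟩,
  ⟨[.a6], [2], [1]⟩,
  ⟨[.a5], [4], [2]⟩,
  ⟨[.a2, .a3], [7], [9, 0, 1, 2]⟩]
def C1290 : List Ch := [⟨P835, 0, [.a10], [.a10, .a11]⟩,
  ⟨P899, 1, [], []⟩,
  ⟨P945, 0, [], []⟩]
def N1290 : List Ent := [⟨1, [.a0, .a11], [.a0, .a2, .a3, .a4, .a5, .a6, .a7, .a9, .a11]⟩,
  ⟨4, [.a2, .a3], [.a2, .a3]⟩,
  ⟨8, [.a3], [.a3]⟩,
  ⟨16, [.a4, .a9, .a11], [.a4, .a5, .a8, .a9, .a11]⟩,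
  ⟨32, [.a5], [.a5]⟩,
  ⟨64, [.a6], [.a6]⟩,
  ⟨128, [.a7, .a11], [.a7, .a8, .a11]⟩,
  ⟨256, [.a8], [.a8]⟩,
  ⟨2048, [.a11], [.a11]⟩]
theorem bad1290 (c : CtxF Goal γ) : Bad Goal γ [] P1290 :=
  c.toCtx.bnd (B := B1290) (D := D1290) (I := [9, 0, 10, 1, 2, 3, 4]) (r := 2) (C := C1290) (N := N1290) (by decide +kernel) (by decide +kernel) (by decide +kernel) (by decide +kernel)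
    (allB_cons (bad835 c) (allB_cons (bad899 c) (allB_cons (bad945 c) (allB_nil))))

def P1291 : List Ent := [⟨1, [.a0], [.a0]⟩,
  ⟨4, [.a2, .a7], [.a2, .a7, .a8]⟩,
  ⟨8, [.a3, .a7], [.a3, .a5, .a7, .a8]⟩,
  ⟨16, [.a4, .a7, .a9], [.a4, .a5, .a6, .a7, .a9]⟩,
  ⟨32, [.a5], [.a5]⟩,
  ⟨64, [.a6], [.a6]⟩,
  ⟨256, [.a8], [.a8]⟩]
def B1291 : List Gv := [⟨[.a0], [.a0]⟩, ⟨[.a2, .a7], [.a2, .a7, .a8]⟩, ⟨[.a4, .a7, .a9], [.a4, .a5, .a6, .a7, .a9]⟩]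
def D1291 : List Dv := [⟨[.a3, .a5, .a7], [1, 1, 0], [0, 1]⟩,
  ⟨[.a8], [2, 2], []⟩,
  ⟨[.a5, .a6], [4, 2], [2, 4]⟩,
  ⟨[.a6, .a8], [0, 2, 4, 2, 3], [3, 2]⟩,
  ⟨[.a6], [0], [2]⟩,
  ⟨[.a5], [2], [0]⟩,
  ⟨[.a3, .a7], [5], [0]⟩]
def C1291 : List Ch := [⟨P847, 0, [.a0, .a1, .a3, .a5, .a6, .a7, .a8, .a9, .a10], [.a0, .a10, .a11]⟩,
  ⟨P898, 1, [], []⟩,
  ⟨P945, 0, [.a4], [.a4, .a5]⟩,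
  ⟨P972, 2, [], []⟩,
  ⟨P972, 0, [.a11], [.a11]⟩,
  ⟨P969, 1, [.a1], [.a1, .a2]⟩,
  ⟨P969, 0, [.a0, .a1, .a3, .a5, .a6, .a7, .a8, .a9, .a11], [.a0, .a1, .a2, .a3, .a4, .a6, .a8, .a9, .a11]⟩]
def N1291 : List Ent := [⟨1, [.a0], [.a0]⟩,
  ⟨4, [.a2, .a7], [.a2, .a7, .a8]⟩,
  ⟨8, [.a3, .a7], [.a3, .a5, .a7, .a8]⟩,
  ⟨16, [.a4, .a7, .a9], [.a4, .a5, .a6, .a7, .a9]⟩,
  ⟨32, [.a5], [.a5]⟩,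
  ⟨64, [.a6], [.a6]⟩,
  ⟨128, [.a7], [.a7, .a8]⟩,
  ⟨256, [.a8], [.a8]⟩,
  ⟨2048, [.a11], [.a11]⟩]
theorem bad1291 (c : CtxF Goal γ) : Bad Goal γ [] P1291 :=
  c.toCtx.bnd (B := B1291) (D := D1291) (I := [7, 8, 0, 9, 1, 2, 5]) (r := 3) (C := C1291) (N := N1291) (by decide +kernel) (by decide +kernel) (by decide +kernel) (by decide +kernel)
    (allB_cons (bad847 c) (allB_cons (bad898 c) (allB_cons (bad945 c) (allB_cons (bad972 c) (allB_cons (bad972 c) (allB_cons (bad969 c) (allB_cons (bad969 c) (allB_nil))))))))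

def P1292 : List Ent := [⟨1, [.a0, .a11], [.a0, .a2, .a3, .a4, .a5, .a6, .a7, .a9, .a11]⟩,
  ⟨4, [.a2, .a7], [.a2, .a7, .a8]⟩,
  ⟨8, [.a3, .a7], [.a3, .a5, .a7, .a8]⟩,
  ⟨16, [.a4, .a7, .a9], [.a4, .a5, .a6, .a7, .a9]⟩,
  ⟨32, [.a5], [.a5]⟩,
  ⟨64, [.a6], [.a6]⟩,
  ⟨256, [.a8], [.a8]⟩]
def B1292 : List Gv := [⟨[.a0, .a11], [.a0, .a2, .a3, .a4, .a5, .a6, .a7, .a9, .a11]⟩, ⟨[.a2, .a7], [.a2, .a7, .a8]⟩]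
def D1292 : List Dv := [⟨[.a3, .a4, .a8, .a9], [1, 0, 0], []⟩,
  ⟨[.a4, .a5, .a6, .a7, .a9], [0, 2, 2, 1], [1, 2]⟩,
  ⟨[.a8], [3, 3], []⟩,
  ⟨[.a5, .a6], [1, 2, 4, 2, 3], [3, 2]⟩,
  ⟨[.a6], [3, 5], [5, 3]⟩,
  ⟨[.a5], [1], [0]⟩,
  ⟨[.a4, .a7, .a9], [4], [0, 1]⟩,
  ⟨[.a3, .a7], [6], [0, 2]⟩]
def C1292 : List Ch := [⟨P847, 0, [.a0, .a1, .a3, .a5, .a6, .a7, .a8, .a9, .a10], [.a0, .a10, .a11]⟩,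
  ⟨P899, 1, [], []⟩,
  ⟨P946, 0, [.a4], [.a4, .a5]⟩]
def N1292 : List Ent := [⟨1, [.a0, .a11], [.a0, .a2, .a3, .a4, .a5, .a6, .a7, .a9, .a11]⟩,
  ⟨4, [.a2, .a7], [.a2, .a7, .a8]⟩,
  ⟨8, [.a3, .a7], [.a3, .a5, .a7, .a8]⟩,
  ⟨16, [.a4, .a7, .a9], [.a4, .a5, .a6, .a7, .a9]⟩,
  ⟨32, [.a5], [.a5]⟩,
  ⟨64, [.a6], [.a6]⟩,
  ⟨128, [.a7], [.a7, .a8]⟩,
  ⟨256, [.a8], [.a8]⟩,
  ⟨2048, [.a11], [.a11]⟩]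
theorem bad1292 (c : CtxF Goal γ) : Bad Goal γ [] P1292 :=
  c.toCtx.bnd (B := B1292) (D := D1292) (I := [8, 9, 0, 1, 2, 3, 5]) (r := 2) (C := C1292) (N := N1292) (by decide +kernel) (by decide +kernel) (by decide +kernel) (by decide +kernel)
    (allB_cons (bad847 c) (allB_cons (bad899 c) (allB_cons (bad946 c) (allB_nil))))

def P1293 : List Ent := [⟨1, [.a0], [.a0]⟩,
  ⟨4, [.a2, .a7, .a11], [.a2, .a5, .a6, .a7, .a11]⟩,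
  ⟨8, [.a3, .a7, .a11], [.a3, .a5, .a7, .a11]⟩,
  ⟨16, [.a4, .a7, .a9], [.a4, .a5, .a6, .a7, .a9]⟩,
  ⟨32, [.a5], [.a5]⟩,
  ⟨64, [.a6], [.a6]⟩,
  ⟨256, [.a8], [.a8]⟩]
def B1293 : List Gv := [⟨[.a0], [.a0]⟩, ⟨[.a2, .a7, .a11], [.a2, .a5, .a6, .a7, .a11]⟩, ⟨[.a3, .a7, .a11], [.a3, .a5, .a7, .a11]⟩, ⟨[.a8], [.a8]⟩]
def D1293 : List Dv := [⟨[.a4, .a6, .a7, .a9], [1, 0], [0, 1]⟩,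
  ⟨[.a5, .a6], [2, 2], []⟩,
  ⟨[.a6], [4, 3], [3, 4]⟩,
  ⟨[.a5], [1], [0]⟩,
  ⟨[.a4, .a7, .a9], [3], [1]⟩]
def C1293 : List Ch := [⟨P839, 0, [.a0, .a1, .a3, .a5, .a6, .a7, .a8, .a9, .a10], [.a0, .a10, .a11]⟩,
  ⟨P973, 1, [], []⟩,
  ⟨P973, 0, [.a7], [.a7, .a8]⟩,
  ⟨P974, 2, [], []⟩,
  ⟨P974, 0, [.a7], [.a7, .a8]⟩,
  ⟨P898, 1, [], []⟩,
  ⟨P946, 0, [.a4], [.a4, .a5]⟩,
  ⟨P975, 3, [], []⟩,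
  ⟨P976, 0, [], []⟩,
  ⟨P977, 1, [], []⟩,
  ⟨P977, 0, [.a7], [.a7, .a8]⟩,
  ⟨P977, 2, [.a3], [.a3]⟩,
  ⟨P977, 0, [.a11], [.a11]⟩,
  ⟨P975, 1, [.a3], [.a3]⟩,
  ⟨P976, 0, [.a3], [.a3]⟩]
def S1293 : List St := [.cent 1 1 0 [⟨32, [.a5], [.a5]⟩,
  ⟨64, [.a6], [.a6]⟩],
  .phi 2 [⟨16, [.a4, .a7, .a9], [.a4, .a5, .a6, .a7, .a9]⟩,
  ⟨32, [.a5], [.a5]⟩,
  ⟨64, [.a6], [.a6]⟩] [[[.a0, .a3, .a7, .a11]], [[.a0, .a8]], [[.a0, .a8], [.a4, .a7, .a9]]],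
  .om 3 [⟨1, [.a0], [.a0]⟩,
  ⟨4, [.a2, .a3], [.a2, .a3]⟩,
  ⟨16, [.a4, .a7, .a9], [.a4, .a5, .a6, .a7, .a9]⟩,
  ⟨32, [.a5], [.a5]⟩,
  ⟨64, [.a6], [.a6]⟩,
  ⟨256, [.a8], [.a8]⟩] [[[.a0]], [[.a2, .a3]], [[.a0], [.a0, .a4, .a7, .a9]], [[.a5]], [[.a6]], [[.a8]]]]
theorem bad1293 (c : CtxF Goal γ) : Bad Goal γ [] P1293 :=
  c.toCtx.chn (B := B1293) (D := D1293) (I := [5, 6, 7, 0, 1, 2, 8]) (r := 4) (C := C1293) (l := S1293) (x := ⟨[.a7, .a11], [.a7, .a8, .a11]⟩) (ix := [0, 1, 2]) (by decide +kernel) (by decide +kernel) (by decide +kernel) (by decide +kernel)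
    (allB_cons (bad839 c) (allB_cons (bad973 c) (allB_cons (bad973 c) (allB_cons (bad974 c) (allB_cons (bad974 c) (allB_cons (bad898 c) (allB_cons (bad946 c) (allB_cons (bad975 c) (allB_cons (bad976 c) (allB_cons (bad977 c) (allB_cons (bad977 c) (allB_cons (bad977 c) (allB_cons (bad977 c) (allB_cons (bad975 c) (allB_cons (bad976 c) (allB_nil))))))))))))))))

def P1294 : List Ent := [⟨1, [.a0, .a11], [.a0, .a2, .a3, .a4, .a5, .a6, .a7, .a9, .a11]⟩,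
  ⟨4, [.a2, .a7, .a11], [.a2, .a5, .a6, .a7, .a11]⟩,
  ⟨8, [.a3, .a7, .a11], [.a3, .a5, .a7, .a11]⟩,
  ⟨16, [.a4, .a7, .a9], [.a4, .a5, .a6, .a7, .a9]⟩,
  ⟨32, [.a5], [.a5]⟩,
  ⟨64, [.a6], [.a6]⟩,
  ⟨256, [.a8], [.a8]⟩]
def B1294 : List Gv := [⟨[.a0, .a11], [.a0, .a2, .a3, .a4, .a5, .a6, .a7, .a9, .a11]⟩, ⟨[.a2, .a7, .a11], [.a2, .a5, .a6, .a7, .a11]⟩, ⟨[.a3, .a7, .a11], [.a3, .a5, .a7, .a11]⟩]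
def D1294 : List Dv := [⟨[.a4, .a7, .a9], [2, 1, 0, 0], []⟩,
  ⟨[.a5, .a6, .a8], [0, 2, 1], [1, 2]⟩,
  ⟨[.a8], [0, 3, 3], []⟩,
  ⟨[.a6], [5, 4], [4, 5]⟩,
  ⟨[.a5], [2], [0, 1]⟩]
def C1294 : List Ch := [⟨P839, 0, [.a0, .a1, .a3, .a5, .a6, .a7, .a8, .a9, .a10], [.a0, .a10, .a11]⟩,
  ⟨P978, 1, [], []⟩,
  ⟨P978, 0, [.a7], [.a7, .a8]⟩,
  ⟨P978, 2, [.a0], [.a0]⟩,
  ⟨P978, 0, [.a3], [.a3]⟩,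
  ⟨P899, 1, [], []⟩,
  ⟨P945, 0, [.a4], [.a4, .a5]⟩]
def N1294 : List Ent := [⟨1, [.a0, .a11], [.a0, .a2, .a3, .a4, .a5, .a6, .a7, .a9, .a11]⟩,
  ⟨4, [.a2, .a7, .a11], [.a2, .a5, .a6, .a7, .a11]⟩,
  ⟨8, [.a3, .a7, .a11], [.a3, .a5, .a7, .a11]⟩,
  ⟨16, [.a4, .a7, .a9], [.a4, .a5, .a6, .a7, .a9]⟩,
  ⟨32, [.a5], [.a5]⟩,
  ⟨64, [.a6], [.a6]⟩,
  ⟨128, [.a7], [.a7, .a8]⟩,
  ⟨256, [.a8], [.a8]⟩,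
  ⟨2048, [.a11], [.a11]⟩]
theorem bad1294 (c : CtxF Goal γ) : Bad Goal γ [] P1294 :=
  c.toCtx.bnd (B := B1294) (D := D1294) (I := [5, 6, 7, 4, 0, 1, 2]) (r := 3) (C := C1294) (N := N1294) (by decide +kernel) (by decide +kernel) (by decide +kernel) (by decide +kernel)
    (allB_cons (bad839 c) (allB_cons (bad978 c) (allB_cons (bad978 c) (allB_cons (bad978 c) (allB_cons (bad978 c) (allB_cons (bad899 c) (allB_cons (bad945 c) (allB_nil))))))))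

def P1295 : List Ent := [⟨1, [.a0], [.a0]⟩,
  ⟨4, [.a2], [.a2]⟩,
  ⟨8, [.a3], [.a3]⟩,
  ⟨32, [.a5], [.a5]⟩,
  ⟨64, [.a6], [.a6]⟩,
  ⟨128, [.a7], [.a7, .a8]⟩,
  ⟨256, [.a8], [.a8]⟩]
def B1295 : List Gv := [⟨[.a0], [.a0]⟩, ⟨[.a2], [.a2]⟩, ⟨[.a6], [.a6]⟩, ⟨[.a7], [.a7, .a8]⟩]
def D1295 : List Dv := [⟨[.a3], [1, 3, 0], [0, 3]⟩,
  ⟨[.a8], [4, 4], []⟩,
  ⟨[.a5], [1, 5], [5, 1]⟩]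
def C1295 : List Ch := [⟨P690, 0, [], []⟩,
  ⟨P968, 1, [], []⟩,
  ⟨P968, 0, [.a4], [.a4, .a5]⟩,
  ⟨P979, 2, [], []⟩,
  ⟨P979, 0, [.a9], [.a9]⟩,
  ⟨P980, 1, [], []⟩,
  ⟨P981, 0, [], []⟩,
  ⟨P901, 3, [], []⟩,
  ⟨P948, 0, [], []⟩,
  ⟨P972, 1, [], []⟩,
  ⟨P972, 0, [.a4], [.a4, .a5]⟩,
  ⟨P979, 2, [.a4], [.a4, .a5]⟩,
  ⟨P979, 0, [.a4, .a8, .a9], [.a4, .a5, .a9]⟩,
  ⟨P981, 1, [.a4], [.a4, .a5]⟩,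
  ⟨P980, 0, [.a4], [.a4, .a5]⟩]
def N1295 : List Ent := [⟨1, [.a0], [.a0]⟩,
  ⟨2, [.a1], [.a1, .a2]⟩,
  ⟨4, [.a2], [.a2]⟩,
  ⟨8, [.a3], [.a3]⟩,
  ⟨16, [.a4], [.a4, .a5]⟩,
  ⟨32, [.a5], [.a5]⟩,
  ⟨64, [.a6], [.a6]⟩,
  ⟨128, [.a7], [.a7, .a8]⟩,
  ⟨256, [.a8], [.a8]⟩,
  ⟨512, [.a9], [.a9]⟩]
theorem bad1295 (c : CtxF Goal γ) : Bad Goal γ [] P1295 :=
  c.toCtx.bnd (B := B1295) (D := D1295) (I := [3, 4, 2, 0, 5, 6, 1]) (r := 4) (C := C1295) (N := N1295) (by decide +kernel) (by decide +kernel) (by decide +kernel) (by decide +kernel)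
    (allB_cons (bad690 c) (allB_cons (bad968 c) (allB_cons (bad968 c) (allB_cons (bad979 c) (allB_cons (bad979 c) (allB_cons (bad980 c) (allB_cons (bad981 c) (allB_cons (bad901 c) (allB_cons (bad948 c) (allB_cons (bad972 c) (allB_cons (bad972 c) (allB_cons (bad979 c) (allB_cons (bad979 c) (allB_cons (bad981 c) (allB_cons (bad980 c) (allB_nil))))))))))))))))

def P1296 : List Ent := [⟨1, [.a0], [.a0]⟩,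
  ⟨4, [.a2], [.a2]⟩,
  ⟨8, [.a3], [.a3]⟩,
  ⟨16, [.a4, .a9], [.a4, .a5, .a8, .a9]⟩,
  ⟨32, [.a5], [.a5]⟩,
  ⟨64, [.a6], [.a6]⟩,
  ⟨256, [.a8], [.a8]⟩]
def B1296 : List Gv := [⟨[.a0], [.a0]⟩, ⟨[.a2], [.a2]⟩, ⟨[.a3], [.a3]⟩, ⟨[.a4, .a9], [.a4, .a5, .a8, .a9]⟩]
def D1296 : List Dv := [⟨[.a6], [2, 1, 3, 0], [0, 3]⟩,
  ⟨[.a5], [4, 2], [2, 4]⟩,
  ⟨[.a8], [0, 5, 5], []⟩]
def C1296 : List Ch := [⟨P763, 0, [], []⟩,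
  ⟨P982, 1, [], []⟩,
  ⟨P982, 0, [.a4], [.a4, .a5]⟩,
  ⟨P983, 2, [], []⟩,
  ⟨P984, 0, [], []⟩,
  ⟨P969, 1, [], []⟩,
  ⟨P969, 0, [.a4], [.a4, .a5]⟩,
  ⟨P901, 3, [], []⟩,
  ⟨P948, 0, [.a11], [.a11]⟩,
  ⟨P982, 1, [.a1], [.a1, .a2]⟩,
  ⟨P982, 0, [.a7], [.a7, .a8]⟩,
  ⟨P984, 2, [.a7], [.a7, .a8]⟩,
  ⟨P983, 0, [.a7], [.a7, .a8]⟩,
  ⟨P969, 1, [.a1], [.a1, .a2]⟩,
  ⟨P969, 0, [.a1, .a3, .a4], [.a1, .a2, .a4, .a5]⟩]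
def N1296 : List Ent := [⟨1, [.a0], [.a0]⟩,
  ⟨2, [.a1], [.a1, .a2]⟩,
  ⟨4, [.a2], [.a2]⟩,
  ⟨8, [.a3], [.a3]⟩,
  ⟨16, [.a4, .a9], [.a4, .a5, .a8, .a9]⟩,
  ⟨32, [.a5], [.a5]⟩,
  ⟨64, [.a6], [.a6]⟩,
  ⟨128, [.a7], [.a7, .a8]⟩,
  ⟨256, [.a8], [.a8]⟩,
  ⟨512, [.a9], [.a9]⟩]
theorem bad1296 (c : CtxF Goal γ) : Bad Goal γ [] P1296 :=
  c.toCtx.bnd (B := B1296) (D := D1296) (I := [3, 4, 5, 6, 1, 2, 0]) (r := 4) (C := C1296) (N := N1296) (by decide +kernel) (by decide +kernel) (by decide +kernel) (by decide +kernel)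
    (allB_cons (bad763 c) (allB_cons (bad982 c) (allB_cons (bad982 c) (allB_cons (bad983 c) (allB_cons (bad984 c) (allB_cons (bad969 c) (allB_cons (bad969 c) (allB_cons (bad901 c) (allB_cons (bad948 c) (allB_cons (bad982 c) (allB_cons (bad982 c) (allB_cons (bad984 c) (allB_cons (bad983 c) (allB_cons (bad969 c) (allB_cons (bad969 c) (allB_nil))))))))))))))))

def P1297 : List Ent := [⟨1, [.a0], [.a0]⟩,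
  ⟨8, [.a3], [.a3]⟩,
  ⟨16, [.a4, .a9, .a11], [.a4, .a5, .a8, .a9, .a11]⟩,
  ⟨32, [.a5], [.a5]⟩,
  ⟨64, [.a6], [.a6]⟩,
  ⟨128, [.a7, .a11], [.a7, .a8, .a11]⟩,
  ⟨256, [.a8], [.a8]⟩]
def B1297 : List Gv := [⟨[.a0], [.a0]⟩, ⟨[.a3], [.a3]⟩, ⟨[.a4, .a9, .a11], [.a4, .a5, .a8, .a9, .a11]⟩]
def D1297 : List Dv := [⟨[.a7, .a8, .a11], [2, 2, 0], [0, 2]⟩,
  ⟨[.a8], [3, 2], [2, 3]⟩,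
  ⟨[.a5, .a8], [4, 4], []⟩,
  ⟨[.a6, .a7, .a11], [0, 5, 2, 3], [3, 2]⟩,
  ⟨[.a7, .a11], [3], [2]⟩,
  ⟨[.a6], [1], [0]⟩,
  ⟨[.a5], [3], [4]⟩]
def C1297 : List Ch := [⟨P644, 0, [.a0, .a1, .a3, .a5, .a6, .a7, .a8, .a9, .a10], [.a0, .a10, .a11]⟩,
  ⟨P970, 1, [], []⟩,
  ⟨P970, 0, [.a9], [.a9]⟩,
  ⟨P900, 2, [], []⟩,
  ⟨P949, 0, [], []⟩,
  ⟨P973, 1, [], []⟩,
  ⟨P973, 0, [.a9], [.a9]⟩]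
def N1297 : List Ent := [⟨1, [.a0], [.a0]⟩,
  ⟨4, [.a2], [.a2]⟩,
  ⟨8, [.a3], [.a3]⟩,
  ⟨16, [.a4, .a9, .a11], [.a4, .a5, .a8, .a9, .a11]⟩,
  ⟨32, [.a5], [.a5]⟩,
  ⟨64, [.a6], [.a6]⟩,
  ⟨128, [.a7, .a11], [.a7, .a8, .a11]⟩,
  ⟨256, [.a8], [.a8]⟩,
  ⟨512, [.a9], [.a9]⟩]
theorem bad1297 (c : CtxF Goal γ) : Bad Goal γ [] P1297 :=
  c.toCtx.bnd (B := B1297) (D := D1297) (I := [7, 8, 9, 0, 1, 2, 5]) (r := 3) (C := C1297) (N := N1297) (by decide +kernel) (by decide +kernel) (by decide +kernel) (by decide +kernel)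
    (allB_cons (bad644 c) (allB_cons (bad970 c) (allB_cons (bad970 c) (allB_cons (bad900 c) (allB_cons (bad949 c) (allB_cons (bad973 c) (allB_cons (bad973 c) (allB_nil))))))))

def P1298 : List Ent := [⟨1, [.a0], [.a0]⟩,
  ⟨4, [.a2], [.a2]⟩,
  ⟨16, [.a4, .a9, .a11], [.a4, .a5, .a8, .a9, .a11]⟩,
  ⟨32, [.a5], [.a5]⟩,
  ⟨64, [.a6], [.a6]⟩,
  ⟨128, [.a7, .a11], [.a7, .a8, .a11]⟩,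
  ⟨256, [.a8], [.a8]⟩]
def B1298 : List Gv := [⟨[.a0], [.a0]⟩, ⟨[.a2], [.a2]⟩, ⟨[.a4, .a9, .a11], [.a4, .a5, .a8, .a9, .a11]⟩]
def D1298 : List Dv := [⟨[.a7, .a8, .a11], [2, 2, 0], [0, 2]⟩,
  ⟨[.a6, .a8], [3, 2], [2, 3]⟩,
  ⟨[.a5, .a8], [4, 4], []⟩,
  ⟨[.a8], [2, 1, 0, 5, 2, 3], [3, 2]⟩,
  ⟨[.a7, .a11], [3], [0]⟩,
  ⟨[.a6], [3], [1]⟩,
  ⟨[.a5], [3], [2]⟩]
def C1298 : List Ch := [⟨P823, 0, [], []⟩,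
  ⟨P970, 1, [], []⟩,
  ⟨P970, 0, [.a4], [.a4, .a5]⟩,
  ⟨P893, 2, [.a1], [.a1, .a2]⟩,
  ⟨P950, 0, [], []⟩,
  ⟨P974, 1, [], []⟩,
  ⟨P974, 0, [.a4], [.a4, .a5]⟩]
def N1298 : List Ent := [⟨1, [.a0], [.a0]⟩,
  ⟨4, [.a2], [.a2]⟩,
  ⟨8, [.a3], [.a3]⟩,
  ⟨16, [.a4, .a9, .a11], [.a4, .a5, .a8, .a9, .a11]⟩,
  ⟨32, [.a5], [.a5]⟩,
  ⟨64, [.a6], [.a6]⟩,
  ⟨128, [.a7, .a11], [.a7, .a8, .a11]⟩,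
  ⟨256, [.a8], [.a8]⟩,
  ⟨512, [.a9, .a11], [.a9, .a11]⟩]
theorem bad1298 (c : CtxF Goal γ) : Bad Goal γ [] P1298 :=
  c.toCtx.bnd (B := B1298) (D := D1298) (I := [7, 8, 9, 0, 1, 2, 3]) (r := 3) (C := C1298) (N := N1298) (by decide +kernel) (by decide +kernel) (by decide +kernel) (by decide +kernel)
    (allB_cons (bad823 c) (allB_cons (bad970 c) (allB_cons (bad970 c) (allB_cons (bad893 c) (allB_cons (bad950 c) (allB_cons (bad974 c) (allB_cons (bad974 c) (allB_nil))))))))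

def P1299 : List Ent := [⟨1, [.a0], [.a0]⟩,
  ⟨4, [.a2, .a7, .a11], [.a2, .a5, .a6, .a7, .a11]⟩,
  ⟨8, [.a3], [.a3]⟩,
  ⟨16, [.a4, .a7, .a9], [.a4, .a5, .a6, .a7, .a9]⟩,
  ⟨32, [.a5], [.a5]⟩,
  ⟨64, [.a6], [.a6]⟩,
  ⟨256, [.a8], [.a8]⟩]
def B1299 : List Gv := [⟨[.a0], [.a0]⟩, ⟨[.a2, .a7, .a11], [.a2, .a5, .a6, .a7, .a11]⟩, ⟨[.a3], [.a3]⟩]
def D1299 : List Dv := [⟨[.a4, .a6, .a7, .a9], [1, 0], [0, 1]⟩,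
  ⟨[.a5, .a6], [2, 2], []⟩,
  ⟨[.a6, .a8], [0, 4, 3], [3, 4]⟩,
  ⟨[.a8], [0, 1, 2, 5], [5, 2]⟩,
  ⟨[.a6], [1], [0]⟩,
  ⟨[.a5], [3], [0]⟩,
  ⟨[.a4, .a7, .a9], [5], [1]⟩]
def C1299 : List Ch := [⟨P803, 0, [.a0, .a1, .a3, .a5, .a6, .a7, .a8, .a9, .a10], [.a0, .a10, .a11]⟩,
  ⟨P900, 1, [], []⟩,
  ⟨P949, 0, [.a4], [.a4, .a5]⟩,
  ⟨P974, 2, [], []⟩,
  ⟨P974, 0, [.a9], [.a9]⟩,
  ⟨P971, 1, [], []⟩,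
  ⟨P971, 0, [.a9], [.a9]⟩]
def N1299 : List Ent := [⟨1, [.a0], [.a0]⟩,
  ⟨4, [.a2, .a7, .a11], [.a2, .a5, .a6, .a7, .a11]⟩,
  ⟨8, [.a3], [.a3]⟩,
  ⟨16, [.a4, .a7, .a9], [.a4, .a5, .a6, .a7, .a9]⟩,
  ⟨32, [.a5], [.a5]⟩,
  ⟨64, [.a6], [.a6]⟩,
  ⟨128, [.a7, .a11], [.a7, .a8, .a11]⟩,
  ⟨256, [.a8], [.a8]⟩,
  ⟨512, [.a9], [.a9]⟩]
theorem bad1299 (c : CtxF Goal γ) : Bad Goal γ [] P1299 :=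
  c.toCtx.bnd (B := B1299) (D := D1299) (I := [7, 8, 9, 0, 1, 2, 3]) (r := 3) (C := C1299) (N := N1299) (by decide +kernel) (by decide +kernel) (by decide +kernel) (by decide +kernel)
    (allB_cons (bad803 c) (allB_cons (bad900 c) (allB_cons (bad949 c) (allB_cons (bad974 c) (allB_cons (bad974 c) (allB_cons (bad971 c) (allB_cons (bad971 c) (allB_nil))))))))

def P1300 : List Ent := [⟨1, [.a0], [.a0]⟩,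
  ⟨4, [.a2], [.a2]⟩,
  ⟨8, [.a3, .a7, .a11], [.a3, .a5, .a7, .a11]⟩,
  ⟨16, [.a4, .a7, .a9], [.a4, .a5, .a6, .a7, .a9]⟩,
  ⟨32, [.a5], [.a5]⟩,
  ⟨64, [.a6], [.a6]⟩,
  ⟨256, [.a8], [.a8]⟩]
def B1300 : List Gv := [⟨[.a0], [.a0]⟩, ⟨[.a2], [.a2]⟩, ⟨[.a3, .a7, .a11], [.a3, .a5, .a7, .a11]⟩]
def D1300 : List Dv := [⟨[.a4, .a6, .a7, .a9], [2, 0], [0, 2]⟩,
  ⟨[.a5, .a6, .a8], [3, 2], [2, 3]⟩,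
  ⟨[.a6, .a8], [0, 4, 4], []⟩,
  ⟨[.a8], [1, 2, 3], [3, 2]⟩,
  ⟨[.a6], [1], [0]⟩,
  ⟨[.a5], [3], [0, 1]⟩,
  ⟨[.a4, .a7, .a9], [5], [1]⟩]
def C1300 : List Ch := [⟨P845, 0, [.a1], [.a1, .a2]⟩,
  ⟨P973, 1, [], []⟩,
  ⟨P973, 0, [.a4], [.a4, .a5]⟩,
  ⟨P893, 2, [.a1], [.a1, .a2]⟩,
  ⟨P950, 0, [.a7], [.a7, .a8]⟩,
  ⟨P971, 1, [], []⟩,
  ⟨P971, 0, [.a4], [.a4, .a5]⟩]
def N1300 : List Ent := [⟨1, [.a0], [.a0]⟩,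
  ⟨4, [.a2], [.a2]⟩,
  ⟨8, [.a3, .a7, .a11], [.a3, .a5, .a7, .a11]⟩,
  ⟨16, [.a4, .a7, .a9], [.a4, .a5, .a6, .a7, .a9]⟩,
  ⟨32, [.a5], [.a5]⟩,
  ⟨64, [.a6], [.a6]⟩,
  ⟨128, [.a7, .a11], [.a7, .a8, .a11]⟩,
  ⟨256, [.a8], [.a8]⟩,
  ⟨512, [.a9, .a11], [.a9, .a11]⟩]
theorem bad1300 (c : CtxF Goal γ) : Bad Goal γ [] P1300 :=
  c.toCtx.bnd (B := B1300) (D := D1300) (I := [7, 8, 9, 0, 1, 2, 3]) (r := 3) (C := C1300) (N := N1300) (by decide +kernel) (by decide +kernel) (by decide +kernel) (by decide +kernel)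
    (allB_cons (bad845 c) (allB_cons (bad973 c) (allB_cons (bad973 c) (allB_cons (bad893 c) (allB_cons (bad950 c) (allB_cons (bad971 c) (allB_cons (bad971 c) (allB_nil))))))))

def P1301 : List Ent := [⟨1, [.a0, .a9], [.a0, .a3, .a6, .a9]⟩,
  ⟨4, [.a2], [.a2]⟩,
  ⟨8, [.a3], [.a3]⟩,
  ⟨32, [.a5], [.a5]⟩,
  ⟨64, [.a6], [.a6]⟩,
  ⟨128, [.a7], [.a7, .a8]⟩,
  ⟨256, [.a8], [.a8]⟩]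
def B1301 : List Gv := [⟨[.a0, .a9], [.a0, .a3, .a6, .a9]⟩, ⟨[.a2], [.a2]⟩, ⟨[.a7], [.a7, .a8]⟩]
def D1301 : List Dv := [⟨[.a3, .a6], [0, 0], []⟩,
  ⟨[.a5], [2, 1], [1, 2]⟩,
  ⟨[.a6], [1, 3, 4, 2], [2, 4]⟩,
  ⟨[.a8], [5, 5], []⟩,
  ⟨[.a3], [3], [1]⟩]
def C1301 : List Ch := [⟨P690, 0, [], []⟩,
  ⟨P985, 1, [], []⟩,
  ⟨P985, 0, [.a1], [.a1, .a2]⟩,
  ⟨P906, 2, [], []⟩,
  ⟨P952, 0, [], []⟩,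
  ⟨P985, 1, [.a1, .a3, .a4], [.a1, .a2, .a4, .a5]⟩,
  ⟨P985, 0, [.a4], [.a4, .a5]⟩]
def N1301 : List Ent := [⟨1, [.a0, .a9], [.a0, .a3, .a6, .a9]⟩,
  ⟨2, [.a1], [.a1, .a2]⟩,
  ⟨4, [.a2], [.a2]⟩,
  ⟨8, [.a3], [.a3]⟩,
  ⟨16, [.a4], [.a4, .a5]⟩,
  ⟨32, [.a5], [.a5]⟩,
  ⟨64, [.a6], [.a6]⟩,
  ⟨128, [.a7], [.a7, .a8]⟩,
  ⟨256, [.a8], [.a8]⟩,
  ⟨512, [.a9], [.a9]⟩]
theorem bad1301 (c : CtxF Goal γ) : Bad Goal γ [] P1301 :=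
  c.toCtx.bnd (B := B1301) (D := D1301) (I := [5, 6, 0, 3, 2, 7, 1]) (r := 3) (C := C1301) (N := N1301) (by decide +kernel) (by decide +kernel) (by decide +kernel) (by decide +kernel)
    (allB_cons (bad690 c) (allB_cons (bad985 c) (allB_cons (bad985 c) (allB_cons (bad906 c) (allB_cons (bad952 c) (allB_cons (bad985 c) (allB_cons (bad985 c) (allB_nil))))))))

def P1302 : List Ent := [⟨1, [.a0, .a9], [.a0, .a3, .a6, .a9]⟩,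
  ⟨4, [.a2], [.a2]⟩,
  ⟨8, [.a3], [.a3]⟩,
  ⟨16, [.a4, .a9], [.a4, .a5, .a8, .a9]⟩,
  ⟨32, [.a5], [.a5]⟩,
  ⟨64, [.a6], [.a6]⟩,
  ⟨256, [.a8], [.a8]⟩]
def B1302 : List Gv := [⟨[.a0, .a9], [.a0, .a3, .a6, .a9]⟩, ⟨[.a3], [.a3]⟩, ⟨[.a4, .a9], [.a4, .a5, .a8, .a9]⟩]
def D1302 : List Dv := [⟨[.a6], [1, 0, 0], []⟩,
  ⟨[.a2, .a3, .a5, .a6, .a8], [3, 1], [1, 3]⟩,
  ⟨[.a5, .a8], [4, 4], []⟩,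
  ⟨[.a8], [0, 1, 5], [5, 1]⟩,
  ⟨[.a5], [1], [0]⟩,
  ⟨[.a2], [3], [6, 0, 4, 1]⟩]
def C1302 : List Ch := [⟨P763, 0, [], []⟩,
  ⟨P986, 1, [], []⟩,
  ⟨P986, 0, [.a1], [.a1, .a2]⟩,
  ⟨P906, 2, [], []⟩,
  ⟨P952, 0, [.a11], [.a11]⟩,
  ⟨P986, 1, [.a1, .a7], [.a1, .a2, .a7, .a8]⟩,
  ⟨P986, 0, [.a7], [.a7, .a8]⟩]
def N1302 : List Ent := [⟨1, [.a0, .a9], [.a0, .a3, .a6, .a9]⟩,
  ⟨2, [.a1], [.a1, .a2]⟩,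
  ⟨4, [.a2], [.a2]⟩,
  ⟨8, [.a3], [.a3]⟩,
  ⟨16, [.a4, .a9], [.a4, .a5, .a8, .a9]⟩,
  ⟨32, [.a5], [.a5]⟩,
  ⟨64, [.a6], [.a6]⟩,
  ⟨128, [.a7], [.a7, .a8]⟩,
  ⟨256, [.a8], [.a8]⟩,
  ⟨512, [.a9], [.a9]⟩]
theorem bad1302 (c : CtxF Goal γ) : Bad Goal γ [] P1302 :=
  c.toCtx.bnd (B := B1302) (D := D1302) (I := [6, 0, 7, 8, 1, 5, 2]) (r := 3) (C := C1302) (N := N1302) (by decide +kernel) (by decide +kernel) (by decide +kernel) (by decide +kernel)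
    (allB_cons (bad763 c) (allB_cons (bad986 c) (allB_cons (bad986 c) (allB_cons (bad906 c) (allB_cons (bad952 c) (allB_cons (bad986 c) (allB_cons (bad986 c) (allB_nil))))))))

def P1303 : List Ent := [⟨1, [.a0, .a9], [.a0, .a3, .a6, .a9]⟩,
  ⟨8, [.a3], [.a3]⟩,
  ⟨16, [.a4, .a9, .a11], [.a4, .a5, .a8, .a9, .a11]⟩,
  ⟨32, [.a5], [.a5]⟩,
  ⟨64, [.a6], [.a6]⟩,
  ⟨128, [.a7, .a11], [.a7, .a8, .a11]⟩,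
  ⟨256, [.a8], [.a8]⟩]
def B1303 : List Gv := [⟨[.a0, .a9], [.a0, .a3, .a6, .a9]⟩, ⟨[.a4, .a9, .a11], [.a4, .a5, .a8, .a9, .a11]⟩]
def D1303 : List Dv := [⟨[.a3, .a6], [0, 0], []⟩,
  ⟨[.a5, .a7, .a11], [2, 2, 1], [1, 2]⟩,
  ⟨[.a7, .a8, .a11], [0, 3, 3], []⟩,
  ⟨[.a8], [2, 4], [4, 2]⟩,
  ⟨[.a6, .a7, .a8, .a11], [5, 2, 4], [4, 2]⟩,
  ⟨[.a7, .a11], [2], [1]⟩,
  ⟨[.a6], [1], [0, 2]⟩,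
  ⟨[.a5], [5], [1]⟩,
  ⟨[.a3], [7], [1]⟩]
def C1303 : List Ch := [⟨P644, 0, [.a0, .a1, .a3, .a5, .a6, .a7, .a8, .a9, .a10], [.a0, .a10, .a11]⟩,
  ⟨P905, 1, [], []⟩,
  ⟨P949, 0, [.a1], [.a1, .a2]⟩]
def N1303 : List Ent := [⟨1, [.a0, .a9], [.a0, .a3, .a6, .a9]⟩,
  ⟨4, [.a2], [.a2]⟩,
  ⟨8, [.a3], [.a3]⟩,
  ⟨16, [.a4, .a9, .a11], [.a4, .a5, .a8, .a9, .a11]⟩,
  ⟨32, [.a5], [.a5]⟩,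
  ⟨64, [.a6], [.a6]⟩,
  ⟨128, [.a7, .a11], [.a7, .a8, .a11]⟩,
  ⟨256, [.a8], [.a8]⟩,
  ⟨512, [.a9], [.a9]⟩]
theorem bad1303 (c : CtxF Goal γ) : Bad Goal γ [] P1303 :=
  c.toCtx.bnd (B := B1303) (D := D1303) (I := [9, 0, 10, 1, 2, 3, 5]) (r := 2) (C := C1303) (N := N1303) (by decide +kernel) (by decide +kernel) (by decide +kernel) (by decide +kernel)
    (allB_cons (bad644 c) (allB_cons (bad905 c) (allB_cons (bad949 c) (allB_nil))))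

def P1304 : List Ent := [⟨1, [.a0, .a9], [.a0, .a3, .a6, .a9]⟩,
  ⟨4, [.a2, .a7, .a11], [.a2, .a5, .a6, .a7, .a11]⟩,
  ⟨8, [.a3], [.a3]⟩,
  ⟨16, [.a4, .a7, .a9], [.a4, .a5, .a6, .a7, .a9]⟩,
  ⟨32, [.a5], [.a5]⟩,
  ⟨64, [.a6], [.a6]⟩,
  ⟨256, [.a8], [.a8]⟩]
def B1304 : List Gv := [⟨[.a0, .a9], [.a0, .a3, .a6, .a9]⟩, ⟨[.a2, .a7, .a11], [.a2, .a5, .a6, .a7, .a11]⟩]
def D1304 : List Dv := [⟨[.a3, .a6], [0, 0], []⟩,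
  ⟨[.a4, .a5, .a6, .a7, .a9], [2, 1], [1, 2]⟩,
  ⟨[.a5, .a6], [3, 3], []⟩,
  ⟨[.a6, .a8], [0, 2, 4], [4, 2]⟩,
  ⟨[.a8], [0, 1, 2, 3], [3, 2]⟩,
  ⟨[.a6], [1], [0]⟩,
  ⟨[.a5], [3], [0]⟩,
  ⟨[.a4, .a7, .a9], [5], [0, 1]⟩,
  ⟨[.a3], [7], [2]⟩]
def C1304 : List Ch := [⟨P803, 0, [.a0, .a1, .a3, .a5, .a6, .a7, .a8, .a9, .a10], [.a0, .a10, .a11]⟩,
  ⟨P905, 1, [], []⟩,
  ⟨P949, 0, [.a1, .a3, .a4], [.a1, .a2, .a4, .a5]⟩]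
def N1304 : List Ent := [⟨1, [.a0, .a9], [.a0, .a3, .a6, .a9]⟩,
  ⟨4, [.a2, .a7, .a11], [.a2, .a5, .a6, .a7, .a11]⟩,
  ⟨8, [.a3], [.a3]⟩,
  ⟨16, [.a4, .a7, .a9], [.a4, .a5, .a6, .a7, .a9]⟩,
  ⟨32, [.a5], [.a5]⟩,
  ⟨64, [.a6], [.a6]⟩,
  ⟨128, [.a7, .a11], [.a7, .a8, .a11]⟩,
  ⟨256, [.a8], [.a8]⟩,
  ⟨512, [.a9], [.a9]⟩]
theorem bad1304 (c : CtxF Goal γ) : Bad Goal γ [] P1304 :=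
  c.toCtx.bnd (B := B1304) (D := D1304) (I := [9, 10, 0, 1, 2, 3, 4]) (r := 2) (C := C1304) (N := N1304) (by decide +kernel) (by decide +kernel) (by decide +kernel) (by decide +kernel)
    (allB_cons (bad803 c) (allB_cons (bad905 c) (allB_cons (bad949 c) (allB_nil))))

def P1305 : List Ent := [⟨1, [.a0, .a9, .a11], [.a0, .a2, .a4, .a7, .a8, .a11]⟩,
  ⟨4, [.a2], [.a2]⟩,
  ⟨16, [.a4, .a9, .a11], [.a4, .a5, .a8, .a9, .a11]⟩,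
  ⟨32, [.a5], [.a5]⟩,
  ⟨64, [.a6], [.a6]⟩,
  ⟨128, [.a7, .a11], [.a7, .a8, .a11]⟩,
  ⟨256, [.a8], [.a8]⟩]
def B1305 : List Gv := [⟨[.a0, .a9, .a11], [.a0, .a2, .a4, .a7, .a8, .a11]⟩, ⟨[.a4, .a9, .a11], [.a4, .a5, .a8, .a9, .a11]⟩]
def D1305 : List Dv := [⟨[.a2, .a4, .a7, .a8, .a9], [0, 0], []⟩,
  ⟨[.a5, .a7, .a11], [2, 2, 1], [1, 2]⟩,
  ⟨[.a7, .a8, .a11], [0, 3, 3], []⟩,
  ⟨[.a8], [2, 4], [4, 2]⟩,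
  ⟨[.a6], [3, 3], []⟩,
  ⟨[.a7, .a11], [2], [1]⟩,
  ⟨[.a5], [4], [0]⟩,
  ⟨[.a2], [6], [8, 1, 3]⟩]
def C1305 : List Ch := [⟨P823, 0, [], []⟩,
  ⟨P894, 1, [.a1], [.a1, .a2]⟩,
  ⟨P951, 0, [.a1], [.a1, .a2]⟩]
def N1305 : List Ent := [⟨1, [.a0, .a9, .a11], [.a0, .a2, .a4, .a7, .a8, .a11]⟩,
  ⟨4, [.a2], [.a2]⟩,
  ⟨8, [.a3], [.a3]⟩,
  ⟨16, [.a4, .a9, .a11], [.a4, .a5, .a8, .a9, .a11]⟩,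
  ⟨32, [.a5], [.a5]⟩,
  ⟨64, [.a6], [.a6]⟩,
  ⟨128, [.a7, .a11], [.a7, .a8, .a11]⟩,
  ⟨256, [.a8], [.a8]⟩,
  ⟨512, [.a9, .a11], [.a9, .a11]⟩]
theorem bad1305 (c : CtxF Goal γ) : Bad Goal γ [] P1305 :=
  c.toCtx.bnd (B := B1305) (D := D1305) (I := [8, 0, 9, 1, 3, 2, 4]) (r := 2) (C := C1305) (N := N1305) (by decide +kernel) (by decide +kernel) (by decide +kernel) (by decide +kernel)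
    (allB_cons (bad823 c) (allB_cons (bad894 c) (allB_cons (bad951 c) (allB_nil))))

def P1306 : List Ent := [⟨1, [.a0, .a9, .a11], [.a0, .a2, .a4, .a7, .a8, .a11]⟩,
  ⟨4, [.a2], [.a2]⟩,
  ⟨8, [.a3, .a7, .a11], [.a3, .a5, .a7, .a11]⟩,
  ⟨16, [.a4, .a7, .a9], [.a4, .a5, .a6, .a7, .a9]⟩,
  ⟨32, [.a5], [.a5]⟩,
  ⟨64, [.a6], [.a6]⟩,
  ⟨256, [.a8], [.a8]⟩]
def B1306 : List Gv := [⟨[.a0, .a9, .a11], [.a0, .a2, .a4, .a7, .a8, .a11]⟩, ⟨[.a3, .a7, .a11], [.a3, .a5, .a7, .a11]⟩]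
def D1306 : List Dv := [⟨[.a2, .a4, .a7, .a8, .a9], [0, 0], []⟩,
  ⟨[.a4, .a5, .a6, .a7, .a8, .a9], [2, 1], [1, 2]⟩,
  ⟨[.a5], [3, 3], []⟩,
  ⟨[.a8], [2, 4], [4, 2]⟩,
  ⟨[.a6], [3, 3], []⟩,
  ⟨[.a4, .a7, .a9], [3], [2, 0, 1]⟩,
  ⟨[.a2], [5], [0, 2]⟩]
def C1306 : List Ch := [⟨P845, 0, [.a1], [.a1, .a2]⟩,
  ⟨P894, 1, [.a1], [.a1, .a2]⟩,
  ⟨P951, 0, [.a1, .a7], [.a1, .a2, .a7, .a8]⟩]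
def N1306 : List Ent := [⟨1, [.a0, .a9, .a11], [.a0, .a2, .a4, .a7, .a8, .a11]⟩,
  ⟨4, [.a2], [.a2]⟩,
  ⟨8, [.a3, .a7, .a11], [.a3, .a5, .a7, .a11]⟩,
  ⟨16, [.a4, .a7, .a9], [.a4, .a5, .a6, .a7, .a9]⟩,
  ⟨32, [.a5], [.a5]⟩,
  ⟨64, [.a6], [.a6]⟩,
  ⟨128, [.a7, .a11], [.a7, .a8, .a11]⟩,
  ⟨256, [.a8], [.a8]⟩,
  ⟨512, [.a9, .a11], [.a9, .a11]⟩]
theorem bad1306 (c : CtxF Goal γ) : Bad Goal γ [] P1306 :=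
  c.toCtx.bnd (B := B1306) (D := D1306) (I := [7, 0, 8, 1, 4, 2, 3]) (r := 2) (C := C1306) (N := N1306) (by decide +kernel) (by decide +kernel) (by decide +kernel) (by decide +kernel)
    (allB_cons (bad845 c) (allB_cons (bad894 c) (allB_cons (bad951 c) (allB_nil))))

def P1307 : List Ent := [⟨1, [.a0], [.a0]⟩,
  ⟨4, [.a2], [.a2]⟩,
  ⟨8, [.a3, .a7, .a9], [.a3, .a5, .a7, .a8, .a9]⟩,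
  ⟨16, [.a4], [.a4, .a5]⟩,
  ⟨32, [.a5], [.a5]⟩,
  ⟨64, [.a6], [.a6]⟩,
  ⟨256, [.a8], [.a8]⟩]
def B1307 : List Gv := [⟨[.a0], [.a0]⟩, ⟨[.a3, .a7, .a9], [.a3, .a5, .a7, .a8, .a9]⟩, ⟨[.a4], [.a4, .a5]⟩]
def D1307 : List Dv := [⟨[.a2, .a5, .a6], [1, 0], [0, 1]⟩,
  ⟨[.a5, .a8], [2, 2], []⟩,
  ⟨[.a6, .a8], [0, 1, 4, 2], [2, 4]⟩,
  ⟨[.a8], [1, 5, 5], []⟩,
  ⟨[.a6], [1], [0]⟩,
  ⟨[.a5], [3], [1]⟩,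
  ⟨[.a2], [5], [0, 1]⟩]
theorem bad1307 (c : CtxF Goal γ) : Bad Goal γ [] P1307 :=
  c.toCtx.cent (B := B1307) (D := D1307) (I := [7, 0, 8, 9, 1, 2, 3]) (z := [.a2, .a3]) (by decide +kernel) (by decide +kernel)

def P1308 : List Ent := [⟨1, [.a0, .a11], [.a0, .a2, .a3, .a4, .a5, .a6, .a7, .a9, .a11]⟩,
  ⟨4, [.a2], [.a2]⟩,
  ⟨8, [.a3, .a7, .a9], [.a3, .a5, .a7, .a8, .a9]⟩,
  ⟨16, [.a4], [.a4, .a5]⟩,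
  ⟨32, [.a5], [.a5]⟩,
  ⟨64, [.a6], [.a6]⟩,
  ⟨256, [.a8], [.a8]⟩]
def B1308 : List Gv := [⟨[.a0, .a11], [.a0, .a2, .a3, .a4, .a5, .a6, .a7, .a9, .a11]⟩, ⟨[.a3, .a7, .a9], [.a3, .a5, .a7, .a8, .a9]⟩]
def D1308 : List Dv := [⟨[.a2, .a3, .a4, .a5, .a6, .a7, .a9], [0, 0], []⟩,
  ⟨[.a4, .a5, .a6, .a8], [2, 0, 2, 1], [1, 2]⟩,
  ⟨[.a5, .a8], [3, 3], []⟩,
  ⟨[.a6], [0, 2, 4], [4, 2]⟩,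
  ⟨[.a8], [0, 1, 3, 3], []⟩,
  ⟨[.a5], [2], [0]⟩,
  ⟨[.a4], [4], [0, 2, 1]⟩,
  ⟨[.a2], [6], [8, 0, 1, 2]⟩]
def C1308 : List Ch := [⟨P843, 0, [], []⟩,
  ⟨P894, 1, [], []⟩,
  ⟨P950, 0, [.a1, .a7], [.a1, .a2, .a7, .a8]⟩]
def N1308 : List Ent := [⟨1, [.a0, .a11], [.a0, .a2, .a3, .a4, .a5, .a6, .a7, .a9, .a11]⟩,
  ⟨4, [.a2], [.a2]⟩,
  ⟨8, [.a3, .a7, .a9], [.a3, .a5, .a7, .a8, .a9]⟩,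
  ⟨16, [.a4], [.a4, .a5]⟩,
  ⟨32, [.a5], [.a5]⟩,
  ⟨64, [.a6], [.a6]⟩,
  ⟨128, [.a7, .a9], [.a7, .a8, .a9]⟩,
  ⟨256, [.a8], [.a8]⟩,
  ⟨2048, [.a11], [.a11]⟩]
theorem bad1308 (c : CtxF Goal γ) : Bad Goal γ [] P1308 :=
  c.toCtx.bnd (B := B1308) (D := D1308) (I := [8, 0, 9, 1, 2, 4, 3]) (r := 2) (C := C1308) (N := N1308) (by decide +kernel) (by decide +kernel) (by decide +kernel) (by decide +kernel)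
    (allB_cons (bad843 c) (allB_cons (bad894 c) (allB_cons (bad950 c) (allB_nil))))

def P1309 : List Ent := [⟨1, [.a0], [.a0]⟩,
  ⟨4, [.a2], [.a2]⟩,
  ⟨8, [.a3, .a4], [.a3, .a4, .a5]⟩,
  ⟨32, [.a5], [.a5]⟩,
  ⟨64, [.a6], [.a6]⟩,
  ⟨128, [.a7, .a9], [.a7, .a8, .a9]⟩,
  ⟨256, [.a8], [.a8]⟩]
def B1309 : List Gv := [⟨[.a0], [.a0]⟩, ⟨[.a3, .a4], [.a3, .a4, .a5]⟩, ⟨[.a7, .a9], [.a7, .a8, .a9]⟩]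
def D1309 : List Dv := [⟨[.a2], [1, 0], [0, 1]⟩,
  ⟨[.a5], [2, 2], []⟩,
  ⟨[.a6], [0, 1, 4, 2], [2, 4]⟩,
  ⟨[.a8], [0, 1, 5, 4], [4, 5]⟩]
theorem bad1309 (c : CtxF Goal γ) : Bad Goal γ [] P1309 :=
  c.toCtx.cent (B := B1309) (D := D1309) (I := [4, 3, 5, 2, 1, 6, 0]) (z := [.a2, .a3]) (by decide +kernel) (by decide +kernel)

def P1310 : List Ent := [⟨1, [.a0, .a11], [.a0, .a2, .a3, .a4, .a5, .a6, .a7, .a9, .a11]⟩,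
  ⟨4, [.a2], [.a2]⟩,
  ⟨8, [.a3, .a4], [.a3, .a4, .a5]⟩,
  ⟨32, [.a5], [.a5]⟩,
  ⟨64, [.a6], [.a6]⟩,
  ⟨128, [.a7, .a9], [.a7, .a8, .a9]⟩,
  ⟨256, [.a8], [.a8]⟩]
def B1310 : List Gv := [⟨[.a0, .a11], [.a0, .a2, .a3, .a4, .a5, .a6, .a7, .a9, .a11]⟩, ⟨[.a3, .a4], [.a3, .a4, .a5]⟩]
def D1310 : List Dv := [⟨[.a2, .a3, .a4, .a5, .a6, .a7, .a9], [0, 0], []⟩,
  ⟨[.a6, .a7, .a8, .a9], [2, 0, 2, 1], [1, 2]⟩,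
  ⟨[.a5], [3, 3], []⟩,
  ⟨[.a7, .a9], [1, 0, 2, 4], [4, 2]⟩,
  ⟨[.a8], [0, 1, 5, 3, 2, 4], [4, 2]⟩,
  ⟨[.a6], [3], [1, 0]⟩,
  ⟨[.a2], [5], [7, 3, 0, 2]⟩]
def C1310 : List Ch := [⟨P826, 0, [.a1], [.a1, .a2]⟩,
  ⟨P894, 1, [], []⟩,
  ⟨P950, 0, [.a1], [.a1, .a2]⟩]
def N1310 : List Ent := [⟨1, [.a0, .a11], [.a0, .a2, .a3, .a4, .a5, .a6, .a7, .a9, .a11]⟩,
  ⟨4, [.a2], [.a2]⟩,
  ⟨8, [.a3, .a4], [.a3, .a4, .a5]⟩,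
  ⟨16, [.a4], [.a4, .a5]⟩,
  ⟨32, [.a5], [.a5]⟩,
  ⟨64, [.a6], [.a6]⟩,
  ⟨128, [.a7, .a9], [.a7, .a8, .a9]⟩,
  ⟨256, [.a8], [.a8]⟩,
  ⟨2048, [.a11], [.a11]⟩]
theorem bad1310 (c : CtxF Goal γ) : Bad Goal γ [] P1310 :=
  c.toCtx.bnd (B := B1310) (D := D1310) (I := [7, 0, 8, 4, 1, 3, 2]) (r := 2) (C := C1310) (N := N1310) (by decide +kernel) (by decide +kernel) (by decide +kernel) (by decide +kernel)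
    (allB_cons (bad826 c) (allB_cons (bad894 c) (allB_cons (bad950 c) (allB_nil))))

def P1311 : List Ent := [⟨1, [.a0], [.a0]⟩,
  ⟨4, [.a2], [.a2]⟩,
  ⟨8, [.a3], [.a3]⟩,
  ⟨32, [.a5], [.a5]⟩,
  ⟨64, [.a6], [.a6]⟩,
  ⟨128, [.a7, .a9], [.a7, .a8, .a9]⟩,
  ⟨256, [.a8], [.a8]⟩]
def B1311 : List Gv := [⟨[.a0], [.a0]⟩, ⟨[.a2], [.a2]⟩, ⟨[.a3], [.a3]⟩, ⟨[.a7, .a9], [.a7, .a8, .a9]⟩]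
def D1311 : List Dv := [⟨[.a5, .a6], [1, 3, 0], [0, 3]⟩,
  ⟨[.a6], [0, 4, 2], [2, 4]⟩,
  ⟨[.a8], [5, 5], []⟩,
  ⟨[.a5], [2], [1]⟩]
def C1311 : List Ch := [⟨P690, 0, [.a10], [.a10, .a11]⟩,
  ⟨P987, 1, [], []⟩,
  ⟨P987, 0, [.a7], [.a7, .a8]⟩,
  ⟨P988, 2, [], []⟩,
  ⟨P988, 0, [.a7], [.a7, .a8]⟩,
  ⟨P989, 1, [], []⟩,
  ⟨P989, 0, [.a1, .a3, .a4], [.a1, .a2, .a4, .a5]⟩,
  ⟨P901, 3, [], []⟩,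
  ⟨P952, 0, [], []⟩,
  ⟨P987, 1, [.a1], [.a1, .a2]⟩,
  ⟨P987, 0, [.a4], [.a4, .a5]⟩,
  ⟨P990, 2, [], []⟩,
  ⟨P990, 0, [.a7], [.a7, .a8]⟩,
  ⟨P989, 1, [.a1], [.a1, .a2]⟩,
  ⟨P989, 0, [.a4], [.a4, .a5]⟩]
def N1311 : List Ent := [⟨1, [.a0], [.a0]⟩,
  ⟨2, [.a1], [.a1, .a2]⟩,
  ⟨4, [.a2], [.a2]⟩,
  ⟨8, [.a3], [.a3]⟩,
  ⟨16, [.a4], [.a4, .a5]⟩,
  ⟨32, [.a5], [.a5]⟩,
  ⟨64, [.a6], [.a6]⟩,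
  ⟨128, [.a7, .a9], [.a7, .a8, .a9]⟩,
  ⟨256, [.a8], [.a8]⟩,
  ⟨512, [.a9], [.a9]⟩]
theorem bad1311 (c : CtxF Goal γ) : Bad Goal γ [] P1311 :=
  c.toCtx.bnd (B := B1311) (D := D1311) (I := [4, 5, 6, 0, 2, 7, 1]) (r := 4) (C := C1311) (N := N1311) (by decide +kernel) (by decide +kernel) (by decide +kernel) (by decide +kernel)
    (allB_cons (bad690 c) (allB_cons (bad987 c) (allB_cons (bad987 c) (allB_cons (bad988 c) (allB_cons (bad988 c) (allB_cons (bad989 c) (allB_cons (bad989 c) (allB_cons (bad901 c) (allB_cons (bad952 c) (allB_cons (bad987 c) (allB_cons (bad987 c) (allB_cons (bad990 c) (allB_cons (bad990 c) (allB_cons (bad989 c) (allB_cons (bad989 c) (allB_nil))))))))))))))))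

def P1312 : List Ent := [⟨1, [.a0], [.a0]⟩,
  ⟨4, [.a2], [.a2]⟩,
  ⟨8, [.a3], [.a3]⟩,
  ⟨16, [.a4], [.a4, .a5]⟩,
  ⟨32, [.a5], [.a5]⟩,
  ⟨64, [.a6], [.a6]⟩,
  ⟨256, [.a8], [.a8]⟩]
def B1312 : List Gv := [⟨[.a0], [.a0]⟩, ⟨[.a3], [.a3]⟩, ⟨[.a4], [.a4, .a5]⟩, ⟨[.a6], [.a6]⟩, ⟨[.a8], [.a8]⟩]
def D1312 : List Dv := [⟨[.a2], [2, 0], [0, 2]⟩,
  ⟨[.a5], [3, 3], []⟩]
def C1312 : List Ch := [⟨P750, 0, [], []⟩,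
  ⟨P991, 1, [], []⟩,
  ⟨P991, 0, [.a7], [.a7, .a8]⟩,
  ⟨P901, 2, [], []⟩,
  ⟨P952, 0, [.a11], [.a11]⟩,
  ⟨P991, 1, [.a1], [.a1, .a2]⟩,
  ⟨P991, 0, [.a1, .a7], [.a1, .a2, .a7, .a8]⟩,
  ⟨P992, 3, [], []⟩,
  ⟨P992, 0, [.a9], [.a9]⟩,
  ⟨P993, 1, [], []⟩,
  ⟨P993, 0, [.a1, .a7], [.a1, .a2, .a7, .a8]⟩,
  ⟨P992, 2, [.a7], [.a7, .a8]⟩,
  ⟨P992, 0, [.a7, .a9], [.a7, .a8, .a9]⟩,
  ⟨P993, 1, [.a1], [.a1, .a2]⟩,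
  ⟨P993, 0, [.a7], [.a7, .a8]⟩,
  ⟨P994, 4, [], []⟩,
  ⟨P995, 0, [], []⟩,
  ⟨P996, 1, [], []⟩,
  ⟨P996, 0, [.a7], [.a7, .a8]⟩,
  ⟨P994, 2, [.a9], [.a9]⟩,
  ⟨P995, 0, [.a9], [.a9]⟩,
  ⟨P996, 1, [.a1], [.a1, .a2]⟩,
  ⟨P996, 0, [.a9], [.a9]⟩,
  ⟨P997, 3, [], []⟩,
  ⟨P997, 0, [.a7, .a9], [.a7, .a8, .a9]⟩,
  ⟨P998, 1, [], []⟩,
  ⟨P998, 0, [.a1, .a7], [.a1, .a2, .a7, .a8]⟩,
  ⟨P997, 2, [.a7], [.a7, .a8]⟩,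
  ⟨P997, 0, [.a9], [.a9]⟩,
  ⟨P998, 1, [.a1], [.a1, .a2]⟩,
  ⟨P998, 0, [.a7], [.a7, .a8]⟩]
def N1312 : List Ent := [⟨1, [.a0], [.a0]⟩,
  ⟨2, [.a1], [.a1, .a2]⟩,
  ⟨4, [.a2], [.a2]⟩,
  ⟨8, [.a3], [.a3]⟩,
  ⟨16, [.a4], [.a4, .a5]⟩,
  ⟨32, [.a5], [.a5]⟩,
  ⟨64, [.a6], [.a6]⟩,
  ⟨128, [.a7], [.a7, .a8]⟩,
  ⟨256, [.a8], [.a8]⟩,
  ⟨512, [.a9], [.a9]⟩]
theorem bad1312 (c : CtxF Goal γ) : Bad Goal γ [] P1312 :=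
  c.toCtx.bnd (B := B1312) (D := D1312) (I := [2, 1, 3, 4, 0, 5, 6]) (r := 5) (C := C1312) (N := N1312) (by decide +kernel) (by decide +kernel) (by decide +kernel) (by decide +kernel)
    (allB_cons (bad750 c) (allB_cons (bad991 c) (allB_cons (bad991 c) (allB_cons (bad901 c) (allB_cons (bad952 c) (allB_cons (bad991 c) (allB_cons (bad991 c) (allB_cons (bad992 c) (allB_cons (bad992 c) (allB_cons (bad993 c) (allB_cons (bad993 c) (allB_cons (bad992 c) (allB_cons (bad992 c) (allB_cons (bad993 c) (allB_cons (bad993 c) (allB_cons (bad994 c) (allB_cons (bad995 c) (allB_cons (bad996 c) (allB_cons (bad996 c) (allB_cons (bad994 c) (allB_cons (bad995 c) (allB_cons (bad996 c) (allB_cons (bad996 c) (allB_cons (bad997 c) (allB_cons (bad997 c) (allB_cons (bad998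 c) (allB_cons (bad998 c) (allB_cons (bad997 c) (allB_cons (bad997 c) (allB_cons (bad998 c) (allB_cons (bad998 c) (allB_nil))))))))))))))))))))))))))))))))

def P1313 : List Ent := [⟨1, [.a0, .a9], [.a0, .a3, .a6, .a9]⟩,
  ⟨4, [.a2], [.a2]⟩,
  ⟨8, [.a3], [.a3]⟩,
  ⟨32, [.a5], [.a5]⟩,
  ⟨64, [.a6], [.a6]⟩,
  ⟨128, [.a7, .a9], [.a7, .a8, .a9]⟩,
  ⟨256, [.a8], [.a8]⟩]
def B1313 : List Gv := [⟨[.a0, .a9], [.a0, .a3, .a6, .a9]⟩, ⟨[.a2], [.a2]⟩, ⟨[.a7, .a9], [.a7, .a8, .a9]⟩]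
def D1313 : List Dv := [⟨[.a3, .a6], [0, 0], []⟩,
  ⟨[.a5], [2, 1], [1, 2]⟩,
  ⟨[.a6], [0, 3, 4, 2], [2, 4]⟩,
  ⟨[.a8], [5, 5], []⟩,
  ⟨[.a3], [3], [1]⟩]
def C1313 : List Ch := [⟨P690, 0, [.a10], [.a10, .a11]⟩,
  ⟨P999, 1, [], []⟩,
  ⟨P1000, 0, [], []⟩,
  ⟨P906, 2, [], []⟩,
  ⟨P948, 0, [], []⟩,
  ⟨P1000, 1, [.a1], [.a1, .a2]⟩,
  ⟨P999, 0, [.a1], [.a1, .a2]⟩]
def N1313 : List Ent := [⟨1, [.a0, .a9], [.a0, .a3, .a6, .a9]⟩,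
  ⟨2, [.a1], [.a1, .a2]⟩,
  ⟨4, [.a2], [.a2]⟩,
  ⟨8, [.a3], [.a3]⟩,
  ⟨16, [.a4], [.a4, .a5]⟩,
  ⟨32, [.a5], [.a5]⟩,
  ⟨64, [.a6], [.a6]⟩,
  ⟨128, [.a7, .a9], [.a7, .a8, .a9]⟩,
  ⟨256, [.a8], [.a8]⟩,
  ⟨512, [.a9], [.a9]⟩]
theorem bad1313 (c : CtxF Goal γ) : Bad Goal γ [] P1313 :=
  c.toCtx.bnd (B := B1313) (D := D1313) (I := [5, 6, 0, 3, 2, 7, 1]) (r := 3) (C := C1313) (N := N1313) (by decide +kernel) (by decide +kernel) (by decide +kernel) (by decide +kernel)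
    (allB_cons (bad690 c) (allB_cons (bad999 c) (allB_cons (bad1000 c) (allB_cons (bad906 c) (allB_cons (bad948 c) (allB_cons (bad1000 c) (allB_cons (bad999 c) (allB_nil))))))))

def P1314 : List Ent := [⟨1, [.a0, .a9], [.a0, .a3, .a6, .a9]⟩,
  ⟨4, [.a2], [.a2]⟩,
  ⟨8, [.a3], [.a3]⟩,
  ⟨16, [.a4], [.a4, .a5]⟩,
  ⟨32, [.a5], [.a5]⟩,
  ⟨64, [.a6], [.a6]⟩,
  ⟨256, [.a8], [.a8]⟩]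
def B1314 : List Gv := [⟨[.a0, .a9], [.a0, .a3, .a6, .a9]⟩, ⟨[.a2], [.a2]⟩, ⟨[.a3], [.a3]⟩, ⟨[.a4], [.a4, .a5]⟩]
def D1314 : List Dv := [⟨[.a6], [2, 0, 0], []⟩,
  ⟨[.a5], [2, 1], [1, 2]⟩,
  ⟨[.a8], [0, 3, 5, 2], [2, 5]⟩]
def C1314 : List Ch := [⟨P750, 0, [], []⟩,
  ⟨P1001, 1, [], []⟩,
  ⟨P1001, 0, [.a1], [.a1, .a2]⟩,
  ⟨P1002, 2, [], []⟩,
  ⟨P1003, 0, [], []⟩,
  ⟨P1004, 1, [], []⟩,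
  ⟨P1005, 0, [], []⟩,
  ⟨P906, 3, [], []⟩,
  ⟨P948, 0, [.a11], [.a11]⟩,
  ⟨P1001, 1, [.a0], [.a0]⟩,
  ⟨P1001, 0, [.a0, .a1], [.a0, .a1, .a2]⟩,
  ⟨P1003, 2, [.a1], [.a1, .a2]⟩,
  ⟨P1002, 0, [.a1], [.a1, .a2]⟩,
  ⟨P1004, 1, [.a0], [.a0]⟩,
  ⟨P1005, 0, [.a0], [.a0]⟩]
def N1314 : List Ent := [⟨1, [.a0, .a9], [.a0, .a3, .a6, .a9]⟩,
  ⟨2, [.a1], [.a1, .a2]⟩,
  ⟨4, [.a2], [.a2]⟩,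
  ⟨8, [.a3], [.a3]⟩,
  ⟨16, [.a4], [.a4, .a5]⟩,
  ⟨32, [.a5], [.a5]⟩,
  ⟨64, [.a6], [.a6]⟩,
  ⟨128, [.a7], [.a7, .a8]⟩,
  ⟨256, [.a8], [.a8]⟩,
  ⟨512, [.a9], [.a9]⟩]
theorem bad1314 (c : CtxF Goal γ) : Bad Goal γ [] P1314 :=
  c.toCtx.bnd (B := B1314) (D := D1314) (I := [3, 4, 5, 6, 1, 2, 0]) (r := 4) (C := C1314) (N := N1314) (by decide +kernel) (by decide +kernel) (by decide +kernel) (by decide +kernel)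
    (allB_cons (bad750 c) (allB_cons (bad1001 c) (allB_cons (bad1001 c) (allB_cons (bad1002 c) (allB_cons (bad1003 c) (allB_cons (bad1004 c) (allB_cons (bad1005 c) (allB_cons (bad906 c) (allB_cons (bad948 c) (allB_cons (bad1001 c) (allB_cons (bad1001 c) (allB_cons (bad1003 c) (allB_cons (bad1002 c) (allB_cons (bad1004 c) (allB_cons (bad1005 c) (allB_nil))))))))))))))))

def P1315 : List Ent := [⟨1, [.a0], [.a0]⟩,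
  ⟨4, [.a2, .a6], [.a2, .a6]⟩,
  ⟨8, [.a3, .a6], [.a3, .a6]⟩,
  ⟨32, [.a5], [.a5]⟩,
  ⟨128, [.a7], [.a7, .a8]⟩,
  ⟨256, [.a8], [.a8]⟩,
  ⟨512, [.a9], [.a9]⟩]
def B1315 : List Gv := [⟨[.a0], [.a0]⟩, ⟨[.a7], [.a7, .a8]⟩, ⟨[.a9], [.a9]⟩]
def D1315 : List Dv := [⟨[.a2, .a3], [1, 0], [0, 1]⟩,
  ⟨[.a8], [2, 2], []⟩,
  ⟨[.a3, .a6], [4, 2], [2, 4]⟩,
  ⟨[.a5], [2, 4], [4, 2]⟩,
  ⟨[.a2, .a6], [3], [1]⟩]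
theorem bad1315 (c : CtxF Goal γ) : Bad Goal γ [] P1315 :=
  c.toCtx.cent (B := B1315) (D := D1315) (I := [5, 0, 2, 1, 6, 3, 7]) (z := [.a6]) (by decide +kernel) (by decide +kernel)

def P1316 : List Ent := [⟨1, [.a0, .a6], [.a0, .a6]⟩,
  ⟨4, [.a2, .a6], [.a2, .a6]⟩,
  ⟨8, [.a3, .a6], [.a3, .a6]⟩,
  ⟨32, [.a5], [.a5]⟩,
  ⟨128, [.a7], [.a7, .a8]⟩,
  ⟨256, [.a8], [.a8]⟩,
  ⟨512, [.a9], [.a9]⟩]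
def B1316 : List Gv := [⟨[.a0, .a6], [.a0, .a6]⟩, ⟨[.a7], [.a7, .a8]⟩, ⟨[.a9], [.a9]⟩]
def D1316 : List Dv := [⟨[.a2, .a3], [1, 0], [0, 1]⟩,
  ⟨[.a8], [2, 2], []⟩,
  ⟨[.a3, .a6], [4, 2], [2, 4]⟩,
  ⟨[.a5], [2, 4], [4, 2]⟩,
  ⟨[.a2, .a6], [3], [1]⟩]
theorem bad1316 (c : CtxF Goal γ) : Bad Goal γ [] P1316 :=
  c.toCtx.cent (B := B1316) (D := D1316) (I := [5, 0, 2, 1, 6, 3, 7]) (z := [.a6]) (by decide +kernel) (by decide +kernel)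

def P1317 : List Ent := [⟨1, [.a0], [.a0]⟩,
  ⟨4, [.a2], [.a2]⟩,
  ⟨8, [.a3, .a6], [.a3, .a6]⟩,
  ⟨16, [.a4], [.a4, .a5]⟩,
  ⟨32, [.a5], [.a5]⟩,
  ⟨256, [.a8], [.a8]⟩,
  ⟨512, [.a9], [.a9]⟩]
def B1317 : List Gv := [⟨[.a0], [.a0]⟩, ⟨[.a4], [.a4, .a5]⟩, ⟨[.a9], [.a9]⟩]
def D1317 : List Dv := [⟨[.a2], [1, 0], [0, 1]⟩,
  ⟨[.a5], [2, 2], []⟩,
  ⟨[.a3, .a6], [4, 2], [2, 4]⟩,
  ⟨[.a8], [5, 4], [4, 5]⟩]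
theorem bad1317 (c : CtxF Goal γ) : Bad Goal γ [] P1317 :=
  c.toCtx.cent (B := B1317) (D := D1317) (I := [4, 3, 1, 5, 2, 0, 6]) (z := [.a3]) (by decide +kernel) (by decide +kernel)

def P1318 : List Ent := [⟨1, [.a0, .a6], [.a0, .a6]⟩,
  ⟨4, [.a2], [.a2]⟩,
  ⟨8, [.a3, .a6], [.a3, .a6]⟩,
  ⟨16, [.a4], [.a4, .a5]⟩,
  ⟨32, [.a5], [.a5]⟩,
  ⟨256, [.a8], [.a8]⟩,
  ⟨512, [.a9], [.a9]⟩]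
def B1318 : List Gv := [⟨[.a0, .a6], [.a0, .a6]⟩, ⟨[.a4], [.a4, .a5]⟩, ⟨[.a9], [.a9]⟩]
def D1318 : List Dv := [⟨[.a2], [1, 0], [0, 1]⟩,
  ⟨[.a5], [2, 2], []⟩,
  ⟨[.a3, .a6], [4, 2], [2, 4]⟩,
  ⟨[.a8], [5, 4], [4, 5]⟩]
theorem bad1318 (c : CtxF Goal γ) : Bad Goal γ [] P1318 :=
  c.toCtx.cent (B := B1318) (D := D1318) (I := [4, 3, 1, 5, 2, 0, 6]) (z := [.a3]) (by decide +kernel) (by decide +kernel)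

def P1319 : List Ent := [⟨1, [.a0], [.a0]⟩,
  ⟨2, [.a1], [.a1, .a2]⟩,
  ⟨4, [.a2], [.a2]⟩,
  ⟨8, [.a3, .a8], [.a3, .a8]⟩,
  ⟨32, [.a5], [.a5]⟩,
  ⟨64, [.a6, .a8], [.a6, .a8]⟩,
  ⟨512, [.a9], [.a9]⟩]
def B1319 : List Gv := [⟨[.a0], [.a0]⟩, ⟨[.a1], [.a1, .a2]⟩, ⟨[.a9], [.a9]⟩]
def D1319 : List Dv := [⟨[.a2], [1, 1], []⟩,
  ⟨[.a3, .a6], [3, 1], [1, 3]⟩,
  ⟨[.a6, .a8], [4, 3], [3, 4]⟩,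
  ⟨[.a5], [2, 5], [5, 2]⟩,
  ⟨[.a3, .a8], [2], [1]⟩]
theorem bad1319 (c : CtxF Goal γ) : Bad Goal γ [] P1319 :=
  c.toCtx.cent (B := B1319) (D := D1319) (I := [5, 6, 4, 0, 1, 2, 7]) (z := [.a3]) (by decide +kernel) (by decide +kernel)

def P1320 : List Ent := [⟨1, [.a0], [.a0]⟩,
  ⟨2, [.a1, .a8], [.a1, .a2, .a8]⟩,
  ⟨4, [.a2], [.a2]⟩,
  ⟨8, [.a3, .a8], [.a3, .a8]⟩,
  ⟨32, [.a5], [.a5]⟩,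
  ⟨64, [.a6, .a8], [.a6, .a8]⟩,
  ⟨512, [.a9], [.a9]⟩]
def B1320 : List Gv := [⟨[.a0], [.a0]⟩, ⟨[.a1, .a8], [.a1, .a2, .a8]⟩, ⟨[.a9], [.a9]⟩]
def D1320 : List Dv := [⟨[.a5], [1, 0], [0, 1]⟩,
  ⟨[.a2], [2, 2], []⟩,
  ⟨[.a3, .a6], [4, 2], [2, 4]⟩,
  ⟨[.a6, .a8], [5, 4], [4, 5]⟩,
  ⟨[.a3, .a8], [1], [0]⟩]
theorem bad1320 (c : CtxF Goal γ) : Bad Goal γ [] P1320 :=
  c.toCtx.cent (B := B1320) (D := D1320) (I := [5, 6, 3, 0, 4, 1, 7]) (z := [.a3]) (by decide +kernel) (by decide +kernel)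

def P1321 : List Ent := [⟨1, [.a0], [.a0]⟩,
  ⟨2, [.a1], [.a1, .a2]⟩,
  ⟨4, [.a2], [.a2]⟩,
  ⟨8, [.a3], [.a3]⟩,
  ⟨32, [.a5], [.a5]⟩,
  ⟨64, [.a6], [.a6]⟩,
  ⟨256, [.a8], [.a8]⟩]
def B1321 : List Gv := [⟨[.a0], [.a0]⟩, ⟨[.a1], [.a1, .a2]⟩, ⟨[.a3], [.a3]⟩, ⟨[.a6], [.a6]⟩, ⟨[.a8], [.a8]⟩]
def D1321 : List Dv := [⟨[.a2], [1, 1], []⟩,
  ⟨[.a5], [4, 2], [2, 4]⟩]
def C1321 : List Ch := [⟨P851, 0, [], []⟩,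
  ⟨P901, 1, [], []⟩,
  ⟨P948, 0, [.a10], [.a10, .a11]⟩,
  ⟨P1006, 2, [], []⟩,
  ⟨P1006, 0, [.a7], [.a7, .a8]⟩,
  ⟨P1006, 1, [.a4], [.a4, .a5]⟩,
  ⟨P1006, 0, [.a4, .a6, .a7], [.a4, .a5, .a7, .a8]⟩,
  ⟨P1007, 3, [], []⟩,
  ⟨P1008, 0, [], []⟩,
  ⟨P1008, 1, [.a9], [.a9]⟩,
  ⟨P1007, 0, [.a9], [.a9]⟩,
  ⟨P1009, 2, [], []⟩,
  ⟨P1009, 0, [.a7], [.a7, .a8]⟩,
  ⟨P1009, 1, [.a4], [.a4, .a5]⟩,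
  ⟨P1009, 0, [.a4, .a6, .a7], [.a4, .a5, .a7, .a8]⟩,
  ⟨P1010, 4, [], []⟩,
  ⟨P1011, 0, [], []⟩,
  ⟨P1010, 1, [.a9], [.a9]⟩,
  ⟨P1011, 0, [.a9], [.a9]⟩,
  ⟨P1012, 2, [], []⟩,
  ⟨P1012, 0, [.a7], [.a7, .a8]⟩,
  ⟨P1012, 1, [.a4], [.a4, .a5]⟩,
  ⟨P1012, 0, [.a9], [.a9]⟩,
  ⟨P1013, 3, [], []⟩,
  ⟨P1013, 0, [.a9], [.a9]⟩,
  ⟨P1014, 1, [], []⟩,
  ⟨P1014, 0, [.a9], [.a9]⟩,
  ⟨P1015, 2, [], []⟩,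
  ⟨P1015, 0, [.a7], [.a7, .a8]⟩,
  ⟨P1015, 1, [.a4], [.a4, .a5]⟩,
  ⟨P1015, 0, [.a4, .a6, .a7], [.a4, .a5, .a7, .a8]⟩]
def N1321 : List Ent := [⟨1, [.a0], [.a0]⟩,
  ⟨2, [.a1], [.a1, .a2]⟩,
  ⟨4, [.a2], [.a2]⟩,
  ⟨8, [.a3], [.a3]⟩,
  ⟨16, [.a4], [.a4, .a5]⟩,
  ⟨32, [.a5], [.a5]⟩,
  ⟨64, [.a6], [.a6]⟩,
  ⟨128, [.a7], [.a7, .a8]⟩,
  ⟨256, [.a8], [.a8]⟩,
  ⟨512, [.a9], [.a9]⟩]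
theorem bad1321 (c : CtxF Goal γ) : Bad Goal γ [] P1321 :=
  c.toCtx.bnd (B := B1321) (D := D1321) (I := [2, 3, 1, 4, 0, 5, 6]) (r := 5) (C := C1321) (N := N1321) (by decide +kernel) (by decide +kernel) (by decide +kernel) (by decide +kernel)
    (allB_cons (bad851 c) (allB_cons (bad901 c) (allB_cons (bad948 c) (allB_cons (bad1006 c) (allB_cons (bad1006 c) (allB_cons (bad1006 c) (allB_cons (bad1006 c) (allB_cons (bad1007 c) (allB_cons (bad1008 c) (allB_cons (bad1008 c) (allB_cons (bad1007 c) (allB_cons (bad1009 c) (allB_cons (bad1009 c) (allB_cons (bad1009 c) (allB_cons (bad1009 c) (allB_cons (bad1010 c) (allB_cons (bad1011 c) (allB_cons (bad1010 c) (allB_cons (bad1011 c) (allB_cons (bad1012 c) (allB_cons (bad1012 c) (allB_cons (bad1012 c) (allB_cons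 (bad1012 c) (allB_cons (bad1013 c) (allB_cons (bad1013 c) (allB_cons (bad1014 c) (allB_cons (bad1014 c) (allB_cons (bad1015 c) (allB_cons (bad1015 c) (allB_cons (bad1015 c) (allB_cons (bad1015 c) (allB_nil))))))))))))))))))))))))))))))))

def P1322 : List Ent := [⟨1, [.a0, .a9], [.a0, .a3, .a6, .a9]⟩,
  ⟨2, [.a1], [.a1, .a2]⟩,
  ⟨4, [.a2], [.a2]⟩,
  ⟨8, [.a3], [.a3]⟩,
  ⟨32, [.a5], [.a5]⟩,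
  ⟨64, [.a6], [.a6]⟩,
  ⟨256, [.a8], [.a8]⟩]
def B1322 : List Gv := [⟨[.a0, .a9], [.a0, .a3, .a6, .a9]⟩, ⟨[.a1], [.a1, .a2]⟩, ⟨[.a3], [.a3]⟩]
def D1322 : List Dv := [⟨[.a6], [2, 0, 0], []⟩,
  ⟨[.a5, .a6, .a8], [2, 1], [1, 2]⟩,
  ⟨[.a2], [3, 3], []⟩,
  ⟨[.a8], [2, 1, 2, 4], [4, 2]⟩,
  ⟨[.a5], [2], [3, 0]⟩]
def C1322 : List Ch := [⟨P851, 0, [], []⟩,
  ⟨P906, 1, [], []⟩,
  ⟨P952, 0, [.a10], [.a10, .a11]⟩,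
  ⟨P1016, 2, [], []⟩,
  ⟨P1016, 0, [.a7], [.a7, .a8]⟩,
  ⟨P1016, 1, [.a4, .a6, .a7], [.a4, .a5, .a7, .a8]⟩,
  ⟨P1016, 0, [.a4], [.a4, .a5]⟩]
def N1322 : List Ent := [⟨1, [.a0, .a9], [.a0, .a3, .a6, .a9]⟩,
  ⟨2, [.a1], [.a1, .a2]⟩,
  ⟨4, [.a2], [.a2]⟩,
  ⟨8, [.a3], [.a3]⟩,
  ⟨16, [.a4], [.a4, .a5]⟩,
  ⟨32, [.a5], [.a5]⟩,
  ⟨64, [.a6], [.a6]⟩,
  ⟨128, [.a7], [.a7, .a8]⟩,
  ⟨256, [.a8], [.a8]⟩,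
  ⟨512, [.a9], [.a9]⟩]
theorem bad1322 (c : CtxF Goal γ) : Bad Goal γ [] P1322 :=
  c.toCtx.bnd (B := B1322) (D := D1322) (I := [5, 6, 2, 7, 0, 4, 1]) (r := 3) (C := C1322) (N := N1322) (by decide +kernel) (by decide +kernel) (by decide +kernel) (by decide +kernel)
    (allB_cons (bad851 c) (allB_cons (bad906 c) (allB_cons (bad952 c) (allB_cons (bad1016 c) (allB_cons (bad1016 c) (allB_cons (bad1016 c) (allB_cons (bad1016 c) (allB_nil))))))))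

def P1323 : List Ent := [⟨1, [.a0], [.a0]⟩,
  ⟨2, [.a1, .a9], [.a1, .a2, .a6, .a8, .a9]⟩,
  ⟨4, [.a2], [.a2]⟩,
  ⟨8, [.a3], [.a3]⟩,
  ⟨32, [.a5], [.a5]⟩,
  ⟨64, [.a6], [.a6]⟩,
  ⟨256, [.a8], [.a8]⟩]
def B1323 : List Gv := [⟨[.a0], [.a0]⟩, ⟨[.a1, .a9], [.a1, .a2, .a6, .a8, .a9]⟩, ⟨[.a2], [.a2]⟩, ⟨[.a3], [.a3]⟩]
def D1323 : List Dv := [⟨[.a5, .a6], [3, 1, 0], [0, 1]⟩,
  ⟨[.a8], [0, 3, 2, 2], []⟩,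
  ⟨[.a6], [1, 4, 3], [3, 4]⟩,
  ⟨[.a5], [2], [0]⟩]
def C1323 : List Ch := [⟨P851, 0, [.a11], [.a11]⟩,
  ⟨P901, 1, [], []⟩,
  ⟨P952, 0, [.a10], [.a10, .a11]⟩,
  ⟨P1017, 2, [], []⟩,
  ⟨P1017, 0, [.a7], [.a7, .a8]⟩,
  ⟨P1017, 1, [.a1], [.a1, .a2]⟩,
  ⟨P1017, 0, [.a4], [.a4, .a5]⟩,
  ⟨P1018, 3, [], []⟩,
  ⟨P1018, 0, [.a7], [.a7, .a8]⟩,
  ⟨P1019, 1, [], []⟩,
  ⟨P1019, 0, [.a7], [.a7, .a8]⟩,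
  ⟨P1020, 2, [], []⟩,
  ⟨P1020, 0, [.a1, .a3, .a4], [.a1, .a2, .a4, .a5]⟩,
  ⟨P1020, 1, [.a1], [.a1, .a2]⟩,
  ⟨P1020, 0, [.a4], [.a4, .a5]⟩]
def N1323 : List Ent := [⟨1, [.a0], [.a0]⟩,
  ⟨2, [.a1, .a9], [.a1, .a2, .a6, .a8, .a9]⟩,
  ⟨4, [.a2], [.a2]⟩,
  ⟨8, [.a3], [.a3]⟩,
  ⟨16, [.a4], [.a4, .a5]⟩,
  ⟨32, [.a5], [.a5]⟩,
  ⟨64, [.a6], [.a6]⟩,
  ⟨128, [.a7], [.a7, .a8]⟩,
  ⟨256, [.a8], [.a8]⟩,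
  ⟨512, [.a9], [.a9]⟩]
theorem bad1323 (c : CtxF Goal γ) : Bad Goal γ [] P1323 :=
  c.toCtx.bnd (B := B1323) (D := D1323) (I := [4, 5, 6, 7, 0, 1, 2]) (r := 4) (C := C1323) (N := N1323) (by decide +kernel) (by decide +kernel) (by decide +kernel) (by decide +kernel)
    (allB_cons (bad851 c) (allB_cons (bad901 c) (allB_cons (bad952 c) (allB_cons (bad1017 c) (allB_cons (bad1017 c) (allB_cons (bad1017 c) (allB_cons (bad1017 c) (allB_cons (bad1018 c) (allB_cons (bad1018 c) (allB_cons (bad1019 c) (allB_cons (bad1019 c) (allB_cons (bad1020 c) (allB_cons (bad1020 c) (allB_cons (bad1020 c) (allB_cons (bad1020 c) (allB_nil))))))))))))))))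

def P1324 : List Ent := [⟨1, [.a0, .a9], [.a0, .a3, .a6, .a9]⟩,
  ⟨2, [.a1, .a9], [.a1, .a2, .a6, .a8, .a9]⟩,
  ⟨4, [.a2], [.a2]⟩,
  ⟨8, [.a3], [.a3]⟩,
  ⟨32, [.a5], [.a5]⟩,
  ⟨64, [.a6], [.a6]⟩,
  ⟨256, [.a8], [.a8]⟩]
def B1324 : List Gv := [⟨[.a0, .a9], [.a0, .a3, .a6, .a9]⟩, ⟨[.a1, .a9], [.a1, .a2, .a6, .a8, .a9]⟩, ⟨[.a3], [.a3]⟩]
def D1324 : List Dv := [⟨[.a6], [2, 0, 0], []⟩,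
  ⟨[.a8], [3, 2, 1], [1, 2]⟩,
  ⟨[.a2, .a5, .a6, .a8], [3, 3], []⟩,
  ⟨[.a5], [2, 4], [4, 2]⟩,
  ⟨[.a2], [1], [0, 3, 2]⟩]
def C1324 : List Ch := [⟨P851, 0, [.a11], [.a11]⟩,
  ⟨P906, 1, [], []⟩,
  ⟨P948, 0, [.a10], [.a10, .a11]⟩,
  ⟨P1021, 2, [], []⟩,
  ⟨P1021, 0, [.a4], [.a4, .a5]⟩,
  ⟨P1022, 1, [], []⟩,
  ⟨P1022, 0, [.a4], [.a4, .a5]⟩]
def N1324 : List Ent := [⟨1, [.a0, .a9], [.a0, .a3, .a6, .a9]⟩,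
  ⟨2, [.a1, .a9], [.a1, .a2, .a6, .a8, .a9]⟩,
  ⟨4, [.a2], [.a2]⟩,
  ⟨8, [.a3], [.a3]⟩,
  ⟨16, [.a4], [.a4, .a5]⟩,
  ⟨32, [.a5], [.a5]⟩,
  ⟨64, [.a6], [.a6]⟩,
  ⟨128, [.a7], [.a7, .a8]⟩,
  ⟨256, [.a8], [.a8]⟩,
  ⟨512, [.a9], [.a9]⟩]
theorem bad1324 (c : CtxF Goal γ) : Bad Goal γ [] P1324 :=
  c.toCtx.bnd (B := B1324) (D := D1324) (I := [5, 6, 0, 7, 1, 4, 3]) (r := 3) (C := C1324) (N := N1324) (by decide +kernel) (by decide +kernel) (by decide +kernel) (by decide +kernel)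
    (allB_cons (bad851 c) (allB_cons (bad906 c) (allB_cons (bad948 c) (allB_cons (bad1021 c) (allB_cons (bad1021 c) (allB_cons (bad1022 c) (allB_cons (bad1022 c) (allB_nil))))))))

def P1325 : List Ent := [⟨1, [.a0], [.a0]⟩,
  ⟨2, [.a1, .a4, .a7], [.a1, .a2, .a3, .a4, .a6, .a7, .a8]⟩,
  ⟨4, [.a2, .a8], [.a2, .a8]⟩,
  ⟨8, [.a3], [.a3]⟩,
  ⟨32, [.a5], [.a5]⟩,
  ⟨64, [.a6], [.a6]⟩,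
  ⟨512, [.a9], [.a9]⟩]
def B1325 : List Gv := [⟨[.a0], [.a0]⟩, ⟨[.a1, .a4, .a7], [.a1, .a2, .a3, .a4, .a6, .a7, .a8]⟩, ⟨[.a9], [.a9]⟩]
def D1325 : List Dv := [⟨[.a3], [1, 0], [0, 1]⟩,
  ⟨[.a2, .a3, .a5, .a6, .a8], [2, 2], []⟩,
  ⟨[.a6], [1, 4, 2], [2, 4]⟩,
  ⟨[.a5], [2, 4], [4, 2]⟩,
  ⟨[.a2, .a8], [2], [3, 0, 1]⟩]
def C1325 : List Ch := [⟨P849, 0, [.a10], [.a10, .a11]⟩,
  ⟨P913, 1, [], []⟩,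
  ⟨P954, 0, [.a10, .a11], [.a10]⟩,
  ⟨P1023, 2, [], []⟩,
  ⟨P1024, 0, [], []⟩,
  ⟨P1025, 1, [], []⟩,
  ⟨P1026, 0, [], []⟩]
def S1325 : List St := [.cent 1 1 0 [⟨8, [.a3, .a6], [.a3, .a6]⟩,
  ⟨32, [.a5], [.a5]⟩]]
theorem bad1325 (c : CtxF Goal γ) : Bad Goal γ [] P1325 :=
  c.toCtx.chn (B := B1325) (D := D1325) (I := [5, 6, 0, 4, 1, 2, 7]) (r := 3) (C := C1325) (l := S1325) (x := ⟨[.a8], [.a8]⟩) (ix := [0]) (by decide +kernel) (by decide +kernel) (by decide +kernel) (by decide +kernel)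
    (allB_cons (bad849 c) (allB_cons (bad913 c) (allB_cons (bad954 c) (allB_cons (bad1023 c) (allB_cons (bad1024 c) (allB_cons (bad1025 c) (allB_cons (bad1026 c) (allB_nil))))))))

def P1326 : List Ent := [⟨1, [.a0], [.a0]⟩,
  ⟨2, [.a1, .a4, .a7, .a8], [.a1, .a2, .a3, .a4, .a6, .a7]⟩,
  ⟨4, [.a2, .a8], [.a2, .a8]⟩,
  ⟨8, [.a3], [.a3]⟩,
  ⟨32, [.a5], [.a5]⟩,
  ⟨64, [.a6], [.a6]⟩,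
  ⟨512, [.a9], [.a9]⟩]
def B1326 : List Gv := [⟨[.a0], [.a0]⟩, ⟨[.a1, .a4, .a7, .a8], [.a1, .a2, .a3, .a4, .a6, .a7]⟩, ⟨[.a9], [.a9]⟩]
def D1326 : List Dv := [⟨[.a3, .a5], [1, 0], [0, 1]⟩,
  ⟨[.a2, .a3, .a5, .a6, .a8], [2, 2], []⟩,
  ⟨[.a5, .a6], [1, 4, 2], [2, 4]⟩,
  ⟨[.a6], [5, 4], [4, 5]⟩,
  ⟨[.a5], [1], [0]⟩,
  ⟨[.a3], [4], [0]⟩,
  ⟨[.a2, .a8], [4], [0, 1, 2]⟩]
def C1326 : List Ch := [⟨P850, 0, [.a10], [.a10, .a11]⟩,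
  ⟨P913, 1, [], []⟩,
  ⟨P954, 0, [.a0, .a1, .a2, .a3, .a4, .a6, .a8, .a9, .a10, .a11], [.a0, .a10]⟩,
  ⟨P1027, 2, [], []⟩,
  ⟨P1028, 0, [], []⟩,
  ⟨P1025, 1, [.a1], [.a1, .a2]⟩,
  ⟨P1026, 0, [.a4], [.a4, .a5]⟩]
def S1326 : List St := [.cent 1 1 0 [⟨8, [.a3, .a6], [.a3, .a6]⟩,
  ⟨32, [.a5], [.a5]⟩]]
theorem bad1326 (c : CtxF Goal γ) : Bad Goal γ [] P1326 :=
  c.toCtx.chn (B := B1326) (D := D1326) (I := [7, 8, 0, 1, 2, 3, 9]) (r := 3) (C := C1326) (l := S1326) (x := ⟨[.a8], [.a8]⟩) (ix := [0]) (by decide +kernel) (by decide +kernel) (by decide +kernel) (by decide +kernel)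
    (allB_cons (bad850 c) (allB_cons (bad913 c) (allB_cons (bad954 c) (allB_cons (bad1027 c) (allB_cons (bad1028 c) (allB_cons (bad1025 c) (allB_cons (bad1026 c) (allB_nil))))))))

def P1327 : List Ent := [⟨1, [.a0], [.a0]⟩,
  ⟨2, [.a1, .a4, .a7], [.a1, .a2, .a3, .a4, .a6, .a7, .a8]⟩,
  ⟨4, [.a2], [.a2]⟩,
  ⟨8, [.a3], [.a3]⟩,
  ⟨32, [.a5], [.a5]⟩,
  ⟨64, [.a6], [.a6]⟩,
  ⟨256, [.a8], [.a8]⟩]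
def B1327 : List Gv := [⟨[.a0], [.a0]⟩, ⟨[.a1, .a4, .a7], [.a1, .a2, .a3, .a4, .a6, .a7, .a8]⟩, ⟨[.a2], [.a2]⟩, ⟨[.a6], [.a6]⟩]
def D1327 : List Dv := [⟨[.a3], [1, 0], [0, 1]⟩,
  ⟨[.a5, .a6, .a8], [0, 3, 2, 2], []⟩,
  ⟨[.a8], [5, 0, 5, 3], [3, 5]⟩,
  ⟨[.a5], [1], [6, 0]⟩]
def C1327 : List Ch := [⟨P851, 0, [.a10], [.a10, .a11]⟩,
  ⟨P901, 1, [], []⟩,
  ⟨P948, 0, [.a10, .a11], [.a10]⟩,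
  ⟨P1023, 2, [], []⟩,
  ⟨P1023, 0, [.a4], [.a4, .a5]⟩,
  ⟨P1027, 1, [], []⟩,
  ⟨P1027, 0, [.a4], [.a4, .a5]⟩,
  ⟨P1029, 3, [], []⟩,
  ⟨P1029, 0, [.a4, .a8, .a9], [.a4, .a5, .a9]⟩,
  ⟨P1029, 1, [.a4], [.a4, .a5]⟩,
  ⟨P1029, 0, [.a9], [.a9]⟩,
  ⟨P1030, 2, [], []⟩,
  ⟨P1031, 0, [], []⟩,
  ⟨P1031, 1, [.a4], [.a4, .a5]⟩,
  ⟨P1030, 0, [.a4], [.a4, .a5]⟩]
def N1327 : List Ent := [⟨1, [.a0], [.a0]⟩,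
  ⟨2, [.a1, .a4, .a7], [.a1, .a2, .a3, .a4, .a6, .a7, .a8]⟩,
  ⟨4, [.a2], [.a2]⟩,
  ⟨8, [.a3], [.a3]⟩,
  ⟨16, [.a4], [.a4, .a5]⟩,
  ⟨32, [.a5], [.a5]⟩,
  ⟨64, [.a6], [.a6]⟩,
  ⟨128, [.a7], [.a7, .a8]⟩,
  ⟨256, [.a8], [.a8]⟩,
  ⟨512, [.a9], [.a9]⟩]
theorem bad1327 (c : CtxF Goal γ) : Bad Goal γ [] P1327 :=
  c.toCtx.bnd (B := B1327) (D := D1327) (I := [4, 5, 6, 3, 0, 7, 1]) (r := 4) (C := C1327) (N := N1327) (by decide +kernel) (by decide +kernel) (by decide +kernel) (by decide +kernel)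
    (allB_cons (bad851 c) (allB_cons (bad901 c) (allB_cons (bad948 c) (allB_cons (bad1023 c) (allB_cons (bad1023 c) (allB_cons (bad1027 c) (allB_cons (bad1027 c) (allB_cons (bad1029 c) (allB_cons (bad1029 c) (allB_cons (bad1029 c) (allB_cons (bad1029 c) (allB_cons (bad1030 c) (allB_cons (bad1031 c) (allB_cons (bad1031 c) (allB_cons (bad1030 c) (allB_nil))))))))))))))))

def P1328 : List Ent := [⟨1, [.a0, .a9], [.a0, .a3, .a6, .a9]⟩,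
  ⟨2, [.a1, .a4, .a7], [.a1, .a2, .a3, .a4, .a6, .a7, .a8]⟩,
  ⟨4, [.a2], [.a2]⟩,
  ⟨8, [.a3], [.a3]⟩,
  ⟨32, [.a5], [.a5]⟩,
  ⟨64, [.a6], [.a6]⟩,
  ⟨256, [.a8], [.a8]⟩]
def B1328 : List Gv := [⟨[.a0, .a9], [.a0, .a3, .a6, .a9]⟩, ⟨[.a1, .a4, .a7], [.a1, .a2, .a3, .a4, .a6, .a7, .a8]⟩, ⟨[.a2], [.a2]⟩, ⟨[.a3], [.a3]⟩]
def D1328 : List Dv := [⟨[.a6], [3, 0, 0], []⟩,
  ⟨[.a5, .a6, .a8], [4, 3, 2, 2], []⟩,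
  ⟨[.a8], [1, 0, 4, 2], [2, 4]⟩,
  ⟨[.a5], [1], [2, 0]⟩]
def C1328 : List Ch := [⟨P851, 0, [.a10], [.a10, .a11]⟩,
  ⟨P906, 1, [], []⟩,
  ⟨P952, 0, [.a10, .a11], [.a10]⟩,
  ⟨P1024, 2, [], []⟩,
  ⟨P1024, 0, [.a1], [.a1, .a2]⟩,
  ⟨P1028, 1, [], []⟩,
  ⟨P1028, 0, [.a1], [.a1, .a2]⟩,
  ⟨P1032, 3, [], []⟩,
  ⟨P1032, 0, [.a0, .a1], [.a0, .a1, .a2]⟩,
  ⟨P1032, 1, [.a0], [.a0]⟩,
  ⟨P1032, 0, [.a1], [.a1, .a2]⟩,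
  ⟨P1033, 2, [], []⟩,
  ⟨P1034, 0, [], []⟩,
  ⟨P1033, 1, [.a0], [.a0]⟩,
  ⟨P1034, 0, [.a0], [.a0]⟩]
def N1328 : List Ent := [⟨1, [.a0, .a9], [.a0, .a3, .a6, .a9]⟩,
  ⟨2, [.a1, .a4, .a7], [.a1, .a2, .a3, .a4, .a6, .a7, .a8]⟩,
  ⟨4, [.a2], [.a2]⟩,
  ⟨8, [.a3], [.a3]⟩,
  ⟨16, [.a4], [.a4, .a5]⟩,
  ⟨32, [.a5], [.a5]⟩,
  ⟨64, [.a6], [.a6]⟩,
  ⟨128, [.a7], [.a7, .a8]⟩,
  ⟨256, [.a8], [.a8]⟩,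
  ⟨512, [.a9], [.a9]⟩]
theorem bad1328 (c : CtxF Goal γ) : Bad Goal γ [] P1328 :=
  c.toCtx.bnd (B := B1328) (D := D1328) (I := [4, 5, 6, 7, 0, 3, 1]) (r := 4) (C := C1328) (N := N1328) (by decide +kernel) (by decide +kernel) (by decide +kernel) (by decide +kernel)
    (allB_cons (bad851 c) (allB_cons (bad906 c) (allB_cons (bad952 c) (allB_cons (bad1024 c) (allB_cons (bad1024 c) (allB_cons (bad1028 c) (allB_cons (bad1028 c) (allB_cons (bad1032 c) (allB_cons (bad1032 c) (allB_cons (bad1032 c) (allB_cons (bad1032 c) (allB_cons (bad1033 c) (allB_cons (bad1034 c) (allB_cons (bad1033 c) (allB_cons (bad1034 c) (allB_nil))))))))))))))))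

def P1329 : List Ent := [⟨1, [.a0], [.a0]⟩,
  ⟨2, [.a1, .a4, .a7, .a9], [.a1, .a2, .a3, .a4, .a7, .a8, .a9]⟩,
  ⟨4, [.a2], [.a2]⟩,
  ⟨8, [.a3], [.a3]⟩,
  ⟨32, [.a5], [.a5]⟩,
  ⟨64, [.a6], [.a6]⟩,
  ⟨256, [.a8], [.a8]⟩]
def B1329 : List Gv := [⟨[.a0], [.a0]⟩, ⟨[.a1, .a4, .a7, .a9], [.a1, .a2, .a3, .a4, .a7, .a8, .a9]⟩, ⟨[.a2], [.a2]⟩, ⟨[.a3], [.a3]⟩]
def D1329 : List Dv := [⟨[.a6], [1, 0], [0, 1]⟩,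
  ⟨[.a8], [4, 3, 2, 2], []⟩,
  ⟨[.a5], [4, 3], [3, 4]⟩]
def C1329 : List Ch := [⟨P851, 0, [.a10, .a11], [.a10]⟩,
  ⟨P901, 1, [], []⟩,
  ⟨P952, 0, [.a10, .a11], [.a10]⟩,
  ⟨P1025, 2, [], []⟩,
  ⟨P1025, 0, [.a7], [.a7, .a8]⟩,
  ⟨P1025, 1, [.a1], [.a1, .a2]⟩,
  ⟨P1025, 0, [.a4], [.a4, .a5]⟩,
  ⟨P1035, 3, [], []⟩,
  ⟨P1035, 0, [.a7], [.a7, .a8]⟩,
  ⟨P1036, 1, [], []⟩,
  ⟨P1036, 0, [.a7], [.a7, .a8]⟩,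
  ⟨P1037, 2, [], []⟩,
  ⟨P1037, 0, [.a9], [.a9]⟩,
  ⟨P1037, 1, [.a1], [.a1, .a2]⟩,
  ⟨P1037, 0, [.a4], [.a4, .a5]⟩]
def N1329 : List Ent := [⟨1, [.a0], [.a0]⟩,
  ⟨2, [.a1, .a4, .a7, .a9], [.a1, .a2, .a3, .a4, .a7, .a8, .a9]⟩,
  ⟨4, [.a2], [.a2]⟩,
  ⟨8, [.a3], [.a3]⟩,
  ⟨16, [.a4], [.a4, .a5]⟩,
  ⟨32, [.a5], [.a5]⟩,
  ⟨64, [.a6], [.a6]⟩,
  ⟨128, [.a7], [.a7, .a8]⟩,
  ⟨256, [.a8], [.a8]⟩,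
  ⟨512, [.a9], [.a9]⟩]
theorem bad1329 (c : CtxF Goal γ) : Bad Goal γ [] P1329 :=
  c.toCtx.bnd (B := B1329) (D := D1329) (I := [3, 4, 5, 6, 0, 2, 1]) (r := 4) (C := C1329) (N := N1329) (by decide +kernel) (by decide +kernel) (by decide +kernel) (by decide +kernel)
    (allB_cons (bad851 c) (allB_cons (bad901 c) (allB_cons (bad952 c) (allB_cons (bad1025 c) (allB_cons (bad1025 c) (allB_cons (bad1025 c) (allB_cons (bad1025 c) (allB_cons (bad1035 c) (allB_cons (bad1035 c) (allB_cons (bad1036 c) (allB_cons (bad1036 c) (allB_cons (bad1037 c) (allB_cons (bad1037 c) (allB_cons (bad1037 c) (allB_cons (bad1037 c) (allB_nil))))))))))))))))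

def P1330 : List Ent := [⟨1, [.a0, .a9], [.a0, .a3, .a6, .a9]⟩,
  ⟨2, [.a1, .a4, .a7, .a9], [.a1, .a2, .a3, .a4, .a7, .a8, .a9]⟩,
  ⟨4, [.a2], [.a2]⟩,
  ⟨8, [.a3], [.a3]⟩,
  ⟨32, [.a5], [.a5]⟩,
  ⟨64, [.a6], [.a6]⟩,
  ⟨256, [.a8], [.a8]⟩]
def B1330 : List Gv := [⟨[.a0, .a9], [.a0, .a3, .a6, .a9]⟩, ⟨[.a1, .a4, .a7, .a9], [.a1, .a2, .a3, .a4, .a7, .a8, .a9]⟩, ⟨[.a2], [.a2]⟩, ⟨[.a3], [.a3]⟩]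
def D1330 : List Dv := [⟨[.a6], [3, 0, 0], []⟩,
  ⟨[.a8], [4, 3, 2, 2], []⟩,
  ⟨[.a5], [4, 2], [2, 4]⟩]
def C1330 : List Ch := [⟨P851, 0, [.a10, .a11], [.a10]⟩,
  ⟨P906, 1, [], []⟩,
  ⟨P948, 0, [.a10, .a11], [.a10]⟩,
  ⟨P1026, 2, [], []⟩,
  ⟨P1026, 0, [.a7], [.a7, .a8]⟩,
  ⟨P1026, 1, [.a4], [.a4, .a5]⟩,
  ⟨P1026, 0, [.a1], [.a1, .a2]⟩,
  ⟨P1038, 3, [], []⟩,
  ⟨P1038, 0, [.a0, .a2, .a4], [.a0, .a4, .a5]⟩,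
  ⟨P1038, 1, [.a0], [.a0]⟩,
  ⟨P1038, 0, [.a4], [.a4, .a5]⟩,
  ⟨P1039, 2, [], []⟩,
  ⟨P1039, 0, [.a1], [.a1, .a2]⟩,
  ⟨P1039, 1, [.a0], [.a0]⟩,
  ⟨P1039, 0, [.a0, .a1], [.a0, .a1, .a2]⟩]
def N1330 : List Ent := [⟨1, [.a0, .a9], [.a0, .a3, .a6, .a9]⟩,
  ⟨2, [.a1, .a4, .a7, .a9], [.a1, .a2, .a3, .a4, .a7, .a8, .a9]⟩,
  ⟨4, [.a2], [.a2]⟩,
  ⟨8, [.a3], [.a3]⟩,
  ⟨16, [.a4], [.a4, .a5]⟩,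
  ⟨32, [.a5], [.a5]⟩,
  ⟨64, [.a6], [.a6]⟩,
  ⟨128, [.a7], [.a7, .a8]⟩,
  ⟨256, [.a8], [.a8]⟩,
  ⟨512, [.a9], [.a9]⟩]
theorem bad1330 (c : CtxF Goal γ) : Bad Goal γ [] P1330 :=
  c.toCtx.bnd (B := B1330) (D := D1330) (I := [3, 4, 5, 6, 0, 2, 1]) (r := 4) (C := C1330) (N := N1330) (by decide +kernel) (by decide +kernel) (by decide +kernel) (by decide +kernel)
    (allB_cons (bad851 c) (allB_cons (bad906 c) (allB_cons (bad948 c) (allB_cons (bad1026 c) (allB_cons (bad1026 c) (allB_cons (bad1026 c) (allB_cons (bad1026 c) (allB_cons (bad1038 c) (allB_cons (bad1038 c) (allB_cons (bad1038 c) (allB_cons (bad1038 c) (allB_cons (bad1039 c) (allB_cons (bad1039 c) (allB_cons (bad1039 c) (allB_cons (bad1039 c) (allB_nil))))))))))))))))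

def P1331 : List Ent := [⟨1, [.a0], [.a0]⟩,
  ⟨2, [.a1], [.a1, .a2]⟩,
  ⟨4, [.a2], [.a2]⟩,
  ⟨8, [.a3], [.a3]⟩,
  ⟨16, [.a4, .a7], [.a4, .a5, .a6, .a7, .a8]⟩,
  ⟨32, [.a5], [.a5]⟩,
  ⟨64, [.a6, .a8], [.a6, .a8]⟩]
def B1331 : List Gv := [⟨[.a0], [.a0]⟩, ⟨[.a1], [.a1, .a2]⟩, ⟨[.a4, .a7], [.a4, .a5, .a6, .a7, .a8]⟩]
def D1331 : List Dv := [⟨[.a2], [1, 1], []⟩,
  ⟨[.a3], [3, 1], [1, 3]⟩,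
  ⟨[.a5, .a6, .a8], [4, 4], []⟩,
  ⟨[.a6, .a8], [0, 1, 5], [5, 1]⟩,
  ⟨[.a5], [1], [0]⟩]
def C1331 : List Ch := [⟨P854, 0, [], []⟩,
  ⟨P917, 1, [], []⟩,
  ⟨P947, 0, [.a10, .a11], [.a10]⟩,
  ⟨P1013, 2, [], []⟩,
  ⟨P1022, 0, [.a0, .a1, .a3, .a5, .a6, .a7, .a8, .a9, .a11], [.a0, .a1, .a2, .a3, .a4, .a6, .a8, .a9, .a11]⟩,
  ⟨P1029, 1, [], []⟩,
  ⟨P1038, 0, [.a0, .a1, .a3, .a5, .a6, .a7, .a8, .a9, .a11], [.a0, .a1, .a2, .a3, .a4, .a6, .a8, .a9, .a11]⟩]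
def S1331 : List St := [.comm 1 1 [⟨8, [.a3], [.a3]⟩,
  ⟨32, [.a5], [.a5]⟩] [⟨[.a0], [.a4, .a7]⟩, ⟨[.a0], [.a6, .a8]⟩]]
theorem bad1331 (c : CtxF Goal γ) : Bad Goal γ [] P1331 :=
  c.toCtx.chn (B := B1331) (D := D1331) (I := [5, 6, 4, 3, 7, 0, 1]) (r := 3) (C := C1331) (l := S1331) (x := ⟨[.a8], [.a8]⟩) (ix := [0]) (by decide +kernel) (by decide +kernel) (by decide +kernel) (by decide +kernel)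
    (allB_cons (bad854 c) (allB_cons (bad917 c) (allB_cons (bad947 c) (allB_cons (bad1013 c) (allB_cons (bad1022 c) (allB_cons (bad1029 c) (allB_cons (bad1038 c) (allB_nil))))))))

def P1332 : List Ent := [⟨1, [.a0], [.a0]⟩,
  ⟨2, [.a1, .a8], [.a1, .a2, .a8]⟩,
  ⟨4, [.a2], [.a2]⟩,
  ⟨8, [.a3], [.a3]⟩,
  ⟨16, [.a4, .a7], [.a4, .a5, .a6, .a7, .a8]⟩,
  ⟨32, [.a5], [.a5]⟩,
  ⟨64, [.a6, .a8], [.a6, .a8]⟩]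
def B1332 : List Gv := [⟨[.a0], [.a0]⟩, ⟨[.a1, .a8], [.a1, .a2, .a8]⟩, ⟨[.a4, .a7], [.a4, .a5, .a6, .a7, .a8]⟩]
def D1332 : List Dv := [⟨[.a5], [1, 0], [0, 1]⟩,
  ⟨[.a2], [2, 2], []⟩,
  ⟨[.a3], [4, 2], [2, 4]⟩,
  ⟨[.a6, .a8], [2, 5, 5], []⟩]
def C1332 : List Ch := [⟨P855, 0, [], []⟩,
  ⟨P917, 1, [], []⟩,
  ⟨P947, 0, [.a0, .a1, .a2, .a3, .a4, .a6, .a8, .a9, .a10, .a11], [.a0, .a10]⟩,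
  ⟨P1014, 2, [], []⟩,
  ⟨P1021, 0, [.a0, .a1, .a3, .a5, .a6, .a7, .a8, .a9, .a11], [.a0, .a1, .a2, .a3, .a4, .a6, .a8, .a9, .a11]⟩,
  ⟨P1029, 1, [.a4], [.a4, .a5]⟩,
  ⟨P1038, 0, [.a4, .a11], [.a4, .a5, .a11]⟩]
def S1332 : List St := [.comm 1 1 [⟨8, [.a3], [.a3]⟩,
  ⟨32, [.a5], [.a5]⟩] [⟨[.a0], [.a4, .a7]⟩, ⟨[.a0], [.a1, .a8]⟩]]
theorem bad1332 (c : CtxF Goal γ) : Bad Goal γ [] P1332 :=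
  c.toCtx.chn (B := B1332) (D := D1332) (I := [4, 5, 2, 1, 6, 3, 0]) (r := 3) (C := C1332) (l := S1332) (x := ⟨[.a8], [.a8]⟩) (ix := [0]) (by decide +kernel) (by decide +kernel) (by decide +kernel) (by decide +kernel)
    (allB_cons (bad855 c) (allB_cons (bad917 c) (allB_cons (bad947 c) (allB_cons (bad1014 c) (allB_cons (bad1021 c) (allB_cons (bad1029 c) (allB_cons (bad1038 c) (allB_nil))))))))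

def P1333 : List Ent := [⟨1, [.a0], [.a0]⟩,
  ⟨2, [.a1], [.a1, .a2]⟩,
  ⟨4, [.a2], [.a2]⟩,
  ⟨8, [.a3, .a8], [.a3, .a8]⟩,
  ⟨16, [.a4, .a7, .a9], [.a4, .a5, .a6, .a7, .a9]⟩,
  ⟨32, [.a5], [.a5]⟩,
  ⟨64, [.a6], [.a6]⟩]
def B1333 : List Gv := [⟨[.a0], [.a0]⟩, ⟨[.a1], [.a1, .a2]⟩, ⟨[.a4, .a7, .a9], [.a4, .a5, .a6, .a7, .a9]⟩]
def D1333 : List Dv := [⟨[.a2], [1, 1], []⟩,
  ⟨[.a5, .a6], [3, 1], [1, 3]⟩,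
  ⟨[.a3, .a6, .a8], [4, 3], [3, 4]⟩,
  ⟨[.a6], [1, 2, 5], [5, 2]⟩,
  ⟨[.a5], [2], [0]⟩,
  ⟨[.a3, .a8], [2], [1]⟩]
theorem bad1333 (c : CtxF Goal γ) : Bad Goal γ [] P1333 :=
  c.toCtx.cent (B := B1333) (D := D1333) (I := [6, 7, 5, 0, 8, 1, 2]) (z := [.a2, .a3]) (by decide +kernel) (by decide +kernel)

def P1334 : List Ent := [⟨1, [.a0], [.a0]⟩,
  ⟨2, [.a1, .a8], [.a1, .a2, .a8]⟩,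
  ⟨4, [.a2], [.a2]⟩,
  ⟨8, [.a3, .a8], [.a3, .a8]⟩,
  ⟨16, [.a4, .a7, .a9], [.a4, .a5, .a6, .a7, .a9]⟩,
  ⟨32, [.a5], [.a5]⟩,
  ⟨64, [.a6], [.a6]⟩]
def B1334 : List Gv := [⟨[.a0], [.a0]⟩, ⟨[.a1, .a8], [.a1, .a2, .a8]⟩, ⟨[.a4, .a7, .a9], [.a4, .a5, .a6, .a7, .a9]⟩]
def D1334 : List Dv := [⟨[.a5], [1, 0], [0, 1]⟩,
  ⟨[.a2], [2, 2], []⟩,
  ⟨[.a6], [1, 4, 2], [2, 4]⟩,
  ⟨[.a3, .a6, .a8], [5, 4], [4, 5]⟩,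
  ⟨[.a3, .a8], [0], [1]⟩]
theorem bad1334 (c : CtxF Goal γ) : Bad Goal γ [] P1334 :=
  c.toCtx.cent (B := B1334) (D := D1334) (I := [5, 6, 3, 0, 7, 4, 2]) (z := [.a2, .a3]) (by decide +kernel) (by decide +kernel)

def P1335 : List Ent := [⟨1, [.a0], [.a0]⟩,
  ⟨2, [.a1], [.a1, .a2]⟩,
  ⟨4, [.a2], [.a2]⟩,
  ⟨8, [.a3], [.a3]⟩,
  ⟨32, [.a5], [.a5]⟩,
  ⟨128, [.a7], [.a7, .a8]⟩,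
  ⟨256, [.a8], [.a8]⟩]
def B1335 : List Gv := [⟨[.a0], [.a0]⟩, ⟨[.a1], [.a1, .a2]⟩, ⟨[.a7], [.a7, .a8]⟩]
def D1335 : List Dv := [⟨[.a2], [1, 1], []⟩,
  ⟨[.a3], [0, 3, 1], [1, 3]⟩,
  ⟨[.a8], [4, 4], []⟩,
  ⟨[.a5], [1, 5], [5, 1]⟩]
def C1335 : List Ch := [⟨P874, 0, [], []⟩,
  ⟨P979, 1, [], []⟩,
  ⟨P1000, 0, [.a10], [.a10, .a11]⟩,
  ⟨P1007, 2, [], []⟩,
  ⟨P1039, 0, [.a0, .a1, .a2, .a4, .a5, .a6, .a7, .a8, .a9, .a10], [.a0, .a4, .a5, .a10, .a11]⟩,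
  ⟨P932, 1, [], []⟩,
  ⟨P958, 0, [], []⟩]
def S1335 : List St := [.comm 1 1 [⟨4, [.a2, .a3], [.a2, .a3]⟩,
  ⟨32, [.a5], [.a5]⟩] [⟨[.a0], [.a7]⟩, ⟨[.a0], [.a8]⟩]]
theorem bad1335 (c : CtxF Goal γ) : Bad Goal γ [] P1335 :=
  c.toCtx.chn (B := B1335) (D := D1335) (I := [4, 5, 3, 2, 0, 6, 1]) (r := 3) (C := C1335) (l := S1335) (x := ⟨[.a6], [.a6]⟩) (ix := [0]) (by decide +kernel) (by decide +kernel) (by decide +kernel) (by decide +kernel)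
    (allB_cons (bad874 c) (allB_cons (bad979 c) (allB_cons (bad1000 c) (allB_cons (bad1007 c) (allB_cons (bad1039 c) (allB_cons (bad932 c) (allB_cons (bad958 c) (allB_nil))))))))

def P1336 : List Ent := [⟨1, [.a0, .a6], [.a0, .a6]⟩,
  ⟨2, [.a1], [.a1, .a2]⟩,
  ⟨4, [.a2], [.a2]⟩,
  ⟨8, [.a3], [.a3]⟩,
  ⟨32, [.a5], [.a5]⟩,
  ⟨128, [.a7], [.a7, .a8]⟩,
  ⟨256, [.a8], [.a8]⟩]
def B1336 : List Gv := [⟨[.a0, .a6], [.a0, .a6]⟩, ⟨[.a1], [.a1, .a2]⟩, ⟨[.a7], [.a7, .a8]⟩]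
def D1336 : List Dv := [⟨[.a5], [1, 0], [0, 1]⟩,
  ⟨[.a2], [2, 2], []⟩,
  ⟨[.a3], [0, 4, 2], [2, 4]⟩,
  ⟨[.a8], [5, 5], []⟩]
def C1336 : List Ch := [⟨P874, 0, [], []⟩,
  ⟨P979, 1, [.a9], [.a9]⟩,
  ⟨P999, 0, [.a10], [.a10, .a11]⟩,
  ⟨P1008, 2, [], []⟩,
  ⟨P1039, 0, [.a0, .a1, .a3, .a5, .a6, .a7, .a8, .a9, .a10], [.a0, .a10, .a11]⟩,
  ⟨P932, 1, [.a4, .a8, .a9], [.a4, .a5, .a9]⟩,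
  ⟨P959, 0, [], []⟩]
def S1336 : List St := [.comm 1 1 [⟨4, [.a2, .a3], [.a2, .a3]⟩,
  ⟨32, [.a5], [.a5]⟩] [⟨[.a7], [.a0, .a6]⟩, ⟨[.a3], [.a7]⟩]]
theorem bad1336 (c : CtxF Goal γ) : Bad Goal γ [] P1336 :=
  c.toCtx.chn (B := B1336) (D := D1336) (I := [4, 5, 2, 1, 3, 6, 0]) (r := 3) (C := C1336) (l := S1336) (x := ⟨[.a6], [.a6]⟩) (ix := [0]) (by decide +kernel) (by decide +kernel) (by decide +kernel) (by decide +kernel)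
    (allB_cons (bad874 c) (allB_cons (bad979 c) (allB_cons (bad999 c) (allB_cons (bad1008 c) (allB_cons (bad1039 c) (allB_cons (bad932 c) (allB_cons (bad959 c) (allB_nil))))))))

def P1337 : List Ent := [⟨1, [.a0], [.a0]⟩,
  ⟨2, [.a1, .a9], [.a1, .a2, .a6, .a8, .a9]⟩,
  ⟨4, [.a2, .a6], [.a2, .a6]⟩,
  ⟨8, [.a3, .a6], [.a3, .a6]⟩,
  ⟨32, [.a5], [.a5]⟩,
  ⟨128, [.a7], [.a7, .a8]⟩,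
  ⟨256, [.a8], [.a8]⟩]
def B1337 : List Gv := [⟨[.a0], [.a0]⟩, ⟨[.a1, .a9], [.a1, .a2, .a6, .a8, .a9]⟩, ⟨[.a7], [.a7, .a8]⟩]
def D1337 : List Dv := [⟨[.a3, .a5, .a6], [1, 0], [0, 1]⟩,
  ⟨[.a2, .a5, .a6, .a8], [2, 2], []⟩,
  ⟨[.a8], [1, 0, 4, 2], [2, 4]⟩,
  ⟨[.a5], [2, 4], [4, 2]⟩,
  ⟨[.a3, .a6], [3], [0]⟩,
  ⟨[.a2, .a6], [3], [1, 2]⟩]
def C1337 : List Ch := [⟨P875, 0, [.a11], [.a11]⟩,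
  ⟨P980, 1, [], []⟩,
  ⟨P987, 0, [.a10], [.a10, .a11]⟩,
  ⟨P1020, 2, [], []⟩,
  ⟨P1030, 0, [.a10], [.a10, .a11]⟩,
  ⟨P937, 1, [], []⟩,
  ⟨P964, 0, [], []⟩]
def S1337 : List St := [.cent 1 1 0 [⟨4, [.a2, .a6], [.a2, .a6]⟩,
  ⟨32, [.a5], [.a5]⟩]]
theorem bad1337 (c : CtxF Goal γ) : Bad Goal γ [] P1337 :=
  c.toCtx.chn (B := B1337) (D := D1337) (I := [6, 7, 0, 1, 2, 8, 3]) (r := 3) (C := C1337) (l := S1337) (x := ⟨[.a6], [.a6]⟩) (ix := [0]) (by decide +kernel) (by decide +kernel) (by decide +kernel) (by decide +kernel)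
    (allB_cons (bad875 c) (allB_cons (bad980 c) (allB_cons (bad987 c) (allB_cons (bad1020 c) (allB_cons (bad1030 c) (allB_cons (bad937 c) (allB_cons (bad964 c) (allB_nil))))))))

def P1338 : List Ent := [⟨1, [.a0, .a6], [.a0, .a6]⟩,
  ⟨2, [.a1, .a9], [.a1, .a2, .a6, .a8, .a9]⟩,
  ⟨4, [.a2, .a6], [.a2, .a6]⟩,
  ⟨8, [.a3, .a6], [.a3, .a6]⟩,
  ⟨32, [.a5], [.a5]⟩,
  ⟨128, [.a7], [.a7, .a8]⟩,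
  ⟨256, [.a8], [.a8]⟩]
def B1338 : List Gv := [⟨[.a0, .a6], [.a0, .a6]⟩, ⟨[.a1, .a9], [.a1, .a2, .a6, .a8, .a9]⟩, ⟨[.a7], [.a7, .a8]⟩]
def D1338 : List Dv := [⟨[.a3, .a6], [1, 0], [0, 1]⟩,
  ⟨[.a2, .a5, .a6, .a8], [2, 2], []⟩,
  ⟨[.a5, .a8], [1, 0, 4, 2], [2, 4]⟩,
  ⟨[.a8], [5, 5], []⟩,
  ⟨[.a5], [1], [0]⟩,
  ⟨[.a2, .a6], [3], [0, 1]⟩]
def C1338 : List Ch := [⟨P875, 0, [.a11], [.a11]⟩,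
  ⟨P981, 1, [], []⟩,
  ⟨P987, 0, [.a1, .a10], [.a1, .a2, .a4, .a5, .a7, .a9, .a10, .a11]⟩,
  ⟨P1020, 2, [.a1, .a3, .a4], [.a1, .a2, .a4, .a5]⟩,
  ⟨P1031, 0, [.a10], [.a10, .a11]⟩,
  ⟨P937, 1, [.a4], [.a4, .a5]⟩,
  ⟨P965, 0, [], []⟩]
def S1338 : List St := [.cent 1 1 0 [⟨4, [.a2, .a6], [.a2, .a6]⟩,
  ⟨32, [.a5], [.a5]⟩]]
theorem bad1338 (c : CtxF Goal γ) : Bad Goal γ [] P1338 :=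
  c.toCtx.chn (B := B1338) (D := D1338) (I := [6, 7, 0, 5, 1, 8, 2]) (r := 3) (C := C1338) (l := S1338) (x := ⟨[.a6], [.a6]⟩) (ix := [0]) (by decide +kernel) (by decide +kernel) (by decide +kernel) (by decide +kernel)
    (allB_cons (bad875 c) (allB_cons (bad981 c) (allB_cons (bad987 c) (allB_cons (bad1020 c) (allB_cons (bad1031 c) (allB_cons (bad937 c) (allB_cons (bad965 c) (allB_nil))))))))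

def P1339 : List Ent := [⟨1, [.a0], [.a0]⟩,
  ⟨2, [.a1], [.a1, .a2]⟩,
  ⟨4, [.a2], [.a2]⟩,
  ⟨32, [.a5], [.a5]⟩,
  ⟨64, [.a6], [.a6]⟩,
  ⟨128, [.a7, .a9], [.a7, .a8, .a9]⟩,
  ⟨256, [.a8], [.a8]⟩]
def B1339 : List Gv := [⟨[.a0], [.a0]⟩, ⟨[.a1], [.a1, .a2]⟩, ⟨[.a7, .a9], [.a7, .a8, .a9]⟩]
def D1339 : List Dv := [⟨[.a2], [1, 1], []⟩,
  ⟨[.a5, .a6], [0, 3, 1], [1, 3]⟩,
  ⟨[.a6, .a8], [4, 3], [3, 4]⟩,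
  ⟨[.a8], [5, 5], []⟩,
  ⟨[.a6], [1], [0]⟩,
  ⟨[.a5], [3], [0]⟩]
theorem bad1339 (c : CtxF Goal γ) : Bad Goal γ [] P1339 :=
  c.toCtx.cent (B := B1339) (D := D1339) (I := [6, 7, 5, 0, 1, 8, 2]) (z := [.a2, .a3]) (by decide +kernel) (by decide +kernel)

def P1340 : List Ent := [⟨1, [.a0], [.a0]⟩,
  ⟨2, [.a1], [.a1, .a2]⟩,
  ⟨4, [.a2], [.a2]⟩,
  ⟨8, [.a3, .a7, .a9], [.a3, .a5, .a7, .a8, .a9]⟩,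
  ⟨32, [.a5], [.a5]⟩,
  ⟨64, [.a6], [.a6]⟩,
  ⟨256, [.a8], [.a8]⟩]
def B1340 : List Gv := [⟨[.a0], [.a0]⟩, ⟨[.a1], [.a1, .a2]⟩, ⟨[.a3, .a7, .a9], [.a3, .a5, .a7, .a8, .a9]⟩]
def D1340 : List Dv := [⟨[.a2], [1, 1], []⟩,
  ⟨[.a5, .a6], [0, 3, 1], [1, 3]⟩,
  ⟨[.a6, .a8], [4, 3], [3, 4]⟩,
  ⟨[.a8], [0, 1, 2, 5], [5, 2]⟩,
  ⟨[.a6], [1], [0]⟩,
  ⟨[.a5], [3], [0]⟩]
theorem bad1340 (c : CtxF Goal γ) : Bad Goal γ [] P1340 :=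
  c.toCtx.cent (B := B1340) (D := D1340) (I := [6, 7, 5, 8, 0, 1, 2]) (z := [.a2, .a3]) (by decide +kernel) (by decide +kernel)

def P1341 : List Ent := [⟨1, [.a0], [.a0]⟩,
  ⟨2, [.a1], [.a1, .a2]⟩,
  ⟨4, [.a2], [.a2]⟩,
  ⟨8, [.a3], [.a3]⟩,
  ⟨16, [.a4], [.a4, .a5]⟩,
  ⟨32, [.a5], [.a5]⟩,
  ⟨256, [.a8], [.a8]⟩]
def B1341 : List Gv := [⟨[.a0], [.a0]⟩, ⟨[.a1], [.a1, .a2]⟩, ⟨[.a4], [.a4, .a5]⟩, ⟨[.a8], [.a8]⟩]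
def D1341 : List Dv := [⟨[.a2], [1, 1], []⟩,
  ⟨[.a3], [3, 2], [2, 3]⟩,
  ⟨[.a5], [4, 4], []⟩]
def C1341 : List Ch := [⟨P877, 0, [], []⟩,
  ⟨P992, 1, [], []⟩,
  ⟨P1003, 0, [.a10, .a11], [.a10]⟩,
  ⟨P1007, 2, [], []⟩,
  ⟨P1032, 0, [.a0, .a2, .a3, .a4, .a5, .a6, .a7, .a9, .a10, .a11], [.a0, .a1, .a2, .a3, .a4, .a6, .a8, .a9, .a10]⟩,
  ⟨P934, 1, [.a0, .a2, .a3, .a4, .a5, .a6, .a7, .a9, .a10, .a11], [.a0, .a1, .a2, .a3, .a4, .a6, .a8, .a9, .a10]⟩,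
  ⟨P965, 0, [.a10], [.a10, .a11]⟩,
  ⟨P1040, 3, [], []⟩,
  ⟨P1041, 0, [], []⟩,
  ⟨P1042, 1, [], []⟩,
  ⟨P1043, 0, [], []⟩,
  ⟨P1044, 2, [], []⟩,
  ⟨P1045, 0, [], []⟩,
  ⟨P1046, 1, [], []⟩,
  ⟨P1047, 0, [], []⟩]
def S1341 : List St := [.cent 1 1 0 [⟨4, [.a2], [.a2]⟩,
  ⟨8, [.a3], [.a3]⟩,
  ⟨32, [.a5], [.a5]⟩]]
theorem bad1341 (c : CtxF Goal γ) : Bad Goal γ [] P1341 :=
  c.toCtx.chn (B := B1341) (D := D1341) (I := [3, 4, 2, 1, 5, 0, 6]) (r := 4) (C := C1341) (l := S1341) (x := ⟨[.a6], [.a6]⟩) (ix := [0]) (by decide +kernel) (by decide +kernel) (by decide +kernel) (by decide +kernel)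
    (allB_cons (bad877 c) (allB_cons (bad992 c) (allB_cons (bad1003 c) (allB_cons (bad1007 c) (allB_cons (bad1032 c) (allB_cons (bad934 c) (allB_cons (bad965 c) (allB_cons (bad1040 c) (allB_cons (bad1041 c) (allB_cons (bad1042 c) (allB_cons (bad1043 c) (allB_cons (bad1044 c) (allB_cons (bad1045 c) (allB_cons (bad1046 c) (allB_cons (bad1047 c) (allB_nil))))))))))))))))

def P1342 : List Ent := [⟨1, [.a0, .a6], [.a0, .a6]⟩,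
  ⟨2, [.a1], [.a1, .a2]⟩,
  ⟨4, [.a2], [.a2]⟩,
  ⟨8, [.a3], [.a3]⟩,
  ⟨16, [.a4], [.a4, .a5]⟩,
  ⟨32, [.a5], [.a5]⟩,
  ⟨256, [.a8], [.a8]⟩]
def B1342 : List Gv := [⟨[.a0, .a6], [.a0, .a6]⟩, ⟨[.a1], [.a1, .a2]⟩, ⟨[.a4], [.a4, .a5]⟩, ⟨[.a8], [.a8]⟩]
def D1342 : List Dv := [⟨[.a5], [1, 0], [0, 1]⟩,
  ⟨[.a2], [2, 2], []⟩,
  ⟨[.a3], [4, 3], [3, 4]⟩]
def C1342 : List Ch := [⟨P877, 0, [], []⟩,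
  ⟨P992, 1, [.a9], [.a9]⟩,
  ⟨P1002, 0, [.a10, .a11], [.a10]⟩,
  ⟨P1008, 2, [], []⟩,
  ⟨P1032, 0, [.a0, .a1, .a2, .a3, .a4, .a6, .a8, .a9, .a10, .a11], [.a0, .a10]⟩,
  ⟨P934, 1, [.a10, .a11], [.a10]⟩,
  ⟨P964, 0, [.a10], [.a10, .a11]⟩,
  ⟨P1048, 3, [], []⟩,
  ⟨P1049, 0, [], []⟩,
  ⟨P1050, 1, [], []⟩,
  ⟨P1051, 0, [], []⟩,
  ⟨P1052, 2, [], []⟩,
  ⟨P1053, 0, [], []⟩,
  ⟨P1054, 1, [], []⟩,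
  ⟨P1055, 0, [], []⟩]
def S1342 : List St := [.cent 1 1 0 [⟨4, [.a2], [.a2]⟩,
  ⟨8, [.a3], [.a3]⟩,
  ⟨32, [.a5], [.a5]⟩]]
theorem bad1342 (c : CtxF Goal γ) : Bad Goal γ [] P1342 :=
  c.toCtx.chn (B := B1342) (D := D1342) (I := [3, 4, 1, 0, 5, 2, 6]) (r := 4) (C := C1342) (l := S1342) (x := ⟨[.a6], [.a6]⟩) (ix := [0]) (by decide +kernel) (by decide +kernel) (by decide +kernel) (by decide +kernel)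
    (allB_cons (bad877 c) (allB_cons (bad992 c) (allB_cons (bad1002 c) (allB_cons (bad1008 c) (allB_cons (bad1032 c) (allB_cons (bad934 c) (allB_cons (bad964 c) (allB_cons (bad1048 c) (allB_cons (bad1049 c) (allB_cons (bad1050 c) (allB_cons (bad1051 c) (allB_cons (bad1052 c) (allB_cons (bad1053 c) (allB_cons (bad1054 c) (allB_cons (bad1055 c) (allB_nil))))))))))))))))

def P1343 : List Ent := [⟨1, [.a0], [.a0]⟩,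
  ⟨2, [.a1], [.a1, .a2]⟩,
  ⟨4, [.a2], [.a2]⟩,
  ⟨8, [.a3], [.a3]⟩,
  ⟨16, [.a4], [.a4, .a5]⟩,
  ⟨32, [.a5], [.a5]⟩,
  ⟨64, [.a6], [.a6]⟩]
def B1343 : List Gv := [⟨[.a0], [.a0]⟩, ⟨[.a1], [.a1, .a2]⟩, ⟨[.a4], [.a4, .a5]⟩, ⟨[.a6], [.a6]⟩]
def D1343 : List Dv := [⟨[.a2], [1, 1], []⟩,
  ⟨[.a3], [3, 2], [2, 3]⟩,
  ⟨[.a5], [4, 4], []⟩]
def C1343 : List Ch := [⟨P878, 0, [], []⟩,
  ⟨P994, 1, [], []⟩,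
  ⟨P1005, 0, [.a10, .a11], [.a10]⟩,
  ⟨P1010, 2, [], []⟩,
  ⟨P1034, 0, [.a0, .a1, .a2, .a3, .a4, .a6, .a8, .a9, .a10, .a11], [.a0, .a10]⟩,
  ⟨P924, 1, [.a10, .a11], [.a10]⟩,
  ⟨P962, 0, [.a10], [.a10, .a11]⟩,
  ⟨P1040, 3, [], []⟩,
  ⟨P1048, 0, [], []⟩,
  ⟨P1054, 1, [.a9], [.a9]⟩,
  ⟨P1046, 0, [.a9], [.a9]⟩,
  ⟨P1040, 2, [.a7], [.a7, .a8]⟩,
  ⟨P1048, 0, [.a7], [.a7, .a8]⟩,
  ⟨P1054, 1, [.a7, .a9], [.a7, .a8, .a9]⟩,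
  ⟨P1046, 0, [.a7, .a9], [.a7, .a8, .a9]⟩]
def S1343 : List St := [.cent 1 1 0 [⟨4, [.a2], [.a2]⟩,
  ⟨8, [.a3], [.a3]⟩,
  ⟨32, [.a5], [.a5]⟩]]
theorem bad1343 (c : CtxF Goal γ) : Bad Goal γ [] P1343 :=
  c.toCtx.chn (B := B1343) (D := D1343) (I := [3, 4, 2, 1, 5, 0, 6]) (r := 4) (C := C1343) (l := S1343) (x := ⟨[.a8], [.a8]⟩) (ix := [0]) (by decide +kernel) (by decide +kernel) (by decide +kernel) (by decide +kernel)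
    (allB_cons (bad878 c) (allB_cons (bad994 c) (allB_cons (bad1005 c) (allB_cons (bad1010 c) (allB_cons (bad1034 c) (allB_cons (bad924 c) (allB_cons (bad962 c) (allB_cons (bad1040 c) (allB_cons (bad1048 c) (allB_cons (bad1054 c) (allB_cons (bad1046 c) (allB_cons (bad1040 c) (allB_cons (bad1048 c) (allB_cons (bad1054 c) (allB_cons (bad1046 c) (allB_nil))))))))))))))))

def P1344 : List Ent := [⟨1, [.a0, .a8], [.a0, .a5, .a8]⟩,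
  ⟨2, [.a1], [.a1, .a2]⟩,
  ⟨4, [.a2], [.a2]⟩,
  ⟨8, [.a3], [.a3]⟩,
  ⟨16, [.a4], [.a4, .a5]⟩,
  ⟨32, [.a5], [.a5]⟩,
  ⟨64, [.a6], [.a6]⟩]
def B1344 : List Gv := [⟨[.a0, .a8], [.a0, .a5, .a8]⟩, ⟨[.a1], [.a1, .a2]⟩, ⟨[.a4], [.a4, .a5]⟩, ⟨[.a6], [.a6]⟩]
def D1344 : List Dv := [⟨[.a5], [0, 0], []⟩,
  ⟨[.a2], [2, 2], []⟩,
  ⟨[.a3], [4, 3], [3, 4]⟩]
def C1344 : List Ch := [⟨P878, 0, [], []⟩,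
  ⟨P995, 1, [], []⟩,
  ⟨P1004, 0, [.a10, .a11], [.a10]⟩,
  ⟨P1011, 2, [], []⟩,
  ⟨P1033, 0, [.a0, .a1, .a2, .a3, .a4, .a6, .a8, .a9, .a10, .a11], [.a0, .a10]⟩,
  ⟨P921, 1, [.a10, .a11], [.a10]⟩,
  ⟨P962, 0, [.a0, .a1, .a3, .a5, .a6, .a7, .a8, .a9, .a10], [.a0, .a10, .a11]⟩,
  ⟨P1041, 3, [], []⟩,
  ⟨P1049, 0, [], []⟩,
  ⟨P1055, 1, [.a9], [.a9]⟩,
  ⟨P1047, 0, [.a9], [.a9]⟩,
  ⟨P1041, 2, [.a7], [.a7, .a8]⟩,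
  ⟨P1049, 0, [.a7], [.a7, .a8]⟩,
  ⟨P1055, 1, [.a7, .a9], [.a7, .a8, .a9]⟩,
  ⟨P1047, 0, [.a7, .a9], [.a7, .a8, .a9]⟩]
def S1344 : List St := [.cent 1 1 0 [⟨4, [.a2], [.a2]⟩,
  ⟨8, [.a3], [.a3]⟩,
  ⟨32, [.a5], [.a5]⟩]]
theorem bad1344 (c : CtxF Goal γ) : Bad Goal γ [] P1344 :=
  c.toCtx.chn (B := B1344) (D := D1344) (I := [3, 4, 1, 0, 5, 2, 6]) (r := 4) (C := C1344) (l := S1344) (x := ⟨[.a8], [.a8]⟩) (ix := [0]) (by decide +kernel) (by decide +kernel) (by decide +kernel) (by decide +kernel)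
    (allB_cons (bad878 c) (allB_cons (bad995 c) (allB_cons (bad1004 c) (allB_cons (bad1011 c) (allB_cons (bad1033 c) (allB_cons (bad921 c) (allB_cons (bad962 c) (allB_cons (bad1041 c) (allB_cons (bad1049 c) (allB_cons (bad1055 c) (allB_cons (bad1047 c) (allB_cons (bad1041 c) (allB_cons (bad1049 c) (allB_cons (bad1055 c) (allB_cons (bad1047 c) (allB_nil))))))))))))))))

def P1345 : List Ent := [⟨1, [.a0], [.a0]⟩,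
  ⟨2, [.a1, .a8], [.a1, .a2, .a8]⟩,
  ⟨4, [.a2], [.a2]⟩,
  ⟨8, [.a3], [.a3]⟩,
  ⟨16, [.a4], [.a4, .a5]⟩,
  ⟨32, [.a5], [.a5]⟩,
  ⟨64, [.a6], [.a6]⟩]
def B1345 : List Gv := [⟨[.a0], [.a0]⟩, ⟨[.a1, .a8], [.a1, .a2, .a8]⟩, ⟨[.a4], [.a4, .a5]⟩, ⟨[.a6], [.a6]⟩]
def D1345 : List Dv := [⟨[.a5], [1, 0], [0, 1]⟩,
  ⟨[.a2], [2, 2], []⟩,
  ⟨[.a3], [4, 3], [3, 4]⟩]
def C1345 : List Ch := [⟨P879, 0, [], []⟩,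
  ⟨P994, 1, [], []⟩,
  ⟨P1004, 0, [.a10, .a11], [.a10]⟩,
  ⟨P1010, 2, [.a9], [.a9]⟩,
  ⟨P1033, 0, [.a10, .a11], [.a10]⟩,
  ⟨P928, 1, [.a10, .a11], [.a10]⟩,
  ⟨P961, 0, [.a0, .a1, .a3, .a5, .a6, .a7, .a8, .a9, .a10], [.a0, .a10, .a11]⟩,
  ⟨P1042, 3, [], []⟩,
  ⟨P1050, 0, [], []⟩,
  ⟨P1052, 1, [.a9], [.a9]⟩,
  ⟨P1044, 0, [.a9], [.a9]⟩,
  ⟨P1042, 2, [.a7], [.a7, .a8]⟩,
  ⟨P1050, 0, [.a7], [.a7, .a8]⟩,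
  ⟨P1052, 1, [.a7, .a9], [.a7, .a8, .a9]⟩,
  ⟨P1044, 0, [.a7, .a9], [.a7, .a8, .a9]⟩]
def S1345 : List St := [.cent 1 1 0 [⟨4, [.a2], [.a2]⟩,
  ⟨8, [.a3], [.a3]⟩,
  ⟨32, [.a5], [.a5]⟩]]
theorem bad1345 (c : CtxF Goal γ) : Bad Goal γ [] P1345 :=
  c.toCtx.chn (B := B1345) (D := D1345) (I := [3, 4, 1, 0, 5, 2, 6]) (r := 4) (C := C1345) (l := S1345) (x := ⟨[.a8], [.a8]⟩) (ix := [0]) (by decide +kernel) (by decide +kernel) (by decide +kernel) (by decide +kernel)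
    (allB_cons (bad879 c) (allB_cons (bad994 c) (allB_cons (bad1004 c) (allB_cons (bad1010 c) (allB_cons (bad1033 c) (allB_cons (bad928 c) (allB_cons (bad961 c) (allB_cons (bad1042 c) (allB_cons (bad1050 c) (allB_cons (bad1052 c) (allB_cons (bad1044 c) (allB_cons (bad1042 c) (allB_cons (bad1050 c) (allB_cons (bad1052 c) (allB_cons (bad1044 c) (allB_nil))))))))))))))))

def P1346 : List Ent := [⟨1, [.a0, .a8], [.a0, .a5, .a8]⟩,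
  ⟨2, [.a1, .a8], [.a1, .a2, .a8]⟩,
  ⟨4, [.a2], [.a2]⟩,
  ⟨8, [.a3], [.a3]⟩,
  ⟨16, [.a4], [.a4, .a5]⟩,
  ⟨32, [.a5], [.a5]⟩,
  ⟨64, [.a6], [.a6]⟩]
def B1346 : List Gv := [⟨[.a0, .a8], [.a0, .a5, .a8]⟩, ⟨[.a1, .a8], [.a1, .a2, .a8]⟩, ⟨[.a4], [.a4, .a5]⟩, ⟨[.a6], [.a6]⟩]
def D1346 : List Dv := [⟨[.a5], [0, 0], []⟩,
  ⟨[.a2], [2, 2], []⟩,
  ⟨[.a3], [4, 3], [3, 4]⟩]
def C1346 : List Ch := [⟨P879, 0, [], []⟩,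
  ⟨P995, 1, [], []⟩,
  ⟨P1005, 0, [.a10, .a11], [.a10]⟩,
  ⟨P1011, 2, [.a9], [.a9]⟩,
  ⟨P1034, 0, [.a10, .a11], [.a10]⟩,
  ⟨P929, 1, [.a10, .a11], [.a10]⟩,
  ⟨P961, 0, [.a10], [.a10, .a11]⟩,
  ⟨P1043, 3, [], []⟩,
  ⟨P1051, 0, [], []⟩,
  ⟨P1053, 1, [.a9], [.a9]⟩,
  ⟨P1045, 0, [.a9], [.a9]⟩,
  ⟨P1043, 2, [.a7], [.a7, .a8]⟩,
  ⟨P1051, 0, [.a7], [.a7, .a8]⟩,
  ⟨P1053, 1, [.a7, .a9], [.a7, .a8, .a9]⟩,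
  ⟨P1045, 0, [.a7, .a9], [.a7, .a8, .a9]⟩]
def S1346 : List St := [.cent 1 1 0 [⟨4, [.a2], [.a2]⟩,
  ⟨8, [.a3], [.a3]⟩,
  ⟨32, [.a5], [.a5]⟩]]
theorem bad1346 (c : CtxF Goal γ) : Bad Goal γ [] P1346 :=
  c.toCtx.chn (B := B1346) (D := D1346) (I := [3, 4, 1, 0, 5, 2, 6]) (r := 4) (C := C1346) (l := S1346) (x := ⟨[.a8], [.a8]⟩) (ix := [0]) (by decide +kernel) (by decide +kernel) (by decide +kernel) (by decide +kernel)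
    (allB_cons (bad879 c) (allB_cons (bad995 c) (allB_cons (bad1005 c) (allB_cons (bad1011 c) (allB_cons (bad1034 c) (allB_cons (bad929 c) (allB_cons (bad961 c) (allB_cons (bad1043 c) (allB_cons (bad1051 c) (allB_cons (bad1053 c) (allB_cons (bad1045 c) (allB_cons (bad1043 c) (allB_cons (bad1051 c) (allB_cons (bad1053 c) (allB_cons (bad1045 c) (allB_nil))))))))))))))))

def P1347 : List Ent := [⟨1, [.a0], [.a0]⟩,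
  ⟨2, [.a1], [.a1, .a2]⟩,
  ⟨4, [.a2], [.a2]⟩,
  ⟨8, [.a3], [.a3]⟩,
  ⟨16, [.a4], [.a4, .a5]⟩,
  ⟨32, [.a5], [.a5]⟩,
  ⟨64, [.a6, .a8], [.a6, .a8]⟩]
def B1347 : List Gv := [⟨[.a0], [.a0]⟩, ⟨[.a1], [.a1, .a2]⟩, ⟨[.a4], [.a4, .a5]⟩, ⟨[.a6, .a8], [.a6, .a8]⟩]
def D1347 : List Dv := [⟨[.a2], [1, 1], []⟩,
  ⟨[.a3], [3, 2], [2, 3]⟩,
  ⟨[.a5], [4, 4], []⟩]
def C1347 : List Ch := [⟨P880, 0, [], []⟩,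
  ⟨P997, 1, [], []⟩,
  ⟨P1001, 0, [.a10, .a11], [.a10]⟩,
  ⟨P1013, 2, [], []⟩,
  ⟨P1024, 0, [.a10, .a11], [.a10]⟩,
  ⟨P933, 1, [.a10, .a11], [.a10]⟩,
  ⟨P963, 0, [.a9, .a10], [.a9, .a10, .a11]⟩,
  ⟨P1040, 3, [], []⟩,
  ⟨P1049, 0, [], []⟩,
  ⟨P1052, 1, [.a9], [.a9]⟩,
  ⟨P1045, 0, [.a9], [.a9]⟩,
  ⟨P1044, 2, [.a7], [.a7, .a8]⟩,
  ⟨P1053, 0, [.a7], [.a7, .a8]⟩,
  ⟨P1048, 1, [.a7, .a9], [.a7, .a8, .a9]⟩,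
  ⟨P1041, 0, [.a7, .a9], [.a7, .a8, .a9]⟩]
def S1347 : List St := [.cent 1 1 0 [⟨4, [.a2], [.a2]⟩,
  ⟨8, [.a3], [.a3]⟩,
  ⟨32, [.a5], [.a5]⟩]]
theorem bad1347 (c : CtxF Goal γ) : Bad Goal γ [] P1347 :=
  c.toCtx.chn (B := B1347) (D := D1347) (I := [3, 4, 2, 1, 5, 0, 6]) (r := 4) (C := C1347) (l := S1347) (x := ⟨[.a8], [.a8]⟩) (ix := [0]) (by decide +kernel) (by decide +kernel) (by decide +kernel) (by decide +kernel)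
    (allB_cons (bad880 c) (allB_cons (bad997 c) (allB_cons (bad1001 c) (allB_cons (bad1013 c) (allB_cons (bad1024 c) (allB_cons (bad933 c) (allB_cons (bad963 c) (allB_cons (bad1040 c) (allB_cons (bad1049 c) (allB_cons (bad1052 c) (allB_cons (bad1045 c) (allB_cons (bad1044 c) (allB_cons (bad1053 c) (allB_cons (bad1048 c) (allB_cons (bad1041 c) (allB_nil))))))))))))))))

def P1348 : List Ent := [⟨1, [.a0], [.a0]⟩,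
  ⟨2, [.a1, .a8], [.a1, .a2, .a8]⟩,
  ⟨4, [.a2], [.a2]⟩,
  ⟨8, [.a3], [.a3]⟩,
  ⟨16, [.a4], [.a4, .a5]⟩,
  ⟨32, [.a5], [.a5]⟩,
  ⟨64, [.a6, .a8], [.a6, .a8]⟩]
def B1348 : List Gv := [⟨[.a0], [.a0]⟩, ⟨[.a1, .a8], [.a1, .a2, .a8]⟩, ⟨[.a4], [.a4, .a5]⟩, ⟨[.a6, .a8], [.a6, .a8]⟩]
def D1348 : List Dv := [⟨[.a5], [1, 0], [0, 1]⟩,
  ⟨[.a2], [2, 2], []⟩,
  ⟨[.a3], [4, 3], [3, 4]⟩]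
def C1348 : List Ch := [⟨P881, 0, [], []⟩,
  ⟨P997, 1, [], []⟩,
  ⟨P1001, 0, [.a0, .a2, .a3, .a4, .a5, .a6, .a7, .a9, .a10, .a11], [.a0, .a1, .a2, .a3, .a4, .a6, .a8, .a9, .a10]⟩,
  ⟨P1014, 2, [], []⟩,
  ⟨P1028, 0, [.a0, .a2, .a3, .a4, .a5, .a6, .a7, .a9, .a10, .a11], [.a0, .a1, .a2, .a3, .a4, .a6, .a8, .a9, .a10]⟩,
  ⟨P933, 1, [.a7, .a10, .a11], [.a7, .a8, .a9, .a10]⟩,
  ⟨P963, 0, [.a10], [.a10, .a11]⟩,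
  ⟨P1042, 3, [], []⟩,
  ⟨P1051, 0, [], []⟩,
  ⟨P1054, 1, [.a9], [.a9]⟩,
  ⟨P1047, 0, [.a9], [.a9]⟩,
  ⟨P1046, 2, [.a7], [.a7, .a8]⟩,
  ⟨P1055, 0, [.a7], [.a7, .a8]⟩,
  ⟨P1050, 1, [.a7, .a9], [.a7, .a8, .a9]⟩,
  ⟨P1043, 0, [.a7, .a9], [.a7, .a8, .a9]⟩]
def S1348 : List St := [.cent 1 1 0 [⟨4, [.a2], [.a2]⟩,
  ⟨8, [.a3], [.a3]⟩,
  ⟨32, [.a5], [.a5]⟩]]
theorem bad1348 (c : CtxF Goal γ) : Bad Goal γ [] P1348 :=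
  c.toCtx.chn (B := B1348) (D := D1348) (I := [3, 4, 1, 0, 5, 2, 6]) (r := 4) (C := C1348) (l := S1348) (x := ⟨[.a8], [.a8]⟩) (ix := [0]) (by decide +kernel) (by decide +kernel) (by decide +kernel) (by decide +kernel)
    (allB_cons (bad881 c) (allB_cons (bad997 c) (allB_cons (bad1001 c) (allB_cons (bad1014 c) (allB_cons (bad1028 c) (allB_cons (bad933 c) (allB_cons (bad963 c) (allB_cons (bad1042 c) (allB_cons (bad1051 c) (allB_cons (bad1054 c) (allB_cons (bad1047 c) (allB_cons (bad1046 c) (allB_cons (bad1055 c) (allB_cons (bad1050 c) (allB_cons (bad1043 c) (allB_nil))))))))))))))))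

def P1349 : List Ent := [⟨1, [.a0], [.a0]⟩,
  ⟨2, [.a1, .a9], [.a1, .a2, .a6, .a8, .a9]⟩,
  ⟨4, [.a2], [.a2]⟩,
  ⟨8, [.a3, .a8], [.a3, .a8]⟩,
  ⟨16, [.a4], [.a4, .a5]⟩,
  ⟨32, [.a5], [.a5]⟩,
  ⟨64, [.a6, .a8], [.a6, .a8]⟩]
def B1349 : List Gv := [⟨[.a0], [.a0]⟩, ⟨[.a1, .a9], [.a1, .a2, .a6, .a8, .a9]⟩, ⟨[.a4], [.a4, .a5]⟩]
def D1349 : List Dv := [⟨[.a3, .a5, .a6], [1, 0], [0, 1]⟩,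
  ⟨[.a2, .a5, .a6, .a8], [2, 2], []⟩,
  ⟨[.a5, .a6, .a8], [0, 4, 2], [2, 4]⟩,
  ⟨[.a6, .a8], [0, 5, 5], []⟩,
  ⟨[.a5], [1], [0]⟩,
  ⟨[.a3, .a8], [4], [0, 1]⟩,
  ⟨[.a2], [4], [1, 2]⟩]
theorem bad1349 (c : CtxF Goal γ) : Bad Goal γ [] P1349 :=
  c.toCtx.cent (B := B1349) (D := D1349) (I := [7, 8, 0, 1, 9, 2, 3]) (z := [.a3]) (by decide +kernel) (by decide +kernel)

def P1350 : List Ent := [⟨1, [.a0], [.a0]⟩,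
  ⟨2, [.a1, .a8, .a9], [.a1, .a2, .a6, .a9]⟩,
  ⟨4, [.a2], [.a2]⟩,
  ⟨8, [.a3, .a8], [.a3, .a8]⟩,
  ⟨16, [.a4], [.a4, .a5]⟩,
  ⟨32, [.a5], [.a5]⟩,
  ⟨64, [.a6, .a8], [.a6, .a8]⟩]
def B1350 : List Gv := [⟨[.a0], [.a0]⟩, ⟨[.a1, .a8, .a9], [.a1, .a2, .a6, .a9]⟩, ⟨[.a4], [.a4, .a5]⟩]
def D1350 : List Dv := [⟨[.a3, .a6], [1, 0], [0, 1]⟩,
  ⟨[.a2, .a5, .a6, .a8], [2, 2], []⟩,
  ⟨[.a5, .a6, .a8], [0, 4, 2], [2, 4]⟩,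
  ⟨[.a6, .a8], [2, 5, 4], [4, 5]⟩,
  ⟨[.a5], [1], [0]⟩,
  ⟨[.a3, .a8], [4], [1]⟩,
  ⟨[.a2], [4], [1, 2]⟩]
theorem bad1350 (c : CtxF Goal γ) : Bad Goal γ [] P1350 :=
  c.toCtx.cent (B := B1350) (D := D1350) (I := [7, 8, 0, 1, 9, 2, 3]) (z := [.a3]) (by decide +kernel) (by decide +kernel)

def P1351 : List Ent := [⟨1, [.a0], [.a0]⟩,
  ⟨2, [.a1], [.a1, .a2]⟩,
  ⟨4, [.a2], [.a2]⟩,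
  ⟨8, [.a3, .a6], [.a3, .a6]⟩,
  ⟨16, [.a4, .a9], [.a4, .a5, .a8, .a9]⟩,
  ⟨32, [.a5], [.a5]⟩,
  ⟨256, [.a8], [.a8]⟩]
def B1351 : List Gv := [⟨[.a0], [.a0]⟩, ⟨[.a1], [.a1, .a2]⟩, ⟨[.a4, .a9], [.a4, .a5, .a8, .a9]⟩]
def D1351 : List Dv := [⟨[.a2], [1, 1], []⟩,
  ⟨[.a3, .a6], [0, 3, 1], [1, 3]⟩,
  ⟨[.a8], [0, 4, 3], [3, 4]⟩,
  ⟨[.a5, .a8], [5, 5], []⟩,
  ⟨[.a5], [0], [1]⟩]
theorem bad1351 (c : CtxF Goal γ) : Bad Goal γ [] P1351 :=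
  c.toCtx.cent (B := B1351) (D := D1351) (I := [5, 6, 4, 3, 7, 0, 2]) (z := [.a3]) (by decide +kernel) (by decide +kernel)

def P1352 : List Ent := [⟨1, [.a0, .a6], [.a0, .a6]⟩,
  ⟨2, [.a1], [.a1, .a2]⟩,
  ⟨4, [.a2], [.a2]⟩,
  ⟨8, [.a3, .a6], [.a3, .a6]⟩,
  ⟨16, [.a4, .a9], [.a4, .a5, .a8, .a9]⟩,
  ⟨32, [.a5], [.a5]⟩,
  ⟨256, [.a8], [.a8]⟩]
def B1352 : List Gv := [⟨[.a0, .a6], [.a0, .a6]⟩, ⟨[.a1], [.a1, .a2]⟩, ⟨[.a4, .a9], [.a4, .a5, .a8, .a9]⟩]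
def D1352 : List Dv := [⟨[.a5], [1, 0], [0, 1]⟩,
  ⟨[.a2], [2, 2], []⟩,
  ⟨[.a3, .a6], [0, 4, 2], [2, 4]⟩,
  ⟨[.a8], [0, 5, 4], [4, 5]⟩]
theorem bad1352 (c : CtxF Goal γ) : Bad Goal γ [] P1352 :=
  c.toCtx.cent (B := B1352) (D := D1352) (I := [4, 5, 2, 1, 6, 3, 0]) (z := [.a3]) (by decide +kernel) (by decide +kernel)

def P1353 : List Ent := [⟨1, [.a0, .a10], [.a0, .a1, .a2, .a3, .a4, .a6, .a8, .a9, .a10, .a11]⟩,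
  ⟨2, [.a1, .a9, .a11], [.a1, .a2, .a5, .a8, .a11]⟩,
  ⟨4, [.a2, .a9], [.a2, .a5, .a9]⟩,
  ⟨8, [.a3, .a7], [.a3, .a5, .a7, .a8]⟩,
  ⟨32, [.a5], [.a5]⟩,
  ⟨64, [.a6], [.a6]⟩,
  ⟨256, [.a8], [.a8]⟩]
def B1353 : List Gv := [⟨[.a0, .a10], [.a0, .a1, .a2, .a3, .a4, .a6, .a8, .a9, .a10, .a11]⟩, ⟨[.a1, .a9, .a11], [.a1, .a2, .a5, .a8, .a11]⟩]
def D1353 : List Dv := [⟨[.a2, .a3, .a5, .a7, .a9], [1, 0, 0], []⟩,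
  ⟨[.a3, .a7, .a8], [0, 2, 1], [1, 2]⟩,
  ⟨[.a5, .a6], [0, 1, 3, 3], []⟩,
  ⟨[.a6, .a8], [0, 1, 2, 2, 3], [3, 2]⟩,
  ⟨[.a8], [3, 3], []⟩,
  ⟨[.a6], [1], [0]⟩,
  ⟨[.a5], [3], [0]⟩,
  ⟨[.a3, .a7], [5], [2]⟩,
  ⟨[.a2, .a9], [7], [0, 1]⟩]
def C1353 : List Ch := [⟨P869, 0, [.a1], [.a1, .a2]⟩,
  ⟨P943, 1, [], []⟩,
  ⟨P967, 0, [.a4], [.a4, .a5]⟩]
def S1353 : List St := [.cent 1 1 0 [⟨4, [.a2, .a6, .a9], [.a2, .a5, .a6, .a9]⟩,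
  ⟨32, [.a5], [.a5]⟩]]
theorem bad1353 (c : CtxF Goal γ) : Bad Goal γ [] P1353 :=
  c.toCtx.chn (B := B1353) (D := D1353) (I := [9, 10, 0, 1, 2, 3, 4]) (r := 2) (C := C1353) (l := S1353) (x := ⟨[.a7], [.a7, .a8]⟩) (ix := [0]) (by decide +kernel) (by decide +kernel) (by decide +kernel) (by decide +kernel)
    (allB_cons (bad869 c) (allB_cons (bad943 c) (allB_cons (bad967 c) (allB_nil))))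

def P1354 : List Ent := [⟨1, [.a0, .a10], [.a0, .a1, .a2, .a3, .a4, .a6, .a8, .a9, .a10, .a11]⟩,
  ⟨2, [.a1, .a3, .a9, .a11], [.a1, .a2, .a3, .a5, .a11]⟩,
  ⟨4, [.a2, .a9], [.a2, .a5, .a9]⟩,
  ⟨32, [.a5], [.a5]⟩,
  ⟨64, [.a6], [.a6]⟩,
  ⟨128, [.a7], [.a7, .a8]⟩,
  ⟨256, [.a8], [.a8]⟩]
def B1354 : List Gv := [⟨[.a0, .a10], [.a0, .a1, .a2, .a3, .a4, .a6, .a8, .a9, .a10, .a11]⟩, ⟨[.a1, .a3, .a9, .a11], [.a1, .a2, .a3, .a5, .a11]⟩, ⟨[.a2, .a9], [.a2, .a5, .a9]⟩]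
def D1354 : List Dv := [⟨[.a7], [2, 1, 0, 0], []⟩,
  ⟨[.a6, .a8], [3, 2, 1], [1, 2]⟩,
  ⟨[.a5, .a6, .a8], [4, 3, 3], []⟩,
  ⟨[.a8], [1, 0, 5, 3], [3, 5]⟩,
  ⟨[.a6], [2], [0]⟩,
  ⟨[.a5], [2], [0, 1]⟩]
def C1354 : List Ch := [⟨P866, 0, [.a0, .a1, .a3, .a5, .a6, .a7, .a8, .a9, .a10], [.a0, .a10, .a11]⟩,
  ⟨P943, 1, [], []⟩,
  ⟨P967, 0, [.a4, .a8, .a9], [.a4, .a5, .a9]⟩,
  ⟨P1056, 2, [], []⟩,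
  ⟨P1056, 0, [.a3], [.a3]⟩,
  ⟨P1057, 1, [], []⟩,
  ⟨P1057, 0, [.a3], [.a3]⟩]
def S1354 : List St := [.om 1 [⟨32, [.a5], [.a5]⟩,
  ⟨64, [.a6], [.a6]⟩,
  ⟨256, [.a8], [.a8]⟩] [[[.a5]], [[.a6]], [[.a8]]]]
theorem bad1354 (c : CtxF Goal γ) : Bad Goal γ [] P1354 :=
  c.toCtx.chn (B := B1354) (D := D1354) (I := [6, 7, 8, 0, 1, 5, 2]) (r := 3) (C := C1354) (l := S1354) (x := ⟨[.a3], [.a3]⟩) (ix := [0]) (by decide +kernel) (by decide +kernel) (by decide +kernel) (by decide +kernel)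
    (allB_cons (bad866 c) (allB_cons (bad943 c) (allB_cons (bad967 c) (allB_cons (bad1056 c) (allB_cons (bad1056 c) (allB_cons (bad1057 c) (allB_cons (bad1057 c) (allB_nil))))))))

def P1355 : List Ent := [⟨16, [.a4], [.a4, .a5]⟩,
  ⟨32, [.a5], [.a5]⟩,
  ⟨64, [.a6], [.a6]⟩,
  ⟨128, [.a7], [.a7, .a8]⟩,
  ⟨256, [.a8], [.a8]⟩,
  ⟨512, [.a9], [.a9]⟩,
  ⟨1024, [.a10], [.a10, .a11]⟩,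
  ⟨2048, [.a11], [.a11]⟩]
def B1355 : List Gv := [⟨[.a4], [.a4, .a5]⟩, ⟨[.a7], [.a7, .a8]⟩, ⟨[.a10], [.a10, .a11]⟩]
def D1355 : List Dv := [⟨[.a5], [0, 0], []⟩,
  ⟨[.a6], [2, 1], [1, 2]⟩,
  ⟨[.a8], [3, 3], []⟩,
  ⟨[.a9], [5, 4], [4, 5]⟩,
  ⟨[.a11], [6, 6], []⟩]
def C1355 : List Ch := [⟨P1058, 0, [], []⟩,
  ⟨P1059, 1, [], []⟩,
  ⟨P1060, 0, [], []⟩,
  ⟨P1061, 2, [], []⟩,
  ⟨P1058, 0, [.a1], [.a1, .a2]⟩,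
  ⟨P1062, 1, [], []⟩,
  ⟨P1063, 0, [], []⟩]
def S1355 : List St := [.phi 1 [⟨32, [.a5], [.a5]⟩,
  ⟨64, [.a6], [.a6]⟩,
  ⟨256, [.a8], [.a8]⟩,
  ⟨512, [.a9], [.a9]⟩,
  ⟨2048, [.a11], [.a11]⟩] [[[.a4]], [[.a4], [.a4, .a7, .a9]], [[.a7]], [[.a10], [.a6, .a7, .a10]], [[.a10]]],
  .comm 0 2 [⟨256, [.a8], [.a8]⟩] [⟨[.a9], [.a4]⟩]]
theorem bad1355 (c : CtxF Goal γ) : Bad Goal γ [] P1355 :=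
  c.toCtx.chn (B := B1355) (D := D1355) (I := [5, 4, 3, 6, 2, 1, 7, 0]) (r := 3) (C := C1355) (l := S1355) (x := ⟨[.a3], [.a3]⟩) (ix := [1, 0]) (by decide +kernel) (by decide +kernel) (by decide +kernel) (by decide +kernel)
    (allB_cons (bad1058 c) (allB_cons (bad1059 c) (allB_cons (bad1060 c) (allB_cons (bad1061 c) (allB_cons (bad1058 c) (allB_cons (bad1062 c) (allB_cons (bad1063 c) (allB_nil))))))))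

def P1356 : List Ent := [⟨8, [.a3], [.a3]⟩,
  ⟨32, [.a5], [.a5]⟩,
  ⟨64, [.a6], [.a6]⟩,
  ⟨128, [.a7], [.a7, .a8]⟩,
  ⟨256, [.a8], [.a8]⟩,
  ⟨512, [.a9], [.a9]⟩,
  ⟨1024, [.a10], [.a10, .a11]⟩,
  ⟨2048, [.a11], [.a11]⟩]
def B1356 : List Gv := [⟨[.a3], [.a3]⟩, ⟨[.a7], [.a7, .a8]⟩, ⟨[.a10], [.a10, .a11]⟩]
def D1356 : List Dv := [⟨[.a5], [1, 0], [0, 1]⟩,
  ⟨[.a8], [2, 2], []⟩,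
  ⟨[.a6], [1, 4, 2], [2, 4]⟩,
  ⟨[.a9], [5, 4], [4, 5]⟩,
  ⟨[.a11], [6, 6], []⟩]
def C1356 : List Ch := [⟨P1058, 0, [], []⟩,
  ⟨P1064, 1, [], []⟩,
  ⟨P1065, 0, [], []⟩,
  ⟨P1066, 2, [], []⟩,
  ⟨P1058, 0, [.a2], [.a2]⟩,
  ⟨P1067, 1, [], []⟩,
  ⟨P1065, 0, [.a2], [.a2]⟩]
def N1356 : List Ent := [⟨4, [.a2], [.a2]⟩,
  ⟨8, [.a3], [.a3]⟩,
  ⟨16, [.a4], [.a4, .a5]⟩,
  ⟨32, [.a5], [.a5]⟩,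
  ⟨64, [.a6], [.a6]⟩,
  ⟨128, [.a7], [.a7, .a8]⟩,
  ⟨256, [.a8], [.a8]⟩,
  ⟨512, [.a9], [.a9]⟩,
  ⟨1024, [.a10], [.a10, .a11]⟩,
  ⟨2048, [.a11], [.a11]⟩]
theorem bad1356 (c : CtxF Goal γ) : Bad Goal γ [] P1356 :=
  c.toCtx.bnd (B := B1356) (D := D1356) (I := [5, 4, 2, 6, 3, 1, 7, 0]) (r := 3) (C := C1356) (N := N1356) (by decide +kernel) (by decide +kernel) (by decide +kernel) (by decide +kernel)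
    (allB_cons (bad1058 c) (allB_cons (bad1064 c) (allB_cons (bad1065 c) (allB_cons (bad1066 c) (allB_cons (bad1058 c) (allB_cons (bad1067 c) (allB_cons (bad1065 c) (allB_nil))))))))

def P1357 : List Ent := [⟨8, [.a3], [.a3]⟩,
  ⟨16, [.a4], [.a4, .a5]⟩,
  ⟨32, [.a5], [.a5]⟩,
  ⟨64, [.a6], [.a6]⟩,
  ⟨256, [.a8], [.a8]⟩,
  ⟨512, [.a9], [.a9]⟩,
  ⟨1024, [.a10], [.a10, .a11]⟩,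
  ⟨2048, [.a11], [.a11]⟩]
def B1357 : List Gv := [⟨[.a3], [.a3]⟩, ⟨[.a4], [.a4, .a5]⟩, ⟨[.a9], [.a9]⟩, ⟨[.a10], [.a10, .a11]⟩]
def D1357 : List Dv := [⟨[.a5], [1, 1], []⟩,
  ⟨[.a8], [3, 2], [2, 3]⟩,
  ⟨[.a6], [1, 5, 2], [2, 5]⟩,
  ⟨[.a11], [6, 6], []⟩]
def C1357 : List Ch := [⟨P1059, 0, [], []⟩,
  ⟨P1064, 1, [], []⟩,
  ⟨P1062, 0, [.a1, .a2], [.a1]⟩,
  ⟨P1068, 2, [], []⟩,
  ⟨P1069, 0, [], []⟩,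
  ⟨P1070, 1, [], []⟩,
  ⟨P1071, 0, [], []⟩,
  ⟨P1072, 3, [], []⟩,
  ⟨P1059, 0, [.a2], [.a2]⟩,
  ⟨P1067, 1, [.a1], [.a1, .a2]⟩,
  ⟨P1062, 0, [.a1], [.a1, .a2]⟩,
  ⟨P1068, 2, [.a7], [.a7, .a8]⟩,
  ⟨P1069, 0, [.a7], [.a7, .a8]⟩,
  ⟨P1070, 1, [.a7], [.a7, .a8]⟩,
  ⟨P1071, 0, [.a7], [.a7, .a8]⟩]
def S1357 : List St := [.cent 1 1 0 [⟨32, [.a5], [.a5]⟩,
  ⟨256, [.a8], [.a8]⟩],
  .om 2 [⟨8, [.a3], [.a3]⟩,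
  ⟨32, [.a5], [.a5]⟩,
  ⟨64, [.a6], [.a6]⟩,
  ⟨256, [.a8], [.a8]⟩,
  ⟨512, [.a9], [.a9]⟩,
  ⟨2048, [.a11], [.a11]⟩] [[[.a3]], [[.a5]], [[.a6]], [[.a8]], [[.a9]], [[.a11]]]]
theorem bad1357 (c : CtxF Goal γ) : Bad Goal γ [] P1357 :=
  c.toCtx.chn (B := B1357) (D := D1357) (I := [4, 5, 3, 1, 2, 6, 7, 0]) (r := 4) (C := C1357) (l := S1357) (x := ⟨[.a7], [.a7, .a8]⟩) (ix := [0, 1]) (by decide +kernel) (by decide +kernel) (by decide +kernel) (by decide +kernel)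
    (allB_cons (bad1059 c) (allB_cons (bad1064 c) (allB_cons (bad1062 c) (allB_cons (bad1068 c) (allB_cons (bad1069 c) (allB_cons (bad1070 c) (allB_cons (bad1071 c) (allB_cons (bad1072 c) (allB_cons (bad1059 c) (allB_cons (bad1067 c) (allB_cons (bad1062 c) (allB_cons (bad1068 c) (allB_cons (bad1069 c) (allB_cons (bad1070 c) (allB_cons (bad1071 c) (allB_nil))))))))))))))))

def P1358 : List Ent := [⟨8, [.a3, .a7], [.a3, .a5, .a7, .a8]⟩,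
  ⟨16, [.a4], [.a4, .a5]⟩,
  ⟨32, [.a5], [.a5]⟩,
  ⟨64, [.a6], [.a6]⟩,
  ⟨256, [.a8], [.a8]⟩,
  ⟨512, [.a9], [.a9]⟩,
  ⟨1024, [.a10], [.a10, .a11]⟩,
  ⟨2048, [.a11], [.a11]⟩]
def B1358 : List Gv := [⟨[.a3, .a7], [.a3, .a5, .a7, .a8]⟩, ⟨[.a4], [.a4, .a5]⟩, ⟨[.a10], [.a10, .a11]⟩]
def D1358 : List Dv := [⟨[.a5, .a8], [0, 0], []⟩,
  ⟨[.a6], [2, 1], [1, 2]⟩,
  ⟨[.a8], [1, 3, 3], []⟩,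
  ⟨[.a9], [0, 1, 2, 5, 3], [3, 5]⟩,
  ⟨[.a11], [6, 6], []⟩,
  ⟨[.a5], [4], [2]⟩]
def C1358 : List Ch := [⟨P1059, 0, [], []⟩,
  ⟨P1065, 1, [], []⟩,
  ⟨P1060, 0, [.a1, .a2], [.a1]⟩,
  ⟨P1073, 2, [], []⟩,
  ⟨P1062, 0, [.a2], [.a2]⟩,
  ⟨P1065, 1, [.a1, .a2], [.a1]⟩,
  ⟨P1063, 0, [.a1], [.a1, .a2]⟩]
def S1358 : List St := [.phi 1 [⟨32, [.a5], [.a5]⟩,
  ⟨64, [.a6], [.a6]⟩,
  ⟨256, [.a8], [.a8]⟩,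
  ⟨512, [.a9], [.a9]⟩,
  ⟨2048, [.a11], [.a11]⟩] [[[.a4]], [[.a3, .a4, .a7, .a9]], [[.a4], [.a3, .a7]], [[.a4, .a10], [.a3, .a4, .a6, .a7, .a10]], [[.a10]]]]
theorem bad1358 (c : CtxF Goal γ) : Bad Goal γ [] P1358 :=
  c.toCtx.chn (B := B1358) (D := D1358) (I := [6, 7, 0, 4, 3, 2, 8, 1]) (r := 3) (C := C1358) (l := S1358) (x := ⟨[.a7], [.a7, .a8]⟩) (ix := [0]) (by decide +kernel) (by decide +kernel) (by decide +kernel) (by decide +kernel)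
    (allB_cons (bad1059 c) (allB_cons (bad1065 c) (allB_cons (bad1060 c) (allB_cons (bad1073 c) (allB_cons (bad1062 c) (allB_cons (bad1065 c) (allB_cons (bad1063 c) (allB_nil))))))))

def P1359 : List Ent := [⟨8, [.a3], [.a3]⟩,
  ⟨16, [.a4, .a7], [.a4, .a5, .a6, .a7, .a8]⟩,
  ⟨32, [.a5], [.a5]⟩,
  ⟨64, [.a6], [.a6]⟩,
  ⟨256, [.a8], [.a8]⟩,
  ⟨512, [.a9], [.a9]⟩,
  ⟨1024, [.a10], [.a10, .a11]⟩,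
  ⟨2048, [.a11], [.a11]⟩]
def B1359 : List Gv := [⟨[.a3], [.a3]⟩, ⟨[.a4, .a7], [.a4, .a5, .a6, .a7, .a8]⟩, ⟨[.a10], [.a10, .a11]⟩]
def D1359 : List Dv := [⟨[.a5], [1, 0], [0, 1]⟩,
  ⟨[.a6, .a8], [0, 2, 2], []⟩,
  ⟨[.a8], [0, 1, 4, 2], [2, 4]⟩,
  ⟨[.a9], [0, 5, 4], [4, 5]⟩,
  ⟨[.a11], [6, 6], []⟩,
  ⟨[.a6], [3], [2]⟩]
def C1359 : List Ch := [⟨P1060, 0, [], []⟩,
  ⟨P1064, 1, [], []⟩,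
  ⟨P1060, 0, [.a1, .a2], [.a1]⟩,
  ⟨P1074, 2, [], []⟩,
  ⟨P1060, 0, [.a2], [.a2]⟩,
  ⟨P1064, 1, [.a1], [.a1, .a2]⟩,
  ⟨P1060, 0, [.a1], [.a1, .a2]⟩]
def N1359 : List Ent := [⟨2, [.a1], [.a1, .a2]⟩,
  ⟨4, [.a2], [.a2]⟩,
  ⟨8, [.a3], [.a3]⟩,
  ⟨16, [.a4, .a7], [.a4, .a5, .a6, .a7, .a8]⟩,
  ⟨32, [.a5], [.a5]⟩,
  ⟨64, [.a6], [.a6]⟩,
  ⟨128, [.a7], [.a7, .a8]⟩,
  ⟨256, [.a8], [.a8]⟩,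
  ⟨512, [.a9], [.a9]⟩,
  ⟨1024, [.a10], [.a10, .a11]⟩,
  ⟨2048, [.a11], [.a11]⟩]
theorem bad1359 (c : CtxF Goal γ) : Bad Goal γ [] P1359 :=
  c.toCtx.bnd (B := B1359) (D := D1359) (I := [6, 7, 5, 0, 3, 2, 8, 1]) (r := 3) (C := C1359) (N := N1359) (by decide +kernel) (by decide +kernel) (by decide +kernel) (by decide +kernel)
    (allB_cons (bad1060 c) (allB_cons (bad1064 c) (allB_cons (bad1060 c) (allB_cons (bad1074 c) (allB_cons (bad1060 c) (allB_cons (bad1064 c) (allB_cons (bad1060 c) (allB_nil))))))))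

def P1360 : List Ent := [⟨8, [.a3], [.a3]⟩,
  ⟨16, [.a4], [.a4, .a5]⟩,
  ⟨32, [.a5], [.a5]⟩,
  ⟨64, [.a6], [.a6]⟩,
  ⟨128, [.a7], [.a7, .a8]⟩,
  ⟨256, [.a8], [.a8]⟩,
  ⟨512, [.a9], [.a9]⟩,
  ⟨2048, [.a11], [.a11]⟩]
def B1360 : List Gv := [⟨[.a3], [.a3]⟩, ⟨[.a4], [.a4, .a5]⟩, ⟨[.a7], [.a7, .a8]⟩, ⟨[.a9], [.a9]⟩, ⟨[.a11], [.a11]⟩]
def D1360 : List Dv := [⟨[.a5], [1, 1], []⟩,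
  ⟨[.a6], [3, 2], [2, 3]⟩,
  ⟨[.a8], [4, 4], []⟩]
def C1360 : List Ch := [⟨P1061, 0, [], []⟩,
  ⟨P1066, 1, [], []⟩,
  ⟨P1061, 0, [.a1], [.a1, .a2]⟩,
  ⟨P1072, 2, [], []⟩,
  ⟨P1073, 0, [], []⟩,
  ⟨P1074, 1, [], []⟩,
  ⟨P1073, 0, [.a1], [.a1, .a2]⟩,
  ⟨P1075, 3, [], []⟩,
  ⟨P1076, 0, [], []⟩,
  ⟨P1077, 1, [], []⟩,
  ⟨P1078, 0, [], []⟩,
  ⟨P1075, 2, [.a10], [.a10, .a11]⟩,
  ⟨P1076, 0, [.a10], [.a10, .a11]⟩,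
  ⟨P1077, 1, [.a10], [.a10, .a11]⟩,
  ⟨P1078, 0, [.a10], [.a10, .a11]⟩,
  ⟨P1079, 4, [], []⟩,
  ⟨P1080, 0, [], []⟩,
  ⟨P1081, 1, [], []⟩,
  ⟨P1080, 0, [.a1], [.a1, .a2]⟩,
  ⟨P1082, 2, [], []⟩,
  ⟨P1083, 0, [], []⟩,
  ⟨P1084, 1, [], []⟩,
  ⟨P1083, 0, [.a1], [.a1, .a2]⟩,
  ⟨P1075, 3, [.a1], [.a1, .a2]⟩,
  ⟨P1078, 0, [.a1], [.a1, .a2]⟩,
  ⟨P1077, 1, [.a1], [.a1, .a2]⟩,
  ⟨P1076, 0, [.a1], [.a1, .a2]⟩,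
  ⟨P1075, 2, [.a1, .a10], [.a1, .a2, .a4, .a5, .a7, .a9, .a10, .a11]⟩,
  ⟨P1078, 0, [.a1, .a10], [.a1, .a2, .a4, .a5, .a7, .a9, .a10, .a11]⟩,
  ⟨P1077, 1, [.a1, .a10], [.a1, .a2, .a4, .a5, .a7, .a9, .a10, .a11]⟩,
  ⟨P1076, 0, [.a1, .a10], [.a1, .a2, .a4, .a5, .a7, .a9, .a10, .a11]⟩]
def N1360 : List Ent := [⟨2, [.a1], [.a1, .a2]⟩,
  ⟨4, [.a2], [.a2]⟩,
  ⟨8, [.a3], [.a3]⟩,
  ⟨16, [.a4], [.a4, .a5]⟩,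
  ⟨32, [.a5], [.a5]⟩,
  ⟨64, [.a6], [.a6]⟩,
  ⟨128, [.a7], [.a7, .a8]⟩,
  ⟨256, [.a8], [.a8]⟩,
  ⟨512, [.a9], [.a9]⟩,
  ⟨1024, [.a10], [.a10, .a11]⟩,
  ⟨2048, [.a11], [.a11]⟩]
theorem bad1360 (c : CtxF Goal γ) : Bad Goal γ [] P1360 :=
  c.toCtx.bnd (B := B1360) (D := D1360) (I := [3, 4, 2, 1, 5, 0, 6, 7]) (r := 5) (C := C1360) (N := N1360) (by decide +kernel) (by decide +kernel) (by decide +kernel) (by decide +kernel)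
    (allB_cons (bad1061 c) (allB_cons (bad1066 c) (allB_cons (bad1061 c) (allB_cons (bad1072 c) (allB_cons (bad1073 c) (allB_cons (bad1074 c) (allB_cons (bad1073 c) (allB_cons (bad1075 c) (allB_cons (bad1076 c) (allB_cons (bad1077 c) (allB_cons (bad1078 c) (allB_cons (bad1075 c) (allB_cons (bad1076 c) (allB_cons (bad1077 c) (allB_cons (bad1078 c) (allB_cons (bad1079 c) (allB_cons (bad1080 c) (allB_cons (bad1081 c) (allB_cons (bad1080 c) (allB_cons (bad1082 c) (allB_cons (bad1083 c) (allB_cons (bad1084 c) (allB_cons (bad1083 c) (allB_cons (bad1075 c) (allB_cons (bad1078 c) (allB_cons (bad1077 c) (allB_cons (bad1076 c) (allB_cons (bad1075 c) (allB_cons (bad1078 c) (allB_cons (bad1077 c) (allB_cons (bad1076 c) (allB_nil))))))))))))))))))))))))))))))))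

def P1361 : List Ent := [⟨8, [.a3], [.a3]⟩,
  ⟨16, [.a4, .a10], [.a4, .a5, .a10, .a11]⟩,
  ⟨32, [.a5], [.a5]⟩,
  ⟨64, [.a6], [.a6]⟩,
  ⟨128, [.a7, .a10], [.a7, .a8, .a9, .a10, .a11]⟩,
  ⟨256, [.a8], [.a8]⟩,
  ⟨512, [.a9], [.a9]⟩,
  ⟨2048, [.a11], [.a11]⟩]
def B1361 : List Gv := [⟨[.a3], [.a3]⟩, ⟨[.a4, .a10], [.a4, .a5, .a10, .a11]⟩, ⟨[.a7, .a10], [.a7, .a8, .a9, .a10, .a11]⟩]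
def D1361 : List Dv := [⟨[.a5, .a6], [1, 0], [0, 1]⟩,
  ⟨[.a6, .a11], [0, 2, 2], []⟩,
  ⟨[.a11], [0, 4, 2], [2, 4]⟩,
  ⟨[.a8, .a9, .a11], [1, 5, 4], [4, 5]⟩,
  ⟨[.a9, .a11], [0, 3, 5], [5, 3]⟩,
  ⟨[.a9], [0], [2]⟩,
  ⟨[.a8], [2], [0, 3]⟩,
  ⟨[.a6], [5], [4]⟩,
  ⟨[.a5], [7], [0]⟩]
def C1361 : List Ch := [⟨P1063, 0, [], []⟩,
  ⟨P1067, 1, [], []⟩,
  ⟨P1063, 0, [.a1, .a2], [.a1]⟩,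
  ⟨P1067, 2, [.a1], [.a1, .a2]⟩,
  ⟨P1063, 0, [.a1], [.a1, .a2]⟩,
  ⟨P1074, 1, [], []⟩,
  ⟨P1063, 0, [.a2], [.a2]⟩]
def N1361 : List Ent := [⟨2, [.a1], [.a1, .a2]⟩,
  ⟨4, [.a2], [.a2]⟩,
  ⟨8, [.a3], [.a3]⟩,
  ⟨16, [.a4, .a10], [.a4, .a5, .a10, .a11]⟩,
  ⟨32, [.a5], [.a5]⟩,
  ⟨64, [.a6], [.a6]⟩,
  ⟨128, [.a7, .a10], [.a7, .a8, .a9, .a10, .a11]⟩,
  ⟨256, [.a8], [.a8]⟩,
  ⟨512, [.a9], [.a9]⟩,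
  ⟨1024, [.a10], [.a10, .a11]⟩,
  ⟨2048, [.a11], [.a11]⟩]
theorem bad1361 (c : CtxF Goal γ) : Bad Goal γ [] P1361 :=
  c.toCtx.bnd (B := B1361) (D := D1361) (I := [9, 10, 0, 1, 11, 2, 3, 6]) (r := 3) (C := C1361) (N := N1361) (by decide +kernel) (by decide +kernel) (by decide +kernel) (by decide +kernel)
    (allB_cons (bad1063 c) (allB_cons (bad1067 c) (allB_cons (bad1063 c) (allB_cons (bad1067 c) (allB_cons (bad1063 c) (allB_cons (bad1074 c) (allB_cons (bad1063 c) (allB_nil))))))))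

def P1362 : List Ent := [⟨4, [.a2], [.a2]⟩,
  ⟨8, [.a3], [.a3]⟩,
  ⟨32, [.a5], [.a5]⟩,
  ⟨64, [.a6], [.a6]⟩,
  ⟨256, [.a8], [.a8]⟩,
  ⟨512, [.a9], [.a9]⟩,
  ⟨1024, [.a10], [.a10, .a11]⟩,
  ⟨2048, [.a11], [.a11]⟩]
def B1362 : List Gv := [⟨[.a2], [.a2]⟩, ⟨[.a9], [.a9]⟩, ⟨[.a10], [.a10, .a11]⟩]
def D1362 : List Dv := [⟨[.a5], [1, 0], [0, 1]⟩,
  ⟨[.a3, .a6, .a8], [3, 1], [1, 3]⟩,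
  ⟨[.a11], [4, 4], []⟩,
  ⟨[.a6, .a8], [2, 1, 5], [5, 1]⟩,
  ⟨[.a8], [1, 2], [2, 1]⟩,
  ⟨[.a6], [1], [0]⟩,
  ⟨[.a3], [4], [0, 1]⟩]
def C1362 : List Ch := [⟨P1064, 0, [], []⟩,
  ⟨P1085, 1, [], []⟩,
  ⟨P1086, 0, [], []⟩,
  ⟨P1087, 2, [], []⟩,
  ⟨P1088, 0, [], []⟩,
  ⟨P1085, 1, [.a7], [.a7, .a8]⟩,
  ⟨P1086, 0, [.a7], [.a7, .a8]⟩]
def N1362 : List Ent := [⟨4, [.a2], [.a2]⟩,
  ⟨8, [.a3], [.a3]⟩,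
  ⟨16, [.a4], [.a4, .a5]⟩,
  ⟨32, [.a5], [.a5]⟩,
  ⟨64, [.a6], [.a6]⟩,
  ⟨128, [.a7], [.a7, .a8]⟩,
  ⟨256, [.a8], [.a8]⟩,
  ⟨512, [.a9], [.a9]⟩,
  ⟨1024, [.a10], [.a10, .a11]⟩,
  ⟨2048, [.a11], [.a11]⟩]
theorem bad1362 (c : CtxF Goal γ) : Bad Goal γ [] P1362 :=
  c.toCtx.bnd (B := B1362) (D := D1362) (I := [7, 0, 6, 1, 2, 8, 9, 4]) (r := 3) (C := C1362) (N := N1362) (by decide +kernel) (by decide +kernel) (by decide +kernel) (by decide +kernel)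
    (allB_cons (bad1064 c) (allB_cons (bad1085 c) (allB_cons (bad1086 c) (allB_cons (bad1087 c) (allB_cons (bad1088 c) (allB_cons (bad1085 c) (allB_cons (bad1086 c) (allB_nil))))))))

def P1363 : List Ent := [⟨4, [.a2, .a7], [.a2, .a7, .a8]⟩,
  ⟨8, [.a3], [.a3]⟩,
  ⟨32, [.a5], [.a5]⟩,
  ⟨64, [.a6], [.a6]⟩,
  ⟨256, [.a8], [.a8]⟩,
  ⟨512, [.a9], [.a9]⟩,
  ⟨1024, [.a10], [.a10, .a11]⟩,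
  ⟨2048, [.a11], [.a11]⟩]
def B1363 : List Gv := [⟨[.a2, .a7], [.a2, .a7, .a8]⟩, ⟨[.a3], [.a3]⟩, ⟨[.a10], [.a10, .a11]⟩]
def D1363 : List Dv := [⟨[.a8], [0, 0], []⟩,
  ⟨[.a5], [2, 1], [1, 2]⟩,
  ⟨[.a6, .a8, .a9], [0, 3, 4, 2], [2, 4]⟩,
  ⟨[.a9], [2, 0, 1, 5, 4], [4, 5]⟩,
  ⟨[.a11], [6, 6], []⟩,
  ⟨[.a6], [2], [4, 1]⟩]
def C1363 : List Ch := [⟨P1064, 0, [], []⟩,
  ⟨P1089, 1, [], []⟩,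
  ⟨P1090, 0, [], []⟩,
  ⟨P1091, 2, [], []⟩,
  ⟨P1092, 0, [], []⟩,
  ⟨P1089, 1, [.a7], [.a7, .a8]⟩,
  ⟨P1090, 0, [.a7], [.a7, .a8]⟩]
def N1363 : List Ent := [⟨4, [.a2, .a7], [.a2, .a7, .a8]⟩,
  ⟨8, [.a3], [.a3]⟩,
  ⟨16, [.a4], [.a4, .a5]⟩,
  ⟨32, [.a5], [.a5]⟩,
  ⟨64, [.a6], [.a6]⟩,
  ⟨128, [.a7], [.a7, .a8]⟩,
  ⟨256, [.a8], [.a8]⟩,
  ⟨512, [.a9], [.a9]⟩,
  ⟨1024, [.a10], [.a10, .a11]⟩,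
  ⟨2048, [.a11], [.a11]⟩]
theorem bad1363 (c : CtxF Goal γ) : Bad Goal γ [] P1363 :=
  c.toCtx.bnd (B := B1363) (D := D1363) (I := [6, 7, 4, 0, 5, 2, 8, 1]) (r := 3) (C := C1363) (N := N1363) (by decide +kernel) (by decide +kernel) (by decide +kernel) (by decide +kernel)
    (allB_cons (bad1064 c) (allB_cons (bad1089 c) (allB_cons (bad1090 c) (allB_cons (bad1091 c) (allB_cons (bad1092 c) (allB_cons (bad1089 c) (allB_cons (bad1090 c) (allB_nil))))))))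

def P1364 : List Ent := [⟨4, [.a2], [.a2]⟩,
  ⟨8, [.a3], [.a3]⟩,
  ⟨32, [.a5], [.a5]⟩,
  ⟨64, [.a6], [.a6]⟩,
  ⟨128, [.a7], [.a7, .a8]⟩,
  ⟨256, [.a8], [.a8]⟩,
  ⟨512, [.a9], [.a9]⟩,
  ⟨2048, [.a11], [.a11]⟩]
def B1364 : List Gv := [⟨[.a2], [.a2]⟩, ⟨[.a3], [.a3]⟩, ⟨[.a7], [.a7, .a8]⟩, ⟨[.a9], [.a9]⟩, ⟨[.a11], [.a11]⟩]
def D1364 : List Dv := [⟨[.a5], [2, 1], [1, 2]⟩,
  ⟨[.a8], [3, 3], []⟩,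
  ⟨[.a6, .a8], [1, 6, 2], [2, 6]⟩,
  ⟨[.a6], [0], [1]⟩]
def C1364 : List Ch := [⟨P1066, 0, [], []⟩,
  ⟨P1093, 1, [], []⟩,
  ⟨P1093, 0, [.a10], [.a10, .a11]⟩,
  ⟨P1087, 2, [], []⟩,
  ⟨P1091, 0, [], []⟩,
  ⟨P1094, 1, [], []⟩,
  ⟨P1094, 0, [.a10], [.a10, .a11]⟩,
  ⟨P1095, 3, [], []⟩,
  ⟨P1096, 0, [], []⟩,
  ⟨P1097, 1, [], []⟩,
  ⟨P1098, 0, [], []⟩,
  ⟨P1095, 2, [.a10], [.a10, .a11]⟩,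
  ⟨P1096, 0, [.a10], [.a10, .a11]⟩,
  ⟨P1098, 1, [.a10], [.a10, .a11]⟩,
  ⟨P1097, 0, [.a10], [.a10, .a11]⟩,
  ⟨P1099, 4, [], []⟩,
  ⟨P1100, 0, [], []⟩,
  ⟨P1101, 1, [], []⟩,
  ⟨P1101, 0, [.a10], [.a10, .a11]⟩,
  ⟨P1102, 2, [], []⟩,
  ⟨P1081, 0, [.a0], [.a0]⟩,
  ⟨P1103, 1, [], []⟩,
  ⟨P1103, 0, [.a10], [.a10, .a11]⟩,
  ⟨P1095, 3, [.a1], [.a1, .a2]⟩,
  ⟨P1096, 0, [.a1], [.a1, .a2]⟩,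
  ⟨P1097, 1, [.a1], [.a1, .a2]⟩,
  ⟨P1098, 0, [.a1], [.a1, .a2]⟩,
  ⟨P1095, 2, [.a1, .a10], [.a1, .a2, .a4, .a5, .a7, .a9, .a10, .a11]⟩,
  ⟨P1096, 0, [.a1, .a10], [.a1, .a2, .a4, .a5, .a7, .a9, .a10, .a11]⟩,
  ⟨P1098, 1, [.a1, .a10], [.a1, .a2, .a4, .a5, .a7, .a9, .a10, .a11]⟩,
  ⟨P1097, 0, [.a1, .a10], [.a1, .a2, .a4, .a5, .a7, .a9, .a10, .a11]⟩]
def N1364 : List Ent := [⟨2, [.a1], [.a1, .a2]⟩,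
  ⟨4, [.a2], [.a2]⟩,
  ⟨8, [.a3], [.a3]⟩,
  ⟨16, [.a4], [.a4, .a5]⟩,
  ⟨32, [.a5], [.a5]⟩,
  ⟨64, [.a6], [.a6]⟩,
  ⟨128, [.a7], [.a7, .a8]⟩,
  ⟨256, [.a8], [.a8]⟩,
  ⟨512, [.a9], [.a9]⟩,
  ⟨1024, [.a10], [.a10, .a11]⟩,
  ⟨2048, [.a11], [.a11]⟩]
theorem bad1364 (c : CtxF Goal γ) : Bad Goal γ [] P1364 :=
  c.toCtx.bnd (B := B1364) (D := D1364) (I := [4, 5, 3, 0, 6, 2, 7, 8]) (r := 5) (C := C1364) (N := N1364) (by decide +kernel) (by decide +kernel) (by decide +kernel) (by decide +kernel)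
    (allB_cons (bad1066 c) (allB_cons (bad1093 c) (allB_cons (bad1093 c) (allB_cons (bad1087 c) (allB_cons (bad1091 c) (allB_cons (bad1094 c) (allB_cons (bad1094 c) (allB_cons (bad1095 c) (allB_cons (bad1096 c) (allB_cons (bad1097 c) (allB_cons (bad1098 c) (allB_cons (bad1095 c) (allB_cons (bad1096 c) (allB_cons (bad1098 c) (allB_cons (bad1097 c) (allB_cons (bad1099 c) (allB_cons (bad1100 c) (allB_cons (bad1101 c) (allB_cons (bad1101 c) (allB_cons (bad1102 c) (allB_cons (bad1081 c) (allB_cons (bad1103 c) (allB_cons (bad1103 c) (allB_cons (bad1095 c) (allB_cons (bad1096 c) (allB_cons (bad1097 c) (allB_cons (bad1098 c) (allB_cons (bad1095 c) (allB_cons (bad1096 c) (allB_cons (bad1098 c) (allB_cons (bad1097 c) (allB_nil))))))))))))))))))))))))))))))))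

def P1365 : List Ent := [⟨4, [.a2, .a10], [.a2, .a3, .a5, .a8, .a10, .a11]⟩,
  ⟨8, [.a3], [.a3]⟩,
  ⟨32, [.a5], [.a5]⟩,
  ⟨64, [.a6], [.a6]⟩,
  ⟨128, [.a7], [.a7, .a8]⟩,
  ⟨256, [.a8], [.a8]⟩,
  ⟨512, [.a9], [.a9]⟩,
  ⟨2048, [.a11], [.a11]⟩]
def B1365 : List Gv := [⟨[.a2, .a10], [.a2, .a3, .a5, .a8, .a10, .a11]⟩, ⟨[.a3], [.a3]⟩, ⟨[.a7], [.a7, .a8]⟩]
def D1365 : List Dv := [⟨[.a6, .a8, .a11], [1, 0, 0], []⟩,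
  ⟨[.a5, .a6], [2, 1], [1, 2]⟩,
  ⟨[.a8, .a9, .a11], [1, 0, 4, 2], [2, 4]⟩,
  ⟨[.a9], [0, 2, 1, 5, 4], [4, 5]⟩,
  ⟨[.a11], [0, 1, 6, 6], []⟩,
  ⟨[.a8], [2], [1, 0]⟩,
  ⟨[.a6], [5], [0, 1]⟩,
  ⟨[.a5], [5], [0]⟩]
def C1365 : List Ch := [⟨P1066, 0, [], []⟩,
  ⟨P1104, 1, [], []⟩,
  ⟨P1104, 0, [.a10], [.a10, .a11]⟩,
  ⟨P1088, 2, [], []⟩,
  ⟨P1092, 0, [], []⟩,
  ⟨P1105, 1, [], []⟩,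
  ⟨P1105, 0, [.a10], [.a10, .a11]⟩]
def N1365 : List Ent := [⟨4, [.a2, .a10], [.a2, .a3, .a5, .a8, .a10, .a11]⟩,
  ⟨8, [.a3], [.a3]⟩,
  ⟨16, [.a4], [.a4, .a5]⟩,
  ⟨32, [.a5], [.a5]⟩,
  ⟨64, [.a6], [.a6]⟩,
  ⟨128, [.a7], [.a7, .a8]⟩,
  ⟨256, [.a8], [.a8]⟩,
  ⟨512, [.a9], [.a9]⟩,
  ⟨1024, [.a10], [.a10, .a11]⟩,
  ⟨2048, [.a11], [.a11]⟩]
theorem bad1365 (c : CtxF Goal γ) : Bad Goal γ [] P1365 :=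
  c.toCtx.bnd (B := B1365) (D := D1365) (I := [8, 9, 0, 1, 10, 2, 4, 3]) (r := 3) (C := C1365) (N := N1365) (by decide +kernel) (by decide +kernel) (by decide +kernel) (by decide +kernel)
    (allB_cons (bad1066 c) (allB_cons (bad1104 c) (allB_cons (bad1104 c) (allB_cons (bad1088 c) (allB_cons (bad1092 c) (allB_cons (bad1105 c) (allB_cons (bad1105 c) (allB_nil))))))))

def P1366 : List Ent := [⟨4, [.a2], [.a2]⟩,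
  ⟨8, [.a3], [.a3]⟩,
  ⟨32, [.a5], [.a5]⟩,
  ⟨64, [.a6], [.a6]⟩,
  ⟨128, [.a7, .a10], [.a7, .a8, .a9, .a10, .a11]⟩,
  ⟨256, [.a8], [.a8]⟩,
  ⟨512, [.a9], [.a9]⟩,
  ⟨2048, [.a11], [.a11]⟩]
def B1366 : List Gv := [⟨[.a2], [.a2]⟩, ⟨[.a7, .a10], [.a7, .a8, .a9, .a10, .a11]⟩, ⟨[.a9], [.a9]⟩]
def D1366 : List Dv := [⟨[.a3, .a5, .a6, .a8], [1, 0], [0, 1]⟩,
  ⟨[.a8, .a9, .a11], [2, 2], []⟩,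
  ⟨[.a5], [4, 2], [2, 4]⟩,
  ⟨[.a6, .a8], [2, 4], [4, 2]⟩,
  ⟨[.a11], [6, 2, 2, 3], [3, 2]⟩,
  ⟨[.a8], [3], [7, 0]⟩,
  ⟨[.a6], [2], [0]⟩,
  ⟨[.a3], [6], [4, 0, 1]⟩]
def C1366 : List Ch := [⟨P1067, 0, [], []⟩,
  ⟨P1087, 1, [], []⟩,
  ⟨P1092, 0, [], []⟩,
  ⟨P1106, 2, [], []⟩,
  ⟨P1107, 0, [], []⟩,
  ⟨P1106, 1, [.a10], [.a10, .a11]⟩,
  ⟨P1107, 0, [.a10], [.a10, .a11]⟩]
def N1366 : List Ent := [⟨4, [.a2], [.a2]⟩,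
  ⟨8, [.a3], [.a3]⟩,
  ⟨16, [.a4], [.a4, .a5]⟩,
  ⟨32, [.a5], [.a5]⟩,
  ⟨64, [.a6], [.a6]⟩,
  ⟨128, [.a7, .a10], [.a7, .a8, .a9, .a10, .a11]⟩,
  ⟨256, [.a8], [.a8]⟩,
  ⟨512, [.a9], [.a9]⟩,
  ⟨1024, [.a10], [.a10, .a11]⟩,
  ⟨2048, [.a11], [.a11]⟩]
theorem bad1366 (c : CtxF Goal γ) : Bad Goal γ [] P1366 :=
  c.toCtx.bnd (B := B1366) (D := D1366) (I := [8, 0, 5, 1, 9, 2, 10, 3]) (r := 3) (C := C1366) (N := N1366) (by decide +kernel) (by decide +kernel) (by decide +kernel) (by decide +kernel)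
    (allB_cons (bad1067 c) (allB_cons (bad1087 c) (allB_cons (bad1092 c) (allB_cons (bad1106 c) (allB_cons (bad1107 c) (allB_cons (bad1106 c) (allB_cons (bad1107 c) (allB_nil))))))))

def P1367 : List Ent := [⟨4, [.a2, .a10], [.a2, .a3, .a5, .a8, .a10, .a11]⟩,
  ⟨8, [.a3], [.a3]⟩,
  ⟨32, [.a5], [.a5]⟩,
  ⟨64, [.a6], [.a6]⟩,
  ⟨128, [.a7, .a10], [.a7, .a8, .a9, .a10, .a11]⟩,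
  ⟨256, [.a8], [.a8]⟩,
  ⟨512, [.a9], [.a9]⟩,
  ⟨2048, [.a11], [.a11]⟩]
def B1367 : List Gv := [⟨[.a2, .a10], [.a2, .a3, .a5, .a8, .a10, .a11]⟩, ⟨[.a3], [.a3]⟩, ⟨[.a7, .a10], [.a7, .a8, .a9, .a10, .a11]⟩]
def D1367 : List Dv := [⟨[.a6, .a8, .a11], [1, 0, 0], []⟩,
  ⟨[.a5, .a6], [2, 1], [1, 2]⟩,
  ⟨[.a9, .a11], [1, 3, 4, 2], [2, 4]⟩,
  ⟨[.a8, .a11], [2, 5, 4], [4, 5]⟩,
  ⟨[.a11], [1, 0, 6, 6], []⟩,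
  ⟨[.a9], [2], [0]⟩,
  ⟨[.a8], [2], [1]⟩,
  ⟨[.a6], [6], [0, 2]⟩,
  ⟨[.a5], [6], [0]⟩]
def C1367 : List Ch := [⟨P1067, 0, [], []⟩,
  ⟨P1108, 1, [], []⟩,
  ⟨P1109, 0, [], []⟩,
  ⟨P1088, 2, [], []⟩,
  ⟨P1091, 0, [], []⟩,
  ⟨P1109, 1, [.a10], [.a10, .a11]⟩,
  ⟨P1108, 0, [.a10], [.a10, .a11]⟩]
def N1367 : List Ent := [⟨4, [.a2, .a10], [.a2, .a3, .a5, .a8, .a10, .a11]⟩,
  ⟨8, [.a3], [.a3]⟩,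
  ⟨16, [.a4], [.a4, .a5]⟩,
  ⟨32, [.a5], [.a5]⟩,
  ⟨64, [.a6], [.a6]⟩,
  ⟨128, [.a7, .a10], [.a7, .a8, .a9, .a10, .a11]⟩,
  ⟨256, [.a8], [.a8]⟩,
  ⟨512, [.a9], [.a9]⟩,
  ⟨1024, [.a10], [.a10, .a11]⟩,
  ⟨2048, [.a11], [.a11]⟩]
theorem bad1367 (c : CtxF Goal γ) : Bad Goal γ [] P1367 :=
  c.toCtx.bnd (B := B1367) (D := D1367) (I := [9, 10, 0, 1, 11, 2, 3, 4]) (r := 3) (C := C1367) (N := N1367) (by decide +kernel) (by decide +kernel) (by decide +kernel) (by decide +kernel)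
    (allB_cons (bad1067 c) (allB_cons (bad1108 c) (allB_cons (bad1109 c) (allB_cons (bad1088 c) (allB_cons (bad1091 c) (allB_cons (bad1109 c) (allB_cons (bad1108 c) (allB_nil))))))))

def P1368 : List Ent := [⟨4, [.a2, .a4], [.a2, .a4, .a5]⟩,
  ⟨8, [.a3], [.a3]⟩,
  ⟨32, [.a5], [.a5]⟩,
  ⟨64, [.a6], [.a6]⟩,
  ⟨256, [.a8], [.a8]⟩,
  ⟨512, [.a9], [.a9]⟩,
  ⟨1024, [.a10], [.a10, .a11]⟩,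
  ⟨2048, [.a11], [.a11]⟩]
def B1368 : List Gv := [⟨[.a2, .a4], [.a2, .a4, .a5]⟩, ⟨[.a9], [.a9]⟩, ⟨[.a10], [.a10, .a11]⟩]
def D1368 : List Dv := [⟨[.a5], [0, 0], []⟩,
  ⟨[.a8], [0, 2, 1], [1, 2]⟩,
  ⟨[.a3, .a6, .a8], [4, 2], [2, 4]⟩,
  ⟨[.a11], [5, 5], []⟩,
  ⟨[.a6, .a8], [3, 1, 6], [6, 1]⟩,
  ⟨[.a6], [0], [3]⟩,
  ⟨[.a3], [3], [0, 4]⟩]
def C1368 : List Ch := [⟨P1064, 0, [], []⟩,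
  ⟨P1110, 1, [], []⟩,
  ⟨P1111, 0, [], []⟩,
  ⟨P1112, 2, [], []⟩,
  ⟨P1092, 0, [.a1], [.a1, .a2]⟩,
  ⟨P1110, 1, [.a7], [.a7, .a8]⟩,
  ⟨P1111, 0, [.a7], [.a7, .a8]⟩]
def N1368 : List Ent := [⟨4, [.a2, .a4], [.a2, .a4, .a5]⟩,
  ⟨8, [.a3], [.a3]⟩,
  ⟨16, [.a4], [.a4, .a5]⟩,
  ⟨32, [.a5], [.a5]⟩,
  ⟨64, [.a6], [.a6]⟩,
  ⟨128, [.a7], [.a7, .a8]⟩,
  ⟨256, [.a8], [.a8]⟩,
  ⟨512, [.a9], [.a9]⟩,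
  ⟨1024, [.a10], [.a10, .a11]⟩,
  ⟨2048, [.a11], [.a11]⟩]
theorem bad1368 (c : CtxF Goal γ) : Bad Goal γ [] P1368 :=
  c.toCtx.bnd (B := B1368) (D := D1368) (I := [7, 0, 6, 1, 5, 8, 9, 3]) (r := 3) (C := C1368) (N := N1368) (by decide +kernel) (by decide +kernel) (by decide +kernel) (by decide +kernel)
    (allB_cons (bad1064 c) (allB_cons (bad1110 c) (allB_cons (bad1111 c) (allB_cons (bad1112 c) (allB_cons (bad1092 c) (allB_cons (bad1110 c) (allB_cons (bad1111 c) (allB_nil))))))))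

def P1369 : List Ent := [⟨4, [.a2, .a4, .a7], [.a2, .a4, .a5, .a6, .a7, .a8]⟩,
  ⟨8, [.a3], [.a3]⟩,
  ⟨32, [.a5], [.a5]⟩,
  ⟨64, [.a6], [.a6]⟩,
  ⟨256, [.a8], [.a8]⟩,
  ⟨512, [.a9], [.a9]⟩,
  ⟨1024, [.a10], [.a10, .a11]⟩,
  ⟨2048, [.a11], [.a11]⟩]
def B1369 : List Gv := [⟨[.a2, .a4, .a7], [.a2, .a4, .a5, .a6, .a7, .a8]⟩, ⟨[.a3], [.a3]⟩, ⟨[.a10], [.a10, .a11]⟩]
def D1369 : List Dv := [⟨[.a5, .a6, .a8], [0, 0], []⟩,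
  ⟨[.a6, .a8], [0, 2, 1], [1, 2]⟩,
  ⟨[.a8, .a9], [1, 3, 4, 2], [2, 4]⟩,
  ⟨[.a9], [0, 2, 5, 4], [4, 5]⟩,
  ⟨[.a11], [6, 6], []⟩,
  ⟨[.a8], [2], [1]⟩,
  ⟨[.a6], [4], [0]⟩,
  ⟨[.a5], [6], [0, 1]⟩]
def C1369 : List Ch := [⟨P1064, 0, [], []⟩,
  ⟨P1113, 1, [], []⟩,
  ⟨P1114, 0, [], []⟩,
  ⟨P1115, 2, [], []⟩,
  ⟨P1088, 0, [.a1], [.a1, .a2]⟩,
  ⟨P1113, 1, [.a7], [.a7, .a8]⟩,
  ⟨P1114, 0, [.a7], [.a7, .a8]⟩]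
def N1369 : List Ent := [⟨4, [.a2, .a4, .a7], [.a2, .a4, .a5, .a6, .a7, .a8]⟩,
  ⟨8, [.a3], [.a3]⟩,
  ⟨16, [.a4], [.a4, .a5]⟩,
  ⟨32, [.a5], [.a5]⟩,
  ⟨64, [.a6], [.a6]⟩,
  ⟨128, [.a7], [.a7, .a8]⟩,
  ⟨256, [.a8], [.a8]⟩,
  ⟨512, [.a9], [.a9]⟩,
  ⟨1024, [.a10], [.a10, .a11]⟩,
  ⟨2048, [.a11], [.a11]⟩]
theorem bad1369 (c : CtxF Goal γ) : Bad Goal γ [] P1369 :=
  c.toCtx.bnd (B := B1369) (D := D1369) (I := [8, 9, 0, 1, 2, 4, 10, 3]) (r := 3) (C := C1369) (N := N1369) (by decide +kernel) (by decide +kernel) (by decide +kernel) (by decide +kernel)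
    (allB_cons (bad1064 c) (allB_cons (bad1113 c) (allB_cons (bad1114 c) (allB_cons (bad1115 c) (allB_cons (bad1088 c) (allB_cons (bad1113 c) (allB_cons (bad1114 c) (allB_nil))))))))

def P1370 : List Ent := [⟨4, [.a2, .a4], [.a2, .a4, .a5]⟩,
  ⟨8, [.a3], [.a3]⟩,
  ⟨32, [.a5], [.a5]⟩,
  ⟨64, [.a6], [.a6]⟩,
  ⟨128, [.a7], [.a7, .a8]⟩,
  ⟨256, [.a8], [.a8]⟩,
  ⟨512, [.a9], [.a9]⟩,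
  ⟨2048, [.a11], [.a11]⟩]
def B1370 : List Gv := [⟨[.a2, .a4], [.a2, .a4, .a5]⟩, ⟨[.a3], [.a3]⟩, ⟨[.a7], [.a7, .a8]⟩, ⟨[.a9], [.a9]⟩, ⟨[.a11], [.a11]⟩]
def D1370 : List Dv := [⟨[.a5], [0, 0], []⟩,
  ⟨[.a6], [3, 1], [1, 3]⟩,
  ⟨[.a8], [4, 4], []⟩]
def C1370 : List Ch := [⟨P1066, 0, [], []⟩,
  ⟨P1116, 1, [], []⟩,
  ⟨P1116, 0, [.a10], [.a10, .a11]⟩,
  ⟨P1112, 2, [], []⟩,
  ⟨P1115, 0, [], []⟩,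
  ⟨P1117, 1, [], []⟩,
  ⟨P1117, 0, [.a10], [.a10, .a11]⟩,
  ⟨P1118, 3, [], []⟩,
  ⟨P1119, 0, [], []⟩,
  ⟨P1120, 1, [], []⟩,
  ⟨P1121, 0, [], []⟩,
  ⟨P1118, 2, [.a10], [.a10, .a11]⟩,
  ⟨P1119, 0, [.a10], [.a10, .a11]⟩,
  ⟨P1121, 1, [.a10], [.a10, .a11]⟩,
  ⟨P1120, 0, [.a10], [.a10, .a11]⟩,
  ⟨P1122, 4, [], []⟩,
  ⟨P1091, 0, [.a0], [.a0]⟩,
  ⟨P1123, 1, [], []⟩,
  ⟨P1123, 0, [.a10], [.a10, .a11]⟩,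
  ⟨P1072, 2, [.a0], [.a0]⟩,
  ⟨P1124, 0, [], []⟩,
  ⟨P1125, 1, [], []⟩,
  ⟨P1125, 0, [.a10], [.a10, .a11]⟩,
  ⟨P1118, 3, [.a1], [.a1, .a2]⟩,
  ⟨P1119, 0, [.a1], [.a1, .a2]⟩,
  ⟨P1121, 1, [.a1], [.a1, .a2]⟩,
  ⟨P1120, 0, [.a1], [.a1, .a2]⟩,
  ⟨P1118, 2, [.a1, .a10], [.a1, .a2, .a4, .a5, .a7, .a9, .a10, .a11]⟩,
  ⟨P1119, 0, [.a1, .a10], [.a1, .a2, .a4, .a5, .a7, .a9, .a10, .a11]⟩,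
  ⟨P1120, 1, [.a1, .a10], [.a1, .a2, .a4, .a5, .a7, .a9, .a10, .a11]⟩,
  ⟨P1121, 0, [.a1, .a10], [.a1, .a2, .a4, .a5, .a7, .a9, .a10, .a11]⟩]
def N1370 : List Ent := [⟨2, [.a1], [.a1, .a2]⟩,
  ⟨4, [.a2, .a4], [.a2, .a4, .a5]⟩,
  ⟨8, [.a3], [.a3]⟩,
  ⟨16, [.a4], [.a4, .a5]⟩,
  ⟨32, [.a5], [.a5]⟩,
  ⟨64, [.a6], [.a6]⟩,
  ⟨128, [.a7], [.a7, .a8]⟩,
  ⟨256, [.a8], [.a8]⟩,
  ⟨512, [.a9], [.a9]⟩,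
  ⟨1024, [.a10], [.a10, .a11]⟩,
  ⟨2048, [.a11], [.a11]⟩]
theorem bad1370 (c : CtxF Goal γ) : Bad Goal γ [] P1370 :=
  c.toCtx.bnd (B := B1370) (D := D1370) (I := [3, 4, 2, 1, 5, 0, 6, 7]) (r := 5) (C := C1370) (N := N1370) (by decide +kernel) (by decide +kernel) (by decide +kernel) (by decide +kernel)
    (allB_cons (bad1066 c) (allB_cons (bad1116 c) (allB_cons (bad1116 c) (allB_cons (bad1112 c) (allB_cons (bad1115 c) (allB_cons (bad1117 c) (allB_cons (bad1117 c) (allB_cons (bad1118 c) (allB_cons (bad1119 c) (allB_cons (bad1120 c) (allB_cons (bad1121 c) (allB_cons (bad1118 c) (allB_cons (bad1119 c) (allB_cons (bad1121 c) (allB_cons (bad1120 c) (allB_cons (bad1122 c) (allB_cons (bad1091 c) (allB_cons (bad1123 c) (allB_cons (bad1123 c) (allB_cons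 (bad1072 c) (allB_cons (bad1124 c) (allB_cons (bad1125 c) (allB_cons (bad1125 c) (allB_cons (bad1118 c) (allB_cons (bad1119 c) (allB_cons (bad1121 c) (allB_cons (bad1120 c) (allB_cons (bad1118 c) (allB_cons (bad1119 c) (allB_cons (bad1120 c) (allB_cons (bad1121 c) (allB_nil))))))))))))))))))))))))))))))))

def P1371 : List Ent := [⟨4, [.a2, .a4], [.a2, .a4, .a5]⟩,
  ⟨8, [.a3], [.a3]⟩,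
  ⟨32, [.a5], [.a5]⟩,
  ⟨64, [.a6], [.a6]⟩,
  ⟨128, [.a7, .a10], [.a7, .a8, .a9, .a10, .a11]⟩,
  ⟨256, [.a8], [.a8]⟩,
  ⟨512, [.a9], [.a9]⟩,
  ⟨2048, [.a11], [.a11]⟩]
def B1371 : List Gv := [⟨[.a2, .a4], [.a2, .a4, .a5]⟩, ⟨[.a7, .a10], [.a7, .a8, .a9, .a10, .a11]⟩, ⟨[.a9], [.a9]⟩]
def D1371 : List Dv := [⟨[.a5], [0, 0], []⟩,
  ⟨[.a3, .a5, .a8], [2, 1], [1, 2]⟩,
  ⟨[.a8, .a9, .a11], [3, 3], []⟩,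
  ⟨[.a11], [5, 0, 2, 5, 3], [3, 5]⟩,
  ⟨[.a6], [2, 5], [5, 2]⟩,
  ⟨[.a8], [2], [7, 1]⟩,
  ⟨[.a3], [4], [5, 0]⟩]
def C1371 : List Ch := [⟨P1067, 0, [], []⟩,
  ⟨P1112, 1, [], []⟩,
  ⟨P1088, 0, [.a1], [.a1, .a2]⟩,
  ⟨P1126, 2, [], []⟩,
  ⟨P1127, 0, [], []⟩,
  ⟨P1126, 1, [.a10], [.a10, .a11]⟩,
  ⟨P1127, 0, [.a10], [.a10, .a11]⟩]
def N1371 : List Ent := [⟨4, [.a2, .a4], [.a2, .a4, .a5]⟩,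
  ⟨8, [.a3], [.a3]⟩,
  ⟨16, [.a4], [.a4, .a5]⟩,
  ⟨32, [.a5], [.a5]⟩,
  ⟨64, [.a6], [.a6]⟩,
  ⟨128, [.a7, .a10], [.a7, .a8, .a9, .a10, .a11]⟩,
  ⟨256, [.a8], [.a8]⟩,
  ⟨512, [.a9], [.a9]⟩,
  ⟨1024, [.a10], [.a10, .a11]⟩,
  ⟨2048, [.a11], [.a11]⟩]
theorem bad1371 (c : CtxF Goal γ) : Bad Goal γ [] P1371 :=
  c.toCtx.bnd (B := B1371) (D := D1371) (I := [7, 0, 6, 2, 8, 1, 9, 3]) (r := 3) (C := C1371) (N := N1371) (by decide +kernel) (by decide +kernel) (by decide +kernel) (by decide +kernel)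
    (allB_cons (bad1067 c) (allB_cons (bad1112 c) (allB_cons (bad1088 c) (allB_cons (bad1126 c) (allB_cons (bad1127 c) (allB_cons (bad1126 c) (allB_cons (bad1127 c) (allB_nil))))))))

def P1372 : List Ent := [⟨4, [.a2, .a4, .a10], [.a2, .a3, .a4, .a8, .a10, .a11]⟩,
  ⟨8, [.a3], [.a3]⟩,
  ⟨32, [.a5], [.a5]⟩,
  ⟨64, [.a6], [.a6]⟩,
  ⟨128, [.a7, .a10], [.a7, .a8, .a9, .a10, .a11]⟩,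
  ⟨256, [.a8], [.a8]⟩,
  ⟨512, [.a9], [.a9]⟩,
  ⟨2048, [.a11], [.a11]⟩]
def B1372 : List Gv := [⟨[.a2, .a4, .a10], [.a2, .a3, .a4, .a8, .a10, .a11]⟩, ⟨[.a3], [.a3]⟩, ⟨[.a7, .a10], [.a7, .a8, .a9, .a10, .a11]⟩]
def D1372 : List Dv := [⟨[.a5, .a6, .a8, .a11], [1, 0, 0], []⟩,
  ⟨[.a8, .a11], [0, 2, 1], [1, 2]⟩,
  ⟨[.a9], [3, 4, 2], [2, 4]⟩,
  ⟨[.a6], [5, 4], [4, 5]⟩,
  ⟨[.a11], [2, 3, 5], [5, 3]⟩,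
  ⟨[.a8], [3], [0]⟩,
  ⟨[.a5], [5], [2, 0, 1]⟩]
def C1372 : List Ch := [⟨P1067, 0, [], []⟩,
  ⟨P1128, 1, [], []⟩,
  ⟨P1129, 0, [], []⟩,
  ⟨P1092, 2, [.a1], [.a1, .a2]⟩,
  ⟨P1115, 0, [], []⟩,
  ⟨P1129, 1, [.a10], [.a10, .a11]⟩,
  ⟨P1128, 0, [.a10], [.a10, .a11]⟩]
def N1372 : List Ent := [⟨4, [.a2, .a4, .a10], [.a2, .a3, .a4, .a8, .a10, .a11]⟩,
  ⟨8, [.a3], [.a3]⟩,
  ⟨16, [.a4], [.a4, .a5]⟩,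
  ⟨32, [.a5], [.a5]⟩,
  ⟨64, [.a6], [.a6]⟩,
  ⟨128, [.a7, .a10], [.a7, .a8, .a9, .a10, .a11]⟩,
  ⟨256, [.a8], [.a8]⟩,
  ⟨512, [.a9], [.a9]⟩,
  ⟨1024, [.a10], [.a10, .a11]⟩,
  ⟨2048, [.a11], [.a11]⟩]
theorem bad1372 (c : CtxF Goal γ) : Bad Goal γ [] P1372 :=
  c.toCtx.bnd (B := B1372) (D := D1372) (I := [7, 8, 0, 3, 9, 1, 4, 2]) (r := 3) (C := C1372) (N := N1372) (by decide +kernel) (by decide +kernel) (by decide +kernel) (by decide +kernel)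
    (allB_cons (bad1067 c) (allB_cons (bad1128 c) (allB_cons (bad1129 c) (allB_cons (bad1092 c) (allB_cons (bad1115 c) (allB_cons (bad1129 c) (allB_cons (bad1128 c) (allB_nil))))))))

def P1373 : List Ent := [⟨4, [.a2], [.a2]⟩,
  ⟨8, [.a3], [.a3]⟩,
  ⟨16, [.a4], [.a4, .a5]⟩,
  ⟨32, [.a5], [.a5]⟩,
  ⟨64, [.a6], [.a6]⟩,
  ⟨256, [.a8], [.a8]⟩,
  ⟨1024, [.a10], [.a10, .a11]⟩,
  ⟨2048, [.a11], [.a11]⟩]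
def B1373 : List Gv := [⟨[.a2], [.a2]⟩, ⟨[.a4], [.a4, .a5]⟩, ⟨[.a10], [.a10, .a11]⟩]
def D1373 : List Dv := [⟨[.a5], [1, 1], []⟩,
  ⟨[.a3, .a6, .a8], [3, 1], [1, 3]⟩,
  ⟨[.a11], [4, 4], []⟩,
  ⟨[.a6, .a8], [2, 1, 5], [5, 1]⟩,
  ⟨[.a8], [1, 2], [2, 1]⟩,
  ⟨[.a6], [1], [0]⟩,
  ⟨[.a3], [4], [0, 1]⟩]
def C1373 : List Ch := [⟨P1068, 0, [], []⟩,
  ⟨P1085, 1, [], []⟩,
  ⟨P1110, 0, [], []⟩,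
  ⟨P1130, 2, [], []⟩,
  ⟨P1131, 0, [], []⟩,
  ⟨P1106, 1, [.a1], [.a1, .a2]⟩,
  ⟨P1126, 0, [.a1], [.a1, .a2]⟩]
def S1373 : List St := [.cent 1 1 0 [⟨16, [.a4], [.a4, .a5]⟩,
  ⟨32, [.a5], [.a5]⟩,
  ⟨256, [.a8], [.a8]⟩],
  .om 0 [⟨32, [.a5], [.a5]⟩,
  ⟨256, [.a8], [.a8]⟩] [[[.a5]], [[.a8]]]]
theorem bad1373 (c : CtxF Goal γ) : Bad Goal γ [] P1373 :=
  c.toCtx.chn (B := B1373) (D := D1373) (I := [7, 0, 8, 6, 1, 2, 9, 4]) (r := 3) (C := C1373) (l := S1373) (x := ⟨[.a9], [.a9]⟩) (ix := [0]) (by decide +kernel) (by decide +kernel) (by decide +kernel) (by decide +kernel)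
    (allB_cons (bad1068 c) (allB_cons (bad1085 c) (allB_cons (bad1110 c) (allB_cons (bad1130 c) (allB_cons (bad1131 c) (allB_cons (bad1106 c) (allB_cons (bad1126 c) (allB_nil))))))))

def P1374 : List Ent := [⟨4, [.a2, .a9], [.a2, .a5, .a9]⟩,
  ⟨8, [.a3], [.a3]⟩,
  ⟨16, [.a4], [.a4, .a5]⟩,
  ⟨32, [.a5], [.a5]⟩,
  ⟨64, [.a6], [.a6]⟩,
  ⟨256, [.a8], [.a8]⟩,
  ⟨1024, [.a10], [.a10, .a11]⟩,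
  ⟨2048, [.a11], [.a11]⟩]
def B1374 : List Gv := [⟨[.a2, .a9], [.a2, .a5, .a9]⟩, ⟨[.a4], [.a4, .a5]⟩, ⟨[.a10], [.a10, .a11]⟩]
def D1374 : List Dv := [⟨[.a5], [0, 0], []⟩,
  ⟨[.a8], [2, 1], [1, 2]⟩,
  ⟨[.a3, .a6, .a8], [4, 2], [2, 4]⟩,
  ⟨[.a11], [5, 5], []⟩,
  ⟨[.a6, .a8], [3, 1, 6], [6, 1]⟩,
  ⟨[.a6], [0], [3]⟩,
  ⟨[.a3], [3], [0, 4]⟩]
def C1374 : List Ch := [⟨P1068, 0, [], []⟩,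
  ⟨P1086, 1, [], []⟩,
  ⟨P1111, 0, [], []⟩,
  ⟨P1132, 2, [], []⟩,
  ⟨P1131, 0, [.a7], [.a7, .a8]⟩,
  ⟨P1107, 1, [.a1], [.a1, .a2]⟩,
  ⟨P1127, 0, [.a1], [.a1, .a2]⟩]
def S1374 : List St := [.cent 1 1 0 [⟨32, [.a5], [.a5]⟩,
  ⟨256, [.a8], [.a8]⟩]]
theorem bad1374 (c : CtxF Goal γ) : Bad Goal γ [] P1374 :=
  c.toCtx.chn (B := B1374) (D := D1374) (I := [7, 0, 8, 6, 1, 5, 9, 3]) (r := 3) (C := C1374) (l := S1374) (x := ⟨[.a9], [.a9]⟩) (ix := [0]) (by decide +kernel) (by decide +kernel) (by decide +kernel) (by decide +kernel)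
    (allB_cons (bad1068 c) (allB_cons (bad1086 c) (allB_cons (bad1111 c) (allB_cons (bad1132 c) (allB_cons (bad1131 c) (allB_cons (bad1107 c) (allB_cons (bad1127 c) (allB_nil))))))))

def P1375 : List Ent := [⟨4, [.a2], [.a2]⟩,
  ⟨8, [.a3], [.a3]⟩,
  ⟨16, [.a4, .a9], [.a4, .a5, .a8, .a9]⟩,
  ⟨32, [.a5], [.a5]⟩,
  ⟨64, [.a6], [.a6]⟩,
  ⟨256, [.a8], [.a8]⟩,
  ⟨1024, [.a10], [.a10, .a11]⟩,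
  ⟨2048, [.a11], [.a11]⟩]
def B1375 : List Gv := [⟨[.a2], [.a2]⟩, ⟨[.a4, .a9], [.a4, .a5, .a8, .a9]⟩, ⟨[.a10], [.a10, .a11]⟩]
def D1375 : List Dv := [⟨[.a5], [1, 0], [0, 1]⟩,
  ⟨[.a8], [0, 2, 2], []⟩,
  ⟨[.a3, .a6, .a8], [4, 2], [2, 4]⟩,
  ⟨[.a11], [5, 5], []⟩,
  ⟨[.a6, .a8], [3, 1, 6], [6, 1]⟩,
  ⟨[.a6], [0], [3]⟩,
  ⟨[.a3], [3], [0, 4]⟩]
def C1375 : List Ch := [⟨P1070, 0, [], []⟩,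
  ⟨P1085, 1, [], []⟩,
  ⟨P1111, 0, [], []⟩,
  ⟨P1133, 2, [], []⟩,
  ⟨P1134, 0, [], []⟩,
  ⟨P1106, 1, [.a1, .a10], [.a1, .a2, .a4, .a5, .a7, .a9, .a10, .a11]⟩,
  ⟨P1127, 0, [.a1, .a10], [.a1, .a2, .a4, .a5, .a7, .a9, .a10, .a11]⟩]
def S1375 : List St := [.cent 1 1 0 [⟨32, [.a5], [.a5]⟩,
  ⟨256, [.a8], [.a8]⟩]]
theorem bad1375 (c : CtxF Goal γ) : Bad Goal γ [] P1375 :=
  c.toCtx.chn (B := B1375) (D := D1375) (I := [7, 0, 8, 6, 1, 5, 9, 3]) (r := 3) (C := C1375) (l := S1375) (x := ⟨[.a9], [.a9]⟩) (ix := [0]) (by decide +kernel) (by decide +kernel) (by decide +kernel) (by decide +kernel)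
    (allB_cons (bad1070 c) (allB_cons (bad1085 c) (allB_cons (bad1111 c) (allB_cons (bad1133 c) (allB_cons (bad1134 c) (allB_cons (bad1106 c) (allB_cons (bad1127 c) (allB_nil))))))))

def P1376 : List Ent := [⟨4, [.a2, .a9], [.a2, .a5, .a9]⟩,
  ⟨8, [.a3], [.a3]⟩,
  ⟨16, [.a4, .a9], [.a4, .a5, .a8, .a9]⟩,
  ⟨32, [.a5], [.a5]⟩,
  ⟨64, [.a6], [.a6]⟩,
  ⟨256, [.a8], [.a8]⟩,
  ⟨1024, [.a10], [.a10, .a11]⟩,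
  ⟨2048, [.a11], [.a11]⟩]
def B1376 : List Gv := [⟨[.a2, .a9], [.a2, .a5, .a9]⟩, ⟨[.a4, .a9], [.a4, .a5, .a8, .a9]⟩, ⟨[.a10], [.a10, .a11]⟩]
def D1376 : List Dv := [⟨[.a5], [0, 0], []⟩,
  ⟨[.a8], [0, 2, 1], [1, 2]⟩,
  ⟨[.a3, .a6, .a8], [4, 2], [2, 4]⟩,
  ⟨[.a11], [5, 5], []⟩,
  ⟨[.a6, .a8], [3, 1, 6], [6, 1]⟩,
  ⟨[.a6], [0], [3]⟩,
  ⟨[.a3], [3], [0, 4]⟩]
def C1376 : List Ch := [⟨P1070, 0, [], []⟩,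
  ⟨P1086, 1, [], []⟩,
  ⟨P1110, 0, [], []⟩,
  ⟨P1135, 2, [], []⟩,
  ⟨P1134, 0, [.a7], [.a7, .a8]⟩,
  ⟨P1107, 1, [.a1, .a10], [.a1, .a2, .a4, .a5, .a7, .a9, .a10, .a11]⟩,
  ⟨P1126, 0, [.a1, .a10], [.a1, .a2, .a4, .a5, .a7, .a9, .a10, .a11]⟩]
def S1376 : List St := [.cent 1 1 0 [⟨32, [.a5], [.a5]⟩,
  ⟨256, [.a8], [.a8]⟩]]
theorem bad1376 (c : CtxF Goal γ) : Bad Goal γ [] P1376 :=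
  c.toCtx.chn (B := B1376) (D := D1376) (I := [7, 0, 8, 6, 1, 5, 9, 3]) (r := 3) (C := C1376) (l := S1376) (x := ⟨[.a9], [.a9]⟩) (ix := [0]) (by decide +kernel) (by decide +kernel) (by decide +kernel) (by decide +kernel)
    (allB_cons (bad1070 c) (allB_cons (bad1086 c) (allB_cons (bad1110 c) (allB_cons (bad1135 c) (allB_cons (bad1134 c) (allB_cons (bad1107 c) (allB_cons (bad1126 c) (allB_nil))))))))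

def P1377 : List Ent := [⟨4, [.a2], [.a2]⟩,
  ⟨8, [.a3], [.a3]⟩,
  ⟨16, [.a4], [.a4, .a5]⟩,
  ⟨32, [.a5], [.a5]⟩,
  ⟨64, [.a6], [.a6]⟩,
  ⟨256, [.a8], [.a8]⟩,
  ⟨512, [.a9], [.a9]⟩,
  ⟨2048, [.a11], [.a11]⟩]
def B1377 : List Gv := [⟨[.a2], [.a2]⟩, ⟨[.a3], [.a3]⟩, ⟨[.a4], [.a4, .a5]⟩, ⟨[.a9], [.a9]⟩, ⟨[.a11], [.a11]⟩]
def D1377 : List Dv := [⟨[.a5], [2, 2], []⟩,
  ⟨[.a8], [4, 3], [3, 4]⟩,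
  ⟨[.a6, .a8], [1, 6, 2], [2, 6]⟩,
  ⟨[.a6], [0], [1]⟩]
def C1377 : List Ch := [⟨P1072, 0, [], []⟩,
  ⟨P1136, 1, [], []⟩,
  ⟨P1136, 0, [.a10], [.a10, .a11]⟩,
  ⟨P1087, 2, [], []⟩,
  ⟨P1112, 0, [], []⟩,
  ⟨P1136, 1, [.a1], [.a1, .a2]⟩,
  ⟨P1136, 0, [.a1, .a10], [.a1, .a2, .a4, .a5, .a7, .a9, .a10, .a11]⟩,
  ⟨P1130, 3, [], []⟩,
  ⟨P1132, 0, [], []⟩,
  ⟨P1137, 1, [], []⟩,
  ⟨P1137, 0, [.a10], [.a10, .a11]⟩,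
  ⟨P1133, 2, [], []⟩,
  ⟨P1135, 0, [], []⟩,
  ⟨P1138, 1, [], []⟩,
  ⟨P1138, 0, [.a10], [.a10, .a11]⟩,
  ⟨P1139, 4, [], []⟩,
  ⟨P1140, 0, [], []⟩,
  ⟨P1141, 1, [], []⟩,
  ⟨P1141, 0, [.a10], [.a10, .a11]⟩,
  ⟨P1102, 2, [.a0], [.a0]⟩,
  ⟨P1082, 0, [.a0], [.a0]⟩,
  ⟨P1141, 1, [.a1], [.a1, .a2]⟩,
  ⟨P1141, 0, [.a1, .a10], [.a1, .a2, .a4, .a5, .a7, .a9, .a10, .a11]⟩,
  ⟨P1130, 3, [.a1], [.a1, .a2]⟩,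
  ⟨P1132, 0, [.a1], [.a1, .a2]⟩,
  ⟨P1138, 1, [.a1], [.a1, .a2]⟩,
  ⟨P1138, 0, [.a1, .a10], [.a1, .a2, .a4, .a5, .a7, .a9, .a10, .a11]⟩,
  ⟨P1133, 2, [.a1], [.a1, .a2]⟩,
  ⟨P1135, 0, [.a1], [.a1, .a2]⟩,
  ⟨P1137, 1, [.a1], [.a1, .a2]⟩,
  ⟨P1137, 0, [.a1, .a10], [.a1, .a2, .a4, .a5, .a7, .a9, .a10, .a11]⟩]
def N1377 : List Ent := [⟨2, [.a1], [.a1, .a2]⟩,
  ⟨4, [.a2], [.a2]⟩,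
  ⟨8, [.a3], [.a3]⟩,
  ⟨16, [.a4], [.a4, .a5]⟩,
  ⟨32, [.a5], [.a5]⟩,
  ⟨64, [.a6], [.a6]⟩,
  ⟨128, [.a7], [.a7, .a8]⟩,
  ⟨256, [.a8], [.a8]⟩,
  ⟨512, [.a9], [.a9]⟩,
  ⟨1024, [.a10], [.a10, .a11]⟩,
  ⟨2048, [.a11], [.a11]⟩]
theorem bad1377 (c : CtxF Goal γ) : Bad Goal γ [] P1377 :=
  c.toCtx.bnd (B := B1377) (D := D1377) (I := [4, 5, 6, 3, 0, 2, 7, 8]) (r := 5) (C := C1377) (N := N1377) (by decide +kernel) (by decide +kernel) (by decide +kernel) (by decide +kernel)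
    (allB_cons (bad1072 c) (allB_cons (bad1136 c) (allB_cons (bad1136 c) (allB_cons (bad1087 c) (allB_cons (bad1112 c) (allB_cons (bad1136 c) (allB_cons (bad1136 c) (allB_cons (bad1130 c) (allB_cons (bad1132 c) (allB_cons (bad1137 c) (allB_cons (bad1137 c) (allB_cons (bad1133 c) (allB_cons (bad1135 c) (allB_cons (bad1138 c) (allB_cons (bad1138 c) (allB_cons (bad1139 c) (allB_cons (bad1140 c) (allB_cons (bad1141 c) (allB_cons (bad1141 c) (allB_cons (bad1102 c) (allB_cons (bad1082 c) (allB_cons (bad1141 c) (allB_cons (bad1141 c) (allB_cons (bad1130 c) (allB_cons (bad1132 c) (allB_cons (bad1138 c) (allB_cons (bad1138 c) (allB_cons (bad1133 c) (allB_cons (bad1135 c) (allB_cons (bad1137 c) (allB_cons (bad1137 c) (allB_nil))))))))))))))))))))))))))))))))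

def P1378 : List Ent := [⟨4, [.a2, .a10], [.a2, .a3, .a5, .a8, .a10, .a11]⟩,
  ⟨8, [.a3], [.a3]⟩,
  ⟨16, [.a4], [.a4, .a5]⟩,
  ⟨32, [.a5], [.a5]⟩,
  ⟨64, [.a6], [.a6]⟩,
  ⟨256, [.a8], [.a8]⟩,
  ⟨512, [.a9], [.a9]⟩,
  ⟨2048, [.a11], [.a11]⟩]
def B1378 : List Gv := [⟨[.a2, .a10], [.a2, .a3, .a5, .a8, .a10, .a11]⟩, ⟨[.a3], [.a3]⟩, ⟨[.a4], [.a4, .a5]⟩, ⟨[.a9], [.a9]⟩]
def D1378 : List Dv := [⟨[.a6, .a8, .a11], [1, 0, 0], []⟩,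
  ⟨[.a5, .a6], [2, 1], [1, 2]⟩,
  ⟨[.a8, .a11], [1, 0, 4, 4], []⟩,
  ⟨[.a11], [0, 6, 5], [5, 6]⟩,
  ⟨[.a8], [1], [0]⟩,
  ⟨[.a6], [4], [0, 1]⟩,
  ⟨[.a5], [4], [0]⟩]
def C1378 : List Ch := [⟨P1072, 0, [], []⟩,
  ⟨P1142, 1, [], []⟩,
  ⟨P1142, 0, [.a10], [.a10, .a11]⟩,
  ⟨P1088, 2, [], []⟩,
  ⟨P1092, 0, [.a1], [.a1, .a2]⟩,
  ⟨P1143, 1, [], []⟩,
  ⟨P1143, 0, [.a10], [.a10, .a11]⟩,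
  ⟨P1131, 3, [], []⟩,
  ⟨P1131, 0, [.a7], [.a7, .a8]⟩,
  ⟨P1144, 1, [], []⟩,
  ⟨P1144, 0, [.a10], [.a10, .a11]⟩,
  ⟨P1134, 2, [], []⟩,
  ⟨P1134, 0, [.a7], [.a7, .a8]⟩,
  ⟨P1145, 1, [], []⟩,
  ⟨P1145, 0, [.a10], [.a10, .a11]⟩]
def S1378 : List St := [.cent 1 1 0 [⟨32, [.a5], [.a5]⟩,
  ⟨256, [.a8], [.a8]⟩],
  .om 2 [⟨8, [.a3], [.a3]⟩,
  ⟨32, [.a5], [.a5]⟩,
  ⟨64, [.a6], [.a6]⟩,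
  ⟨256, [.a8], [.a8]⟩,
  ⟨512, [.a9], [.a9]⟩,
  ⟨2048, [.a11], [.a11]⟩] [[[.a3]], [[.a5]], [[.a6]], [[.a8]], [[.a9]], [[.a11]]]]
theorem bad1378 (c : CtxF Goal γ) : Bad Goal γ [] P1378 :=
  c.toCtx.chn (B := B1378) (D := D1378) (I := [7, 8, 9, 0, 1, 2, 10, 3]) (r := 4) (C := C1378) (l := S1378) (x := ⟨[.a7], [.a7, .a8]⟩) (ix := [0, 1]) (by decide +kernel) (by decide +kernel) (by decide +kernel) (by decide +kernel)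
    (allB_cons (bad1072 c) (allB_cons (bad1142 c) (allB_cons (bad1142 c) (allB_cons (bad1088 c) (allB_cons (bad1092 c) (allB_cons (bad1143 c) (allB_cons (bad1143 c) (allB_cons (bad1131 c) (allB_cons (bad1131 c) (allB_cons (bad1144 c) (allB_cons (bad1144 c) (allB_cons (bad1134 c) (allB_cons (bad1134 c) (allB_cons (bad1145 c) (allB_cons (bad1145 c) (allB_nil))))))))))))))))

def P1379 : List Ent := [⟨4, [.a2, .a7], [.a2, .a7, .a8]⟩,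
  ⟨8, [.a3, .a9], [.a3, .a9]⟩,
  ⟨16, [.a4], [.a4, .a5]⟩,
  ⟨32, [.a5], [.a5]⟩,
  ⟨64, [.a6], [.a6]⟩,
  ⟨256, [.a8], [.a8]⟩,
  ⟨1024, [.a10], [.a10, .a11]⟩,
  ⟨2048, [.a11], [.a11]⟩]
def B1379 : List Gv := [⟨[.a2, .a7], [.a2, .a7, .a8]⟩, ⟨[.a4], [.a4, .a5]⟩, ⟨[.a10], [.a10, .a11]⟩]
def D1379 : List Dv := [⟨[.a8], [0, 0], []⟩,
  ⟨[.a6], [2, 1], [1, 2]⟩,
  ⟨[.a5], [3, 3], []⟩,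
  ⟨[.a3, .a5, .a6, .a8, .a9], [5, 3], [3, 5]⟩,
  ⟨[.a11], [6, 6], []⟩,
  ⟨[.a3, .a9], [1], [2, 3, 4]⟩]
def C1379 : List Ch := [⟨P1069, 0, [], []⟩,
  ⟨P1089, 1, [], []⟩,
  ⟨P1113, 0, [], []⟩,
  ⟨P1117, 2, [.a0], [.a0]⟩,
  ⟨P1145, 0, [.a1], [.a1, .a2]⟩,
  ⟨P1108, 1, [.a1], [.a1, .a2]⟩,
  ⟨P1129, 0, [.a1], [.a1, .a2]⟩]
def S1379 : List St := [.cent 1 1 0 [⟨32, [.a5], [.a5]⟩,
  ⟨256, [.a8], [.a8]⟩]]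
theorem bad1379 (c : CtxF Goal γ) : Bad Goal γ [] P1379 :=
  c.toCtx.chn (B := B1379) (D := D1379) (I := [6, 0, 7, 3, 4, 5, 8, 1]) (r := 3) (C := C1379) (l := S1379) (x := ⟨[.a9], [.a9]⟩) (ix := [0]) (by decide +kernel) (by decide +kernel) (by decide +kernel) (by decide +kernel)
    (allB_cons (bad1069 c) (allB_cons (bad1089 c) (allB_cons (bad1113 c) (allB_cons (bad1117 c) (allB_cons (bad1145 c) (allB_cons (bad1108 c) (allB_cons (bad1129 c) (allB_nil))))))))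

def P1380 : List Ent := [⟨4, [.a2, .a7, .a9], [.a2, .a5, .a7, .a8, .a9]⟩,
  ⟨8, [.a3, .a9], [.a3, .a9]⟩,
  ⟨16, [.a4], [.a4, .a5]⟩,
  ⟨32, [.a5], [.a5]⟩,
  ⟨64, [.a6], [.a6]⟩,
  ⟨256, [.a8], [.a8]⟩,
  ⟨1024, [.a10], [.a10, .a11]⟩,
  ⟨2048, [.a11], [.a11]⟩]
def B1380 : List Gv := [⟨[.a2, .a7, .a9], [.a2, .a5, .a7, .a8, .a9]⟩, ⟨[.a4], [.a4, .a5]⟩, ⟨[.a10], [.a10, .a11]⟩]
def D1380 : List Dv := [⟨[.a5, .a8], [0, 0], []⟩,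
  ⟨[.a6, .a8], [2, 1], [1, 2]⟩,
  ⟨[.a8], [1, 3, 3], []⟩,
  ⟨[.a3, .a5, .a6, .a8, .a9], [5, 3], [3, 5]⟩,
  ⟨[.a11], [6, 6], []⟩,
  ⟨[.a6], [3], [2]⟩,
  ⟨[.a5], [5], [3]⟩,
  ⟨[.a3, .a9], [3], [0, 1, 4]⟩]
def C1380 : List Ch := [⟨P1069, 0, [], []⟩,
  ⟨P1090, 1, [], []⟩,
  ⟨P1114, 0, [], []⟩,
  ⟨P1123, 2, [.a0], [.a0]⟩,
  ⟨P1145, 0, [.a1, .a10], [.a1, .a2, .a4, .a5, .a7, .a9, .a10, .a11]⟩,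
  ⟨P1109, 1, [.a1], [.a1, .a2]⟩,
  ⟨P1128, 0, [.a1], [.a1, .a2]⟩]
def S1380 : List St := [.cent 1 1 0 [⟨32, [.a5], [.a5]⟩,
  ⟨256, [.a8], [.a8]⟩]]
theorem bad1380 (c : CtxF Goal γ) : Bad Goal γ [] P1380 :=
  c.toCtx.chn (B := B1380) (D := D1380) (I := [8, 0, 9, 1, 2, 5, 10, 3]) (r := 3) (C := C1380) (l := S1380) (x := ⟨[.a9], [.a9]⟩) (ix := [0]) (by decide +kernel) (by decide +kernel) (by decide +kernel) (by decide +kernel)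
    (allB_cons (bad1069 c) (allB_cons (bad1090 c) (allB_cons (bad1114 c) (allB_cons (bad1123 c) (allB_cons (bad1145 c) (allB_cons (bad1109 c) (allB_cons (bad1128 c) (allB_nil))))))))

def P1381 : List Ent := [⟨4, [.a2, .a7], [.a2, .a7, .a8]⟩,
  ⟨8, [.a3, .a9], [.a3, .a9]⟩,
  ⟨16, [.a4, .a9], [.a4, .a5, .a8, .a9]⟩,
  ⟨32, [.a5], [.a5]⟩,
  ⟨64, [.a6], [.a6]⟩,
  ⟨256, [.a8], [.a8]⟩,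
  ⟨1024, [.a10], [.a10, .a11]⟩,
  ⟨2048, [.a11], [.a11]⟩]
def B1381 : List Gv := [⟨[.a2, .a7], [.a2, .a7, .a8]⟩, ⟨[.a4, .a9], [.a4, .a5, .a8, .a9]⟩, ⟨[.a10], [.a10, .a11]⟩]
def D1381 : List Dv := [⟨[.a8], [0, 0], []⟩,
  ⟨[.a5, .a6], [2, 1], [1, 2]⟩,
  ⟨[.a6, .a8], [0, 3, 3], []⟩,
  ⟨[.a3, .a5, .a6, .a8, .a9], [5, 3], [3, 5]⟩,
  ⟨[.a11], [6, 6], []⟩,
  ⟨[.a6], [2], [4]⟩,
  ⟨[.a5], [4], [0]⟩,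
  ⟨[.a3, .a9], [3], [0, 1, 6]⟩]
def C1381 : List Ch := [⟨P1071, 0, [], []⟩,
  ⟨P1089, 1, [], []⟩,
  ⟨P1114, 0, [], []⟩,
  ⟨P1125, 2, [.a0, .a1], [.a0, .a1, .a2]⟩,
  ⟨P1144, 0, [.a1, .a10], [.a1, .a2, .a4, .a5, .a7, .a9, .a10, .a11]⟩,
  ⟨P1108, 1, [.a1, .a10], [.a1, .a2, .a4, .a5, .a7, .a9, .a10, .a11]⟩,
  ⟨P1128, 0, [.a1, .a10], [.a1, .a2, .a4, .a5, .a7, .a9, .a10, .a11]⟩]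
def S1381 : List St := [.cent 1 1 0 [⟨32, [.a5], [.a5]⟩,
  ⟨256, [.a8], [.a8]⟩]]
theorem bad1381 (c : CtxF Goal γ) : Bad Goal γ [] P1381 :=
  c.toCtx.chn (B := B1381) (D := D1381) (I := [8, 0, 9, 1, 2, 7, 10, 3]) (r := 3) (C := C1381) (l := S1381) (x := ⟨[.a9], [.a9]⟩) (ix := [0]) (by decide +kernel) (by decide +kernel) (by decide +kernel) (by decide +kernel)
    (allB_cons (bad1071 c) (allB_cons (bad1089 c) (allB_cons (bad1114 c) (allB_cons (bad1125 c) (allB_cons (bad1144 c) (allB_cons (bad1108 c) (allB_cons (bad1128 c) (allB_nil))))))))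

def P1382 : List Ent := [⟨4, [.a2, .a7, .a9], [.a2, .a5, .a7, .a8, .a9]⟩,
  ⟨8, [.a3, .a9], [.a3, .a9]⟩,
  ⟨16, [.a4, .a9], [.a4, .a5, .a8, .a9]⟩,
  ⟨32, [.a5], [.a5]⟩,
  ⟨64, [.a6], [.a6]⟩,
  ⟨256, [.a8], [.a8]⟩,
  ⟨1024, [.a10], [.a10, .a11]⟩,
  ⟨2048, [.a11], [.a11]⟩]
def B1382 : List Gv := [⟨[.a2, .a7, .a9], [.a2, .a5, .a7, .a8, .a9]⟩, ⟨[.a4, .a9], [.a4, .a5, .a8, .a9]⟩, ⟨[.a10], [.a10, .a11]⟩]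
def D1382 : List Dv := [⟨[.a5, .a8], [0, 0], []⟩,
  ⟨[.a6], [0, 2, 1], [1, 2]⟩,
  ⟨[.a3, .a5, .a6, .a8, .a9], [4, 2], [2, 4]⟩,
  ⟨[.a11], [5, 5], []⟩,
  ⟨[.a8], [2, 6], [6, 2]⟩,
  ⟨[.a5], [4], [0]⟩,
  ⟨[.a3, .a9], [3], [0, 4, 1]⟩]
def C1382 : List Ch := [⟨P1071, 0, [], []⟩,
  ⟨P1090, 1, [], []⟩,
  ⟨P1113, 0, [], []⟩,
  ⟨P1116, 2, [.a0, .a1], [.a0, .a1, .a2]⟩,
  ⟨P1144, 0, [.a1], [.a1, .a2]⟩,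
  ⟨P1109, 1, [.a1, .a10], [.a1, .a2, .a4, .a5, .a7, .a9, .a10, .a11]⟩,
  ⟨P1129, 0, [.a1, .a10], [.a1, .a2, .a4, .a5, .a7, .a9, .a10, .a11]⟩]
def S1382 : List St := [.cent 1 1 0 [⟨16, [.a4, .a9, .a11], [.a4, .a5, .a8, .a9, .a11]⟩,
  ⟨32, [.a5], [.a5]⟩,
  ⟨256, [.a8], [.a8]⟩],
  .om 0 [⟨32, [.a5], [.a5]⟩,
  ⟨256, [.a8], [.a8]⟩] [[[.a5]], [[.a8]]]]
theorem bad1382 (c : CtxF Goal γ) : Bad Goal γ [] P1382 :=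
  c.toCtx.chn (B := B1382) (D := D1382) (I := [7, 0, 8, 1, 5, 2, 9, 3]) (r := 3) (C := C1382) (l := S1382) (x := ⟨[.a9], [.a9]⟩) (ix := [0]) (by decide +kernel) (by decide +kernel) (by decide +kernel) (by decide +kernel)
    (allB_cons (bad1071 c) (allB_cons (bad1090 c) (allB_cons (bad1113 c) (allB_cons (bad1116 c) (allB_cons (bad1144 c) (allB_cons (bad1109 c) (allB_cons (bad1129 c) (allB_nil))))))))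

def P1383 : List Ent := [⟨4, [.a2], [.a2]⟩,
  ⟨8, [.a3], [.a3]⟩,
  ⟨16, [.a4, .a7], [.a4, .a5, .a6, .a7, .a8]⟩,
  ⟨32, [.a5], [.a5]⟩,
  ⟨64, [.a6], [.a6]⟩,
  ⟨256, [.a8], [.a8]⟩,
  ⟨512, [.a9], [.a9]⟩,
  ⟨2048, [.a11], [.a11]⟩]
def B1383 : List Gv := [⟨[.a2], [.a2]⟩, ⟨[.a3], [.a3]⟩, ⟨[.a4, .a7], [.a4, .a5, .a6, .a7, .a8]⟩, ⟨[.a9], [.a9]⟩, ⟨[.a11], [.a11]⟩]
def D1383 : List Dv := [⟨[.a5], [2, 1], [1, 2]⟩,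
  ⟨[.a6, .a8], [0, 3, 3], []⟩,
  ⟨[.a8], [5, 4], [4, 5]⟩,
  ⟨[.a6], [1], [0]⟩]
def C1383 : List Ch := [⟨P1074, 0, [], []⟩,
  ⟨P1146, 1, [], []⟩,
  ⟨P1146, 0, [.a10], [.a10, .a11]⟩,
  ⟨P1087, 2, [], []⟩,
  ⟨P1115, 0, [], []⟩,
  ⟨P1146, 1, [.a1], [.a1, .a2]⟩,
  ⟨P1146, 0, [.a1, .a10], [.a1, .a2, .a4, .a5, .a7, .a9, .a10, .a11]⟩,
  ⟨P1147, 3, [], []⟩,
  ⟨P1148, 0, [], []⟩,
  ⟨P1146, 1, [.a0, .a1], [.a0, .a1, .a2]⟩,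
  ⟨P1149, 0, [], []⟩,
  ⟨P1147, 2, [.a10], [.a10, .a11]⟩,
  ⟨P1148, 0, [.a10], [.a10, .a11]⟩,
  ⟨P1149, 1, [.a10], [.a10, .a11]⟩,
  ⟨P1146, 0, [.a0, .a10], [.a0, .a1, .a2, .a3, .a4, .a6, .a8, .a9, .a10, .a11]⟩,
  ⟨P1150, 4, [], []⟩,
  ⟨P1074, 0, [.a0], [.a0]⟩,
  ⟨P1149, 1, [.a0, .a10], [.a0, .a1, .a2, .a3, .a4, .a6, .a8, .a9, .a10, .a11]⟩,
  ⟨P1149, 0, [.a0, .a1], [.a0, .a1, .a2]⟩,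
  ⟨P1087, 2, [.a0], [.a0]⟩,
  ⟨P1151, 0, [], []⟩,
  ⟨P1149, 1, [.a0, .a1, .a3, .a5, .a6, .a7, .a8, .a9, .a10], [.a0, .a10, .a11]⟩,
  ⟨P1149, 0, [.a0], [.a0]⟩,
  ⟨P1147, 3, [.a0], [.a0]⟩,
  ⟨P1148, 0, [.a1], [.a1, .a2]⟩,
  ⟨P1149, 1, [.a1, .a10], [.a1, .a2, .a4, .a5, .a7, .a9, .a10, .a11]⟩,
  ⟨P1146, 0, [.a0, .a1, .a3, .a5, .a6, .a7, .a8, .a9, .a10], [.a0, .a10, .a11]⟩,
  ⟨P1147, 2, [.a0, .a1, .a3, .a5, .a6, .a7, .a8, .a9, .a10], [.a0, .a10, .a11]⟩,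
  ⟨P1148, 0, [.a0, .a10], [.a0, .a1, .a2, .a3, .a4, .a6, .a8, .a9, .a10, .a11]⟩,
  ⟨P1146, 1, [.a0], [.a0]⟩,
  ⟨P1149, 0, [.a1], [.a1, .a2]⟩]
def N1383 : List Ent := [⟨1, [.a0], [.a0]⟩,
  ⟨2, [.a1], [.a1, .a2]⟩,
  ⟨4, [.a2], [.a2]⟩,
  ⟨8, [.a3], [.a3]⟩,
  ⟨16, [.a4, .a7], [.a4, .a5, .a6, .a7, .a8]⟩,
  ⟨32, [.a5], [.a5]⟩,
  ⟨64, [.a6], [.a6]⟩,
  ⟨128, [.a7], [.a7, .a8]⟩,
  ⟨256, [.a8], [.a8]⟩,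
  ⟨512, [.a9], [.a9]⟩,
  ⟨1024, [.a10], [.a10, .a11]⟩,
  ⟨2048, [.a11], [.a11]⟩]
theorem bad1383 (c : CtxF Goal γ) : Bad Goal γ [] P1383 :=
  c.toCtx.bnd (B := B1383) (D := D1383) (I := [4, 5, 6, 3, 0, 1, 7, 8]) (r := 5) (C := C1383) (N := N1383) (by decide +kernel) (by decide +kernel) (by decide +kernel) (by decide +kernel)
    (allB_cons (bad1074 c) (allB_cons (bad1146 c) (allB_cons (bad1146 c) (allB_cons (bad1087 c) (allB_cons (bad1115 c) (allB_cons (bad1146 c) (allB_cons (bad1146 c) (allB_cons (bad1147 c) (allB_cons (bad1148 c) (allB_cons (bad1146 c) (allB_cons (bad1149 c) (allB_cons (bad1147 c) (allB_cons (bad1148 c) (allB_cons (bad1149 c) (allB_cons (bad1146 c) (allB_cons (bad1150 c) (allB_cons (bad1074 c) (allB_cons (bad1149 c) (allB_cons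 (bad1149 c) (allB_cons (bad1087 c) (allB_cons (bad1151 c) (allB_cons (bad1149 c) (allB_cons (bad1149 c) (allB_cons (bad1147 c) (allB_cons (bad1148 c) (allB_cons (bad1149 c) (allB_cons (bad1146 c) (allB_cons (bad1147 c) (allB_cons (bad1148 c) (allB_cons (bad1146 c) (allB_cons (bad1149 c) (allB_nil))))))))))))))))))))))))))))))))

def P1384 : List Ent := [⟨4, [.a2, .a10], [.a2, .a3, .a5, .a8, .a10, .a11]⟩,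
  ⟨8, [.a3], [.a3]⟩,
  ⟨16, [.a4, .a7], [.a4, .a5, .a6, .a7, .a8]⟩,
  ⟨32, [.a5], [.a5]⟩,
  ⟨64, [.a6], [.a6]⟩,
  ⟨256, [.a8], [.a8]⟩,
  ⟨512, [.a9], [.a9]⟩,
  ⟨2048, [.a11], [.a11]⟩]
def B1384 : List Gv := [⟨[.a2, .a10], [.a2, .a3, .a5, .a8, .a10, .a11]⟩, ⟨[.a3], [.a3]⟩, ⟨[.a4, .a7], [.a4, .a5, .a6, .a7, .a8]⟩]
def D1384 : List Dv := [⟨[.a6, .a8, .a11], [1, 0, 0], []⟩,
  ⟨[.a5, .a6], [2, 1], [1, 2]⟩,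
  ⟨[.a9, .a11], [1, 0, 4, 2], [2, 4]⟩,
  ⟨[.a8, .a11], [2, 1, 5, 4], [4, 5]⟩,
  ⟨[.a11], [0, 2, 6, 6], []⟩,
  ⟨[.a9], [2], [0]⟩,
  ⟨[.a8], [2], [1]⟩,
  ⟨[.a6], [6], [0, 2]⟩,
  ⟨[.a5], [6], [0]⟩]
def C1384 : List Ch := [⟨P1074, 0, [], []⟩,
  ⟨P1152, 1, [], []⟩,
  ⟨P1152, 0, [.a10], [.a10, .a11]⟩,
  ⟨P1088, 2, [], []⟩,
  ⟨P1088, 0, [.a1], [.a1, .a2]⟩,
  ⟨P1152, 1, [.a1, .a10], [.a1, .a2, .a4, .a5, .a7, .a9, .a10, .a11]⟩,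
  ⟨P1152, 0, [.a1], [.a1, .a2]⟩]
def N1384 : List Ent := [⟨2, [.a1], [.a1, .a2]⟩,
  ⟨4, [.a2, .a10], [.a2, .a3, .a5, .a8, .a10, .a11]⟩,
  ⟨8, [.a3], [.a3]⟩,
  ⟨16, [.a4, .a7], [.a4, .a5, .a6, .a7, .a8]⟩,
  ⟨32, [.a5], [.a5]⟩,
  ⟨64, [.a6], [.a6]⟩,
  ⟨128, [.a7], [.a7, .a8]⟩,
  ⟨256, [.a8], [.a8]⟩,
  ⟨512, [.a9], [.a9]⟩,
  ⟨1024, [.a10], [.a10, .a11]⟩,
  ⟨2048, [.a11], [.a11]⟩]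
theorem bad1384 (c : CtxF Goal γ) : Bad Goal γ [] P1384 :=
  c.toCtx.bnd (B := B1384) (D := D1384) (I := [9, 10, 11, 0, 1, 2, 3, 4]) (r := 3) (C := C1384) (N := N1384) (by decide +kernel) (by decide +kernel) (by decide +kernel) (by decide +kernel)
    (allB_cons (bad1074 c) (allB_cons (bad1152 c) (allB_cons (bad1152 c) (allB_cons (bad1088 c) (allB_cons (bad1088 c) (allB_cons (bad1152 c) (allB_cons (bad1152 c) (allB_nil))))))))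

def P1385 : List Ent := [⟨4, [.a2, .a7], [.a2, .a7, .a8]⟩,
  ⟨8, [.a3], [.a3]⟩,
  ⟨16, [.a4, .a7], [.a4, .a5, .a6, .a7, .a8]⟩,
  ⟨32, [.a5], [.a5]⟩,
  ⟨64, [.a6], [.a6]⟩,
  ⟨256, [.a8], [.a8]⟩,
  ⟨512, [.a9], [.a9]⟩,
  ⟨2048, [.a11], [.a11]⟩]
def B1385 : List Gv := [⟨[.a2, .a7], [.a2, .a7, .a8]⟩, ⟨[.a3], [.a3]⟩, ⟨[.a4, .a7], [.a4, .a5, .a6, .a7, .a8]⟩, ⟨[.a9], [.a9]⟩, ⟨[.a11], [.a11]⟩]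
def D1385 : List Dv := [⟨[.a8], [0, 0], []⟩,
  ⟨[.a5], [2, 1], [1, 2]⟩,
  ⟨[.a6], [4, 2], [2, 4]⟩]
def C1385 : List Ch := [⟨P1074, 0, [], []⟩,
  ⟨P1153, 1, [], []⟩,
  ⟨P1153, 0, [.a10], [.a10, .a11]⟩,
  ⟨P1091, 2, [], []⟩,
  ⟨P1112, 0, [], []⟩,
  ⟨P1153, 1, [.a1], [.a1, .a2]⟩,
  ⟨P1153, 0, [.a1, .a10], [.a1, .a2, .a4, .a5, .a7, .a9, .a10, .a11]⟩,
  ⟨P1154, 3, [], []⟩,
  ⟨P1155, 0, [], []⟩,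
  ⟨P1156, 1, [], []⟩,
  ⟨P1157, 0, [], []⟩,
  ⟨P1155, 2, [.a10], [.a10, .a11]⟩,
  ⟨P1154, 0, [.a10], [.a10, .a11]⟩,
  ⟨P1156, 1, [.a10], [.a10, .a11]⟩,
  ⟨P1157, 0, [.a10], [.a10, .a11]⟩,
  ⟨P1079, 4, [.a0], [.a0]⟩,
  ⟨P1158, 0, [], []⟩,
  ⟨P1159, 1, [], []⟩,
  ⟨P1159, 0, [.a10], [.a10, .a11]⟩,
  ⟨P1100, 2, [.a0], [.a0]⟩,
  ⟨P1140, 0, [.a0], [.a0]⟩,
  ⟨P1159, 1, [.a1], [.a1, .a2]⟩,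
  ⟨P1159, 0, [.a1, .a10], [.a1, .a2, .a4, .a5, .a7, .a9, .a10, .a11]⟩,
  ⟨P1154, 3, [.a1], [.a1, .a2]⟩,
  ⟨P1155, 0, [.a1], [.a1, .a2]⟩,
  ⟨P1156, 1, [.a1, .a10], [.a1, .a2, .a4, .a5, .a7, .a9, .a10, .a11]⟩,
  ⟨P1157, 0, [.a1, .a10], [.a1, .a2, .a4, .a5, .a7, .a9, .a10, .a11]⟩,
  ⟨P1155, 2, [.a1, .a10], [.a1, .a2, .a4, .a5, .a7, .a9, .a10, .a11]⟩,
  ⟨P1154, 0, [.a1, .a10], [.a1, .a2, .a4, .a5, .a7, .a9, .a10, .a11]⟩,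
  ⟨P1156, 1, [.a1], [.a1, .a2]⟩,
  ⟨P1157, 0, [.a1], [.a1, .a2]⟩]
def N1385 : List Ent := [⟨2, [.a1], [.a1, .a2]⟩,
  ⟨4, [.a2, .a7], [.a2, .a7, .a8]⟩,
  ⟨8, [.a3], [.a3]⟩,
  ⟨16, [.a4, .a7], [.a4, .a5, .a6, .a7, .a8]⟩,
  ⟨32, [.a5], [.a5]⟩,
  ⟨64, [.a6], [.a6]⟩,
  ⟨128, [.a7], [.a7, .a8]⟩,
  ⟨256, [.a8], [.a8]⟩,
  ⟨512, [.a9], [.a9]⟩,
  ⟨1024, [.a10], [.a10, .a11]⟩,
  ⟨2048, [.a11], [.a11]⟩]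
theorem bad1385 (c : CtxF Goal γ) : Bad Goal γ [] P1385 :=
  c.toCtx.bnd (B := B1385) (D := D1385) (I := [3, 4, 5, 1, 0, 2, 6, 7]) (r := 5) (C := C1385) (N := N1385) (by decide +kernel) (by decide +kernel) (by decide +kernel) (by decide +kernel)
    (allB_cons (bad1074 c) (allB_cons (bad1153 c) (allB_cons (bad1153 c) (allB_cons (bad1091 c) (allB_cons (bad1112 c) (allB_cons (bad1153 c) (allB_cons (bad1153 c) (allB_cons (bad1154 c) (allB_cons (bad1155 c) (allB_cons (bad1156 c) (allB_cons (bad1157 c) (allB_cons (bad1155 c) (allB_cons (bad1154 c) (allB_cons (bad1156 c) (allB_cons (bad1157 c) (allB_cons (bad1079 c) (allB_cons (bad1158 c) (allB_cons (bad1159 c) (allB_cons (bad1159 c) (allB_cons (bad1100 c) (allB_cons (bad1140 c) (allB_cons (bad1159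 c) (allB_cons (bad1159 c) (allB_cons (bad1154 c) (allB_cons (bad1155 c) (allB_cons (bad1156 c) (allB_cons (bad1157 c) (allB_cons (bad1155 c) (allB_cons (bad1154 c) (allB_cons (bad1156 c) (allB_cons (bad1157 c) (allB_nil))))))))))))))))))))))))))))))))

def P1386 : List Ent := [⟨4, [.a2, .a7, .a10], [.a2, .a3, .a5, .a7, .a9, .a10, .a11]⟩,
  ⟨8, [.a3], [.a3]⟩,
  ⟨16, [.a4, .a7], [.a4, .a5, .a6, .a7, .a8]⟩,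
  ⟨32, [.a5], [.a5]⟩,
  ⟨64, [.a6], [.a6]⟩,
  ⟨256, [.a8], [.a8]⟩,
  ⟨512, [.a9], [.a9]⟩,
  ⟨2048, [.a11], [.a11]⟩]
def B1386 : List Gv := [⟨[.a2, .a7, .a10], [.a2, .a3, .a5, .a7, .a9, .a10, .a11]⟩, ⟨[.a3], [.a3]⟩, ⟨[.a4, .a7], [.a4, .a5, .a6, .a7, .a8]⟩]
def D1386 : List Dv := [⟨[.a5, .a6, .a9, .a11], [1, 0, 0], []⟩,
  ⟨[.a6], [2, 1], [1, 2]⟩,
  ⟨[.a8, .a11], [1, 4, 2], [2, 4]⟩,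
  ⟨[.a9, .a11], [1, 2, 5, 4], [4, 5]⟩,
  ⟨[.a11], [0, 1, 3, 6, 6], []⟩,
  ⟨[.a9], [1], [0]⟩,
  ⟨[.a8], [3], [1]⟩,
  ⟨[.a5], [6], [5, 1, 2]⟩]
def C1386 : List Ch := [⟨P1074, 0, [], []⟩,
  ⟨P1160, 1, [], []⟩,
  ⟨P1160, 0, [.a10], [.a10, .a11]⟩,
  ⟨P1092, 2, [], []⟩,
  ⟨P1092, 0, [.a1], [.a1, .a2]⟩,
  ⟨P1160, 1, [.a1, .a10], [.a1, .a2, .a4, .a5, .a7, .a9, .a10, .a11]⟩,
  ⟨P1160, 0, [.a1], [.a1, .a2]⟩]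
def N1386 : List Ent := [⟨2, [.a1], [.a1, .a2]⟩,
  ⟨4, [.a2, .a7, .a10], [.a2, .a3, .a5, .a7, .a9, .a10, .a11]⟩,
  ⟨8, [.a3], [.a3]⟩,
  ⟨16, [.a4, .a7], [.a4, .a5, .a6, .a7, .a8]⟩,
  ⟨32, [.a5], [.a5]⟩,
  ⟨64, [.a6], [.a6]⟩,
  ⟨128, [.a7], [.a7, .a8]⟩,
  ⟨256, [.a8], [.a8]⟩,
  ⟨512, [.a9], [.a9]⟩,
  ⟨1024, [.a10], [.a10, .a11]⟩,
  ⟨2048, [.a11], [.a11]⟩]
theorem bad1386 (c : CtxF Goal γ) : Bad Goal γ [] P1386 :=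
  c.toCtx.bnd (B := B1386) (D := D1386) (I := [8, 9, 10, 0, 6, 1, 2, 3]) (r := 3) (C := C1386) (N := N1386) (by decide +kernel) (by decide +kernel) (by decide +kernel) (by decide +kernel)
    (allB_cons (bad1074 c) (allB_cons (bad1160 c) (allB_cons (bad1160 c) (allB_cons (bad1092 c) (allB_cons (bad1092 c) (allB_cons (bad1160 c) (allB_cons (bad1160 c) (allB_nil))))))))

def P1387 : List Ent := [⟨4, [.a2], [.a2]⟩,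
  ⟨16, [.a4], [.a4, .a5]⟩,
  ⟨32, [.a5], [.a5]⟩,
  ⟨64, [.a6], [.a6]⟩,
  ⟨128, [.a7], [.a7, .a8]⟩,
  ⟨256, [.a8], [.a8]⟩,
  ⟨512, [.a9], [.a9]⟩,
  ⟨2048, [.a11], [.a11]⟩]
def B1387 : List Gv := [⟨[.a2], [.a2]⟩, ⟨[.a4], [.a4, .a5]⟩, ⟨[.a7], [.a7, .a8]⟩, ⟨[.a9], [.a9]⟩, ⟨[.a11], [.a11]⟩]
def D1387 : List Dv := [⟨[.a5], [1, 1], []⟩,
  ⟨[.a6], [3, 2], [2, 3]⟩,
  ⟨[.a8], [4, 4], []⟩]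
def C1387 : List Ch := [⟨P1061, 0, [], []⟩,
  ⟨P1093, 1, [], []⟩,
  ⟨P1116, 0, [], []⟩,
  ⟨P1136, 2, [], []⟩,
  ⟨P1120, 0, [.a0, .a1, .a3, .a5, .a6, .a7, .a8, .a9, .a10], [.a0, .a10, .a11]⟩,
  ⟨P1146, 1, [], []⟩,
  ⟨P1153, 0, [], []⟩,
  ⟨P1161, 3, [], []⟩,
  ⟨P1162, 0, [], []⟩,
  ⟨P1163, 1, [], []⟩,
  ⟨P1164, 0, [], []⟩,
  ⟨P1165, 2, [], []⟩,
  ⟨P1166, 0, [], []⟩,
  ⟨P1167, 1, [], []⟩,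
  ⟨P1168, 0, [], []⟩,
  ⟨P1169, 4, [], []⟩,
  ⟨P1157, 0, [.a0, .a1], [.a0, .a1, .a2]⟩,
  ⟨P1098, 1, [.a0, .a1, .a3, .a5, .a6, .a7, .a8, .a9, .a10], [.a0, .a10, .a11]⟩,
  ⟨P1170, 0, [], []⟩,
  ⟨P1138, 2, [.a0, .a1], [.a0, .a1, .a2]⟩,
  ⟨P1171, 0, [], []⟩,
  ⟨P1172, 1, [], []⟩,
  ⟨P1078, 0, [.a0, .a1, .a3, .a5, .a6, .a7, .a8, .a9, .a10], [.a0, .a10, .a11]⟩,
  ⟨P1173, 3, [], []⟩,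
  ⟨P1164, 0, [.a0, .a1, .a3, .a5, .a6, .a7, .a8, .a9, .a10], [.a0, .a10, .a11]⟩,
  ⟨P1174, 1, [], []⟩,
  ⟨P1175, 0, [], []⟩,
  ⟨P1176, 2, [], []⟩,
  ⟨P1177, 0, [], []⟩,
  ⟨P1178, 1, [], []⟩,
  ⟨P1179, 0, [], []⟩]
def S1387 : List St := [.cent 1 1 0 [⟨32, [.a5], [.a5]⟩,
  ⟨64, [.a6], [.a6]⟩,
  ⟨256, [.a8], [.a8]⟩]]
theorem bad1387 (c : CtxF Goal γ) : Bad Goal γ [] P1387 :=
  c.toCtx.chn (B := B1387) (D := D1387) (I := [3, 4, 2, 1, 5, 0, 6, 7]) (r := 5) (C := C1387) (l := S1387) (x := ⟨[.a3], [.a3]⟩) (ix := [0]) (by decide +kernel) (by decide +kernel) (by decide +kernel) (by decide +kernel)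
    (allB_cons (bad1061 c) (allB_cons (bad1093 c) (allB_cons (bad1116 c) (allB_cons (bad1136 c) (allB_cons (bad1120 c) (allB_cons (bad1146 c) (allB_cons (bad1153 c) (allB_cons (bad1161 c) (allB_cons (bad1162 c) (allB_cons (bad1163 c) (allB_cons (bad1164 c) (allB_cons (bad1165 c) (allB_cons (bad1166 c) (allB_cons (bad1167 c) (allB_cons (bad1168 c) (allB_cons (bad1169 c) (allB_cons (bad1157 c) (allB_cons (bad1098 c) (allB_cons (bad1170 c) (allB_cons (bad1138 c) (allB_cons (bad1171 c) (allB_cons (bad1172 c) (allB_cons (bad1078 c) (allB_cons (bad1173 c) (allB_cons (bad1164 c) (allB_cons (bad1174 c) (allB_cons (bad1175 c) (allB_cons (bad1176 c) (allB_cons (bad1177 c) (allB_cons (bad1178 c) (allB_cons (bad1179 c) (allB_nil))))))))))))))))))))))))))))))))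

def P1388 : List Ent := [⟨4, [.a2], [.a2]⟩,
  ⟨8, [.a3, .a7], [.a3, .a5, .a7, .a8]⟩,
  ⟨16, [.a4], [.a4, .a5]⟩,
  ⟨32, [.a5], [.a5]⟩,
  ⟨64, [.a6], [.a6]⟩,
  ⟨256, [.a8], [.a8]⟩,
  ⟨512, [.a9], [.a9]⟩,
  ⟨2048, [.a11], [.a11]⟩]
def B1388 : List Gv := [⟨[.a2], [.a2]⟩, ⟨[.a3, .a7], [.a3, .a5, .a7, .a8]⟩, ⟨[.a4], [.a4, .a5]⟩, ⟨[.a9], [.a9]⟩, ⟨[.a11], [.a11]⟩]
def D1388 : List Dv := [⟨[.a5, .a8], [1, 1], []⟩,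
  ⟨[.a6], [3, 2], [2, 3]⟩,
  ⟨[.a8], [1, 4, 4], []⟩,
  ⟨[.a5], [2], [0]⟩]
def C1388 : List Ch := [⟨P1073, 0, [], []⟩,
  ⟨P1136, 1, [], []⟩,
  ⟨P1120, 0, [.a0], [.a0]⟩,
  ⟨P1094, 2, [], []⟩,
  ⟨P1117, 0, [], []⟩,
  ⟨P1146, 1, [.a1], [.a1, .a2]⟩,
  ⟨P1153, 0, [.a1, .a10], [.a1, .a2, .a4, .a5, .a7, .a9, .a10, .a11]⟩,
  ⟨P1180, 3, [], []⟩,
  ⟨P1181, 0, [], []⟩,
  ⟨P1182, 1, [], []⟩,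
  ⟨P1183, 0, [], []⟩,
  ⟨P1174, 2, [.a0, .a1], [.a0, .a1, .a2]⟩,
  ⟨P1184, 0, [], []⟩,
  ⟨P1185, 1, [], []⟩,
  ⟨P1166, 0, [.a0, .a10], [.a0, .a1, .a2, .a3, .a4, .a6, .a8, .a9, .a10, .a11]⟩,
  ⟨P1186, 4, [], []⟩,
  ⟨P1156, 0, [.a0], [.a0]⟩,
  ⟨P1137, 1, [.a0], [.a0]⟩,
  ⟨P1187, 0, [], []⟩,
  ⟨P1097, 2, [.a0], [.a0]⟩,
  ⟨P1188, 0, [], []⟩,
  ⟨P1189, 1, [], []⟩,
  ⟨P1076, 0, [.a0], [.a0]⟩,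
  ⟨P1161, 3, [.a0], [.a0]⟩,
  ⟨P1190, 0, [], []⟩,
  ⟨P1191, 1, [], []⟩,
  ⟨P1179, 0, [.a0, .a1, .a3, .a5, .a6, .a7, .a8, .a9, .a10], [.a0, .a10, .a11]⟩,
  ⟨P1192, 2, [], []⟩,
  ⟨P1181, 0, [.a0, .a10], [.a0, .a1, .a2, .a3, .a4, .a6, .a8, .a9, .a10, .a11]⟩,
  ⟨P1193, 1, [], []⟩,
  ⟨P1194, 0, [], []⟩]
def S1388 : List St := [.cent 1 1 0 [⟨32, [.a5], [.a5]⟩,
  ⟨64, [.a6], [.a6]⟩,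
  ⟨256, [.a8], [.a8]⟩]]
theorem bad1388 (c : CtxF Goal γ) : Bad Goal γ [] P1388 :=
  c.toCtx.chn (B := B1388) (D := D1388) (I := [4, 5, 6, 0, 2, 1, 7, 8]) (r := 5) (C := C1388) (l := S1388) (x := ⟨[.a7], [.a7, .a8]⟩) (ix := [0]) (by decide +kernel) (by decide +kernel) (by decide +kernel) (by decide +kernel)
    (allB_cons (bad1073 c) (allB_cons (bad1136 c) (allB_cons (bad1120 c) (allB_cons (bad1094 c) (allB_cons (bad1117 c) (allB_cons (bad1146 c) (allB_cons (bad1153 c) (allB_cons (bad1180 c) (allB_cons (bad1181 c) (allB_cons (bad1182 c) (allB_cons (bad1183 c) (allB_cons (bad1174 c) (allB_cons (bad1184 c) (allB_cons (bad1185 c) (allB_cons (bad1166 c) (allB_cons (bad1186 c) (allB_cons (bad1156 c) (allB_cons (bad1137 c) (allB_cons (bad1187 c) (allB_cons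 (bad1097 c) (allB_cons (bad1188 c) (allB_cons (bad1189 c) (allB_cons (bad1076 c) (allB_cons (bad1161 c) (allB_cons (bad1190 c) (allB_cons (bad1191 c) (allB_cons (bad1179 c) (allB_cons (bad1192 c) (allB_cons (bad1181 c) (allB_cons (bad1193 c) (allB_cons (bad1194 c) (allB_nil))))))))))))))))))))))))))))))))

def P1389 : List Ent := [⟨4, [.a2], [.a2]⟩,
  ⟨8, [.a3], [.a3]⟩,
  ⟨16, [.a4], [.a4, .a5]⟩,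
  ⟨32, [.a5], [.a5]⟩,
  ⟨64, [.a6], [.a6]⟩,
  ⟨128, [.a7], [.a7, .a8]⟩,
  ⟨256, [.a8], [.a8]⟩,
  ⟨2048, [.a11], [.a11]⟩]
def B1389 : List Gv := [⟨[.a2], [.a2]⟩, ⟨[.a3], [.a3]⟩, ⟨[.a4], [.a4, .a5]⟩, ⟨[.a7], [.a7, .a8]⟩, ⟨[.a11], [.a11]⟩]
def D1389 : List Dv := [⟨[.a5], [2, 2], []⟩,
  ⟨[.a6], [4, 3], [3, 4]⟩,
  ⟨[.a8], [5, 5], []⟩]
def C1389 : List Ch := [⟨P1075, 0, [], []⟩,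
  ⟨P1161, 1, [], []⟩,
  ⟨P1165, 0, [.a10], [.a10, .a11]⟩,
  ⟨P1095, 2, [], []⟩,
  ⟨P1118, 0, [], []⟩,
  ⟨P1173, 1, [.a1], [.a1, .a2]⟩,
  ⟨P1176, 0, [.a0, .a10], [.a0, .a1, .a2, .a3, .a4, .a6, .a8, .a9, .a10, .a11]⟩,
  ⟨P1130, 3, [], []⟩,
  ⟨P1118, 0, [.a0, .a1], [.a0, .a1, .a2]⟩,
  ⟨P1180, 1, [], []⟩,
  ⟨P1182, 0, [.a10], [.a10, .a11]⟩,
  ⟨P1147, 2, [], []⟩,
  ⟨P1154, 0, [], []⟩,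
  ⟨P1161, 1, [.a0, .a1], [.a0, .a1, .a2]⟩,
  ⟨P1191, 0, [.a1, .a10], [.a1, .a2, .a4, .a5, .a7, .a9, .a10, .a11]⟩,
  ⟨P1195, 4, [], []⟩,
  ⟨P1154, 0, [.a0, .a1], [.a0, .a1, .a2]⟩,
  ⟨P1196, 1, [], []⟩,
  ⟨P1165, 0, [.a0, .a1, .a3, .a5, .a6, .a7, .a8, .a9, .a10], [.a0, .a10, .a11]⟩,
  ⟨P1095, 2, [.a0, .a1], [.a0, .a1, .a2]⟩,
  ⟨P1197, 0, [], []⟩,
  ⟨P1180, 1, [.a0, .a1], [.a0, .a1, .a2]⟩,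
  ⟨P1198, 0, [], []⟩,
  ⟨P1130, 3, [.a0, .a1, .a3, .a5, .a6, .a7, .a8, .a9, .a10], [.a0, .a10, .a11]⟩,
  ⟨P1197, 0, [.a0, .a1], [.a0, .a1, .a2]⟩,
  ⟨P1173, 1, [.a0], [.a0]⟩,
  ⟨P1199, 0, [], []⟩,
  ⟨P1200, 2, [], []⟩,
  ⟨P1075, 0, [.a0, .a1], [.a0, .a1, .a2]⟩,
  ⟨P1196, 1, [.a0, .a1], [.a0, .a1, .a2]⟩,
  ⟨P1191, 0, [.a0, .a10], [.a0, .a1, .a2, .a3, .a4, .a6, .a8, .a9, .a10, .a11]⟩]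
def S1389 : List St := [.cent 1 1 0 [⟨32, [.a5], [.a5]⟩,
  ⟨64, [.a6], [.a6]⟩,
  ⟨256, [.a8], [.a8]⟩]]
theorem bad1389 (c : CtxF Goal γ) : Bad Goal γ [] P1389 :=
  c.toCtx.chn (B := B1389) (D := D1389) (I := [3, 4, 5, 2, 1, 6, 0, 7]) (r := 5) (C := C1389) (l := S1389) (x := ⟨[.a9], [.a9]⟩) (ix := [0]) (by decide +kernel) (by decide +kernel) (by decide +kernel) (by decide +kernel)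
    (allB_cons (bad1075 c) (allB_cons (bad1161 c) (allB_cons (bad1165 c) (allB_cons (bad1095 c) (allB_cons (bad1118 c) (allB_cons (bad1173 c) (allB_cons (bad1176 c) (allB_cons (bad1130 c) (allB_cons (bad1118 c) (allB_cons (bad1180 c) (allB_cons (bad1182 c) (allB_cons (bad1147 c) (allB_cons (bad1154 c) (allB_cons (bad1161 c) (allB_cons (bad1191 c) (allB_cons (bad1195 c) (allB_cons (bad1154 c) (allB_cons (bad1196 c) (allB_cons (bad1165 c) (allB_cons (bad1095 c) (allB_cons (bad1197 c) (allB_cons (bad1180 c) (allB_cons (bad1198 c) (allB_cons (bad1130 c) (allB_cons (bad1197 c) (allB_cons (bad1173 c) (allB_cons (bad1199 c) (allB_cons (bad1200 c) (allB_cons (bad1075 c) (allB_cons (bad1196 c) (allB_cons (bad1191 c) (allB_nil))))))))))))))))))))))))))))))))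

def P1390 : List Ent := [⟨4, [.a2, .a9], [.a2, .a5, .a9]⟩,
  ⟨8, [.a3], [.a3]⟩,
  ⟨16, [.a4], [.a4, .a5]⟩,
  ⟨32, [.a5], [.a5]⟩,
  ⟨64, [.a6], [.a6]⟩,
  ⟨128, [.a7], [.a7, .a8]⟩,
  ⟨256, [.a8], [.a8]⟩,
  ⟨2048, [.a11], [.a11]⟩]
def B1390 : List Gv := [⟨[.a2, .a9], [.a2, .a5, .a9]⟩, ⟨[.a3], [.a3]⟩, ⟨[.a4], [.a4, .a5]⟩, ⟨[.a7], [.a7, .a8]⟩, ⟨[.a11], [.a11]⟩]
def D1390 : List Dv := [⟨[.a5], [0, 0], []⟩,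
  ⟨[.a8], [3, 1], [1, 3]⟩,
  ⟨[.a6], [5, 4], [4, 5]⟩]
def C1390 : List Ch := [⟨P1075, 0, [], []⟩,
  ⟨P1162, 1, [], []⟩,
  ⟨P1166, 0, [.a10], [.a10, .a11]⟩,
  ⟨P1096, 2, [], []⟩,
  ⟨P1119, 0, [], []⟩,
  ⟨P1164, 1, [.a0, .a10], [.a0, .a1, .a2, .a3, .a4, .a6, .a8, .a9, .a10, .a11]⟩,
  ⟨P1177, 0, [.a1, .a10], [.a1, .a2, .a4, .a5, .a7, .a9, .a10, .a11]⟩,
  ⟨P1132, 3, [], []⟩,
  ⟨P1118, 0, [.a0, .a10], [.a0, .a1, .a2, .a3, .a4, .a6, .a8, .a9, .a10, .a11]⟩,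
  ⟨P1181, 1, [], []⟩,
  ⟨P1183, 0, [.a10], [.a10, .a11]⟩,
  ⟨P1148, 2, [], []⟩,
  ⟨P1155, 0, [], []⟩,
  ⟨P1190, 1, [.a1], [.a1, .a2]⟩,
  ⟨P1179, 0, [.a0, .a1], [.a0, .a1, .a2]⟩,
  ⟨P1201, 4, [], []⟩,
  ⟨P1154, 0, [.a0], [.a0]⟩,
  ⟨P1175, 1, [.a0, .a1, .a3, .a5, .a6, .a7, .a8, .a9, .a10], [.a0, .a10, .a11]⟩,
  ⟨P1202, 0, [], []⟩,
  ⟨P1096, 2, [.a0, .a10], [.a0, .a1, .a2, .a3, .a4, .a6, .a8, .a9, .a10, .a11]⟩,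
  ⟨P1203, 0, [], []⟩,
  ⟨P1204, 1, [], []⟩,
  ⟨P1194, 0, [.a0, .a1], [.a0, .a1, .a2]⟩,
  ⟨P1135, 3, [.a0], [.a0]⟩,
  ⟨P1197, 0, [.a0, .a1, .a3, .a5, .a6, .a7, .a8, .a9, .a10], [.a0, .a10, .a11]⟩,
  ⟨P1205, 1, [], []⟩,
  ⟨P1168, 0, [.a0], [.a0]⟩,
  ⟨P1206, 2, [], []⟩,
  ⟨P1077, 0, [.a0, .a10], [.a0, .a1, .a2, .a3, .a4, .a6, .a8, .a9, .a10, .a11]⟩,
  ⟨P1184, 1, [.a0, .a10], [.a0, .a1, .a2, .a3, .a4, .a6, .a8, .a9, .a10, .a11]⟩,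
  ⟨P1207, 0, [], []⟩]
def S1390 : List St := [.cent 1 1 0 [⟨32, [.a5], [.a5]⟩,
  ⟨64, [.a6], [.a6]⟩,
  ⟨256, [.a8], [.a8]⟩]]
theorem bad1390 (c : CtxF Goal γ) : Bad Goal γ [] P1390 :=
  c.toCtx.chn (B := B1390) (D := D1390) (I := [3, 4, 5, 2, 0, 6, 1, 7]) (r := 5) (C := C1390) (l := S1390) (x := ⟨[.a9], [.a9]⟩) (ix := [0]) (by decide +kernel) (by decide +kernel) (by decide +kernel) (by decide +kernel)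
    (allB_cons (bad1075 c) (allB_cons (bad1162 c) (allB_cons (bad1166 c) (allB_cons (bad1096 c) (allB_cons (bad1119 c) (allB_cons (bad1164 c) (allB_cons (bad1177 c) (allB_cons (bad1132 c) (allB_cons (bad1118 c) (allB_cons (bad1181 c) (allB_cons (bad1183 c) (allB_cons (bad1148 c) (allB_cons (bad1155 c) (allB_cons (bad1190 c) (allB_cons (bad1179 c) (allB_cons (bad1201 c) (allB_cons (bad1154 c) (allB_cons (bad1175 c) (allB_cons (bad1202 c) (allB_cons (bad1096 c) (allB_cons (bad1203 c) (allB_cons (bad1204 c) (allB_cons (bad1194 c) (allB_cons (bad1135 c) (allB_cons (bad1197 c) (allB_cons (bad1205 c) (allB_cons (bad1168 c) (allB_cons (bad1206 c) (allB_cons (bad1077 c) (allB_cons (bad1184 c) (allB_cons (bad1207 c) (allB_nil))))))))))))))))))))))))))))))))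

def P1391 : List Ent := [⟨4, [.a2, .a9], [.a2, .a5, .a9]⟩,
  ⟨8, [.a3, .a9], [.a3, .a9]⟩,
  ⟨16, [.a4], [.a4, .a5]⟩,
  ⟨32, [.a5], [.a5]⟩,
  ⟨64, [.a6], [.a6]⟩,
  ⟨128, [.a7], [.a7, .a8]⟩,
  ⟨256, [.a8], [.a8]⟩,
  ⟨2048, [.a11], [.a11]⟩]
def B1391 : List Gv := [⟨[.a2, .a9], [.a2, .a5, .a9]⟩, ⟨[.a3, .a9], [.a3, .a9]⟩, ⟨[.a4], [.a4, .a5]⟩, ⟨[.a7], [.a7, .a8]⟩, ⟨[.a11], [.a11]⟩]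
def D1391 : List Dv := [⟨[.a5], [0, 0], []⟩,
  ⟨[.a8], [3, 1], [1, 3]⟩,
  ⟨[.a6], [5, 4], [4, 5]⟩]
def C1391 : List Ch := [⟨P1076, 0, [], []⟩,
  ⟨P1162, 1, [], []⟩,
  ⟨P1165, 0, [.a10], [.a10, .a11]⟩,
  ⟨P1098, 2, [], []⟩,
  ⟨P1121, 0, [], []⟩,
  ⟨P1175, 1, [.a1], [.a1, .a2]⟩,
  ⟨P1178, 0, [.a1, .a10], [.a1, .a2, .a4, .a5, .a7, .a9, .a10, .a11]⟩,
  ⟨P1137, 3, [.a10], [.a10, .a11]⟩,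
  ⟨P1123, 0, [.a0], [.a0]⟩,
  ⟨P1183, 1, [], []⟩,
  ⟨P1180, 0, [.a10], [.a10, .a11]⟩,
  ⟨P1149, 2, [], []⟩,
  ⟨P1157, 0, [], []⟩,
  ⟨P1194, 1, [.a1], [.a1, .a2]⟩,
  ⟨P1192, 0, [.a1, .a10], [.a1, .a2, .a4, .a5, .a7, .a9, .a10, .a11]⟩,
  ⟨P1169, 4, [.a0, .a1, .a3, .a5, .a6, .a7, .a8, .a9, .a10], [.a0, .a10, .a11]⟩,
  ⟨P1159, 0, [.a0, .a1, .a3, .a5, .a6, .a7, .a8, .a9, .a10], [.a0, .a10, .a11]⟩,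
  ⟨P1204, 1, [.a1], [.a1, .a2]⟩,
  ⟨P1198, 0, [.a0], [.a0]⟩,
  ⟨P1101, 2, [.a0, .a1, .a3, .a5, .a6, .a7, .a8, .a9, .a10], [.a0, .a10, .a11]⟩,
  ⟨P1187, 0, [.a0, .a1], [.a0, .a1, .a2]⟩,
  ⟨P1204, 1, [.a0, .a10], [.a0, .a1, .a2, .a3, .a4, .a6, .a8, .a9, .a10, .a11]⟩,
  ⟨P1208, 0, [], []⟩,
  ⟨P1141, 3, [.a0, .a1, .a3, .a5, .a6, .a7, .a8, .a9, .a10], [.a0, .a10, .a11]⟩,
  ⟨P1170, 0, [.a0], [.a0]⟩,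
  ⟨P1207, 1, [.a1, .a10], [.a1, .a2, .a4, .a5, .a7, .a9, .a10, .a11]⟩,
  ⟨P1196, 0, [.a0, .a1, .a3, .a5, .a6, .a7, .a8, .a9, .a10], [.a0, .a10, .a11]⟩,
  ⟨P1189, 2, [.a0, .a10], [.a0, .a1, .a2, .a3, .a4, .a6, .a8, .a9, .a10, .a11]⟩,
  ⟨P1080, 0, [.a0, .a1, .a3, .a5, .a6, .a7, .a8, .a9, .a10], [.a0, .a10, .a11]⟩,
  ⟨P1202, 1, [.a0, .a1], [.a0, .a1, .a2]⟩,
  ⟨P1209, 0, [], []⟩]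
def S1391 : List St := [.cent 1 1 0 [⟨32, [.a5], [.a5]⟩,
  ⟨64, [.a6], [.a6]⟩,
  ⟨256, [.a8], [.a8]⟩]]
theorem bad1391 (c : CtxF Goal γ) : Bad Goal γ [] P1391 :=
  c.toCtx.chn (B := B1391) (D := D1391) (I := [3, 4, 5, 2, 0, 6, 1, 7]) (r := 5) (C := C1391) (l := S1391) (x := ⟨[.a9], [.a9]⟩) (ix := [0]) (by decide +kernel) (by decide +kernel) (by decide +kernel) (by decide +kernel)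
    (allB_cons (bad1076 c) (allB_cons (bad1162 c) (allB_cons (bad1165 c) (allB_cons (bad1098 c) (allB_cons (bad1121 c) (allB_cons (bad1175 c) (allB_cons (bad1178 c) (allB_cons (bad1137 c) (allB_cons (bad1123 c) (allB_cons (bad1183 c) (allB_cons (bad1180 c) (allB_cons (bad1149 c) (allB_cons (bad1157 c) (allB_cons (bad1194 c) (allB_cons (bad1192 c) (allB_cons (bad1169 c) (allB_cons (bad1159 c) (allB_cons (bad1204 c) (allB_cons (bad1198 c) (allB_cons (bad1101 c) (allB_cons (bad1187 c) (allB_cons (bad1204 c) (allB_cons (bad1208 c) (allB_cons (bad1141 c) (allB_cons (bad1170 c) (allB_cons (bad1207 c) (allB_cons (bad1196 c) (allB_cons (bad1189 c) (allB_cons (bad1080 c) (allB_cons (bad1202 c) (allB_cons (bad1209 c) (allB_nil))))))))))))))))))))))))))))))))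

def P1392 : List Ent := [⟨4, [.a2], [.a2]⟩,
  ⟨8, [.a3], [.a3]⟩,
  ⟨16, [.a4, .a9], [.a4, .a5, .a8, .a9]⟩,
  ⟨32, [.a5], [.a5]⟩,
  ⟨64, [.a6], [.a6]⟩,
  ⟨128, [.a7], [.a7, .a8]⟩,
  ⟨256, [.a8], [.a8]⟩,
  ⟨2048, [.a11], [.a11]⟩]
def B1392 : List Gv := [⟨[.a2], [.a2]⟩, ⟨[.a3], [.a3]⟩, ⟨[.a4, .a9], [.a4, .a5, .a8, .a9]⟩, ⟨[.a7], [.a7, .a8]⟩, ⟨[.a11], [.a11]⟩]
def D1392 : List Dv := [⟨[.a5], [2, 0], [0, 2]⟩,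
  ⟨[.a8], [0, 3, 3], []⟩,
  ⟨[.a6], [5, 4], [4, 5]⟩]
def C1392 : List Ch := [⟨P1077, 0, [], []⟩,
  ⟨P1163, 1, [], []⟩,
  ⟨P1167, 0, [.a10], [.a10, .a11]⟩,
  ⟨P1095, 2, [], []⟩,
  ⟨P1119, 0, [], []⟩,
  ⟨P1174, 1, [.a1], [.a1, .a2]⟩,
  ⟨P1178, 0, [.a1, .a10], [.a1, .a2, .a4, .a5, .a7, .a9, .a10, .a11]⟩,
  ⟨P1133, 3, [], []⟩,
  ⟨P1119, 0, [.a0], [.a0]⟩,
  ⟨P1174, 1, [.a0, .a1], [.a0, .a1, .a2]⟩,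
  ⟨P1185, 0, [.a10], [.a10, .a11]⟩,
  ⟨P1147, 2, [.a10], [.a10, .a11]⟩,
  ⟨P1155, 0, [.a10], [.a10, .a11]⟩,
  ⟨P1192, 1, [.a1], [.a1, .a2]⟩,
  ⟨P1193, 0, [.a0, .a1, .a3, .a5, .a6, .a7, .a8, .a9, .a10], [.a0, .a10, .a11]⟩,
  ⟨P1210, 4, [], []⟩,
  ⟨P1155, 0, [.a0, .a10], [.a0, .a1, .a2, .a3, .a4, .a6, .a8, .a9, .a10, .a11]⟩,
  ⟨P1192, 1, [.a0, .a1], [.a0, .a1, .a2]⟩,
  ⟨P1208, 0, [.a1], [.a1, .a2]⟩,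
  ⟨P1095, 2, [.a0], [.a0]⟩,
  ⟨P1203, 0, [.a1], [.a1, .a2]⟩,
  ⟨P1209, 1, [.a0, .a1, .a3, .a5, .a6, .a7, .a8, .a9, .a10], [.a0, .a10, .a11]⟩,
  ⟨P1178, 0, [.a0, .a1, .a3, .a5, .a6, .a7, .a8, .a9, .a10], [.a0, .a10, .a11]⟩,
  ⟨P1133, 3, [.a0], [.a0]⟩,
  ⟨P1203, 0, [.a0, .a1], [.a0, .a1, .a2]⟩,
  ⟨P1209, 1, [.a1, .a10], [.a1, .a2, .a4, .a5, .a7, .a9, .a10, .a11]⟩,
  ⟨P1185, 0, [.a0, .a10], [.a0, .a1, .a2, .a3, .a4, .a6, .a8, .a9, .a10, .a11]⟩,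
  ⟨P1200, 2, [.a0, .a1, .a3, .a5, .a6, .a7, .a8, .a9, .a10], [.a0, .a10, .a11]⟩,
  ⟨P1077, 0, [.a0], [.a0]⟩,
  ⟨P1163, 1, [.a0], [.a0]⟩,
  ⟨P1211, 0, [], []⟩]
def S1392 : List St := [.cent 1 1 0 [⟨32, [.a5], [.a5]⟩,
  ⟨64, [.a6], [.a6]⟩,
  ⟨256, [.a8], [.a8]⟩]]
theorem bad1392 (c : CtxF Goal γ) : Bad Goal γ [] P1392 :=
  c.toCtx.chn (B := B1392) (D := D1392) (I := [3, 4, 5, 2, 0, 6, 1, 7]) (r := 5) (C := C1392) (l := S1392) (x := ⟨[.a9], [.a9]⟩) (ix := [0]) (by decide +kernel) (by decide +kernel) (by decide +kernel) (by decide +kernel)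
    (allB_cons (bad1077 c) (allB_cons (bad1163 c) (allB_cons (bad1167 c) (allB_cons (bad1095 c) (allB_cons (bad1119 c) (allB_cons (bad1174 c) (allB_cons (bad1178 c) (allB_cons (bad1133 c) (allB_cons (bad1119 c) (allB_cons (bad1174 c) (allB_cons (bad1185 c) (allB_cons (bad1147 c) (allB_cons (bad1155 c) (allB_cons (bad1192 c) (allB_cons (bad1193 c) (allB_cons (bad1210 c) (allB_cons (bad1155 c) (allB_cons (bad1192 c) (allB_cons (bad1208 c) (allB_cons (bad1095 c) (allB_cons (bad1203 c) (allB_cons (bad1209 c) (allB_cons (bad1178 c) (allB_cons (bad1133 c) (allB_cons (bad1203 c) (allB_cons (bad1209 c) (allB_cons (bad1185 c) (allB_cons (bad1200 c) (allB_cons (bad1077 c) (allB_cons (bad1163 c) (allB_cons (bad1211 c) (allB_nil))))))))))))))))))))))))))))))))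

def P1393 : List Ent := [⟨4, [.a2], [.a2]⟩,
  ⟨8, [.a3, .a9], [.a3, .a9]⟩,
  ⟨16, [.a4, .a9], [.a4, .a5, .a8, .a9]⟩,
  ⟨32, [.a5], [.a5]⟩,
  ⟨64, [.a6], [.a6]⟩,
  ⟨128, [.a7], [.a7, .a8]⟩,
  ⟨256, [.a8], [.a8]⟩,
  ⟨2048, [.a11], [.a11]⟩]
def B1393 : List Gv := [⟨[.a2], [.a2]⟩, ⟨[.a3, .a9], [.a3, .a9]⟩, ⟨[.a4, .a9], [.a4, .a5, .a8, .a9]⟩, ⟨[.a7], [.a7, .a8]⟩, ⟨[.a11], [.a11]⟩]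
def D1393 : List Dv := [⟨[.a5], [1, 0], [0, 1]⟩,
  ⟨[.a8], [3, 2], [2, 3]⟩,
  ⟨[.a6], [5, 4], [4, 5]⟩]
def C1393 : List Ch := [⟨P1078, 0, [], []⟩,
  ⟨P1163, 1, [], []⟩,
  ⟨P1168, 0, [.a10], [.a10, .a11]⟩,
  ⟨P1097, 2, [], []⟩,
  ⟨P1121, 0, [], []⟩,
  ⟨P1173, 1, [.a1], [.a1, .a2]⟩,
  ⟨P1177, 0, [.a1, .a10], [.a1, .a2, .a4, .a5, .a7, .a9, .a10, .a11]⟩,
  ⟨P1138, 3, [], []⟩,
  ⟨P1125, 0, [.a0, .a1], [.a0, .a1, .a2]⟩,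
  ⟨P1185, 1, [], []⟩,
  ⟨P1184, 0, [.a10], [.a10, .a11]⟩,
  ⟨P1149, 2, [.a10], [.a10, .a11]⟩,
  ⟨P1156, 0, [.a10], [.a10, .a11]⟩,
  ⟨P1191, 1, [.a1], [.a1, .a2]⟩,
  ⟨P1190, 0, [.a1, .a10], [.a1, .a2, .a4, .a5, .a7, .a9, .a10, .a11]⟩,
  ⟨P1186, 4, [.a0, .a1], [.a0, .a1, .a2]⟩,
  ⟨P1159, 0, [.a0, .a10], [.a0, .a1, .a2, .a3, .a4, .a6, .a8, .a9, .a10, .a11]⟩,
  ⟨P1209, 1, [.a0, .a10], [.a0, .a1, .a2, .a3, .a4, .a6, .a8, .a9, .a10, .a11]⟩,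
  ⟨P1207, 0, [.a0, .a10], [.a0, .a1, .a2, .a3, .a4, .a6, .a8, .a9, .a10, .a11]⟩,
  ⟨P1103, 2, [.a0], [.a0]⟩,
  ⟨P1171, 0, [.a0, .a1, .a3, .a5, .a6, .a7, .a8, .a9, .a10], [.a0, .a10, .a11]⟩,
  ⟨P1196, 1, [.a1], [.a1, .a2]⟩,
  ⟨P1202, 0, [.a1], [.a1, .a2]⟩,
  ⟨P1141, 3, [.a0, .a1], [.a0, .a1, .a2]⟩,
  ⟨P1188, 0, [.a0, .a10], [.a0, .a1, .a2, .a3, .a4, .a6, .a8, .a9, .a10, .a11]⟩,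
  ⟨P1211, 1, [.a0, .a10], [.a0, .a1, .a2, .a3, .a4, .a6, .a8, .a9, .a10, .a11]⟩,
  ⟨P1205, 0, [.a0, .a1], [.a0, .a1, .a2]⟩,
  ⟨P1172, 2, [.a0], [.a0]⟩,
  ⟨P1083, 0, [.a0, .a1, .a3, .a5, .a6, .a7, .a8, .a9, .a10], [.a0, .a10, .a11]⟩,
  ⟨P1199, 1, [.a0, .a1, .a3, .a5, .a6, .a7, .a8, .a9, .a10], [.a0, .a10, .a11]⟩,
  ⟨P1205, 0, [.a1, .a10], [.a1, .a2, .a4, .a5, .a7, .a9, .a10, .a11]⟩]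
def S1393 : List St := [.cent 1 1 0 [⟨32, [.a5], [.a5]⟩,
  ⟨64, [.a6], [.a6]⟩,
  ⟨256, [.a8], [.a8]⟩]]
theorem bad1393 (c : CtxF Goal γ) : Bad Goal γ [] P1393 :=
  c.toCtx.chn (B := B1393) (D := D1393) (I := [3, 4, 5, 2, 0, 6, 1, 7]) (r := 5) (C := C1393) (l := S1393) (x := ⟨[.a9], [.a9]⟩) (ix := [0]) (by decide +kernel) (by decide +kernel) (by decide +kernel) (by decide +kernel)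
    (allB_cons (bad1078 c) (allB_cons (bad1163 c) (allB_cons (bad1168 c) (allB_cons (bad1097 c) (allB_cons (bad1121 c) (allB_cons (bad1173 c) (allB_cons (bad1177 c) (allB_cons (bad1138 c) (allB_cons (bad1125 c) (allB_cons (bad1185 c) (allB_cons (bad1184 c) (allB_cons (bad1149 c) (allB_cons (bad1156 c) (allB_cons (bad1191 c) (allB_cons (bad1190 c) (allB_cons (bad1186 c) (allB_cons (bad1159 c) (allB_cons (bad1209 c) (allB_cons (bad1207 c) (allB_cons (bad1103 c) (allB_cons (bad1171 c) (allB_cons (bad1196 c) (allB_cons (bad1202 c) (allB_cons (bad1141 c) (allB_cons (bad1188 c) (allB_cons (bad1211 c) (allB_cons (bad1205 c) (allB_cons (bad1172 c) (allB_cons (bad1083 c) (allB_cons (bad1199 c) (allB_cons (bad1205 c) (allB_nil))))))))))))))))))))))))))))))))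

def P1394 : List Ent := [⟨4, [.a2], [.a2]⟩,
  ⟨8, [.a3], [.a3]⟩,
  ⟨16, [.a4], [.a4, .a5]⟩,
  ⟨32, [.a5], [.a5]⟩,
  ⟨64, [.a6], [.a6]⟩,
  ⟨128, [.a7], [.a7, .a8]⟩,
  ⟨256, [.a8], [.a8]⟩,
  ⟨512, [.a9], [.a9]⟩]
def B1394 : List Gv := [⟨[.a2], [.a2]⟩, ⟨[.a3], [.a3]⟩, ⟨[.a4], [.a4, .a5]⟩, ⟨[.a7], [.a7, .a8]⟩, ⟨[.a9], [.a9]⟩]
def D1394 : List Dv := [⟨[.a5], [2, 2], []⟩,
  ⟨[.a6], [4, 3], [3, 4]⟩,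
  ⟨[.a8], [5, 5], []⟩]
def C1394 : List Ch := [⟨P1079, 0, [], []⟩,
  ⟨P1169, 1, [], []⟩,
  ⟨P1169, 0, [.a10], [.a10, .a11]⟩,
  ⟨P1099, 2, [], []⟩,
  ⟨P1122, 0, [], []⟩,
  ⟨P1169, 1, [.a1], [.a1, .a2]⟩,
  ⟨P1169, 0, [.a1, .a10], [.a1, .a2, .a4, .a5, .a7, .a9, .a10, .a11]⟩,
  ⟨P1139, 3, [], []⟩,
  ⟨P1122, 0, [.a0], [.a0]⟩,
  ⟨P1186, 1, [], []⟩,
  ⟨P1186, 0, [.a10], [.a10, .a11]⟩,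
  ⟨P1150, 2, [], []⟩,
  ⟨P1079, 0, [.a0], [.a0]⟩,
  ⟨P1186, 1, [.a1], [.a1, .a2]⟩,
  ⟨P1186, 0, [.a1, .a10], [.a1, .a2, .a4, .a5, .a7, .a9, .a10, .a11]⟩,
  ⟨P1195, 4, [], []⟩,
  ⟨P1201, 0, [], []⟩,
  ⟨P1186, 1, [.a0], [.a0]⟩,
  ⟨P1169, 0, [.a0, .a1, .a3, .a5, .a6, .a7, .a8, .a9, .a10], [.a0, .a10, .a11]⟩,
  ⟨P1210, 2, [], []⟩,
  ⟨P1201, 0, [.a0, .a1, .a3, .a5, .a6, .a7, .a8, .a9, .a10], [.a0, .a10, .a11]⟩,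
  ⟨P1186, 1, [.a0, .a1], [.a0, .a1, .a2]⟩,
  ⟨P1169, 0, [.a0, .a10], [.a0, .a1, .a2, .a3, .a4, .a6, .a8, .a9, .a10, .a11]⟩,
  ⟨P1195, 3, [.a10], [.a10, .a11]⟩,
  ⟨P1201, 0, [.a10], [.a10, .a11]⟩,
  ⟨P1169, 1, [.a0], [.a0]⟩,
  ⟨P1186, 0, [.a0, .a1, .a3, .a5, .a6, .a7, .a8, .a9, .a10], [.a0, .a10, .a11]⟩,
  ⟨P1210, 2, [.a10], [.a10, .a11]⟩,
  ⟨P1201, 0, [.a0], [.a0]⟩,
  ⟨P1169, 1, [.a0, .a1], [.a0, .a1, .a2]⟩,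
  ⟨P1186, 0, [.a0, .a10], [.a0, .a1, .a2, .a3, .a4, .a6, .a8, .a9, .a10, .a11]⟩]
def N1394 : List Ent := [⟨1, [.a0], [.a0]⟩,
  ⟨2, [.a1], [.a1, .a2]⟩,
  ⟨4, [.a2], [.a2]⟩,
  ⟨8, [.a3], [.a3]⟩,
  ⟨16, [.a4], [.a4, .a5]⟩,
  ⟨32, [.a5], [.a5]⟩,
  ⟨64, [.a6], [.a6]⟩,
  ⟨128, [.a7], [.a7, .a8]⟩,
  ⟨256, [.a8], [.a8]⟩,
  ⟨512, [.a9], [.a9]⟩,
  ⟨1024, [.a10], [.a10, .a11]⟩,
  ⟨2048, [.a11], [.a11]⟩]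
theorem bad1394 (c : CtxF Goal γ) : Bad Goal γ [] P1394 :=
  c.toCtx.bnd (B := B1394) (D := D1394) (I := [3, 4, 5, 2, 1, 6, 0, 7]) (r := 5) (C := C1394) (N := N1394) (by decide +kernel) (by decide +kernel) (by decide +kernel) (by decide +kernel)
    (allB_cons (bad1079 c) (allB_cons (bad1169 c) (allB_cons (bad1169 c) (allB_cons (bad1099 c) (allB_cons (bad1122 c) (allB_cons (bad1169 c) (allB_cons (bad1169 c) (allB_cons (bad1139 c) (allB_cons (bad1122 c) (allB_cons (bad1186 c) (allB_cons (bad1186 c) (allB_cons (bad1150 c) (allB_cons (bad1079 c) (allB_cons (bad1186 c) (allB_cons (bad1186 c) (allB_cons (bad1195 c) (allB_cons (bad1201 c) (allB_cons (bad1186 c) (allB_cons (bad1169 c) (allB_cons (bad1210 c) (allB_cons (bad1201 c) (allB_cons (bad1186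 c) (allB_cons (bad1169 c) (allB_cons (bad1195 c) (allB_cons (bad1201 c) (allB_cons (bad1169 c) (allB_cons (bad1186 c) (allB_cons (bad1210 c) (allB_cons (bad1201 c) (allB_cons (bad1169 c) (allB_cons (bad1186 c) (allB_nil))))))))))))))))))))))))))))))))

def P1395 : List Ent := [⟨4, [.a2, .a11], [.a2, .a5, .a6, .a8, .a11]⟩,
  ⟨8, [.a3], [.a3]⟩,
  ⟨16, [.a4, .a11], [.a4, .a5, .a11]⟩,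
  ⟨32, [.a5], [.a5]⟩,
  ⟨64, [.a6], [.a6]⟩,
  ⟨128, [.a7], [.a7, .a8]⟩,
  ⟨256, [.a8], [.a8]⟩,
  ⟨512, [.a9], [.a9]⟩]
def B1395 : List Gv := [⟨[.a2, .a11], [.a2, .a5, .a6, .a8, .a11]⟩, ⟨[.a3], [.a3]⟩, ⟨[.a4, .a11], [.a4, .a5, .a11]⟩, ⟨[.a7], [.a7, .a8]⟩, ⟨[.a9], [.a9]⟩]
def D1395 : List Dv := [⟨[.a5, .a6, .a8], [0, 0], []⟩,
  ⟨[.a8], [2, 1], [1, 2]⟩,
  ⟨[.a6, .a8], [1, 4, 4], []⟩,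
  ⟨[.a6], [0], [1]⟩,
  ⟨[.a5], [3], [0, 2]⟩]
def C1395 : List Ch := [⟨P1081, 0, [], []⟩,
  ⟨P1170, 1, [], []⟩,
  ⟨P1170, 0, [.a10], [.a10, .a11]⟩,
  ⟨P1100, 2, [], []⟩,
  ⟨P1122, 0, [], []⟩,
  ⟨P1170, 1, [.a1], [.a1, .a2]⟩,
  ⟨P1170, 0, [.a1, .a10], [.a1, .a2, .a4, .a5, .a7, .a9, .a10, .a11]⟩,
  ⟨P1082, 3, [.a0], [.a0]⟩,
  ⟨P1124, 0, [.a0], [.a0]⟩,
  ⟨P1188, 1, [], []⟩,
  ⟨P1188, 0, [.a10], [.a10, .a11]⟩,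
  ⟨P1151, 2, [], []⟩,
  ⟨P1140, 0, [.a0], [.a0]⟩,
  ⟨P1188, 1, [.a1], [.a1, .a2]⟩,
  ⟨P1188, 0, [.a1, .a10], [.a1, .a2, .a4, .a5, .a7, .a9, .a10, .a11]⟩,
  ⟨P1197, 4, [], []⟩,
  ⟨P1203, 0, [], []⟩,
  ⟨P1187, 1, [.a0], [.a0]⟩,
  ⟨P1187, 0, [.a0, .a1], [.a0, .a1, .a2]⟩,
  ⟨P1203, 2, [.a1], [.a1, .a2]⟩,
  ⟨P1197, 0, [.a1], [.a1, .a2]⟩,
  ⟨P1171, 1, [.a0, .a1, .a3, .a5, .a6, .a7, .a8, .a9, .a10], [.a0, .a10, .a11]⟩,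
  ⟨P1171, 0, [.a0, .a10], [.a0, .a1, .a2, .a3, .a4, .a6, .a8, .a9, .a10, .a11]⟩,
  ⟨P1197, 3, [.a10], [.a10, .a11]⟩,
  ⟨P1203, 0, [.a10], [.a10, .a11]⟩,
  ⟨P1187, 1, [.a0, .a10], [.a0, .a1, .a2, .a3, .a4, .a6, .a8, .a9, .a10, .a11]⟩,
  ⟨P1187, 0, [.a0, .a1, .a3, .a5, .a6, .a7, .a8, .a9, .a10], [.a0, .a10, .a11]⟩,
  ⟨P1203, 2, [.a1, .a10], [.a1, .a2, .a4, .a5, .a7, .a9, .a10, .a11]⟩,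
  ⟨P1197, 0, [.a1, .a10], [.a1, .a2, .a4, .a5, .a7, .a9, .a10, .a11]⟩,
  ⟨P1171, 1, [.a0, .a1], [.a0, .a1, .a2]⟩,
  ⟨P1171, 0, [.a0], [.a0]⟩]
def N1395 : List Ent := [⟨2, [.a1], [.a1, .a2]⟩,
  ⟨4, [.a2, .a11], [.a2, .a5, .a6, .a8, .a11]⟩,
  ⟨8, [.a3], [.a3]⟩,
  ⟨16, [.a4, .a11], [.a4, .a5, .a11]⟩,
  ⟨32, [.a5], [.a5]⟩,
  ⟨64, [.a6], [.a6]⟩,
  ⟨128, [.a7], [.a7, .a8]⟩,
  ⟨256, [.a8], [.a8]⟩,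
  ⟨512, [.a9], [.a9]⟩,
  ⟨1024, [.a10], [.a10, .a11]⟩,
  ⟨2048, [.a11], [.a11]⟩]
theorem bad1395 (c : CtxF Goal γ) : Bad Goal γ [] P1395 :=
  c.toCtx.bnd (B := B1395) (D := D1395) (I := [5, 6, 7, 0, 1, 8, 3, 9]) (r := 5) (C := C1395) (N := N1395) (by decide +kernel) (by decide +kernel) (by decide +kernel) (by decide +kernel)
    (allB_cons (bad1081 c) (allB_cons (bad1170 c) (allB_cons (bad1170 c) (allB_cons (bad1100 c) (allB_cons (bad1122 c) (allB_cons (bad1170 c) (allB_cons (bad1170 c) (allB_cons (bad1082 c) (allB_cons (bad1124 c) (allB_cons (bad1188 c) (allB_cons (bad1188 c) (allB_cons (bad1151 c) (allB_cons (bad1140 c) (allB_cons (bad1188 c) (allB_cons (bad1188 c) (allB_cons (bad1197 c) (allB_cons (bad1203 c) (allB_cons (bad1187 c) (allB_cons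 (bad1187 c) (allB_cons (bad1203 c) (allB_cons (bad1197 c) (allB_cons (bad1171 c) (allB_cons (bad1171 c) (allB_cons (bad1197 c) (allB_cons (bad1203 c) (allB_cons (bad1187 c) (allB_cons (bad1187 c) (allB_cons (bad1203 c) (allB_cons (bad1197 c) (allB_cons (bad1171 c) (allB_cons (bad1171 c) (allB_nil))))))))))))))))))))))))))))))))

def P1396 : List Ent := [⟨4, [.a2], [.a2]⟩,
  ⟨8, [.a3], [.a3]⟩,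
  ⟨16, [.a4, .a11], [.a4, .a5, .a11]⟩,
  ⟨32, [.a5], [.a5]⟩,
  ⟨64, [.a6], [.a6]⟩,
  ⟨128, [.a7, .a11], [.a7, .a8, .a11]⟩,
  ⟨256, [.a8], [.a8]⟩,
  ⟨512, [.a9], [.a9]⟩]
def B1396 : List Gv := [⟨[.a2], [.a2]⟩, ⟨[.a3], [.a3]⟩, ⟨[.a4, .a11], [.a4, .a5, .a11]⟩, ⟨[.a7, .a11], [.a7, .a8, .a11]⟩, ⟨[.a9], [.a9]⟩]
def D1396 : List Dv := [⟨[.a5, .a6, .a8], [2, 0], [0, 2]⟩,
  ⟨[.a8], [3, 2], [2, 3]⟩,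
  ⟨[.a6, .a8], [1, 4, 4], []⟩,
  ⟨[.a6], [0], [1]⟩,
  ⟨[.a5], [3], [0, 2]⟩]
def C1396 : List Ch := [⟨P1084, 0, [], []⟩,
  ⟨P1172, 1, [], []⟩,
  ⟨P1172, 0, [.a10], [.a10, .a11]⟩,
  ⟨P1102, 2, [], []⟩,
  ⟨P1124, 0, [], []⟩,
  ⟨P1172, 1, [.a1], [.a1, .a2]⟩,
  ⟨P1172, 0, [.a1, .a10], [.a1, .a2, .a4, .a5, .a7, .a9, .a10, .a11]⟩,
  ⟨P1102, 3, [.a0], [.a0]⟩,
  ⟨P1124, 0, [.a0], [.a0]⟩,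
  ⟨P1189, 1, [], []⟩,
  ⟨P1189, 0, [.a10], [.a10, .a11]⟩,
  ⟨P1150, 2, [], []⟩,
  ⟨P1158, 0, [], []⟩,
  ⟨P1189, 1, [.a1], [.a1, .a2]⟩,
  ⟨P1189, 0, [.a1, .a10], [.a1, .a2, .a4, .a5, .a7, .a9, .a10, .a11]⟩,
  ⟨P1200, 4, [], []⟩,
  ⟨P1206, 0, [], []⟩,
  ⟨P1189, 1, [.a0], [.a0]⟩,
  ⟨P1189, 0, [.a0, .a10], [.a0, .a1, .a2, .a3, .a4, .a6, .a8, .a9, .a10, .a11]⟩,
  ⟨P1200, 2, [.a0, .a1, .a3, .a5, .a6, .a7, .a8, .a9, .a10], [.a0, .a10, .a11]⟩,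
  ⟨P1206, 0, [.a0, .a1, .a3, .a5, .a6, .a7, .a8, .a9, .a10], [.a0, .a10, .a11]⟩,
  ⟨P1172, 1, [.a0], [.a0]⟩,
  ⟨P1172, 0, [.a0, .a10], [.a0, .a1, .a2, .a3, .a4, .a6, .a8, .a9, .a10, .a11]⟩,
  ⟨P1200, 3, [.a10], [.a10, .a11]⟩,
  ⟨P1206, 0, [.a10], [.a10, .a11]⟩,
  ⟨P1189, 1, [.a0, .a1], [.a0, .a1, .a2]⟩,
  ⟨P1189, 0, [.a0, .a1, .a3, .a5, .a6, .a7, .a8, .a9, .a10], [.a0, .a10, .a11]⟩,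
  ⟨P1200, 2, [.a0], [.a0]⟩,
  ⟨P1206, 0, [.a0], [.a0]⟩,
  ⟨P1172, 1, [.a0, .a1], [.a0, .a1, .a2]⟩,
  ⟨P1172, 0, [.a0, .a1, .a3, .a5, .a6, .a7, .a8, .a9, .a10], [.a0, .a10, .a11]⟩]
def N1396 : List Ent := [⟨1, [.a0], [.a0]⟩,
  ⟨2, [.a1], [.a1, .a2]⟩,
  ⟨4, [.a2], [.a2]⟩,
  ⟨8, [.a3], [.a3]⟩,
  ⟨16, [.a4, .a11], [.a4, .a5, .a11]⟩,
  ⟨32, [.a5], [.a5]⟩,
  ⟨64, [.a6], [.a6]⟩,
  ⟨128, [.a7, .a11], [.a7, .a8, .a11]⟩,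
  ⟨256, [.a8], [.a8]⟩,
  ⟨512, [.a9], [.a9]⟩,
  ⟨1024, [.a10], [.a10, .a11]⟩,
  ⟨2048, [.a11], [.a11]⟩]
theorem bad1396 (c : CtxF Goal γ) : Bad Goal γ [] P1396 :=
  c.toCtx.bnd (B := B1396) (D := D1396) (I := [5, 6, 7, 0, 1, 8, 3, 9]) (r := 5) (C := C1396) (N := N1396) (by decide +kernel) (by decide +kernel) (by decide +kernel) (by decide +kernel)
    (allB_cons (bad1084 c) (allB_cons (bad1172 c) (allB_cons (bad1172 c) (allB_cons (bad1102 c) (allB_cons (bad1124 c) (allB_cons (bad1172 c) (allB_cons (bad1172 c) (allB_cons (bad1102 c) (allB_cons (bad1124 c) (allB_cons (bad1189 c) (allB_cons (bad1189 c) (allB_cons (bad1150 c) (allB_cons (bad1158 c) (allB_cons (bad1189 c) (allB_cons (bad1189 c) (allB_cons (bad1200 c) (allB_cons (bad1206 c) (allB_cons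 (bad1189 c) (allB_cons (bad1189 c) (allB_cons (bad1200 c) (allB_cons (bad1206 c) (allB_cons (bad1172 c) (allB_cons (bad1172 c) (allB_cons (bad1200 c) (allB_cons (bad1206 c) (allB_cons (bad1189 c) (allB_cons (bad1189 c) (allB_cons (bad1200 c) (allB_cons (bad1206 c) (allB_cons (bad1172 c) (allB_cons (bad1172 c) (allB_nil))))))))))))))))))))))))))))))))

def P1397 : List Ent := [⟨4, [.a2, .a10], [.a2, .a3, .a5, .a8, .a10, .a11]⟩,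
  ⟨8, [.a3, .a11], [.a3, .a8, .a11]⟩,
  ⟨16, [.a4], [.a4, .a5]⟩,
  ⟨32, [.a5], [.a5]⟩,
  ⟨64, [.a6], [.a6]⟩,
  ⟨128, [.a7], [.a7, .a8]⟩,
  ⟨256, [.a8], [.a8]⟩,
  ⟨512, [.a9], [.a9]⟩]
def B1397 : List Gv := [⟨[.a2, .a10], [.a2, .a3, .a5, .a8, .a10, .a11]⟩, ⟨[.a4], [.a4, .a5]⟩, ⟨[.a7], [.a7, .a8]⟩]
def D1397 : List Dv := [⟨[.a3, .a6, .a8, .a11], [0, 0], []⟩,
  ⟨[.a5], [2, 2], []⟩,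
  ⟨[.a9], [0, 4, 2], [2, 4]⟩,
  ⟨[.a6], [5, 4], [4, 5]⟩,
  ⟨[.a8], [6, 6], []⟩,
  ⟨[.a3, .a11], [4], [1, 0]⟩]
def C1397 : List Ch := [⟨P1080, 0, [], []⟩,
  ⟨P1104, 1, [], []⟩,
  ⟨P1104, 0, [.a1], [.a1, .a2]⟩,
  ⟨P1142, 2, [], []⟩,
  ⟨P1143, 0, [.a1], [.a1, .a2]⟩,
  ⟨P1152, 1, [], []⟩,
  ⟨P1160, 0, [], []⟩]
def S1397 : List St := [.comm 1 1 [⟨32, [.a5, .a9], [.a5, .a9]⟩,
  ⟨64, [.a6], [.a6]⟩,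
  ⟨256, [.a8], [.a8]⟩,
  ⟨512, [.a9], [.a9]⟩] [⟨[.a7], [.a2, .a10]⟩, ⟨[.a4], [.a7]⟩, ⟨[.a4], [.a9]⟩, ⟨[.a7, .a9], [.a2, .a10]⟩]]
theorem bad1397 (c : CtxF Goal γ) : Bad Goal γ [] P1397 :=
  c.toCtx.chn (B := B1397) (D := D1397) (I := [6, 0, 7, 4, 2, 8, 1, 3]) (r := 3) (C := C1397) (l := S1397) (x := ⟨[.a11], [.a11]⟩) (ix := [0]) (by decide +kernel) (by decide +kernel) (by decide +kernel) (by decide +kernel)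
    (allB_cons (bad1080 c) (allB_cons (bad1104 c) (allB_cons (bad1104 c) (allB_cons (bad1142 c) (allB_cons (bad1143 c) (allB_cons (bad1152 c) (allB_cons (bad1160 c) (allB_nil))))))))

def P1398 : List Ent := [⟨4, [.a2, .a10], [.a2, .a3, .a5, .a8, .a10, .a11]⟩,
  ⟨8, [.a3, .a11], [.a3, .a8, .a11]⟩,
  ⟨16, [.a4], [.a4, .a5]⟩,
  ⟨32, [.a5], [.a5]⟩,
  ⟨64, [.a6], [.a6]⟩,
  ⟨128, [.a7, .a11], [.a7, .a8, .a11]⟩,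
  ⟨256, [.a8], [.a8]⟩,
  ⟨512, [.a9], [.a9]⟩]
def B1398 : List Gv := [⟨[.a2, .a10], [.a2, .a3, .a5, .a8, .a10, .a11]⟩, ⟨[.a4], [.a4, .a5]⟩, ⟨[.a7, .a11], [.a7, .a8, .a11]⟩]
def D1398 : List Dv := [⟨[.a3, .a6, .a8, .a11], [0, 0], []⟩,
  ⟨[.a5], [2, 2], []⟩,
  ⟨[.a6, .a8, .a9], [4, 2], [2, 4]⟩,
  ⟨[.a8, .a9], [0, 5, 4], [4, 5]⟩,
  ⟨[.a9], [0, 6, 6], []⟩,
  ⟨[.a8], [1], [0]⟩,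
  ⟨[.a6], [3], [0, 1]⟩,
  ⟨[.a3, .a11], [6], [0, 1]⟩]
def C1398 : List Ch := [⟨P1083, 0, [], []⟩,
  ⟨P1105, 1, [], []⟩,
  ⟨P1105, 0, [.a1, .a10], [.a1, .a2, .a4, .a5, .a7, .a9, .a10, .a11]⟩,
  ⟨P1142, 2, [], []⟩,
  ⟨P1143, 0, [.a1, .a10], [.a1, .a2, .a4, .a5, .a7, .a9, .a10, .a11]⟩,
  ⟨P1152, 1, [.a1, .a10], [.a1, .a2, .a4, .a5, .a7, .a9, .a10, .a11]⟩,
  ⟨P1160, 0, [.a1], [.a1, .a2]⟩]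
def S1398 : List St := [.comm 1 1 [⟨32, [.a5], [.a5]⟩,
  ⟨64, [.a6], [.a6]⟩,
  ⟨256, [.a8], [.a8]⟩,
  ⟨512, [.a9], [.a9]⟩] [⟨[.a9], [.a2, .a10]⟩, ⟨[.a4], [.a3, .a7]⟩, ⟨[.a4], [.a9]⟩, ⟨[.a7, .a11], [.a2, .a4, .a10]⟩]]
theorem bad1398 (c : CtxF Goal γ) : Bad Goal γ [] P1398 :=
  c.toCtx.chn (B := B1398) (D := D1398) (I := [8, 0, 9, 6, 1, 10, 2, 3]) (r := 3) (C := C1398) (l := S1398) (x := ⟨[.a11], [.a11]⟩) (ix := [0]) (by decide +kernel) (by decide +kernel) (by decide +kernel) (by decide +kernel)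
    (allB_cons (bad1083 c) (allB_cons (bad1105 c) (allB_cons (bad1105 c) (allB_cons (bad1142 c) (allB_cons (bad1143 c) (allB_cons (bad1152 c) (allB_cons (bad1160 c) (allB_nil))))))))

def P1399 : List Ent := [⟨2, [.a1], [.a1, .a2]⟩,
  ⟨4, [.a2], [.a2]⟩,
  ⟨8, [.a3], [.a3]⟩,
  ⟨32, [.a5], [.a5]⟩,
  ⟨64, [.a6], [.a6]⟩,
  ⟨256, [.a8], [.a8]⟩,
  ⟨512, [.a9], [.a9]⟩,
  ⟨2048, [.a11], [.a11]⟩]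
def B1399 : List Gv := [⟨[.a1], [.a1, .a2]⟩, ⟨[.a3], [.a3]⟩, ⟨[.a11], [.a11]⟩]
def D1399 : List Dv := [⟨[.a2], [0, 0], []⟩,
  ⟨[.a5, .a6, .a9], [3, 1], [1, 3]⟩,
  ⟨[.a8], [4, 3], [3, 4]⟩,
  ⟨[.a9], [0, 1, 2, 5], [5, 2]⟩,
  ⟨[.a6, .a9], [2, 2, 3], [3, 2]⟩,
  ⟨[.a6], [0], [1]⟩,
  ⟨[.a5], [4], [0, 2]⟩]
def C1399 : List Ch := [⟨P1087, 0, [], []⟩,
  ⟨P1212, 1, [], []⟩,
  ⟨P1212, 0, [.a4], [.a4, .a5]⟩,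
  ⟨P1213, 2, [], []⟩,
  ⟨P1214, 0, [], []⟩,
  ⟨P1215, 1, [], []⟩,
  ⟨P1215, 0, [.a4], [.a4, .a5]⟩]
def N1399 : List Ent := [⟨2, [.a1], [.a1, .a2]⟩,
  ⟨4, [.a2], [.a2]⟩,
  ⟨8, [.a3], [.a3]⟩,
  ⟨16, [.a4], [.a4, .a5]⟩,
  ⟨32, [.a5], [.a5]⟩,
  ⟨64, [.a6], [.a6]⟩,
  ⟨128, [.a7], [.a7, .a8]⟩,
  ⟨256, [.a8], [.a8]⟩,
  ⟨512, [.a9], [.a9]⟩,
  ⟨2048, [.a11], [.a11]⟩]
theorem bad1399 (c : CtxF Goal γ) : Bad Goal γ [] P1399 :=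
  c.toCtx.bnd (B := B1399) (D := D1399) (I := [7, 6, 8, 0, 1, 4, 3, 9]) (r := 3) (C := C1399) (N := N1399) (by decide +kernel) (by decide +kernel) (by decide +kernel) (by decide +kernel)
    (allB_cons (bad1087 c) (allB_cons (bad1212 c) (allB_cons (bad1212 c) (allB_cons (bad1213 c) (allB_cons (bad1214 c) (allB_cons (bad1215 c) (allB_cons (bad1215 c) (allB_nil))))))))

end Cfsg.Agent.H782.TF.Full
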