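import Cfsg.Agent.H782.TF.Full7

/-!
# S5262, q = 2: certificate of the subgroup tree, part 8 (generated; helper782)
-/

set_option autoImplicit false
set_option maxRecDepth 100000

namespace Cfsg.Agent.H782.TF.Full

open Cfsg.Agent.H782.TF

universe u

variable {U : Type u} [Group U] {Goal : Subgroup U → Prop} {γ : ℕ → U}

def P1400 : List Ent := [⟨2, [.a1], [.a1, .a2]⟩,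
  ⟨4, [.a2], [.a2]⟩,
  ⟨8, [.a3], [.a3]⟩,
  ⟨16, [.a4, .a7], [.a4, .a5, .a6, .a7, .a8]⟩,
  ⟨32, [.a5], [.a5]⟩,
  ⟨64, [.a6], [.a6]⟩,
  ⟨256, [.a8], [.a8]⟩,
  ⟨512, [.a9], [.a9]⟩]
def B1400 : List Gv := [⟨[.a1], [.a1, .a2]⟩, ⟨[.a4, .a7], [.a4, .a5, .a6, .a7, .a8]⟩, ⟨[.a9], [.a9]⟩]
def D1400 : List Dv := [⟨[.a2], [0, 0], []⟩,
  ⟨[.a3], [2, 1], [1, 2]⟩,
  ⟨[.a5, .a6, .a8], [3, 3], []⟩,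
  ⟨[.a6, .a8], [5, 3], [3, 5]⟩,
  ⟨[.a8], [6, 5], [5, 6]⟩,
  ⟨[.a6], [1], [0]⟩,
  ⟨[.a5], [3], [0, 1]⟩]
def C1400 : List Ch := [⟨P1150, 0, [], []⟩,
  ⟨P1213, 1, [], []⟩,
  ⟨P1213, 0, [.a10], [.a10, .a11]⟩,
  ⟨P1216, 2, [], []⟩,
  ⟨P1216, 0, [.a11], [.a11]⟩,
  ⟨P1216, 1, [.a10, .a11], [.a10]⟩,
  ⟨P1216, 0, [.a10], [.a10, .a11]⟩]
def N1400 : List Ent := [⟨1, [.a0], [.a0]⟩,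
  ⟨2, [.a1], [.a1, .a2]⟩,
  ⟨4, [.a2], [.a2]⟩,
  ⟨8, [.a3], [.a3]⟩,
  ⟨16, [.a4, .a7], [.a4, .a5, .a6, .a7, .a8]⟩,
  ⟨32, [.a5], [.a5]⟩,
  ⟨64, [.a6], [.a6]⟩,
  ⟨128, [.a7], [.a7, .a8]⟩,
  ⟨256, [.a8], [.a8]⟩,
  ⟨512, [.a9], [.a9]⟩,
  ⟨1024, [.a10], [.a10, .a11]⟩,
  ⟨2048, [.a11], [.a11]⟩]
theorem bad1400 (c : CtxF Goal γ) : Bad Goal γ [] P1400 :=
  c.toCtx.bnd (B := B1400) (D := D1400) (I := [7, 6, 5, 8, 0, 1, 2, 9]) (r := 3) (C := C1400) (N := N1400) (by decide +kernel) (by decide +kernel) (by decide +kernel) (by decide +kernel)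
    (allB_cons (bad1150 c) (allB_cons (bad1213 c) (allB_cons (bad1213 c) (allB_cons (bad1216 c) (allB_cons (bad1216 c) (allB_cons (bad1216 c) (allB_cons (bad1216 c) (allB_nil))))))))

def P1401 : List Ent := [⟨2, [.a1, .a11], [.a1, .a2, .a5, .a6, .a9, .a11]⟩,
  ⟨4, [.a2], [.a2]⟩,
  ⟨8, [.a3], [.a3]⟩,
  ⟨16, [.a4, .a7], [.a4, .a5, .a6, .a7, .a8]⟩,
  ⟨32, [.a5], [.a5]⟩,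
  ⟨64, [.a6], [.a6]⟩,
  ⟨256, [.a8], [.a8]⟩,
  ⟨512, [.a9], [.a9]⟩]
def B1401 : List Gv := [⟨[.a1, .a11], [.a1, .a2, .a5, .a6, .a9, .a11]⟩, ⟨[.a2], [.a2]⟩, ⟨[.a4, .a7], [.a4, .a5, .a6, .a7, .a8]⟩]
def D1401 : List Dv := [⟨[.a5, .a8, .a9], [1, 0, 0], []⟩,
  ⟨[.a6, .a8], [2, 1], [1, 2]⟩,
  ⟨[.a3], [4, 2], [2, 4]⟩,
  ⟨[.a8, .a9], [1, 2, 5, 5], []⟩,
  ⟨[.a9], [0, 3, 6], [6, 3]⟩,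
  ⟨[.a8], [1], [0]⟩,
  ⟨[.a6], [4], [0]⟩,
  ⟨[.a5], [6], [1, 2]⟩]
def C1401 : List Ch := [⟨P1150, 0, [], []⟩,
  ⟨P1217, 1, [], []⟩,
  ⟨P1217, 0, [.a1], [.a1, .a2]⟩,
  ⟨P1214, 2, [], []⟩,
  ⟨P1214, 0, [.a0], [.a0]⟩,
  ⟨P1217, 1, [.a0, .a10], [.a0, .a1, .a2, .a3, .a4, .a6, .a8, .a9, .a10, .a11]⟩,
  ⟨P1217, 0, [.a10], [.a10, .a11]⟩]
def N1401 : List Ent := [⟨1, [.a0], [.a0]⟩,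
  ⟨2, [.a1, .a11], [.a1, .a2, .a5, .a6, .a9, .a11]⟩,
  ⟨4, [.a2], [.a2]⟩,
  ⟨8, [.a3], [.a3]⟩,
  ⟨16, [.a4, .a7], [.a4, .a5, .a6, .a7, .a8]⟩,
  ⟨32, [.a5], [.a5]⟩,
  ⟨64, [.a6], [.a6]⟩,
  ⟨128, [.a7], [.a7, .a8]⟩,
  ⟨256, [.a8], [.a8]⟩,
  ⟨512, [.a9], [.a9]⟩,
  ⟨1024, [.a10], [.a10, .a11]⟩,
  ⟨2048, [.a11], [.a11]⟩]
theorem bad1401 (c : CtxF Goal γ) : Bad Goal γ [] P1401 :=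
  c.toCtx.bnd (B := B1401) (D := D1401) (I := [8, 9, 5, 10, 0, 1, 2, 3]) (r := 3) (C := C1401) (N := N1401) (by decide +kernel) (by decide +kernel) (by decide +kernel) (by decide +kernel)
    (allB_cons (bad1150 c) (allB_cons (bad1217 c) (allB_cons (bad1217 c) (allB_cons (bad1214 c) (allB_cons (bad1214 c) (allB_cons (bad1217 c) (allB_cons (bad1217 c) (allB_nil))))))))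

def P1402 : List Ent := [⟨2, [.a1, .a7], [.a1, .a2, .a7, .a8]⟩,
  ⟨4, [.a2], [.a2]⟩,
  ⟨8, [.a3], [.a3]⟩,
  ⟨32, [.a5], [.a5]⟩,
  ⟨64, [.a6], [.a6]⟩,
  ⟨256, [.a8], [.a8]⟩,
  ⟨512, [.a9], [.a9]⟩,
  ⟨2048, [.a11], [.a11]⟩]
def B1402 : List Gv := [⟨[.a1, .a7], [.a1, .a2, .a7, .a8]⟩, ⟨[.a3], [.a3]⟩, ⟨[.a11], [.a11]⟩]
def D1402 : List Dv := [⟨[.a2, .a8], [0, 0], []⟩,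
  ⟨[.a5], [2, 1], [1, 2]⟩,
  ⟨[.a6, .a9], [0, 4, 2], [2, 4]⟩,
  ⟨[.a8], [5, 4], [4, 5]⟩,
  ⟨[.a9], [0, 1, 2, 3, 6], [6, 3]⟩,
  ⟨[.a6], [2], [0]⟩,
  ⟨[.a2], [5], [2]⟩]
def C1402 : List Ch := [⟨P1087, 0, [], []⟩,
  ⟨P1218, 1, [], []⟩,
  ⟨P1218, 0, [.a4], [.a4, .a5]⟩,
  ⟨P1219, 2, [], []⟩,
  ⟨P1220, 0, [], []⟩,
  ⟨P1221, 1, [], []⟩,
  ⟨P1221, 0, [.a4], [.a4, .a5]⟩]
def N1402 : List Ent := [⟨2, [.a1, .a7], [.a1, .a2, .a7, .a8]⟩,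
  ⟨4, [.a2], [.a2]⟩,
  ⟨8, [.a3], [.a3]⟩,
  ⟨16, [.a4], [.a4, .a5]⟩,
  ⟨32, [.a5], [.a5]⟩,
  ⟨64, [.a6], [.a6]⟩,
  ⟨128, [.a7], [.a7, .a8]⟩,
  ⟨256, [.a8], [.a8]⟩,
  ⟨512, [.a9], [.a9]⟩,
  ⟨2048, [.a11], [.a11]⟩]
theorem bad1402 (c : CtxF Goal γ) : Bad Goal γ [] P1402 :=
  c.toCtx.bnd (B := B1402) (D := D1402) (I := [7, 0, 8, 5, 1, 3, 2, 9]) (r := 3) (C := C1402) (N := N1402) (by decide +kernel) (by decide +kernel) (by decide +kernel) (by decide +kernel)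
    (allB_cons (bad1087 c) (allB_cons (bad1218 c) (allB_cons (bad1218 c) (allB_cons (bad1219 c) (allB_cons (bad1220 c) (allB_cons (bad1221 c) (allB_cons (bad1221 c) (allB_nil))))))))

def P1403 : List Ent := [⟨2, [.a1, .a7], [.a1, .a2, .a7, .a8]⟩,
  ⟨4, [.a2], [.a2]⟩,
  ⟨8, [.a3], [.a3]⟩,
  ⟨16, [.a4, .a7], [.a4, .a5, .a6, .a7, .a8]⟩,
  ⟨32, [.a5], [.a5]⟩,
  ⟨64, [.a6], [.a6]⟩,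
  ⟨256, [.a8], [.a8]⟩,
  ⟨512, [.a9], [.a9]⟩]
def B1403 : List Gv := [⟨[.a1, .a7], [.a1, .a2, .a7, .a8]⟩, ⟨[.a4, .a7], [.a4, .a5, .a6, .a7, .a8]⟩, ⟨[.a9], [.a9]⟩]
def D1403 : List Dv := [⟨[.a2, .a8], [0, 0], []⟩,
  ⟨[.a3, .a5, .a6], [2, 1], [1, 2]⟩,
  ⟨[.a5, .a6, .a8], [3, 3], []⟩,
  ⟨[.a6, .a8], [5, 3], [3, 5]⟩,
  ⟨[.a8], [6, 5], [5, 6]⟩,
  ⟨[.a6], [1], [0]⟩,
  ⟨[.a5], [3], [0, 1]⟩,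
  ⟨[.a3], [5], [0, 1]⟩,
  ⟨[.a2], [7], [3]⟩]
def C1403 : List Ch := [⟨P1150, 0, [], []⟩,
  ⟨P1219, 1, [], []⟩,
  ⟨P1219, 0, [.a10], [.a10, .a11]⟩,
  ⟨P1222, 2, [], []⟩,
  ⟨P1222, 0, [.a11], [.a11]⟩,
  ⟨P1222, 1, [.a10], [.a10, .a11]⟩,
  ⟨P1222, 0, [.a10, .a11], [.a10]⟩]
def N1403 : List Ent := [⟨1, [.a0], [.a0]⟩,
  ⟨2, [.a1, .a7], [.a1, .a2, .a7, .a8]⟩,
  ⟨4, [.a2], [.a2]⟩,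
  ⟨8, [.a3], [.a3]⟩,
  ⟨16, [.a4, .a7], [.a4, .a5, .a6, .a7, .a8]⟩,
  ⟨32, [.a5], [.a5]⟩,
  ⟨64, [.a6], [.a6]⟩,
  ⟨128, [.a7], [.a7, .a8]⟩,
  ⟨256, [.a8], [.a8]⟩,
  ⟨512, [.a9], [.a9]⟩,
  ⟨1024, [.a10], [.a10, .a11]⟩,
  ⟨2048, [.a11], [.a11]⟩]
theorem bad1403 (c : CtxF Goal γ) : Bad Goal γ [] P1403 :=
  c.toCtx.bnd (B := B1403) (D := D1403) (I := [9, 0, 1, 10, 2, 3, 4, 11]) (r := 3) (C := C1403) (N := N1403) (by decide +kernel) (by decide +kernel) (by decide +kernel) (by decide +kernel)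
    (allB_cons (bad1150 c) (allB_cons (bad1219 c) (allB_cons (bad1219 c) (allB_cons (bad1222 c) (allB_cons (bad1222 c) (allB_cons (bad1222 c) (allB_cons (bad1222 c) (allB_nil))))))))

def P1404 : List Ent := [⟨2, [.a1, .a7, .a11], [.a1, .a2, .a5, .a6, .a7, .a8, .a9, .a11]⟩,
  ⟨4, [.a2], [.a2]⟩,
  ⟨8, [.a3], [.a3]⟩,
  ⟨16, [.a4, .a7], [.a4, .a5, .a6, .a7, .a8]⟩,
  ⟨32, [.a5], [.a5]⟩,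
  ⟨64, [.a6], [.a6]⟩,
  ⟨256, [.a8], [.a8]⟩,
  ⟨512, [.a9], [.a9]⟩]
def B1404 : List Gv := [⟨[.a1, .a7, .a11], [.a1, .a2, .a5, .a6, .a7, .a8, .a9, .a11]⟩, ⟨[.a2], [.a2]⟩, ⟨[.a4, .a7], [.a4, .a5, .a6, .a7, .a8]⟩]
def D1404 : List Dv := [⟨[.a5, .a9], [1, 0, 0], []⟩,
  ⟨[.a6, .a8], [2, 1], [1, 2]⟩,
  ⟨[.a3, .a5, .a6], [4, 2], [2, 4]⟩,
  ⟨[.a9], [1, 2, 5, 5], []⟩,
  ⟨[.a8], [3, 6], [6, 3]⟩,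
  ⟨[.a6], [3], [0]⟩,
  ⟨[.a5], [5], [2]⟩,
  ⟨[.a3], [4], [0, 1]⟩]
def C1404 : List Ch := [⟨P1150, 0, [], []⟩,
  ⟨P1223, 1, [], []⟩,
  ⟨P1223, 0, [.a0], [.a0]⟩,
  ⟨P1220, 2, [], []⟩,
  ⟨P1220, 0, [.a0], [.a0]⟩,
  ⟨P1223, 1, [.a10], [.a10, .a11]⟩,
  ⟨P1223, 0, [.a0, .a1, .a3, .a5, .a6, .a7, .a8, .a9, .a10], [.a0, .a10, .a11]⟩]
def N1404 : List Ent := [⟨1, [.a0], [.a0]⟩,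
  ⟨2, [.a1, .a7, .a11], [.a1, .a2, .a5, .a6, .a7, .a8, .a9, .a11]⟩,
  ⟨4, [.a2], [.a2]⟩,
  ⟨8, [.a3], [.a3]⟩,
  ⟨16, [.a4, .a7], [.a4, .a5, .a6, .a7, .a8]⟩,
  ⟨32, [.a5], [.a5]⟩,
  ⟨64, [.a6], [.a6]⟩,
  ⟨128, [.a7], [.a7, .a8]⟩,
  ⟨256, [.a8], [.a8]⟩,
  ⟨512, [.a9], [.a9]⟩,
  ⟨1024, [.a10], [.a10, .a11]⟩,
  ⟨2048, [.a11], [.a11]⟩]
theorem bad1404 (c : CtxF Goal γ) : Bad Goal γ [] P1404 :=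
  c.toCtx.bnd (B := B1404) (D := D1404) (I := [8, 9, 0, 10, 1, 2, 3, 4]) (r := 3) (C := C1404) (N := N1404) (by decide +kernel) (by decide +kernel) (by decide +kernel) (by decide +kernel)
    (allB_cons (bad1150 c) (allB_cons (bad1223 c) (allB_cons (bad1223 c) (allB_cons (bad1220 c) (allB_cons (bad1220 c) (allB_cons (bad1223 c) (allB_cons (bad1223 c) (allB_nil))))))))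

def P1405 : List Ent := [⟨2, [.a1], [.a1, .a2]⟩,
  ⟨4, [.a2], [.a2]⟩,
  ⟨32, [.a5], [.a5]⟩,
  ⟨64, [.a6], [.a6]⟩,
  ⟨128, [.a7], [.a7, .a8]⟩,
  ⟨256, [.a8], [.a8]⟩,
  ⟨512, [.a9], [.a9]⟩,
  ⟨2048, [.a11], [.a11]⟩]
def B1405 : List Gv := [⟨[.a1], [.a1, .a2]⟩, ⟨[.a7], [.a7, .a8]⟩, ⟨[.a11], [.a11]⟩]
def D1405 : List Dv := [⟨[.a2], [0, 0], []⟩,
  ⟨[.a8], [2, 2], []⟩,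
  ⟨[.a5, .a6, .a9], [4, 2], [2, 4]⟩,
  ⟨[.a9], [1, 0, 2, 5], [5, 2]⟩,
  ⟨[.a6, .a9], [1, 1, 3], [3, 1]⟩,
  ⟨[.a6], [0], [1]⟩,
  ⟨[.a5], [3], [0, 2]⟩]
def C1405 : List Ch := [⟨P1093, 0, [], []⟩,
  ⟨P1212, 1, [], []⟩,
  ⟨P1218, 0, [], []⟩,
  ⟨P1224, 2, [], []⟩,
  ⟨P1225, 0, [], []⟩,
  ⟨P1226, 1, [], []⟩,
  ⟨P1227, 0, [], []⟩]
def S1405 : List St := [.cent 1 1 0 [⟨32, [.a5], [.a5]⟩,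
  ⟨128, [.a7], [.a7, .a8]⟩,
  ⟨256, [.a8], [.a8]⟩],
  .om 0 [⟨32, [.a5], [.a5]⟩,
  ⟨256, [.a8], [.a8]⟩] [[[.a5]], [[.a8]]]]
theorem bad1405 (c : CtxF Goal γ) : Bad Goal γ [] P1405 :=
  c.toCtx.chn (B := B1405) (D := D1405) (I := [7, 6, 0, 1, 8, 5, 3, 9]) (r := 3) (C := C1405) (l := S1405) (x := ⟨[.a3], [.a3]⟩) (ix := [0]) (by decide +kernel) (by decide +kernel) (by decide +kernel) (by decide +kernel)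
    (allB_cons (bad1093 c) (allB_cons (bad1212 c) (allB_cons (bad1218 c) (allB_cons (bad1224 c) (allB_cons (bad1225 c) (allB_cons (bad1226 c) (allB_cons (bad1227 c) (allB_nil))))))))

def P1406 : List Ent := [⟨2, [.a1], [.a1, .a2]⟩,
  ⟨4, [.a2], [.a2]⟩,
  ⟨8, [.a3, .a7], [.a3, .a5, .a7, .a8]⟩,
  ⟨32, [.a5], [.a5]⟩,
  ⟨64, [.a6], [.a6]⟩,
  ⟨256, [.a8], [.a8]⟩,
  ⟨512, [.a9], [.a9]⟩,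
  ⟨2048, [.a11], [.a11]⟩]
def B1406 : List Gv := [⟨[.a1], [.a1, .a2]⟩, ⟨[.a3, .a7], [.a3, .a5, .a7, .a8]⟩, ⟨[.a11], [.a11]⟩]
def D1406 : List Dv := [⟨[.a2], [0, 0], []⟩,
  ⟨[.a5, .a8], [2, 2], []⟩,
  ⟨[.a6, .a8, .a9], [0, 4, 2], [2, 4]⟩,
  ⟨[.a8], [5, 4], [4, 5]⟩,
  ⟨[.a9], [0, 1, 2, 3, 6], [6, 3]⟩,
  ⟨[.a6], [2], [1, 0]⟩,
  ⟨[.a5], [4], [2]⟩]
def C1406 : List Ch := [⟨P1094, 0, [], []⟩,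
  ⟨P1212, 1, [], []⟩,
  ⟨P1218, 0, [.a4], [.a4, .a5]⟩,
  ⟨P1228, 2, [], []⟩,
  ⟨P1229, 0, [], []⟩,
  ⟨P1230, 1, [], []⟩,
  ⟨P1231, 0, [], []⟩]
def S1406 : List St := [.cent 1 1 0 [⟨32, [.a5], [.a5]⟩,
  ⟨256, [.a8], [.a8]⟩]]
theorem bad1406 (c : CtxF Goal γ) : Bad Goal γ [] P1406 :=
  c.toCtx.chn (B := B1406) (D := D1406) (I := [7, 6, 8, 0, 1, 3, 2, 9]) (r := 3) (C := C1406) (l := S1406) (x := ⟨[.a7], [.a7, .a8]⟩) (ix := [0]) (by decide +kernel) (by decide +kernel) (by decide +kernel) (by decide +kernel)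
    (allB_cons (bad1094 c) (allB_cons (bad1212 c) (allB_cons (bad1218 c) (allB_cons (bad1228 c) (allB_cons (bad1229 c) (allB_cons (bad1230 c) (allB_cons (bad1231 c) (allB_nil))))))))

def P1407 : List Ent := [⟨2, [.a1], [.a1, .a2]⟩,
  ⟨4, [.a2], [.a2]⟩,
  ⟨8, [.a3], [.a3]⟩,
  ⟨32, [.a5], [.a5]⟩,
  ⟨64, [.a6], [.a6]⟩,
  ⟨128, [.a7], [.a7, .a8]⟩,
  ⟨256, [.a8], [.a8]⟩,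
  ⟨512, [.a9], [.a9]⟩]
def B1407 : List Gv := [⟨[.a1], [.a1, .a2]⟩, ⟨[.a3], [.a3]⟩, ⟨[.a7], [.a7, .a8]⟩, ⟨[.a9], [.a9]⟩]
def D1407 : List Dv := [⟨[.a2], [0, 0], []⟩,
  ⟨[.a5], [3, 2], [2, 3]⟩,
  ⟨[.a8], [4, 4], []⟩,
  ⟨[.a6, .a8], [6, 3], [3, 6]⟩,
  ⟨[.a6], [0], [1]⟩]
def C1407 : List Ch := [⟨P1099, 0, [], []⟩,
  ⟨P1224, 1, [], []⟩,
  ⟨P1224, 0, [.a4], [.a4, .a5]⟩,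
  ⟨P1213, 2, [], []⟩,
  ⟨P1219, 0, [], []⟩,
  ⟨P1228, 1, [], []⟩,
  ⟨P1228, 0, [.a4], [.a4, .a5]⟩,
  ⟨P1232, 3, [], []⟩,
  ⟨P1232, 0, [.a11], [.a11]⟩,
  ⟨P1228, 1, [.a0], [.a0]⟩,
  ⟨P1228, 0, [.a0, .a2, .a4], [.a0, .a4, .a5]⟩,
  ⟨P1233, 2, [], []⟩,
  ⟨P1233, 0, [.a11], [.a11]⟩,
  ⟨P1224, 1, [.a0], [.a0]⟩,
  ⟨P1224, 0, [.a0, .a2, .a4], [.a0, .a4, .a5]⟩]
def N1407 : List Ent := [⟨1, [.a0], [.a0]⟩,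
  ⟨2, [.a1], [.a1, .a2]⟩,
  ⟨4, [.a2], [.a2]⟩,
  ⟨8, [.a3], [.a3]⟩,
  ⟨16, [.a4], [.a4, .a5]⟩,
  ⟨32, [.a5], [.a5]⟩,
  ⟨64, [.a6], [.a6]⟩,
  ⟨128, [.a7], [.a7, .a8]⟩,
  ⟨256, [.a8], [.a8]⟩,
  ⟨512, [.a9], [.a9]⟩,
  ⟨2048, [.a11], [.a11]⟩]
theorem bad1407 (c : CtxF Goal γ) : Bad Goal γ [] P1407 :=
  c.toCtx.bnd (B := B1407) (D := D1407) (I := [5, 4, 6, 3, 0, 7, 2, 8]) (r := 4) (C := C1407) (N := N1407) (by decide +kernel) (by decide +kernel) (by decide +kernel) (by decide +kernel)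
    (allB_cons (bad1099 c) (allB_cons (bad1224 c) (allB_cons (bad1224 c) (allB_cons (bad1213 c) (allB_cons (bad1219 c) (allB_cons (bad1228 c) (allB_cons (bad1228 c) (allB_cons (bad1232 c) (allB_cons (bad1232 c) (allB_cons (bad1228 c) (allB_cons (bad1228 c) (allB_cons (bad1233 c) (allB_cons (bad1233 c) (allB_cons (bad1224 c) (allB_cons (bad1224 c) (allB_nil))))))))))))))))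

def P1408 : List Ent := [⟨2, [.a1, .a11], [.a1, .a2, .a5, .a6, .a9, .a11]⟩,
  ⟨4, [.a2], [.a2]⟩,
  ⟨8, [.a3], [.a3]⟩,
  ⟨32, [.a5], [.a5]⟩,
  ⟨64, [.a6], [.a6]⟩,
  ⟨128, [.a7], [.a7, .a8]⟩,
  ⟨256, [.a8], [.a8]⟩,
  ⟨512, [.a9], [.a9]⟩]
def B1408 : List Gv := [⟨[.a1, .a11], [.a1, .a2, .a5, .a6, .a9, .a11]⟩, ⟨[.a2], [.a2]⟩, ⟨[.a3], [.a3]⟩, ⟨[.a7], [.a7, .a8]⟩]
def D1408 : List Dv := [⟨[.a5, .a8, .a9], [1, 0, 0], []⟩,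
  ⟨[.a6, .a8], [2, 1], [1, 2]⟩,
  ⟨[.a8], [4, 2], [2, 4]⟩,
  ⟨[.a9], [0, 2, 6, 5], [5, 6]⟩,
  ⟨[.a6], [2], [1]⟩,
  ⟨[.a5], [4], [2, 1]⟩]
def C1408 : List Ch := [⟨P1099, 0, [], []⟩,
  ⟨P1234, 1, [], []⟩,
  ⟨P1234, 0, [.a1], [.a1, .a2]⟩,
  ⟨P1225, 2, [], []⟩,
  ⟨P1225, 0, [.a4], [.a4, .a5]⟩,
  ⟨P1225, 1, [.a0, .a1, .a3, .a5, .a6, .a7, .a8, .a9, .a10], [.a0, .a10, .a11]⟩,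
  ⟨P1225, 0, [.a0, .a10], [.a0, .a1, .a2, .a3, .a4, .a6, .a8, .a9, .a10, .a11]⟩,
  ⟨P1214, 3, [], []⟩,
  ⟨P1220, 0, [], []⟩,
  ⟨P1235, 1, [], []⟩,
  ⟨P1235, 0, [.a1], [.a1, .a2]⟩,
  ⟨P1229, 2, [], []⟩,
  ⟨P1229, 0, [.a4], [.a4, .a5]⟩,
  ⟨P1229, 1, [.a0, .a1, .a3, .a5, .a6, .a7, .a8, .a9, .a10], [.a0, .a10, .a11]⟩,
  ⟨P1229, 0, [.a0, .a10], [.a0, .a1, .a2, .a3, .a4, .a6, .a8, .a9, .a10, .a11]⟩]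
def N1408 : List Ent := [⟨1, [.a0, .a10], [.a0, .a1, .a2, .a3, .a4, .a6, .a8, .a9, .a10, .a11]⟩,
  ⟨2, [.a1, .a11], [.a1, .a2, .a5, .a6, .a9, .a11]⟩,
  ⟨4, [.a2], [.a2]⟩,
  ⟨8, [.a3], [.a3]⟩,
  ⟨16, [.a4], [.a4, .a5]⟩,
  ⟨32, [.a5], [.a5]⟩,
  ⟨64, [.a6], [.a6]⟩,
  ⟨128, [.a7], [.a7, .a8]⟩,
  ⟨256, [.a8], [.a8]⟩,
  ⟨512, [.a9], [.a9]⟩,
  ⟨2048, [.a11], [.a11]⟩]
theorem bad1408 (c : CtxF Goal γ) : Bad Goal γ [] P1408 :=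
  c.toCtx.bnd (B := B1408) (D := D1408) (I := [6, 7, 8, 0, 1, 9, 3, 2]) (r := 4) (C := C1408) (N := N1408) (by decide +kernel) (by decide +kernel) (by decide +kernel) (by decide +kernel)
    (allB_cons (bad1099 c) (allB_cons (bad1234 c) (allB_cons (bad1234 c) (allB_cons (bad1225 c) (allB_cons (bad1225 c) (allB_cons (bad1225 c) (allB_cons (bad1225 c) (allB_cons (bad1214 c) (allB_cons (bad1220 c) (allB_cons (bad1235 c) (allB_cons (bad1235 c) (allB_cons (bad1229 c) (allB_cons (bad1229 c) (allB_cons (bad1229 c) (allB_cons (bad1229 c) (allB_nil))))))))))))))))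

def P1409 : List Ent := [⟨2, [.a1], [.a1, .a2]⟩,
  ⟨4, [.a2], [.a2]⟩,
  ⟨8, [.a3, .a11], [.a3, .a8, .a11]⟩,
  ⟨32, [.a5], [.a5]⟩,
  ⟨64, [.a6], [.a6]⟩,
  ⟨128, [.a7], [.a7, .a8]⟩,
  ⟨256, [.a8], [.a8]⟩,
  ⟨512, [.a9], [.a9]⟩]
def B1409 : List Gv := [⟨[.a1], [.a1, .a2]⟩, ⟨[.a3, .a11], [.a3, .a8, .a11]⟩, ⟨[.a7], [.a7, .a8]⟩]
def D1409 : List Dv := [⟨[.a2], [0, 0], []⟩,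
  ⟨[.a5, .a6, .a9], [2, 1], [1, 2]⟩,
  ⟨[.a8], [3, 3], []⟩,
  ⟨[.a6, .a9], [1, 5, 4], [4, 5]⟩,
  ⟨[.a9], [1, 2, 3, 5], [5, 3]⟩,
  ⟨[.a6], [1], [0]⟩,
  ⟨[.a5], [4], [0, 1]⟩]
def C1409 : List Ch := [⟨P1101, 0, [], []⟩,
  ⟨P1224, 1, [], []⟩,
  ⟨P1225, 0, [.a4], [.a4, .a5]⟩,
  ⟨P1215, 2, [], []⟩,
  ⟨P1221, 0, [], []⟩,
  ⟨P1230, 1, [], []⟩,
  ⟨P1231, 0, [.a4], [.a4, .a5]⟩]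
def S1409 : List St := [.phi 1 [⟨4, [.a2], [.a2]⟩,
  ⟨32, [.a5], [.a5]⟩,
  ⟨64, [.a6], [.a6]⟩,
  ⟨256, [.a8], [.a8]⟩,
  ⟨512, [.a9], [.a9]⟩] [[[.a1]], [[.a2, .a9]], [[.a2, .a3, .a9, .a11]], [[.a7]], [[.a1], [.a1, .a3, .a6, .a11]]],
  .comm 2 2 [⟨32, [.a5], [.a5]⟩,
  ⟨64, [.a6, .a8], [.a6, .a8]⟩,
  ⟨256, [.a8, .a9], [.a8, .a9]⟩] [⟨[.a1], [.a6]⟩, ⟨[.a1], [.a9]⟩, ⟨[.a3, .a11], [.a1, .a2, .a7]⟩]]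
theorem bad1409 (c : CtxF Goal γ) : Bad Goal γ [] P1409 :=
  c.toCtx.chn (B := B1409) (D := D1409) (I := [7, 6, 8, 0, 1, 9, 4, 2]) (r := 3) (C := C1409) (l := S1409) (x := ⟨[.a11], [.a11]⟩) (ix := [1, 0]) (by decide +kernel) (by decide +kernel) (by decide +kernel) (by decide +kernel)
    (allB_cons (bad1101 c) (allB_cons (bad1224 c) (allB_cons (bad1225 c) (allB_cons (bad1215 c) (allB_cons (bad1221 c) (allB_cons (bad1230 c) (allB_cons (bad1231 c) (allB_nil))))))))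

def P1410 : List Ent := [⟨2, [.a1], [.a1, .a2]⟩,
  ⟨4, [.a2], [.a2]⟩,
  ⟨8, [.a3], [.a3]⟩,
  ⟨32, [.a5], [.a5]⟩,
  ⟨64, [.a6], [.a6]⟩,
  ⟨128, [.a7, .a11], [.a7, .a8, .a11]⟩,
  ⟨256, [.a8], [.a8]⟩,
  ⟨512, [.a9], [.a9]⟩]
def B1410 : List Gv := [⟨[.a1], [.a1, .a2]⟩, ⟨[.a3], [.a3]⟩, ⟨[.a7, .a11], [.a7, .a8, .a11]⟩]
def D1410 : List Dv := [⟨[.a2], [0, 0], []⟩,
  ⟨[.a5, .a6, .a9], [3, 1], [1, 3]⟩,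
  ⟨[.a6, .a8, .a9], [0, 4, 3], [3, 4]⟩,
  ⟨[.a8], [5, 5], []⟩,
  ⟨[.a9], [0, 2, 3, 6], [6, 3]⟩,
  ⟨[.a6], [2], [1, 0]⟩,
  ⟨[.a5], [4], [0, 1]⟩]
def C1410 : List Ch := [⟨P1102, 0, [], []⟩,
  ⟨P1226, 1, [], []⟩,
  ⟨P1226, 0, [.a4], [.a4, .a5]⟩,
  ⟨P1213, 2, [], []⟩,
  ⟨P1220, 0, [], []⟩,
  ⟨P1230, 1, [], []⟩,
  ⟨P1230, 0, [.a4], [.a4, .a5]⟩]
def N1410 : List Ent := [⟨2, [.a1], [.a1, .a2]⟩,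
  ⟨4, [.a2], [.a2]⟩,
  ⟨8, [.a3], [.a3]⟩,
  ⟨16, [.a4], [.a4, .a5]⟩,
  ⟨32, [.a5], [.a5]⟩,
  ⟨64, [.a6], [.a6]⟩,
  ⟨128, [.a7, .a11], [.a7, .a8, .a11]⟩,
  ⟨256, [.a8], [.a8]⟩,
  ⟨512, [.a9], [.a9]⟩,
  ⟨2048, [.a11], [.a11]⟩]
theorem bad1410 (c : CtxF Goal γ) : Bad Goal γ [] P1410 :=
  c.toCtx.bnd (B := B1410) (D := D1410) (I := [7, 6, 8, 0, 1, 9, 3, 2]) (r := 3) (C := C1410) (N := N1410) (by decide +kernel) (by decide +kernel) (by decide +kernel) (by decide +kernel)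
    (allB_cons (bad1102 c) (allB_cons (bad1226 c) (allB_cons (bad1226 c) (allB_cons (bad1213 c) (allB_cons (bad1220 c) (allB_cons (bad1230 c) (allB_cons (bad1230 c) (allB_nil))))))))

def P1411 : List Ent := [⟨2, [.a1, .a11], [.a1, .a2, .a5, .a6, .a9, .a11]⟩,
  ⟨4, [.a2], [.a2]⟩,
  ⟨8, [.a3], [.a3]⟩,
  ⟨32, [.a5], [.a5]⟩,
  ⟨64, [.a6], [.a6]⟩,
  ⟨128, [.a7, .a11], [.a7, .a8, .a11]⟩,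
  ⟨256, [.a8], [.a8]⟩,
  ⟨512, [.a9], [.a9]⟩]
def B1411 : List Gv := [⟨[.a1, .a11], [.a1, .a2, .a5, .a6, .a9, .a11]⟩, ⟨[.a3], [.a3]⟩, ⟨[.a7, .a11], [.a7, .a8, .a11]⟩]
def D1411 : List Dv := [⟨[.a2, .a5, .a8, .a9], [0, 0], []⟩,
  ⟨[.a8], [2, 1], [1, 2]⟩,
  ⟨[.a5, .a6, .a9], [4, 2], [2, 4]⟩,
  ⟨[.a6, .a8, .a9], [0, 5, 4], [4, 5]⟩,
  ⟨[.a9], [2, 1, 3, 6], [6, 3]⟩,
  ⟨[.a6], [1], [3, 0]⟩,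
  ⟨[.a5], [3], [0, 1]⟩,
  ⟨[.a2], [6], [0, 5, 2]⟩]
def C1411 : List Ch := [⟨P1102, 0, [], []⟩,
  ⟨P1227, 1, [], []⟩,
  ⟨P1227, 0, [.a4], [.a4, .a5]⟩,
  ⟨P1214, 2, [], []⟩,
  ⟨P1219, 0, [], []⟩,
  ⟨P1231, 1, [], []⟩,
  ⟨P1231, 0, [.a4], [.a4, .a5]⟩]
def N1411 : List Ent := [⟨2, [.a1, .a11], [.a1, .a2, .a5, .a6, .a9, .a11]⟩,
  ⟨4, [.a2], [.a2]⟩,
  ⟨8, [.a3], [.a3]⟩,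
  ⟨16, [.a4], [.a4, .a5]⟩,
  ⟨32, [.a5], [.a5]⟩,
  ⟨64, [.a6], [.a6]⟩,
  ⟨128, [.a7, .a11], [.a7, .a8, .a11]⟩,
  ⟨256, [.a8], [.a8]⟩,
  ⟨512, [.a9], [.a9]⟩,
  ⟨2048, [.a11], [.a11]⟩]
theorem bad1411 (c : CtxF Goal γ) : Bad Goal γ [] P1411 :=
  c.toCtx.bnd (B := B1411) (D := D1411) (I := [8, 0, 9, 1, 2, 10, 6, 3]) (r := 3) (C := C1411) (N := N1411) (by decide +kernel) (by decide +kernel) (by decide +kernel) (by decide +kernel)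
    (allB_cons (bad1102 c) (allB_cons (bad1227 c) (allB_cons (bad1227 c) (allB_cons (bad1214 c) (allB_cons (bad1219 c) (allB_cons (bad1231 c) (allB_cons (bad1231 c) (allB_nil))))))))

def P1412 : List Ent := [⟨2, [.a1], [.a1, .a2]⟩,
  ⟨4, [.a2], [.a2]⟩,
  ⟨8, [.a3, .a11], [.a3, .a8, .a11]⟩,
  ⟨32, [.a5], [.a5]⟩,
  ⟨64, [.a6], [.a6]⟩,
  ⟨128, [.a7, .a11], [.a7, .a8, .a11]⟩,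
  ⟨256, [.a8], [.a8]⟩,
  ⟨512, [.a9], [.a9]⟩]
def B1412 : List Gv := [⟨[.a1], [.a1, .a2]⟩, ⟨[.a3, .a11], [.a3, .a8, .a11]⟩, ⟨[.a7, .a11], [.a7, .a8, .a11]⟩]
def D1412 : List Dv := [⟨[.a2], [0, 0], []⟩,
  ⟨[.a5, .a6, .a9], [2, 1], [1, 2]⟩,
  ⟨[.a8], [3, 3], []⟩,
  ⟨[.a6, .a8, .a9], [1, 5, 4], [4, 5]⟩,
  ⟨[.a9], [1, 2, 3, 5], [5, 3]⟩,
  ⟨[.a6], [1], [2, 0]⟩,
  ⟨[.a5], [4], [0, 1]⟩]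
def C1412 : List Ch := [⟨P1103, 0, [], []⟩,
  ⟨P1226, 1, [], []⟩,
  ⟨P1227, 0, [.a4], [.a4, .a5]⟩,
  ⟨P1215, 2, [], []⟩,
  ⟨P1221, 0, [.a4], [.a4, .a5]⟩,
  ⟨P1228, 1, [], []⟩,
  ⟨P1229, 0, [.a4], [.a4, .a5]⟩]
def S1412 : List St := [.comm 1 1 [⟨32, [.a5], [.a5]⟩,
  ⟨64, [.a6, .a8], [.a6, .a8]⟩,
  ⟨256, [.a8, .a9], [.a8, .a9]⟩,
  ⟨512, [.a9], [.a9]⟩] [⟨[.a1], [.a6]⟩, ⟨[.a1], [.a9]⟩, ⟨[.a1], [.a1, .a3, .a11]⟩, ⟨[.a3, .a11], [.a1, .a2, .a3, .a7]⟩]]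
theorem bad1412 (c : CtxF Goal γ) : Bad Goal γ [] P1412 :=
  c.toCtx.chn (B := B1412) (D := D1412) (I := [7, 6, 8, 0, 1, 9, 4, 2]) (r := 3) (C := C1412) (l := S1412) (x := ⟨[.a11], [.a11]⟩) (ix := [0]) (by decide +kernel) (by decide +kernel) (by decide +kernel) (by decide +kernel)
    (allB_cons (bad1103 c) (allB_cons (bad1226 c) (allB_cons (bad1227 c) (allB_cons (bad1215 c) (allB_cons (bad1221 c) (allB_cons (bad1228 c) (allB_cons (bad1229 c) (allB_nil))))))))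

def P1413 : List Ent := [⟨2, [.a1], [.a1, .a2]⟩,
  ⟨4, [.a2], [.a2]⟩,
  ⟨8, [.a3], [.a3]⟩,
  ⟨16, [.a4], [.a4, .a5]⟩,
  ⟨32, [.a5], [.a5]⟩,
  ⟨64, [.a6], [.a6]⟩,
  ⟨256, [.a8], [.a8]⟩,
  ⟨512, [.a9], [.a9]⟩]
def B1413 : List Gv := [⟨[.a1], [.a1, .a2]⟩, ⟨[.a4], [.a4, .a5]⟩, ⟨[.a9], [.a9]⟩]
def D1413 : List Dv := [⟨[.a2], [0, 0], []⟩,
  ⟨[.a3], [2, 1], [1, 2]⟩,
  ⟨[.a5], [3, 3], []⟩,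
  ⟨[.a6, .a8], [5, 3], [3, 5]⟩,
  ⟨[.a8], [6, 5], [5, 6]⟩,
  ⟨[.a6], [1], [0]⟩]
def C1413 : List Ch := [⟨P1139, 0, [], []⟩,
  ⟨P1213, 1, [], []⟩,
  ⟨P1219, 0, [.a10], [.a10, .a11]⟩,
  ⟨P1236, 2, [], []⟩,
  ⟨P1236, 0, [.a11], [.a11]⟩,
  ⟨P1237, 1, [], []⟩,
  ⟨P1237, 0, [.a11], [.a11]⟩]
def N1413 : List Ent := [⟨1, [.a0], [.a0]⟩,
  ⟨2, [.a1], [.a1, .a2]⟩,
  ⟨4, [.a2], [.a2]⟩,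
  ⟨8, [.a3], [.a3]⟩,
  ⟨16, [.a4], [.a4, .a5]⟩,
  ⟨32, [.a5], [.a5]⟩,
  ⟨64, [.a6], [.a6]⟩,
  ⟨128, [.a7], [.a7, .a8]⟩,
  ⟨256, [.a8], [.a8]⟩,
  ⟨512, [.a9], [.a9]⟩,
  ⟨2048, [.a11], [.a11]⟩]
theorem bad1413 (c : CtxF Goal γ) : Bad Goal γ [] P1413 :=
  c.toCtx.bnd (B := B1413) (D := D1413) (I := [6, 5, 4, 7, 3, 0, 1, 8]) (r := 3) (C := C1413) (N := N1413) (by decide +kernel) (by decide +kernel) (by decide +kernel) (by decide +kernel)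
    (allB_cons (bad1139 c) (allB_cons (bad1213 c) (allB_cons (bad1219 c) (allB_cons (bad1236 c) (allB_cons (bad1236 c) (allB_cons (bad1237 c) (allB_cons (bad1237 c) (allB_nil))))))))

def P1414 : List Ent := [⟨2, [.a1, .a11], [.a1, .a2, .a5, .a6, .a9, .a11]⟩,
  ⟨4, [.a2], [.a2]⟩,
  ⟨8, [.a3], [.a3]⟩,
  ⟨16, [.a4], [.a4, .a5]⟩,
  ⟨32, [.a5], [.a5]⟩,
  ⟨64, [.a6], [.a6]⟩,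
  ⟨256, [.a8], [.a8]⟩,
  ⟨512, [.a9], [.a9]⟩]
def B1414 : List Gv := [⟨[.a1, .a11], [.a1, .a2, .a5, .a6, .a9, .a11]⟩, ⟨[.a2], [.a2]⟩, ⟨[.a4], [.a4, .a5]⟩]
def D1414 : List Dv := [⟨[.a5, .a8, .a9], [1, 0, 0], []⟩,
  ⟨[.a6, .a8], [2, 1], [1, 2]⟩,
  ⟨[.a3], [4, 2], [2, 4]⟩,
  ⟨[.a8, .a9], [2, 5, 5], []⟩,
  ⟨[.a9], [0, 3, 6], [6, 3]⟩,
  ⟨[.a8], [1], [0]⟩,
  ⟨[.a6], [4], [0]⟩,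
  ⟨[.a5], [6], [1, 2]⟩]
def C1414 : List Ch := [⟨P1139, 0, [], []⟩,
  ⟨P1238, 1, [], []⟩,
  ⟨P1238, 0, [.a1], [.a1, .a2]⟩,
  ⟨P1214, 2, [], []⟩,
  ⟨P1220, 0, [.a0], [.a0]⟩,
  ⟨P1238, 1, [.a0, .a10], [.a0, .a1, .a2, .a3, .a4, .a6, .a8, .a9, .a10, .a11]⟩,
  ⟨P1238, 0, [.a0, .a1, .a3, .a5, .a6, .a7, .a8, .a9, .a10], [.a0, .a10, .a11]⟩]
def N1414 : List Ent := [⟨1, [.a0, .a10], [.a0, .a1, .a2, .a3, .a4, .a6, .a8, .a9, .a10, .a11]⟩,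
  ⟨2, [.a1, .a11], [.a1, .a2, .a5, .a6, .a9, .a11]⟩,
  ⟨4, [.a2], [.a2]⟩,
  ⟨8, [.a3], [.a3]⟩,
  ⟨16, [.a4], [.a4, .a5]⟩,
  ⟨32, [.a5], [.a5]⟩,
  ⟨64, [.a6], [.a6]⟩,
  ⟨128, [.a7], [.a7, .a8]⟩,
  ⟨256, [.a8], [.a8]⟩,
  ⟨512, [.a9], [.a9]⟩,
  ⟨2048, [.a11], [.a11]⟩]
theorem bad1414 (c : CtxF Goal γ) : Bad Goal γ [] P1414 :=
  c.toCtx.bnd (B := B1414) (D := D1414) (I := [8, 9, 5, 10, 0, 1, 2, 3]) (r := 3) (C := C1414) (N := N1414) (by decide +kernel) (by decide +kernel) (by decide +kernel) (by decide +kernel)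
    (allB_cons (bad1139 c) (allB_cons (bad1238 c) (allB_cons (bad1238 c) (allB_cons (bad1214 c) (allB_cons (bad1220 c) (allB_cons (bad1238 c) (allB_cons (bad1238 c) (allB_nil))))))))

def P1415 : List Ent := [⟨2, [.a1], [.a1, .a2]⟩,
  ⟨4, [.a2], [.a2]⟩,
  ⟨8, [.a3], [.a3]⟩,
  ⟨16, [.a4], [.a4, .a5]⟩,
  ⟨32, [.a5], [.a5]⟩,
  ⟨64, [.a6], [.a6]⟩,
  ⟨128, [.a7], [.a7, .a8]⟩,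
  ⟨256, [.a8], [.a8]⟩]
def B1415 : List Gv := [⟨[.a1], [.a1, .a2]⟩, ⟨[.a4], [.a4, .a5]⟩, ⟨[.a7], [.a7, .a8]⟩]
def D1415 : List Dv := [⟨[.a2], [0, 0], []⟩,
  ⟨[.a3], [2, 1], [1, 2]⟩,
  ⟨[.a5], [3, 3], []⟩,
  ⟨[.a6], [5, 4], [4, 5]⟩,
  ⟨[.a8], [6, 6], []⟩]
def C1415 : List Ch := [⟨P1195, 0, [], []⟩,
  ⟨P1232, 1, [], []⟩,
  ⟨P1233, 0, [.a10], [.a10, .a11]⟩,
  ⟨P1236, 2, [], []⟩,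
  ⟨P1236, 0, [.a10], [.a10, .a11]⟩,
  ⟨P1216, 1, [], []⟩,
  ⟨P1222, 0, [], []⟩]
def N1415 : List Ent := [⟨1, [.a0], [.a0]⟩,
  ⟨2, [.a1], [.a1, .a2]⟩,
  ⟨4, [.a2], [.a2]⟩,
  ⟨8, [.a3], [.a3]⟩,
  ⟨16, [.a4], [.a4, .a5]⟩,
  ⟨32, [.a5], [.a5]⟩,
  ⟨64, [.a6], [.a6]⟩,
  ⟨128, [.a7], [.a7, .a8]⟩,
  ⟨256, [.a8], [.a8]⟩,
  ⟨512, [.a9], [.a9]⟩]
theorem bad1415 (c : CtxF Goal γ) : Bad Goal γ [] P1415 :=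
  c.toCtx.bnd (B := B1415) (D := D1415) (I := [5, 4, 3, 6, 2, 1, 7, 0]) (r := 3) (C := C1415) (N := N1415) (by decide +kernel) (by decide +kernel) (by decide +kernel) (by decide +kernel)
    (allB_cons (bad1195 c) (allB_cons (bad1232 c) (allB_cons (bad1233 c) (allB_cons (bad1236 c) (allB_cons (bad1236 c) (allB_cons (bad1216 c) (allB_cons (bad1222 c) (allB_nil))))))))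

def P1416 : List Ent := [⟨2, [.a1], [.a1, .a2]⟩,
  ⟨4, [.a2], [.a2]⟩,
  ⟨8, [.a3], [.a3]⟩,
  ⟨16, [.a4, .a9], [.a4, .a5, .a8, .a9]⟩,
  ⟨32, [.a5], [.a5]⟩,
  ⟨64, [.a6], [.a6]⟩,
  ⟨128, [.a7], [.a7, .a8]⟩,
  ⟨256, [.a8], [.a8]⟩]
def B1416 : List Gv := [⟨[.a1], [.a1, .a2]⟩, ⟨[.a4, .a9], [.a4, .a5, .a8, .a9]⟩, ⟨[.a7], [.a7, .a8]⟩]
def D1416 : List Dv := [⟨[.a2], [0, 0], []⟩,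
  ⟨[.a3, .a6, .a8], [2, 1], [1, 2]⟩,
  ⟨[.a5, .a8], [3, 3], []⟩,
  ⟨[.a6], [5, 4], [4, 5]⟩,
  ⟨[.a8], [6, 6], []⟩,
  ⟨[.a5], [2], [0]⟩,
  ⟨[.a3], [4], [2, 1]⟩]
def C1416 : List Ch := [⟨P1210, 0, [], []⟩,
  ⟨P1232, 1, [], []⟩,
  ⟨P1233, 0, [.a10, .a11], [.a10]⟩,
  ⟨P1237, 2, [], []⟩,
  ⟨P1237, 0, [.a10, .a11], [.a10]⟩,
  ⟨P1216, 1, [.a10, .a11], [.a10]⟩,
  ⟨P1222, 0, [.a10], [.a10, .a11]⟩]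
def N1416 : List Ent := [⟨1, [.a0], [.a0]⟩,
  ⟨2, [.a1], [.a1, .a2]⟩,
  ⟨4, [.a2], [.a2]⟩,
  ⟨8, [.a3], [.a3]⟩,
  ⟨16, [.a4, .a9], [.a4, .a5, .a8, .a9]⟩,
  ⟨32, [.a5], [.a5]⟩,
  ⟨64, [.a6], [.a6]⟩,
  ⟨128, [.a7], [.a7, .a8]⟩,
  ⟨256, [.a8], [.a8]⟩,
  ⟨512, [.a9], [.a9]⟩]
theorem bad1416 (c : CtxF Goal γ) : Bad Goal γ [] P1416 :=
  c.toCtx.bnd (B := B1416) (D := D1416) (I := [7, 6, 0, 8, 1, 3, 9, 2]) (r := 3) (C := C1416) (N := N1416) (by decide +kernel) (by decide +kernel) (by decide +kernel) (by decide +kernel)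
    (allB_cons (bad1210 c) (allB_cons (bad1232 c) (allB_cons (bad1233 c) (allB_cons (bad1237 c) (allB_cons (bad1237 c) (allB_cons (bad1216 c) (allB_cons (bad1222 c) (allB_nil))))))))

def P1417 : List Ent := [⟨2, [.a1, .a11], [.a1, .a2, .a5, .a6, .a9, .a11]⟩,
  ⟨4, [.a2, .a9], [.a2, .a5, .a9]⟩,
  ⟨8, [.a3], [.a3]⟩,
  ⟨16, [.a4], [.a4, .a5]⟩,
  ⟨32, [.a5], [.a5]⟩,
  ⟨64, [.a6], [.a6]⟩,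
  ⟨128, [.a7], [.a7, .a8]⟩,
  ⟨256, [.a8], [.a8]⟩]
def B1417 : List Gv := [⟨[.a1, .a11], [.a1, .a2, .a5, .a6, .a9, .a11]⟩, ⟨[.a4], [.a4, .a5]⟩, ⟨[.a7], [.a7, .a8]⟩]
def D1417 : List Dv := [⟨[.a2, .a5, .a8, .a9], [0, 0], []⟩,
  ⟨[.a3], [2, 1], [1, 2]⟩,
  ⟨[.a5], [3, 3], []⟩,
  ⟨[.a6], [5, 4], [4, 5]⟩,
  ⟨[.a8], [6, 6], []⟩,
  ⟨[.a2, .a9], [4], [2, 0]⟩]
def C1417 : List Ch := [⟨P1201, 0, [], []⟩,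
  ⟨P1234, 1, [], []⟩,
  ⟨P1235, 0, [.a0], [.a0]⟩,
  ⟨P1238, 2, [], []⟩,
  ⟨P1238, 0, [.a10], [.a10, .a11]⟩,
  ⟨P1217, 1, [], []⟩,
  ⟨P1223, 0, [], []⟩]
def S1417 : List St := [.comm 1 1 [⟨8, [.a3], [.a3]⟩,
  ⟨32, [.a5], [.a5]⟩,
  ⟨64, [.a6], [.a6]⟩,
  ⟨256, [.a8], [.a8]⟩] [⟨[.a4], [.a1, .a11]⟩, ⟨[.a3], [.a7]⟩, ⟨[.a4], [.a7]⟩, ⟨[.a3], [.a1, .a11]⟩]]
theorem bad1417 (c : CtxF Goal γ) : Bad Goal γ [] P1417 :=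
  c.toCtx.chn (B := B1417) (D := D1417) (I := [6, 0, 4, 7, 3, 2, 8, 1]) (r := 3) (C := C1417) (l := S1417) (x := ⟨[.a9], [.a9]⟩) (ix := [0]) (by decide +kernel) (by decide +kernel) (by decide +kernel) (by decide +kernel)
    (allB_cons (bad1201 c) (allB_cons (bad1234 c) (allB_cons (bad1235 c) (allB_cons (bad1238 c) (allB_cons (bad1238 c) (allB_cons (bad1217 c) (allB_cons (bad1223 c) (allB_nil))))))))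

def P1418 : List Ent := [⟨1, [.a0], [.a0]⟩,
  ⟨4, [.a2, .a9], [.a2, .a5, .a9]⟩,
  ⟨8, [.a3], [.a3]⟩,
  ⟨16, [.a4, .a7], [.a4, .a5, .a6, .a7, .a8]⟩,
  ⟨32, [.a5], [.a5]⟩,
  ⟨64, [.a6], [.a6]⟩,
  ⟨256, [.a8], [.a8]⟩,
  ⟨2048, [.a11], [.a11]⟩]
def B1418 : List Gv := [⟨[.a0], [.a0]⟩, ⟨[.a2, .a9], [.a2, .a5, .a9]⟩, ⟨[.a11], [.a11]⟩]
def D1418 : List Dv := [⟨[.a3, .a6], [1, 0], [0, 1]⟩,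
  ⟨[.a5], [2, 2], []⟩,
  ⟨[.a4, .a5, .a6, .a7, .a8], [1, 3, 4, 2], [2, 4]⟩,
  ⟨[.a6, .a8], [1, 5, 4], [4, 5]⟩,
  ⟨[.a8], [3, 6], [6, 3]⟩,
  ⟨[.a6], [1], [0]⟩,
  ⟨[.a4, .a7], [3], [4, 0, 1]⟩,
  ⟨[.a3], [6], [1]⟩]
def C1418 : List Ch := [⟨P1148, 0, [], []⟩,
  ⟨P1239, 1, [], []⟩,
  ⟨P1240, 0, [], []⟩,
  ⟨P1241, 2, [], []⟩,
  ⟨P1242, 0, [], []⟩,
  ⟨P1243, 1, [], []⟩,
  ⟨P1244, 0, [], []⟩]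
def S1418 : List St := [.phi 1 [⟨4, [.a2, .a4, .a7, .a9], [.a2, .a4, .a6, .a7, .a9]⟩,
  ⟨8, [.a3], [.a3]⟩,
  ⟨32, [.a5], [.a5]⟩,
  ⟨64, [.a6], [.a6]⟩,
  ⟨256, [.a8], [.a8]⟩] [[[.a0, .a4, .a7, .a8, .a11]], [[.a2, .a4, .a7, .a9], [.a0, .a2, .a8, .a9]], [[.a0, .a8]], [[.a2, .a4, .a7, .a9]], [[.a3, .a11]]],
  .om 0 [⟨8, [.a3], [.a3]⟩,
  ⟨32, [.a5], [.a5]⟩,
  ⟨64, [.a6], [.a6]⟩,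
  ⟨256, [.a8], [.a8]⟩] [[[.a3]], [[.a5]], [[.a6]], [[.a8]]]]
theorem bad1418 (c : CtxF Goal γ) : Bad Goal γ [] P1418 :=
  c.toCtx.chn (B := B1418) (D := D1418) (I := [8, 9, 0, 1, 6, 2, 3, 10]) (r := 3) (C := C1418) (l := S1418) (x := ⟨[.a9], [.a9]⟩) (ix := [0]) (by decide +kernel) (by decide +kernel) (by decide +kernel) (by decide +kernel)
    (allB_cons (bad1148 c) (allB_cons (bad1239 c) (allB_cons (bad1240 c) (allB_cons (bad1241 c) (allB_cons (bad1242 c) (allB_cons (bad1243 c) (allB_cons (bad1244 c) (allB_nil))))))))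

def P1419 : List Ent := [⟨1, [.a0], [.a0]⟩,
  ⟨4, [.a2], [.a2]⟩,
  ⟨8, [.a3], [.a3]⟩,
  ⟨16, [.a4, .a7, .a9], [.a4, .a5, .a6, .a7, .a9]⟩,
  ⟨32, [.a5], [.a5]⟩,
  ⟨64, [.a6], [.a6]⟩,
  ⟨256, [.a8], [.a8]⟩,
  ⟨2048, [.a11], [.a11]⟩]
def B1419 : List Gv := [⟨[.a0], [.a0]⟩, ⟨[.a2], [.a2]⟩, ⟨[.a3], [.a3]⟩, ⟨[.a11], [.a11]⟩]
def D1419 : List Dv := [⟨[.a4, .a7, .a9], [2, 1, 3, 0], [0, 3]⟩,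
  ⟨[.a5, .a6, .a8], [4, 2], [2, 4]⟩,
  ⟨[.a8], [5, 4], [4, 5]⟩,
  ⟨[.a6, .a8], [1, 2, 4], [4, 2]⟩,
  ⟨[.a6], [0], [1]⟩,
  ⟨[.a5], [3], [0, 2]⟩]
def C1419 : List Ch := [⟨P1147, 0, [.a10], [.a10, .a11]⟩,
  ⟨P1239, 1, [], []⟩,
  ⟨P1239, 0, [.a4], [.a4, .a5]⟩,
  ⟨P1245, 2, [], []⟩,
  ⟨P1245, 0, [.a7], [.a7, .a8]⟩,
  ⟨P1246, 1, [], []⟩,
  ⟨P1246, 0, [.a4], [.a4, .a5]⟩,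
  ⟨P1247, 3, [], []⟩,
  ⟨P1248, 0, [], []⟩,
  ⟨P1243, 1, [.a1], [.a1, .a2]⟩,
  ⟨P1243, 0, [.a1, .a3, .a4], [.a1, .a2, .a4, .a5]⟩,
  ⟨P1249, 2, [], []⟩,
  ⟨P1249, 0, [.a7], [.a7, .a8]⟩,
  ⟨P1250, 1, [], []⟩,
  ⟨P1250, 0, [.a4], [.a4, .a5]⟩]
def S1419 : List St := [.cent 1 1 0 [⟨32, [.a5], [.a5]⟩,
  ⟨64, [.a6], [.a6]⟩],
  .cent 2 2 0 [⟨4, [.a2, .a3], [.a2, .a3]⟩,
  ⟨16, [.a4, .a7, .a9], [.a4, .a5, .a6, .a7, .a9]⟩,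
  ⟨32, [.a5], [.a5]⟩,
  ⟨64, [.a6], [.a6]⟩,
  ⟨256, [.a8], [.a8]⟩]]
theorem bad1419 (c : CtxF Goal γ) : Bad Goal γ [] P1419 :=
  c.toCtx.chn (B := B1419) (D := D1419) (I := [6, 7, 8, 5, 0, 1, 3, 9]) (r := 4) (C := C1419) (l := S1419) (x := ⟨[.a7], [.a7, .a8]⟩) (ix := [0, 1]) (by decide +kernel) (by decide +kernel) (by decide +kernel) (by decide +kernel)
    (allB_cons (bad1147 c) (allB_cons (bad1239 c) (allB_cons (bad1239 c) (allB_cons (bad1245 c) (allB_cons (bad1245 c) (allB_cons (bad1246 c) (allB_cons (bad1246 c) (allB_cons (bad1247 c) (allB_cons (bad1248 c) (allB_cons (bad1243 c) (allB_cons (bad1243 c) (allB_cons (bad1249 c) (allB_cons (bad1249 c) (allB_cons (bad1250 c) (allB_cons (bad1250 c) (allB_nil))))))))))))))))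

def P1420 : List Ent := [⟨1, [.a0, .a9], [.a0, .a3, .a6, .a9]⟩,
  ⟨4, [.a2], [.a2]⟩,
  ⟨8, [.a3], [.a3]⟩,
  ⟨16, [.a4, .a7, .a9], [.a4, .a5, .a6, .a7, .a9]⟩,
  ⟨32, [.a5], [.a5]⟩,
  ⟨64, [.a6], [.a6]⟩,
  ⟨256, [.a8], [.a8]⟩,
  ⟨2048, [.a11], [.a11]⟩]
def B1420 : List Gv := [⟨[.a0, .a9], [.a0, .a3, .a6, .a9]⟩, ⟨[.a2], [.a2]⟩, ⟨[.a11], [.a11]⟩]
def D1420 : List Dv := [⟨[.a3, .a6], [0, 0], []⟩,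
  ⟨[.a5], [2, 1], [1, 2]⟩,
  ⟨[.a4, .a6, .a7, .a9], [1, 3, 4, 2], [2, 4]⟩,
  ⟨[.a6, .a8], [1, 5, 4], [4, 5]⟩,
  ⟨[.a8], [3, 6], [6, 3]⟩,
  ⟨[.a6], [1], [0]⟩,
  ⟨[.a4, .a7, .a9], [3], [0]⟩,
  ⟨[.a3], [6], [1]⟩]
def C1420 : List Ch := [⟨P1147, 0, [.a10], [.a10, .a11]⟩,
  ⟨P1240, 1, [.a4], [.a4, .a5]⟩,
  ⟨P1240, 0, [], []⟩,
  ⟨P1251, 2, [], []⟩,
  ⟨P1248, 0, [.a1], [.a1, .a2]⟩,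
  ⟨P1244, 1, [.a1, .a3, .a4], [.a1, .a2, .a4, .a5]⟩,
  ⟨P1244, 0, [.a1], [.a1, .a2]⟩]
def N1420 : List Ent := [⟨1, [.a0, .a9], [.a0, .a3, .a6, .a9]⟩,
  ⟨4, [.a2], [.a2]⟩,
  ⟨8, [.a3], [.a3]⟩,
  ⟨16, [.a4, .a7, .a9], [.a4, .a5, .a6, .a7, .a9]⟩,
  ⟨32, [.a5], [.a5]⟩,
  ⟨64, [.a6], [.a6]⟩,
  ⟨128, [.a7], [.a7, .a8]⟩,
  ⟨256, [.a8], [.a8]⟩,
  ⟨512, [.a9], [.a9]⟩,
  ⟨2048, [.a11], [.a11]⟩]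
theorem bad1420 (c : CtxF Goal γ) : Bad Goal γ [] P1420 :=
  c.toCtx.bnd (B := B1420) (D := D1420) (I := [8, 9, 0, 1, 6, 2, 3, 10]) (r := 3) (C := C1420) (N := N1420) (by decide +kernel) (by decide +kernel) (by decide +kernel) (by decide +kernel)
    (allB_cons (bad1147 c) (allB_cons (bad1240 c) (allB_cons (bad1240 c) (allB_cons (bad1251 c) (allB_cons (bad1248 c) (allB_cons (bad1244 c) (allB_cons (bad1244 c) (allB_nil))))))))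

def P1421 : List Ent := [⟨1, [.a0], [.a0]⟩,
  ⟨4, [.a2, .a4, .a7], [.a2, .a4, .a5, .a6, .a7, .a8]⟩,
  ⟨8, [.a3], [.a3]⟩,
  ⟨32, [.a5], [.a5]⟩,
  ⟨64, [.a6], [.a6]⟩,
  ⟨256, [.a8], [.a8]⟩,
  ⟨512, [.a9], [.a9]⟩,
  ⟨2048, [.a11], [.a11]⟩]
def B1421 : List Gv := [⟨[.a0], [.a0]⟩, ⟨[.a2, .a4, .a7], [.a2, .a4, .a5, .a6, .a7, .a8]⟩, ⟨[.a11], [.a11]⟩]
def D1421 : List Dv := [⟨[.a3], [1, 0], [0, 1]⟩,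
  ⟨[.a5, .a6, .a8], [2, 2], []⟩,
  ⟨[.a6, .a8, .a9], [1, 3, 4, 2], [2, 4]⟩,
  ⟨[.a9], [0, 1, 2, 4], [4, 2]⟩,
  ⟨[.a8], [3, 6], [6, 3]⟩,
  ⟨[.a6], [2], [0, 1]⟩,
  ⟨[.a5], [4], [0, 1]⟩]
def C1421 : List Ch := [⟨P1115, 0, [], []⟩,
  ⟨P1239, 1, [], []⟩,
  ⟨P1240, 0, [.a4], [.a4, .a5]⟩,
  ⟨P1252, 2, [], []⟩,
  ⟨P1253, 0, [], []⟩,
  ⟨P1239, 1, [.a1], [.a1, .a2]⟩,
  ⟨P1240, 0, [.a1, .a3, .a4], [.a1, .a2, .a4, .a5]⟩]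
def N1421 : List Ent := [⟨1, [.a0], [.a0]⟩,
  ⟨2, [.a1], [.a1, .a2]⟩,
  ⟨4, [.a2, .a4, .a7], [.a2, .a4, .a5, .a6, .a7, .a8]⟩,
  ⟨8, [.a3], [.a3]⟩,
  ⟨16, [.a4, .a7], [.a4, .a5, .a6, .a7, .a8]⟩,
  ⟨32, [.a5], [.a5]⟩,
  ⟨64, [.a6], [.a6]⟩,
  ⟨256, [.a8], [.a8]⟩,
  ⟨512, [.a9], [.a9]⟩,
  ⟨2048, [.a11], [.a11]⟩]
theorem bad1421 (c : CtxF Goal γ) : Bad Goal γ [] P1421 :=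
  c.toCtx.bnd (B := B1421) (D := D1421) (I := [7, 8, 6, 0, 1, 2, 3, 9]) (r := 3) (C := C1421) (N := N1421) (by decide +kernel) (by decide +kernel) (by decide +kernel) (by decide +kernel)
    (allB_cons (bad1115 c) (allB_cons (bad1239 c) (allB_cons (bad1240 c) (allB_cons (bad1252 c) (allB_cons (bad1253 c) (allB_cons (bad1239 c) (allB_cons (bad1240 c) (allB_nil))))))))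

def P1422 : List Ent := [⟨1, [.a0], [.a0]⟩,
  ⟨4, [.a2], [.a2]⟩,
  ⟨8, [.a3], [.a3]⟩,
  ⟨16, [.a4, .a7], [.a4, .a5, .a6, .a7, .a8]⟩,
  ⟨32, [.a5], [.a5]⟩,
  ⟨64, [.a6], [.a6]⟩,
  ⟨256, [.a8], [.a8]⟩,
  ⟨512, [.a9], [.a9]⟩]
def B1422 : List Gv := [⟨[.a0], [.a0]⟩, ⟨[.a2], [.a2]⟩, ⟨[.a4, .a7], [.a4, .a5, .a6, .a7, .a8]⟩, ⟨[.a9], [.a9]⟩]
def D1422 : List Dv := [⟨[.a3], [2, 0], [0, 2]⟩,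
  ⟨[.a5, .a6, .a8], [3, 3], []⟩,
  ⟨[.a6], [1, 5, 2], [2, 5]⟩,
  ⟨[.a8], [0, 1, 6, 4], [4, 6]⟩,
  ⟨[.a5], [2], [1, 0]⟩]
def C1422 : List Ch := [⟨P1150, 0, [], []⟩,
  ⟨P1254, 1, [], []⟩,
  ⟨P1254, 0, [.a4], [.a4, .a5]⟩,
  ⟨P1255, 2, [], []⟩,
  ⟨P1255, 0, [.a11], [.a11]⟩,
  ⟨P1252, 1, [], []⟩,
  ⟨P1252, 0, [.a4], [.a4, .a5]⟩,
  ⟨P1256, 3, [], []⟩,
  ⟨P1256, 0, [.a11], [.a11]⟩,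
  ⟨P1241, 1, [], []⟩,
  ⟨P1241, 0, [.a4], [.a4, .a5]⟩,
  ⟨P1247, 2, [], []⟩,
  ⟨P1251, 0, [], []⟩,
  ⟨P1257, 1, [], []⟩,
  ⟨P1257, 0, [.a4], [.a4, .a5]⟩]
def N1422 : List Ent := [⟨1, [.a0], [.a0]⟩,
  ⟨2, [.a1], [.a1, .a2]⟩,
  ⟨4, [.a2], [.a2]⟩,
  ⟨8, [.a3], [.a3]⟩,
  ⟨16, [.a4, .a7], [.a4, .a5, .a6, .a7, .a8]⟩,
  ⟨32, [.a5], [.a5]⟩,
  ⟨64, [.a6], [.a6]⟩,
  ⟨128, [.a7], [.a7, .a8]⟩,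
  ⟨256, [.a8], [.a8]⟩,
  ⟨512, [.a9], [.a9]⟩,
  ⟨2048, [.a11], [.a11]⟩]
theorem bad1422 (c : CtxF Goal γ) : Bad Goal γ [] P1422 :=
  c.toCtx.bnd (B := B1422) (D := D1422) (I := [5, 6, 4, 7, 0, 2, 1, 8]) (r := 4) (C := C1422) (N := N1422) (by decide +kernel) (by decide +kernel) (by decide +kernel) (by decide +kernel)
    (allB_cons (bad1150 c) (allB_cons (bad1254 c) (allB_cons (bad1254 c) (allB_cons (bad1255 c) (allB_cons (bad1255 c) (allB_cons (bad1252 c) (allB_cons (bad1252 c) (allB_cons (bad1256 c) (allB_cons (bad1256 c) (allB_cons (bad1241 c) (allB_cons (bad1241 c) (allB_cons (bad1247 c) (allB_cons (bad1251 c) (allB_cons (bad1257 c) (allB_cons (bad1257 c) (allB_nil))))))))))))))))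

def P1423 : List Ent := [⟨1, [.a0, .a11], [.a0, .a2, .a3, .a4, .a5, .a6, .a7, .a9, .a11]⟩,
  ⟨4, [.a2], [.a2]⟩,
  ⟨8, [.a3], [.a3]⟩,
  ⟨16, [.a4, .a7], [.a4, .a5, .a6, .a7, .a8]⟩,
  ⟨32, [.a5], [.a5]⟩,
  ⟨64, [.a6], [.a6]⟩,
  ⟨256, [.a8], [.a8]⟩,
  ⟨512, [.a9], [.a9]⟩]
def B1423 : List Gv := [⟨[.a0, .a11], [.a0, .a2, .a3, .a4, .a5, .a6, .a7, .a9, .a11]⟩, ⟨[.a2], [.a2]⟩, ⟨[.a4, .a7], [.a4, .a5, .a6, .a7, .a8]⟩]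
def D1423 : List Dv := [⟨[.a3, .a4, .a5, .a6, .a7, .a9], [1, 0, 0], []⟩,
  ⟨[.a6, .a8], [2, 1], [1, 2]⟩,
  ⟨[.a5, .a8, .a9], [4, 1, 4, 2], [2, 4]⟩,
  ⟨[.a8, .a9], [1, 0, 5, 5], []⟩,
  ⟨[.a9], [1, 3, 6], [6, 3]⟩,
  ⟨[.a8], [1], [0]⟩,
  ⟨[.a6], [4], [0]⟩,
  ⟨[.a5], [4], [1, 2]⟩,
  ⟨[.a3], [7], [10, 0, 1, 3]⟩]
def C1423 : List Ch := [⟨P1150, 0, [], []⟩,
  ⟨P1242, 1, [], []⟩,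
  ⟨P1242, 0, [.a1], [.a1, .a2]⟩,
  ⟨P1248, 2, [], []⟩,
  ⟨P1248, 0, [.a1], [.a1, .a2]⟩,
  ⟨P1253, 1, [], []⟩,
  ⟨P1253, 0, [.a4], [.a4, .a5]⟩]
def N1423 : List Ent := [⟨1, [.a0, .a11], [.a0, .a2, .a3, .a4, .a5, .a6, .a7, .a9, .a11]⟩,
  ⟨2, [.a1], [.a1, .a2]⟩,
  ⟨4, [.a2], [.a2]⟩,
  ⟨8, [.a3], [.a3]⟩,
  ⟨16, [.a4, .a7], [.a4, .a5, .a6, .a7, .a8]⟩,
  ⟨32, [.a5], [.a5]⟩,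
  ⟨64, [.a6], [.a6]⟩,
  ⟨128, [.a7], [.a7, .a8]⟩,
  ⟨256, [.a8], [.a8]⟩,
  ⟨512, [.a9], [.a9]⟩,
  ⟨2048, [.a11], [.a11]⟩]
theorem bad1423 (c : CtxF Goal γ) : Bad Goal γ [] P1423 :=
  c.toCtx.bnd (B := B1423) (D := D1423) (I := [9, 10, 0, 11, 1, 2, 3, 4]) (r := 3) (C := C1423) (N := N1423) (by decide +kernel) (by decide +kernel) (by decide +kernel) (by decide +kernel)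
    (allB_cons (bad1150 c) (allB_cons (bad1242 c) (allB_cons (bad1242 c) (allB_cons (bad1248 c) (allB_cons (bad1248 c) (allB_cons (bad1253 c) (allB_cons (bad1253 c) (allB_nil))))))))

def P1424 : List Ent := [⟨1, [.a0], [.a0]⟩,
  ⟨4, [.a2, .a11], [.a2, .a5, .a6, .a8, .a11]⟩,
  ⟨8, [.a3], [.a3]⟩,
  ⟨16, [.a4, .a7, .a11], [.a4, .a5, .a6, .a7, .a8, .a11]⟩,
  ⟨32, [.a5], [.a5]⟩,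
  ⟨64, [.a6], [.a6]⟩,
  ⟨256, [.a8], [.a8]⟩,
  ⟨512, [.a9], [.a9]⟩]
def B1424 : List Gv := [⟨[.a0], [.a0]⟩, ⟨[.a2, .a11], [.a2, .a5, .a6, .a8, .a11]⟩, ⟨[.a4, .a7, .a11], [.a4, .a5, .a6, .a7, .a8, .a11]⟩]
def D1424 : List Dv := [⟨[.a3, .a4, .a6, .a7, .a9, .a11], [1, 1, 0], [0, 1]⟩,
  ⟨[.a5, .a6, .a8], [2, 2], []⟩,
  ⟨[.a8, .a9], [4, 3, 4, 2], [2, 4]⟩,
  ⟨[.a6], [1, 2, 4, 2, 3], [3, 2]⟩,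
  ⟨[.a9], [1, 0, 2, 3, 6], [6, 3]⟩,
  ⟨[.a8], [2], [0]⟩,
  ⟨[.a5], [4], [2, 0]⟩,
  ⟨[.a3], [6], [9, 3, 2]⟩]
def C1424 : List Ch := [⟨P1151, 0, [], []⟩,
  ⟨P1243, 1, [], []⟩,
  ⟨P1244, 0, [.a4], [.a4, .a5]⟩,
  ⟨P1243, 2, [.a1], [.a1, .a2]⟩,
  ⟨P1244, 0, [.a1, .a3, .a4], [.a1, .a2, .a4, .a5]⟩,
  ⟨P1252, 1, [], []⟩,
  ⟨P1253, 0, [.a4], [.a4, .a5]⟩]
def N1424 : List Ent := [⟨1, [.a0], [.a0]⟩,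
  ⟨2, [.a1], [.a1, .a2]⟩,
  ⟨4, [.a2, .a11], [.a2, .a5, .a6, .a8, .a11]⟩,
  ⟨8, [.a3], [.a3]⟩,
  ⟨16, [.a4, .a7, .a11], [.a4, .a5, .a6, .a7, .a8, .a11]⟩,
  ⟨32, [.a5], [.a5]⟩,
  ⟨64, [.a6], [.a6]⟩,
  ⟨256, [.a8], [.a8]⟩,
  ⟨512, [.a9], [.a9]⟩,
  ⟨2048, [.a11], [.a11]⟩]
theorem bad1424 (c : CtxF Goal γ) : Bad Goal γ [] P1424 :=
  c.toCtx.bnd (B := B1424) (D := D1424) (I := [8, 9, 0, 10, 1, 4, 2, 3]) (r := 3) (C := C1424) (N := N1424) (by decide +kernel) (by decide +kernel) (by decide +kernel) (by decide +kernel)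
    (allB_cons (bad1151 c) (allB_cons (bad1243 c) (allB_cons (bad1244 c) (allB_cons (bad1243 c) (allB_cons (bad1244 c) (allB_cons (bad1252 c) (allB_cons (bad1253 c) (allB_nil))))))))

def P1425 : List Ent := [⟨1, [.a0], [.a0]⟩,
  ⟨2, [.a1, .a7], [.a1, .a2, .a7, .a8]⟩,
  ⟨4, [.a2], [.a2]⟩,
  ⟨8, [.a3], [.a3]⟩,
  ⟨32, [.a5], [.a5]⟩,
  ⟨64, [.a6], [.a6]⟩,
  ⟨256, [.a8], [.a8]⟩,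
  ⟨512, [.a9], [.a9]⟩]
def B1425 : List Gv := [⟨[.a0], [.a0]⟩, ⟨[.a1, .a7], [.a1, .a2, .a7, .a8]⟩, ⟨[.a2], [.a2]⟩, ⟨[.a9], [.a9]⟩]
def D1425 : List Dv := [⟨[.a3], [2, 1, 0], [0, 1]⟩,
  ⟨[.a8], [3, 2, 2], []⟩,
  ⟨[.a6], [1, 5, 2], [2, 5]⟩,
  ⟨[.a5], [6, 5], [5, 6]⟩]
def C1425 : List Ch := [⟨P1219, 0, [], []⟩,
  ⟨P1255, 1, [], []⟩,
  ⟨P1255, 0, [.a10], [.a10, .a11]⟩,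
  ⟨P1258, 2, [], []⟩,
  ⟨P1259, 0, [], []⟩,
  ⟨P1260, 1, [], []⟩,
  ⟨P1261, 0, [], []⟩,
  ⟨P1262, 3, [], []⟩,
  ⟨P1263, 0, [], []⟩,
  ⟨P1264, 1, [], []⟩,
  ⟨P1265, 0, [], []⟩,
  ⟨P1259, 2, [.a4], [.a4, .a5]⟩,
  ⟨P1258, 0, [.a4], [.a4, .a5]⟩,
  ⟨P1261, 1, [.a4], [.a4, .a5]⟩,
  ⟨P1260, 0, [.a4], [.a4, .a5]⟩]
def S1425 : List St := [.cent 1 1 0 [⟨8, [.a3, .a6], [.a3, .a6]⟩,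
  ⟨32, [.a5], [.a5]⟩],
  .cent 2 2 0 [⟨4, [.a2], [.a2]⟩,
  ⟨8, [.a3], [.a3]⟩,
  ⟨32, [.a5], [.a5]⟩,
  ⟨64, [.a6], [.a6]⟩,
  ⟨256, [.a8], [.a8]⟩]]
theorem bad1425 (c : CtxF Goal γ) : Bad Goal γ [] P1425 :=
  c.toCtx.chn (B := B1425) (D := D1425) (I := [4, 5, 6, 3, 0, 1, 2, 7]) (r := 4) (C := C1425) (l := S1425) (x := ⟨[.a4], [.a4, .a5]⟩) (ix := [0]) (by decide +kernel) (by decide +kernel) (by decide +kernel) (by decide +kernel)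
    (allB_cons (bad1219 c) (allB_cons (bad1255 c) (allB_cons (bad1255 c) (allB_cons (bad1258 c) (allB_cons (bad1259 c) (allB_cons (bad1260 c) (allB_cons (bad1261 c) (allB_cons (bad1262 c) (allB_cons (bad1263 c) (allB_cons (bad1264 c) (allB_cons (bad1265 c) (allB_cons (bad1259 c) (allB_cons (bad1258 c) (allB_cons (bad1261 c) (allB_cons (bad1260 c) (allB_nil))))))))))))))))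

def P1426 : List Ent := [⟨1, [.a0], [.a0]⟩,
  ⟨2, [.a1, .a7], [.a1, .a2, .a7, .a8]⟩,
  ⟨4, [.a2], [.a2]⟩,
  ⟨8, [.a3], [.a3]⟩,
  ⟨16, [.a4, .a7], [.a4, .a5, .a6, .a7, .a8]⟩,
  ⟨32, [.a5], [.a5]⟩,
  ⟨64, [.a6], [.a6]⟩,
  ⟨256, [.a8], [.a8]⟩]
def B1426 : List Gv := [⟨[.a0], [.a0]⟩, ⟨[.a1, .a7], [.a1, .a2, .a7, .a8]⟩, ⟨[.a4, .a7], [.a4, .a5, .a6, .a7, .a8]⟩]
def D1426 : List Dv := [⟨[.a2, .a3], [1, 0], [0, 1]⟩,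
  ⟨[.a3, .a8], [0, 2, 2], []⟩,
  ⟨[.a8], [0, 4, 2], [2, 4]⟩,
  ⟨[.a5, .a6, .a8], [1, 5, 4], [4, 5]⟩,
  ⟨[.a6, .a8], [0, 3, 5], [5, 3]⟩,
  ⟨[.a6], [0], [2]⟩,
  ⟨[.a5], [2], [0, 3]⟩,
  ⟨[.a3], [5], [4]⟩,
  ⟨[.a2], [7], [0]⟩]
def C1426 : List Ch := [⟨P1222, 0, [], []⟩,
  ⟨P1256, 1, [], []⟩,
  ⟨P1251, 0, [.a10], [.a10, .a11]⟩,
  ⟨P1262, 2, [], []⟩,
  ⟨P1265, 0, [.a11], [.a11]⟩,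
  ⟨P1263, 1, [.a10, .a11], [.a10]⟩,
  ⟨P1265, 0, [.a10], [.a10, .a11]⟩]
def N1426 : List Ent := [⟨1, [.a0], [.a0]⟩,
  ⟨2, [.a1, .a7], [.a1, .a2, .a7, .a8]⟩,
  ⟨4, [.a2], [.a2]⟩,
  ⟨8, [.a3], [.a3]⟩,
  ⟨16, [.a4, .a7], [.a4, .a5, .a6, .a7, .a8]⟩,
  ⟨32, [.a5], [.a5]⟩,
  ⟨64, [.a6], [.a6]⟩,
  ⟨128, [.a7], [.a7, .a8]⟩,
  ⟨256, [.a8], [.a8]⟩,
  ⟨512, [.a9], [.a9]⟩]
theorem bad1426 (c : CtxF Goal γ) : Bad Goal γ [] P1426 :=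
  c.toCtx.bnd (B := B1426) (D := D1426) (I := [9, 10, 0, 1, 11, 2, 3, 6]) (r := 3) (C := C1426) (N := N1426) (by decide +kernel) (by decide +kernel) (by decide +kernel) (by decide +kernel)
    (allB_cons (bad1222 c) (allB_cons (bad1256 c) (allB_cons (bad1251 c) (allB_cons (bad1262 c) (allB_cons (bad1265 c) (allB_cons (bad1263 c) (allB_cons (bad1265 c) (allB_nil))))))))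

def P1427 : List Ent := [⟨1, [.a0, .a9], [.a0, .a3, .a6, .a9]⟩,
  ⟨2, [.a1, .a7], [.a1, .a2, .a7, .a8]⟩,
  ⟨4, [.a2], [.a2]⟩,
  ⟨8, [.a3], [.a3]⟩,
  ⟨16, [.a4, .a7], [.a4, .a5, .a6, .a7, .a8]⟩,
  ⟨32, [.a5], [.a5]⟩,
  ⟨64, [.a6], [.a6]⟩,
  ⟨256, [.a8], [.a8]⟩]
def B1427 : List Gv := [⟨[.a0, .a9], [.a0, .a3, .a6, .a9]⟩, ⟨[.a1, .a7], [.a1, .a2, .a7, .a8]⟩, ⟨[.a2], [.a2]⟩, ⟨[.a4, .a7], [.a4, .a5, .a6, .a7, .a8]⟩]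
def D1427 : List Dv := [⟨[.a3, .a6], [0, 0], []⟩,
  ⟨[.a5, .a8], [0, 3, 2, 1], [1, 2]⟩,
  ⟨[.a8], [4, 3, 3], []⟩,
  ⟨[.a6], [1, 2, 6, 3], [3, 6]⟩,
  ⟨[.a5], [2], [1]⟩,
  ⟨[.a3], [4], [1]⟩]
def C1427 : List Ch := [⟨P1222, 0, [], []⟩,
  ⟨P1256, 1, [.a11], [.a11]⟩,
  ⟨P1247, 0, [.a10], [.a10, .a11]⟩,
  ⟨P1266, 2, [], []⟩,
  ⟨P1267, 0, [], []⟩,
  ⟨P1268, 1, [], []⟩,
  ⟨P1269, 0, [], []⟩,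
  ⟨P1263, 3, [], []⟩,
  ⟨P1264, 0, [.a11], [.a11]⟩,
  ⟨P1262, 1, [.a10, .a11], [.a10]⟩,
  ⟨P1264, 0, [.a10], [.a10, .a11]⟩,
  ⟨P1266, 2, [.a0], [.a0]⟩,
  ⟨P1267, 0, [.a0], [.a0]⟩,
  ⟨P1268, 1, [.a0], [.a0]⟩,
  ⟨P1269, 0, [.a0], [.a0]⟩]
def S1427 : List St := [.cent 1 1 0 [⟨4, [.a2, .a8], [.a2, .a8]⟩,
  ⟨32, [.a5], [.a5]⟩],
  .phi 2 [⟨4, [.a2, .a8], [.a2, .a8]⟩,
  ⟨8, [.a3, .a8], [.a3, .a8]⟩,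
  ⟨32, [.a5], [.a5]⟩,
  ⟨64, [.a6, .a8], [.a6, .a8]⟩] [[[.a1, .a7]], [[.a1, .a4, .a6], [.a1, .a7]], [[.a0, .a1, .a4, .a9]], [[.a3, .a4, .a7]]],
  .cent 3 3 1 [⟨4, [.a2], [.a2]⟩,
  ⟨8, [.a3], [.a3]⟩,
  ⟨32, [.a5], [.a5]⟩,
  ⟨64, [.a6], [.a6]⟩,
  ⟨256, [.a8], [.a8]⟩],
  .comm 1 4 [⟨32, [.a5], [.a5]⟩] [⟨[.a2, .a6], [.a1, .a4]⟩]]
theorem bad1427 (c : CtxF Goal γ) : Bad Goal γ [] P1427 :=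
  c.toCtx.chn (B := B1427) (D := D1427) (I := [6, 7, 8, 0, 9, 1, 2, 3]) (r := 4) (C := C1427) (l := S1427) (x := ⟨[.a9], [.a9]⟩) (ix := [1, 0]) (by decide +kernel) (by decide +kernel) (by decide +kernel) (by decide +kernel)
    (allB_cons (bad1222 c) (allB_cons (bad1256 c) (allB_cons (bad1247 c) (allB_cons (bad1266 c) (allB_cons (bad1267 c) (allB_cons (bad1268 c) (allB_cons (bad1269 c) (allB_cons (bad1263 c) (allB_cons (bad1264 c) (allB_cons (bad1262 c) (allB_cons (bad1264 c) (allB_cons (bad1266 c) (allB_cons (bad1267 c) (allB_cons (bad1268 c) (allB_cons (bad1269 c) (allB_nil))))))))))))))))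

def P1428 : List Ent := [⟨1, [.a0], [.a0]⟩,
  ⟨2, [.a1, .a7, .a11], [.a1, .a2, .a5, .a6, .a7, .a8, .a9, .a11]⟩,
  ⟨4, [.a2, .a9], [.a2, .a5, .a9]⟩,
  ⟨8, [.a3], [.a3]⟩,
  ⟨16, [.a4, .a7, .a9], [.a4, .a5, .a6, .a7, .a9]⟩,
  ⟨32, [.a5], [.a5]⟩,
  ⟨64, [.a6], [.a6]⟩,
  ⟨256, [.a8], [.a8]⟩]
def B1428 : List Gv := [⟨[.a0], [.a0]⟩, ⟨[.a1, .a7, .a11], [.a1, .a2, .a5, .a6, .a7, .a8, .a9, .a11]⟩]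
def D1428 : List Dv := [⟨[.a3, .a4, .a7, .a8, .a9], [1, 0], [0, 1]⟩,
  ⟨[.a2, .a5, .a9], [2, 2], []⟩,
  ⟨[.a6], [1, 2], [2, 1]⟩,
  ⟨[.a4, .a5, .a7, .a8, .a9], [2, 2, 4], [4, 2]⟩,
  ⟨[.a5], [0, 3, 2, 4], [4, 2]⟩,
  ⟨[.a8], [0, 3, 4], [4, 3]⟩,
  ⟨[.a4, .a7, .a9], [2], [1, 0]⟩,
  ⟨[.a3], [6], [0, 1]⟩,
  ⟨[.a2, .a9], [6], [3]⟩]
def C1428 : List Ch := [⟨P1223, 0, [.a10], [.a10, .a11]⟩,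
  ⟨P1257, 1, [], []⟩,
  ⟨P1242, 0, [.a1, .a10], [.a1, .a2, .a4, .a5, .a7, .a9, .a10, .a11]⟩]
def S1428 : List St := [.phi 1 [⟨4, [.a2, .a9], [.a2, .a5, .a9]⟩,
  ⟨8, [.a3], [.a3]⟩,
  ⟨16, [.a4, .a7, .a9], [.a4, .a5, .a6, .a7, .a9]⟩,
  ⟨32, [.a5], [.a5]⟩,
  ⟨64, [.a6], [.a6]⟩,
  ⟨256, [.a8], [.a8]⟩] [[[.a1, .a6, .a7, .a11]], [[.a3, .a4, .a7, .a9], [.a0, .a2, .a8, .a9]], [[.a0, .a1, .a2, .a7, .a9, .a11], [.a1, .a6, .a7, .a11]], [[.a0, .a8]], [[.a3, .a4, .a7, .a9]], [[.a3, .a4, .a7, .a9], [.a2, .a3, .a4, .a7]]],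
  .comm 0 2 [⟨8, [.a3, .a6], [.a3, .a6]⟩,
  ⟨32, [.a5], [.a5]⟩,
  ⟨64, [.a6], [.a6]⟩,
  ⟨256, [.a8], [.a8]⟩] [⟨[.a2, .a9], [.a0]⟩, ⟨[.a8], [.a0]⟩, ⟨[.a4, .a7, .a9], [.a0, .a3]⟩, ⟨[.a2, .a3, .a9], [.a2, .a4, .a7]⟩]]
theorem bad1428 (c : CtxF Goal γ) : Bad Goal γ [] P1428 :=
  c.toCtx.chn (B := B1428) (D := D1428) (I := [9, 10, 0, 1, 2, 4, 6, 3]) (r := 2) (C := C1428) (l := S1428) (x := ⟨[.a9], [.a9]⟩) (ix := [0]) (by decide +kernel) (by decide +kernel) (by decide +kernel) (by decide +kernel)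
    (allB_cons (bad1223 c) (allB_cons (bad1257 c) (allB_cons (bad1242 c) (allB_nil))))

def P1429 : List Ent := [⟨1, [.a0, .a10], [.a0, .a1, .a2, .a3, .a4, .a6, .a8, .a9, .a10, .a11]⟩,
  ⟨2, [.a1, .a7, .a11], [.a1, .a2, .a5, .a6, .a7, .a8, .a9, .a11]⟩,
  ⟨4, [.a2], [.a2]⟩,
  ⟨8, [.a3], [.a3]⟩,
  ⟨32, [.a5], [.a5]⟩,
  ⟨64, [.a6], [.a6]⟩,
  ⟨256, [.a8], [.a8]⟩,
  ⟨512, [.a9], [.a9]⟩]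
def B1429 : List Gv := [⟨[.a0, .a10], [.a0, .a1, .a2, .a3, .a4, .a6, .a8, .a9, .a10, .a11]⟩, ⟨[.a1, .a7, .a11], [.a1, .a2, .a5, .a6, .a7, .a8, .a9, .a11]⟩]
def D1429 : List Dv := [⟨[.a2, .a3, .a5, .a6], [1, 0, 0], []⟩,
  ⟨[.a3, .a5], [2, 1], [1, 2]⟩,
  ⟨[.a5, .a6, .a9], [0, 1, 3, 3], []⟩,
  ⟨[.a6], [2, 4], [4, 2]⟩,
  ⟨[.a9], [1, 2, 4], [4, 2]⟩,
  ⟨[.a8, .a9], [1, 2, 3, 6], [6, 3]⟩,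
  ⟨[.a8], [0], [1]⟩,
  ⟨[.a5], [4], [3, 2]⟩,
  ⟨[.a3], [6], [0]⟩,
  ⟨[.a2], [8], [0, 1, 5]⟩]
def C1429 : List Ch := [⟨P1220, 0, [], []⟩,
  ⟨P1270, 1, [], []⟩,
  ⟨P1270, 0, [.a4], [.a4, .a5]⟩]
def N1429 : List Ent := [⟨1, [.a0, .a10], [.a0, .a1, .a2, .a3, .a4, .a6, .a8, .a9, .a10, .a11]⟩,
  ⟨2, [.a1, .a7, .a11], [.a1, .a2, .a5, .a6, .a7, .a8, .a9, .a11]⟩,
  ⟨4, [.a2], [.a2]⟩,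
  ⟨8, [.a3], [.a3]⟩,
  ⟨16, [.a4], [.a4, .a5]⟩,
  ⟨32, [.a5], [.a5]⟩,
  ⟨64, [.a6], [.a6]⟩,
  ⟨128, [.a7], [.a7, .a8]⟩,
  ⟨256, [.a8], [.a8]⟩,
  ⟨512, [.a9], [.a9]⟩]
theorem bad1429 (c : CtxF Goal γ) : Bad Goal γ [] P1429 :=
  c.toCtx.bnd (B := B1429) (D := D1429) (I := [10, 11, 0, 1, 2, 6, 3, 5]) (r := 2) (C := C1429) (N := N1429) (by decide +kernel) (by decide +kernel) (by decide +kernel) (by decide +kernel)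
    (allB_cons (bad1220 c) (allB_cons (bad1270 c) (allB_cons (bad1270 c) (allB_nil))))

def P1430 : List Ent := [⟨1, [.a0, .a7], [.a0, .a2, .a3, .a5, .a7, .a8]⟩,
  ⟨4, [.a2], [.a2]⟩,
  ⟨8, [.a3], [.a3]⟩,
  ⟨16, [.a4, .a7, .a9], [.a4, .a5, .a6, .a7, .a9]⟩,
  ⟨32, [.a5], [.a5]⟩,
  ⟨64, [.a6], [.a6]⟩,
  ⟨256, [.a8], [.a8]⟩,
  ⟨2048, [.a11], [.a11]⟩]
def B1430 : List Gv := [⟨[.a0, .a7], [.a0, .a2, .a3, .a5, .a7, .a8]⟩, ⟨[.a2], [.a2]⟩, ⟨[.a11], [.a11]⟩]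
def D1430 : List Dv := [⟨[.a3, .a8], [1, 0, 0], []⟩,
  ⟨[.a4, .a7, .a8, .a9], [0, 2, 3, 1], [1, 3]⟩,
  ⟨[.a5, .a6, .a8], [4, 3], [3, 4]⟩,
  ⟨[.a8], [2, 5], [5, 2]⟩,
  ⟨[.a6, .a8], [1, 2, 5], [5, 2]⟩,
  ⟨[.a6], [0], [1]⟩,
  ⟨[.a5], [3], [0, 2]⟩,
  ⟨[.a4, .a7, .a9], [5], [3]⟩,
  ⟨[.a3], [7], [4]⟩]
def C1430 : List Ch := [⟨P1147, 0, [.a10], [.a10, .a11]⟩,
  ⟨P1271, 1, [], []⟩,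
  ⟨P1271, 0, [.a4], [.a4, .a5]⟩,
  ⟨P1272, 2, [], []⟩,
  ⟨P1273, 0, [], []⟩,
  ⟨P1274, 1, [], []⟩,
  ⟨P1274, 0, [.a4], [.a4, .a5]⟩]
def N1430 : List Ent := [⟨1, [.a0, .a7], [.a0, .a2, .a3, .a5, .a7, .a8]⟩,
  ⟨4, [.a2], [.a2]⟩,
  ⟨8, [.a3], [.a3]⟩,
  ⟨16, [.a4, .a7, .a9], [.a4, .a5, .a6, .a7, .a9]⟩,
  ⟨32, [.a5], [.a5]⟩,
  ⟨64, [.a6], [.a6]⟩,
  ⟨128, [.a7], [.a7, .a8]⟩,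
  ⟨256, [.a8], [.a8]⟩,
  ⟨512, [.a9], [.a9]⟩,
  ⟨2048, [.a11], [.a11]⟩]
theorem bad1430 (c : CtxF Goal γ) : Bad Goal γ [] P1430 :=
  c.toCtx.bnd (B := B1430) (D := D1430) (I := [9, 10, 0, 1, 2, 3, 5, 11]) (r := 3) (C := C1430) (N := N1430) (by decide +kernel) (by decide +kernel) (by decide +kernel) (by decide +kernel)
    (allB_cons (bad1147 c) (allB_cons (bad1271 c) (allB_cons (bad1271 c) (allB_cons (bad1272 c) (allB_cons (bad1273 c) (allB_cons (bad1274 c) (allB_cons (bad1274 c) (allB_nil))))))))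

def P1431 : List Ent := [⟨1, [.a0, .a7, .a9], [.a0, .a2, .a6, .a7, .a8, .a9]⟩,
  ⟨4, [.a2], [.a2]⟩,
  ⟨8, [.a3], [.a3]⟩,
  ⟨16, [.a4, .a7, .a9], [.a4, .a5, .a6, .a7, .a9]⟩,
  ⟨32, [.a5], [.a5]⟩,
  ⟨64, [.a6], [.a6]⟩,
  ⟨256, [.a8], [.a8]⟩,
  ⟨2048, [.a11], [.a11]⟩]
def B1431 : List Gv := [⟨[.a0, .a7, .a9], [.a0, .a2, .a6, .a7, .a8, .a9]⟩, ⟨[.a3], [.a3]⟩, ⟨[.a11], [.a11]⟩]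
def D1431 : List Dv := [⟨[.a2, .a5, .a6, .a8], [0, 0], []⟩,
  ⟨[.a5], [2, 1], [1, 2]⟩,
  ⟨[.a4, .a5, .a6, .a7, .a8, .a9], [3, 1, 4, 2], [2, 4]⟩,
  ⟨[.a8], [5, 4], [4, 5]⟩,
  ⟨[.a6, .a8], [2, 3, 6], [6, 3]⟩,
  ⟨[.a6], [0], [1]⟩,
  ⟨[.a4, .a7, .a9], [3], [4, 0, 2]⟩,
  ⟨[.a2], [6], [5, 1, 3]⟩]
def C1431 : List Ch := [⟨P1147, 0, [.a10], [.a10, .a11]⟩,
  ⟨P1275, 1, [], []⟩,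
  ⟨P1275, 0, [.a7], [.a7, .a8]⟩,
  ⟨P1276, 2, [], []⟩,
  ⟨P1273, 0, [.a1], [.a1, .a2]⟩,
  ⟨P1277, 1, [], []⟩,
  ⟨P1277, 0, [.a7], [.a7, .a8]⟩]
def N1431 : List Ent := [⟨1, [.a0, .a7, .a9], [.a0, .a2, .a6, .a7, .a8, .a9]⟩,
  ⟨4, [.a2], [.a2]⟩,
  ⟨8, [.a3], [.a3]⟩,
  ⟨16, [.a4, .a7, .a9], [.a4, .a5, .a6, .a7, .a9]⟩,
  ⟨32, [.a5], [.a5]⟩,
  ⟨64, [.a6], [.a6]⟩,
  ⟨128, [.a7], [.a7, .a8]⟩,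
  ⟨256, [.a8], [.a8]⟩,
  ⟨512, [.a9], [.a9]⟩,
  ⟨2048, [.a11], [.a11]⟩]
theorem bad1431 (c : CtxF Goal γ) : Bad Goal γ [] P1431 :=
  c.toCtx.bnd (B := B1431) (D := D1431) (I := [8, 0, 9, 1, 6, 2, 4, 10]) (r := 3) (C := C1431) (N := N1431) (by decide +kernel) (by decide +kernel) (by decide +kernel) (by decide +kernel)
    (allB_cons (bad1147 c) (allB_cons (bad1275 c) (allB_cons (bad1275 c) (allB_cons (bad1276 c) (allB_cons (bad1273 c) (allB_cons (bad1277 c) (allB_cons (bad1277 c) (allB_nil))))))))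

def P1432 : List Ent := [⟨1, [.a0, .a7], [.a0, .a2, .a3, .a5, .a7, .a8]⟩,
  ⟨4, [.a2], [.a2]⟩,
  ⟨8, [.a3], [.a3]⟩,
  ⟨16, [.a4, .a7], [.a4, .a5, .a6, .a7, .a8]⟩,
  ⟨32, [.a5], [.a5]⟩,
  ⟨64, [.a6], [.a6]⟩,
  ⟨256, [.a8], [.a8]⟩,
  ⟨512, [.a9], [.a9]⟩]
def B1432 : List Gv := [⟨[.a0, .a7], [.a0, .a2, .a3, .a5, .a7, .a8]⟩, ⟨[.a4, .a7], [.a4, .a5, .a6, .a7, .a8]⟩, ⟨[.a9], [.a9]⟩]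
def D1432 : List Dv := [⟨[.a2, .a3, .a8], [0, 0], []⟩,
  ⟨[.a3, .a6], [2, 1], [1, 2]⟩,
  ⟨[.a5, .a6, .a8], [3, 3], []⟩,
  ⟨[.a8], [5, 4], [4, 5]⟩,
  ⟨[.a6, .a8], [1, 3, 5], [5, 3]⟩,
  ⟨[.a6], [0], [1]⟩,
  ⟨[.a5], [3], [0, 2]⟩,
  ⟨[.a3], [5], [1]⟩,
  ⟨[.a2], [7], [0, 4]⟩]
def C1432 : List Ch := [⟨P1150, 0, [], []⟩,
  ⟨P1278, 1, [], []⟩,
  ⟨P1278, 0, [.a11], [.a11]⟩,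
  ⟨P1279, 2, [], []⟩,
  ⟨P1279, 0, [.a11], [.a11]⟩,
  ⟨P1272, 1, [], []⟩,
  ⟨P1276, 0, [], []⟩]
def N1432 : List Ent := [⟨1, [.a0, .a7], [.a0, .a2, .a3, .a5, .a7, .a8]⟩,
  ⟨2, [.a1], [.a1, .a2]⟩,
  ⟨4, [.a2], [.a2]⟩,
  ⟨8, [.a3], [.a3]⟩,
  ⟨16, [.a4, .a7], [.a4, .a5, .a6, .a7, .a8]⟩,
  ⟨32, [.a5], [.a5]⟩,
  ⟨64, [.a6], [.a6]⟩,
  ⟨128, [.a7], [.a7, .a8]⟩,
  ⟨256, [.a8], [.a8]⟩,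
  ⟨512, [.a9], [.a9]⟩,
  ⟨2048, [.a11], [.a11]⟩]
theorem bad1432 (c : CtxF Goal γ) : Bad Goal γ [] P1432 :=
  c.toCtx.bnd (B := B1432) (D := D1432) (I := [9, 0, 1, 10, 2, 3, 5, 11]) (r := 3) (C := C1432) (N := N1432) (by decide +kernel) (by decide +kernel) (by decide +kernel) (by decide +kernel)
    (allB_cons (bad1150 c) (allB_cons (bad1278 c) (allB_cons (bad1278 c) (allB_cons (bad1279 c) (allB_cons (bad1279 c) (allB_cons (bad1272 c) (allB_cons (bad1276 c) (allB_nil))))))))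

def P1433 : List Ent := [⟨1, [.a0, .a7, .a11], [.a0, .a4, .a5, .a9, .a11]⟩,
  ⟨4, [.a2], [.a2]⟩,
  ⟨8, [.a3], [.a3]⟩,
  ⟨16, [.a4, .a7], [.a4, .a5, .a6, .a7, .a8]⟩,
  ⟨32, [.a5], [.a5]⟩,
  ⟨64, [.a6], [.a6]⟩,
  ⟨256, [.a8], [.a8]⟩,
  ⟨512, [.a9], [.a9]⟩]
def B1433 : List Gv := [⟨[.a0, .a7, .a11], [.a0, .a4, .a5, .a9, .a11]⟩, ⟨[.a2], [.a2]⟩, ⟨[.a4, .a7], [.a4, .a5, .a6, .a7, .a8]⟩]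
def D1433 : List Dv := [⟨[.a5, .a6, .a9], [2, 0, 0], []⟩,
  ⟨[.a6, .a8], [2, 1], [1, 2]⟩,
  ⟨[.a3, .a6], [4, 2], [2, 4]⟩,
  ⟨[.a8, .a9], [2, 5, 5], []⟩,
  ⟨[.a9], [0, 3, 6], [6, 3]⟩,
  ⟨[.a8], [1], [0]⟩,
  ⟨[.a6], [4], [0]⟩,
  ⟨[.a5], [6], [0, 2]⟩,
  ⟨[.a3], [5], [1]⟩]
def C1433 : List Ch := [⟨P1150, 0, [], []⟩,
  ⟨P1280, 1, [], []⟩,
  ⟨P1280, 0, [.a4], [.a4, .a5]⟩,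
  ⟨P1273, 2, [], []⟩,
  ⟨P1273, 0, [.a1], [.a1, .a2]⟩,
  ⟨P1281, 1, [], []⟩,
  ⟨P1281, 0, [.a1], [.a1, .a2]⟩]
def N1433 : List Ent := [⟨1, [.a0, .a7, .a11], [.a0, .a4, .a5, .a9, .a11]⟩,
  ⟨2, [.a1], [.a1, .a2]⟩,
  ⟨4, [.a2], [.a2]⟩,
  ⟨8, [.a3], [.a3]⟩,
  ⟨16, [.a4, .a7], [.a4, .a5, .a6, .a7, .a8]⟩,
  ⟨32, [.a5], [.a5]⟩,
  ⟨64, [.a6], [.a6]⟩,
  ⟨128, [.a7], [.a7, .a8]⟩,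
  ⟨256, [.a8], [.a8]⟩,
  ⟨512, [.a9], [.a9]⟩,
  ⟨2048, [.a11], [.a11]⟩]
theorem bad1433 (c : CtxF Goal γ) : Bad Goal γ [] P1433 :=
  c.toCtx.bnd (B := B1433) (D := D1433) (I := [9, 10, 0, 11, 1, 2, 3, 4]) (r := 3) (C := C1433) (N := N1433) (by decide +kernel) (by decide +kernel) (by decide +kernel) (by decide +kernel)
    (allB_cons (bad1150 c) (allB_cons (bad1280 c) (allB_cons (bad1280 c) (allB_cons (bad1273 c) (allB_cons (bad1273 c) (allB_cons (bad1281 c) (allB_cons (bad1281 c) (allB_nil))))))))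

def P1434 : List Ent := [⟨1, [.a0, .a7], [.a0, .a2, .a3, .a5, .a7, .a8]⟩,
  ⟨2, [.a1, .a7], [.a1, .a2, .a7, .a8]⟩,
  ⟨4, [.a2], [.a2]⟩,
  ⟨8, [.a3], [.a3]⟩,
  ⟨32, [.a5], [.a5]⟩,
  ⟨64, [.a6], [.a6]⟩,
  ⟨256, [.a8], [.a8]⟩,
  ⟨512, [.a9], [.a9]⟩]
def B1434 : List Gv := [⟨[.a0, .a7], [.a0, .a2, .a3, .a5, .a7, .a8]⟩, ⟨[.a1, .a7], [.a1, .a2, .a7, .a8]⟩, ⟨[.a9], [.a9]⟩]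
def D1434 : List Dv := [⟨[.a2, .a3, .a8], [0, 0], []⟩,
  ⟨[.a8], [0, 2, 1], [1, 2]⟩,
  ⟨[.a3], [1, 3, 3], []⟩,
  ⟨[.a6], [0, 5, 3], [3, 5]⟩,
  ⟨[.a5], [3, 5], [5, 3]⟩,
  ⟨[.a2], [4], [2, 3]⟩]
def C1434 : List Ch := [⟨P1219, 0, [], []⟩,
  ⟨P1278, 1, [], []⟩,
  ⟨P1278, 0, [.a10], [.a10, .a11]⟩,
  ⟨P1282, 2, [], []⟩,
  ⟨P1283, 0, [], []⟩,
  ⟨P1284, 1, [], []⟩,
  ⟨P1285, 0, [], []⟩]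
def N1434 : List Ent := [⟨1, [.a0, .a7], [.a0, .a2, .a3, .a5, .a7, .a8]⟩,
  ⟨2, [.a1, .a7], [.a1, .a2, .a7, .a8]⟩,
  ⟨4, [.a2], [.a2]⟩,
  ⟨8, [.a3], [.a3]⟩,
  ⟨16, [.a4], [.a4, .a5]⟩,
  ⟨32, [.a5], [.a5]⟩,
  ⟨64, [.a6], [.a6]⟩,
  ⟨128, [.a7], [.a7, .a8]⟩,
  ⟨256, [.a8], [.a8]⟩,
  ⟨512, [.a9], [.a9]⟩]
theorem bad1434 (c : CtxF Goal γ) : Bad Goal γ [] P1434 :=
  c.toCtx.bnd (B := B1434) (D := D1434) (I := [6, 7, 0, 3, 1, 2, 4, 8]) (r := 3) (C := C1434) (N := N1434) (by decide +kernel) (by decide +kernel) (by decide +kernel) (by decide +kernel)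
    (allB_cons (bad1219 c) (allB_cons (bad1278 c) (allB_cons (bad1278 c) (allB_cons (bad1282 c) (allB_cons (bad1283 c) (allB_cons (bad1284 c) (allB_cons (bad1285 c) (allB_nil))))))))

def P1435 : List Ent := [⟨1, [.a0, .a7], [.a0, .a2, .a3, .a5, .a7, .a8]⟩,
  ⟨2, [.a1, .a7], [.a1, .a2, .a7, .a8]⟩,
  ⟨4, [.a2], [.a2]⟩,
  ⟨8, [.a3], [.a3]⟩,
  ⟨16, [.a4, .a7], [.a4, .a5, .a6, .a7, .a8]⟩,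
  ⟨32, [.a5], [.a5]⟩,
  ⟨64, [.a6], [.a6]⟩,
  ⟨256, [.a8], [.a8]⟩]
def B1435 : List Gv := [⟨[.a0, .a7], [.a0, .a2, .a3, .a5, .a7, .a8]⟩, ⟨[.a1, .a7], [.a1, .a2, .a7, .a8]⟩, ⟨[.a4, .a7], [.a4, .a5, .a6, .a7, .a8]⟩]
def D1435 : List Dv := [⟨[.a2, .a3, .a8], [0, 0], []⟩,
  ⟨[.a8], [0, 2, 1], [1, 2]⟩,
  ⟨[.a3], [1, 3, 3], []⟩,
  ⟨[.a6], [0, 5, 3], [3, 5]⟩,
  ⟨[.a5, .a6], [1, 6, 5], [5, 6]⟩,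
  ⟨[.a5], [0], [1]⟩,
  ⟨[.a2], [5], [3, 4]⟩]
def C1435 : List Ch := [⟨P1222, 0, [], []⟩,
  ⟨P1279, 1, [], []⟩,
  ⟨P1272, 0, [.a10], [.a10, .a11]⟩,
  ⟨P1282, 2, [], []⟩,
  ⟨P1285, 0, [.a11], [.a11]⟩,
  ⟨P1282, 1, [.a10, .a11], [.a10]⟩,
  ⟨P1284, 0, [.a10], [.a10, .a11]⟩]
def N1435 : List Ent := [⟨1, [.a0, .a7], [.a0, .a2, .a3, .a5, .a7, .a8]⟩,
  ⟨2, [.a1, .a7], [.a1, .a2, .a7, .a8]⟩,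
  ⟨4, [.a2], [.a2]⟩,
  ⟨8, [.a3], [.a3]⟩,
  ⟨16, [.a4, .a7], [.a4, .a5, .a6, .a7, .a8]⟩,
  ⟨32, [.a5], [.a5]⟩,
  ⟨64, [.a6], [.a6]⟩,
  ⟨128, [.a7], [.a7, .a8]⟩,
  ⟨256, [.a8], [.a8]⟩,
  ⟨512, [.a9], [.a9]⟩]
theorem bad1435 (c : CtxF Goal γ) : Bad Goal γ [] P1435 :=
  c.toCtx.bnd (B := B1435) (D := D1435) (I := [7, 8, 0, 4, 9, 1, 3, 5]) (r := 3) (C := C1435) (N := N1435) (by decide +kernel) (by decide +kernel) (by decide +kernel) (by decide +kernel)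
    (allB_cons (bad1222 c) (allB_cons (bad1279 c) (allB_cons (bad1272 c) (allB_cons (bad1282 c) (allB_cons (bad1285 c) (allB_cons (bad1282 c) (allB_cons (bad1284 c) (allB_nil))))))))

def P1436 : List Ent := [⟨1, [.a0, .a7, .a9], [.a0, .a2, .a6, .a7, .a8, .a9]⟩,
  ⟨2, [.a1, .a7], [.a1, .a2, .a7, .a8]⟩,
  ⟨4, [.a2], [.a2]⟩,
  ⟨8, [.a3], [.a3]⟩,
  ⟨16, [.a4, .a7], [.a4, .a5, .a6, .a7, .a8]⟩,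
  ⟨32, [.a5], [.a5]⟩,
  ⟨64, [.a6], [.a6]⟩,
  ⟨256, [.a8], [.a8]⟩]
def B1436 : List Gv := [⟨[.a0, .a7, .a9], [.a0, .a2, .a6, .a7, .a8, .a9]⟩, ⟨[.a1, .a7], [.a1, .a2, .a7, .a8]⟩, ⟨[.a4, .a7], [.a4, .a5, .a6, .a7, .a8]⟩]
def D1436 : List Dv := [⟨[.a2, .a5, .a6, .a8], [0, 0], []⟩,
  ⟨[.a3], [0, 2, 1], [1, 2]⟩,
  ⟨[.a5, .a6], [1, 3, 3], []⟩,
  ⟨[.a8], [0, 1, 5, 3], [3, 5]⟩,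
  ⟨[.a6], [1, 3, 5], [5, 3]⟩,
  ⟨[.a5], [2], [0]⟩,
  ⟨[.a2], [5], [0, 1, 2]⟩]
def C1436 : List Ch := [⟨P1222, 0, [], []⟩,
  ⟨P1279, 1, [.a11], [.a11]⟩,
  ⟨P1276, 0, [.a10], [.a10, .a11]⟩,
  ⟨P1283, 2, [], []⟩,
  ⟨P1284, 0, [.a11], [.a11]⟩,
  ⟨P1283, 1, [.a10, .a11], [.a10]⟩,
  ⟨P1285, 0, [.a10], [.a10, .a11]⟩]
def N1436 : List Ent := [⟨1, [.a0, .a7, .a9], [.a0, .a2, .a6, .a7, .a8, .a9]⟩,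
  ⟨2, [.a1, .a7], [.a1, .a2, .a7, .a8]⟩,
  ⟨4, [.a2], [.a2]⟩,
  ⟨8, [.a3], [.a3]⟩,
  ⟨16, [.a4, .a7], [.a4, .a5, .a6, .a7, .a8]⟩,
  ⟨32, [.a5], [.a5]⟩,
  ⟨64, [.a6], [.a6]⟩,
  ⟨128, [.a7], [.a7, .a8]⟩,
  ⟨256, [.a8], [.a8]⟩,
  ⟨512, [.a9], [.a9]⟩]
theorem bad1436 (c : CtxF Goal γ) : Bad Goal γ [] P1436 :=
  c.toCtx.bnd (B := B1436) (D := D1436) (I := [7, 8, 0, 5, 9, 1, 2, 3]) (r := 3) (C := C1436) (N := N1436) (by decide +kernel) (by decide +kernel) (by decide +kernel) (by decide +kernel)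
    (allB_cons (bad1222 c) (allB_cons (bad1279 c) (allB_cons (bad1276 c) (allB_cons (bad1283 c) (allB_cons (bad1284 c) (allB_cons (bad1283 c) (allB_cons (bad1285 c) (allB_nil))))))))

def P1437 : List Ent := [⟨1, [.a0, .a7, .a10], [.a0, .a1, .a3, .a4, .a7, .a10, .a11]⟩,
  ⟨2, [.a1, .a7, .a11], [.a1, .a2, .a5, .a6, .a7, .a8, .a9, .a11]⟩,
  ⟨4, [.a2], [.a2]⟩,
  ⟨8, [.a3], [.a3]⟩,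
  ⟨32, [.a5], [.a5]⟩,
  ⟨64, [.a6], [.a6]⟩,
  ⟨256, [.a8], [.a8]⟩,
  ⟨512, [.a9], [.a9]⟩]
def B1437 : List Gv := [⟨[.a0, .a7, .a10], [.a0, .a1, .a3, .a4, .a7, .a10, .a11]⟩, ⟨[.a1, .a7, .a11], [.a1, .a2, .a5, .a6, .a7, .a8, .a9, .a11]⟩]
def D1437 : List Dv := [⟨[.a5, .a8, .a9], [1, 0, 0], []⟩,
  ⟨[.a3, .a5, .a6], [2, 1], [1, 2]⟩,
  ⟨[.a2, .a5, .a9], [3, 3], []⟩,
  ⟨[.a6, .a8], [2, 4], [4, 2]⟩,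
  ⟨[.a8, .a9], [0, 3, 2, 4], [4, 2]⟩,
  ⟨[.a9], [0, 3, 6], [6, 3]⟩,
  ⟨[.a8], [1], [0]⟩,
  ⟨[.a6], [3], [0]⟩,
  ⟨[.a5], [7], [1, 2]⟩,
  ⟨[.a3], [7], [0, 1]⟩,
  ⟨[.a2], [7], [1, 4]⟩]
def C1437 : List Ch := [⟨P1220, 0, [], []⟩,
  ⟨P1286, 1, [], []⟩,
  ⟨P1286, 0, [.a4], [.a4, .a5]⟩]
def N1437 : List Ent := [⟨1, [.a0, .a7, .a10], [.a0, .a1, .a3, .a4, .a7, .a10, .a11]⟩,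
  ⟨2, [.a1, .a7, .a11], [.a1, .a2, .a5, .a6, .a7, .a8, .a9, .a11]⟩,
  ⟨4, [.a2], [.a2]⟩,
  ⟨8, [.a3], [.a3]⟩,
  ⟨16, [.a4], [.a4, .a5]⟩,
  ⟨32, [.a5], [.a5]⟩,
  ⟨64, [.a6], [.a6]⟩,
  ⟨128, [.a7], [.a7, .a8]⟩,
  ⟨256, [.a8], [.a8]⟩,
  ⟨512, [.a9], [.a9]⟩]
theorem bad1437 (c : CtxF Goal γ) : Bad Goal γ [] P1437 :=
  c.toCtx.bnd (B := B1437) (D := D1437) (I := [11, 12, 0, 1, 2, 3, 4, 5]) (r := 2) (C := C1437) (N := N1437) (by decide +kernel) (by decide +kernel) (by decide +kernel) (by decide +kernel)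
    (allB_cons (bad1220 c) (allB_cons (bad1286 c) (allB_cons (bad1286 c) (allB_nil))))

def P1438 : List Ent := [⟨1, [.a0], [.a0]⟩,
  ⟨4, [.a2, .a3], [.a2, .a3]⟩,
  ⟨16, [.a4, .a9], [.a4, .a5, .a8, .a9]⟩,
  ⟨32, [.a5], [.a5]⟩,
  ⟨64, [.a6], [.a6]⟩,
  ⟨128, [.a7], [.a7, .a8]⟩,
  ⟨256, [.a8], [.a8]⟩,
  ⟨2048, [.a11], [.a11]⟩]
def B1438 : List Gv := [⟨[.a0], [.a0]⟩, ⟨[.a4, .a9], [.a4, .a5, .a8, .a9]⟩, ⟨[.a11], [.a11]⟩]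
def D1438 : List Dv := [⟨[.a2, .a3, .a6], [1, 0], [0, 1]⟩,
  ⟨[.a5, .a8], [2, 2], []⟩,
  ⟨[.a6, .a7], [0, 3, 1, 4, 2], [2, 4]⟩,
  ⟨[.a8], [1, 2, 4], [4, 2]⟩,
  ⟨[.a7, .a8], [1, 2, 3, 6], [6, 3]⟩,
  ⟨[.a7], [0], [1]⟩,
  ⟨[.a6], [3], [0]⟩,
  ⟨[.a5], [5], [3]⟩,
  ⟨[.a2, .a3], [7], [1]⟩]
def C1438 : List Ch := [⟨P1167, 0, [.a10], [.a10, .a11]⟩,
  ⟨P1246, 1, [], []⟩,
  ⟨P1271, 0, [], []⟩,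
  ⟨P1287, 2, [], []⟩,
  ⟨P1288, 0, [], []⟩,
  ⟨P1289, 1, [], []⟩,
  ⟨P1290, 0, [], []⟩]
def S1438 : List St := [.cent 1 1 0 [⟨32, [.a5], [.a5]⟩,
  ⟨64, [.a6], [.a6]⟩],
  .phi 2 [⟨4, [.a2, .a3], [.a2, .a3]⟩,
  ⟨16, [.a4, .a7, .a9], [.a4, .a5, .a6, .a7, .a9]⟩,
  ⟨32, [.a5], [.a5]⟩,
  ⟨64, [.a6], [.a6]⟩,
  ⟨256, [.a8], [.a8]⟩] [[[.a7], [.a0, .a7]], [[.a7], [.a0, .a7, .a11]], [[.a0, .a8]], [[.a0, .a8], [.a4, .a7, .a9]], [[.a7]]]]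
theorem bad1438 (c : CtxF Goal γ) : Bad Goal γ [] P1438 :=
  c.toCtx.chn (B := B1438) (D := D1438) (I := [9, 0, 10, 1, 2, 3, 5, 11]) (r := 3) (C := C1438) (l := S1438) (x := ⟨[.a3], [.a3]⟩) (ix := [0, 1]) (by decide +kernel) (by decide +kernel) (by decide +kernel) (by decide +kernel)
    (allB_cons (bad1167 c) (allB_cons (bad1246 c) (allB_cons (bad1271 c) (allB_cons (bad1287 c) (allB_cons (bad1288 c) (allB_cons (bad1289 c) (allB_cons (bad1290 c) (allB_nil))))))))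

def P1439 : List Ent := [⟨1, [.a0], [.a0]⟩,
  ⟨4, [.a2, .a7], [.a2, .a7, .a8]⟩,
  ⟨8, [.a3, .a7], [.a3, .a5, .a7, .a8]⟩,
  ⟨16, [.a4, .a7, .a9], [.a4, .a5, .a6, .a7, .a9]⟩,
  ⟨32, [.a5], [.a5]⟩,
  ⟨64, [.a6], [.a6]⟩,
  ⟨256, [.a8], [.a8]⟩,
  ⟨2048, [.a11], [.a11]⟩]
def B1439 : List Gv := [⟨[.a0], [.a0]⟩, ⟨[.a2, .a7], [.a2, .a7, .a8]⟩, ⟨[.a11], [.a11]⟩]
def D1439 : List Dv := [⟨[.a3, .a5, .a7], [1, 1, 0], [0, 1]⟩,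
  ⟨[.a8], [2, 2], []⟩,
  ⟨[.a4, .a5, .a7, .a8, .a9], [1, 3, 4, 2], [2, 4]⟩,
  ⟨[.a5, .a6, .a8], [5, 4], [4, 5]⟩,
  ⟨[.a6], [0, 3, 5, 3, 4], [4, 3]⟩,
  ⟨[.a5], [1], [0, 3]⟩,
  ⟨[.a4, .a7, .a9], [3], [0, 4]⟩,
  ⟨[.a3, .a7], [6], [1]⟩]
def C1439 : List Ch := [⟨P1193, 0, [.a0, .a1, .a3, .a5, .a6, .a7, .a8, .a9, .a10], [.a0, .a10, .a11]⟩,
  ⟨P1246, 1, [], []⟩,
  ⟨P1271, 0, [.a4], [.a4, .a5]⟩,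
  ⟨P1291, 2, [], []⟩,
  ⟨P1292, 0, [], []⟩,
  ⟨P1293, 1, [], []⟩,
  ⟨P1294, 0, [], []⟩]
def S1439 : List St := [.cent 1 1 0 [⟨32, [.a5], [.a5]⟩,
  ⟨64, [.a6], [.a6]⟩],
  .phi 2 [⟨4, [.a2, .a3], [.a2, .a3]⟩,
  ⟨16, [.a4, .a7, .a9], [.a4, .a5, .a6, .a7, .a9]⟩,
  ⟨32, [.a5], [.a5]⟩,
  ⟨64, [.a6], [.a6]⟩,
  ⟨256, [.a8], [.a8]⟩] [[[.a2, .a7], [.a0, .a2, .a7]], [[.a0, .a3, .a7, .a11]], [[.a0, .a8]], [[.a0, .a8], [.a4, .a7, .a9]], [[.a2, .a7]]]]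
theorem bad1439 (c : CtxF Goal γ) : Bad Goal γ [] P1439 :=
  c.toCtx.chn (B := B1439) (D := D1439) (I := [8, 9, 0, 1, 2, 3, 6, 10]) (r := 3) (C := C1439) (l := S1439) (x := ⟨[.a7], [.a7, .a8]⟩) (ix := [0, 1]) (by decide +kernel) (by decide +kernel) (by decide +kernel) (by decide +kernel)
    (allB_cons (bad1193 c) (allB_cons (bad1246 c) (allB_cons (bad1271 c) (allB_cons (bad1291 c) (allB_cons (bad1292 c) (allB_cons (bad1293 c) (allB_cons (bad1294 c) (allB_nil))))))))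

def P1440 : List Ent := [⟨1, [.a0], [.a0]⟩,
  ⟨4, [.a2], [.a2]⟩,
  ⟨8, [.a3], [.a3]⟩,
  ⟨16, [.a4, .a9], [.a4, .a5, .a8, .a9]⟩,
  ⟨32, [.a5], [.a5]⟩,
  ⟨64, [.a6], [.a6]⟩,
  ⟨128, [.a7], [.a7, .a8]⟩,
  ⟨256, [.a8], [.a8]⟩]
def B1440 : List Gv := [⟨[.a0], [.a0]⟩, ⟨[.a2], [.a2]⟩, ⟨[.a4, .a9], [.a4, .a5, .a8, .a9]⟩, ⟨[.a7], [.a7, .a8]⟩]
def D1440 : List Dv := [⟨[.a3, .a6], [1, 2, 0], [0, 2]⟩,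
  ⟨[.a5], [3, 2], [2, 3]⟩,
  ⟨[.a8], [0, 4, 4], []⟩,
  ⟨[.a6], [2, 4, 6, 3], [3, 6]⟩,
  ⟨[.a3], [3], [0]⟩]
def C1440 : List Ch := [⟨P1210, 0, [], []⟩,
  ⟨P1287, 1, [], []⟩,
  ⟨P1287, 0, [.a4], [.a4, .a5]⟩,
  ⟨P1295, 2, [], []⟩,
  ⟨P1295, 0, [.a11], [.a11]⟩,
  ⟨P1287, 1, [.a1], [.a1, .a2]⟩,
  ⟨P1287, 0, [.a1, .a3, .a4], [.a1, .a2, .a4, .a5]⟩,
  ⟨P1296, 3, [], []⟩,
  ⟨P1296, 0, [.a11], [.a11]⟩,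
  ⟨P1291, 1, [.a1], [.a1, .a2]⟩,
  ⟨P1291, 0, [.a1, .a3, .a4], [.a1, .a2, .a4, .a5]⟩,
  ⟨P1247, 2, [], []⟩,
  ⟨P1272, 0, [], []⟩,
  ⟨P1291, 1, [], []⟩,
  ⟨P1291, 0, [.a4], [.a4, .a5]⟩]
def N1440 : List Ent := [⟨1, [.a0], [.a0]⟩,
  ⟨2, [.a1], [.a1, .a2]⟩,
  ⟨4, [.a2], [.a2]⟩,
  ⟨8, [.a3], [.a3]⟩,
  ⟨16, [.a4, .a9], [.a4, .a5, .a8, .a9]⟩,
  ⟨32, [.a5], [.a5]⟩,
  ⟨64, [.a6], [.a6]⟩,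
  ⟨128, [.a7], [.a7, .a8]⟩,
  ⟨256, [.a8], [.a8]⟩,
  ⟨512, [.a9], [.a9]⟩,
  ⟨2048, [.a11], [.a11]⟩]
theorem bad1440 (c : CtxF Goal γ) : Bad Goal γ [] P1440 :=
  c.toCtx.bnd (B := B1440) (D := D1440) (I := [5, 6, 0, 7, 3, 1, 8, 2]) (r := 4) (C := C1440) (N := N1440) (by decide +kernel) (by decide +kernel) (by decide +kernel) (by decide +kernel)
    (allB_cons (bad1210 c) (allB_cons (bad1287 c) (allB_cons (bad1287 c) (allB_cons (bad1295 c) (allB_cons (bad1295 c) (allB_cons (bad1287 c) (allB_cons (bad1287 c) (allB_cons (bad1296 c) (allB_cons (bad1296 c) (allB_cons (bad1291 c) (allB_cons (bad1291 c) (allB_cons (bad1247 c) (allB_cons (bad1272 c) (allB_cons (bad1291 c) (allB_cons (bad1291 c) (allB_nil))))))))))))))))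

def P1441 : List Ent := [⟨1, [.a0, .a11], [.a0, .a2, .a3, .a4, .a5, .a6, .a7, .a9, .a11]⟩,
  ⟨4, [.a2], [.a2]⟩,
  ⟨8, [.a3], [.a3]⟩,
  ⟨16, [.a4, .a9], [.a4, .a5, .a8, .a9]⟩,
  ⟨32, [.a5], [.a5]⟩,
  ⟨64, [.a6], [.a6]⟩,
  ⟨128, [.a7], [.a7, .a8]⟩,
  ⟨256, [.a8], [.a8]⟩]
def B1441 : List Gv := [⟨[.a0, .a11], [.a0, .a2, .a3, .a4, .a5, .a6, .a7, .a9, .a11]⟩, ⟨[.a2], [.a2]⟩, ⟨[.a4, .a9], [.a4, .a5, .a8, .a9]⟩]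
def D1441 : List Dv := [⟨[.a3, .a4, .a5, .a6, .a7, .a9], [1, 0, 0], []⟩,
  ⟨[.a6, .a8], [2, 1], [1, 2]⟩,
  ⟨[.a5, .a7, .a8], [4, 1, 3, 4, 2], [2, 4]⟩,
  ⟨[.a7, .a8], [0, 5, 4], [4, 5]⟩,
  ⟨[.a8], [0, 1, 3, 5], [5, 3]⟩,
  ⟨[.a7], [1], [0]⟩,
  ⟨[.a6], [4], [1]⟩,
  ⟨[.a5], [4], [1, 2]⟩,
  ⟨[.a3], [7], [10, 0, 1, 2]⟩]
def C1441 : List Ch := [⟨P1210, 0, [], []⟩,
  ⟨P1288, 1, [], []⟩,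
  ⟨P1288, 0, [.a4], [.a4, .a5]⟩,
  ⟨P1248, 2, [], []⟩,
  ⟨P1273, 0, [], []⟩,
  ⟨P1292, 1, [], []⟩,
  ⟨P1292, 0, [.a4], [.a4, .a5]⟩]
def N1441 : List Ent := [⟨1, [.a0, .a11], [.a0, .a2, .a3, .a4, .a5, .a6, .a7, .a9, .a11]⟩,
  ⟨4, [.a2], [.a2]⟩,
  ⟨8, [.a3], [.a3]⟩,
  ⟨16, [.a4, .a9], [.a4, .a5, .a8, .a9]⟩,
  ⟨32, [.a5], [.a5]⟩,
  ⟨64, [.a6], [.a6]⟩,
  ⟨128, [.a7], [.a7, .a8]⟩,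
  ⟨256, [.a8], [.a8]⟩,
  ⟨512, [.a9], [.a9]⟩,
  ⟨2048, [.a11], [.a11]⟩]
theorem bad1441 (c : CtxF Goal γ) : Bad Goal γ [] P1441 :=
  c.toCtx.bnd (B := B1441) (D := D1441) (I := [9, 10, 0, 11, 1, 2, 3, 4]) (r := 3) (C := C1441) (N := N1441) (by decide +kernel) (by decide +kernel) (by decide +kernel) (by decide +kernel)
    (allB_cons (bad1210 c) (allB_cons (bad1288 c) (allB_cons (bad1288 c) (allB_cons (bad1248 c) (allB_cons (bad1273 c) (allB_cons (bad1292 c) (allB_cons (bad1292 c) (allB_nil))))))))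

def P1442 : List Ent := [⟨1, [.a0], [.a0]⟩,
  ⟨4, [.a2, .a11], [.a2, .a5, .a6, .a8, .a11]⟩,
  ⟨8, [.a3, .a11], [.a3, .a8, .a11]⟩,
  ⟨16, [.a4, .a9], [.a4, .a5, .a8, .a9]⟩,
  ⟨32, [.a5], [.a5]⟩,
  ⟨64, [.a6], [.a6]⟩,
  ⟨128, [.a7], [.a7, .a8]⟩,
  ⟨256, [.a8], [.a8]⟩]
def B1442 : List Gv := [⟨[.a0], [.a0]⟩, ⟨[.a2, .a11], [.a2, .a5, .a6, .a8, .a11]⟩, ⟨[.a4, .a9], [.a4, .a5, .a8, .a9]⟩]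
def D1442 : List Dv := [⟨[.a3, .a4, .a6, .a7, .a9, .a11], [1, 1, 0], [0, 1]⟩,
  ⟨[.a5, .a6, .a8], [2, 2], []⟩,
  ⟨[.a7, .a8], [0, 4, 1, 3, 4, 2], [2, 4]⟩,
  ⟨[.a6, .a8], [1, 5, 4], [4, 5]⟩,
  ⟨[.a8], [0, 2, 6, 6], []⟩,
  ⟨[.a7], [2], [0]⟩,
  ⟨[.a6], [2], [1]⟩,
  ⟨[.a5], [5], [0, 2]⟩,
  ⟨[.a3, .a11], [7], [10, 1, 2]⟩]
def C1442 : List Ch := [⟨P1208, 0, [.a1], [.a1, .a2]⟩,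
  ⟨P1287, 1, [], []⟩,
  ⟨P1288, 0, [.a4], [.a4, .a5]⟩,
  ⟨P1250, 2, [], []⟩,
  ⟨P1274, 0, [], []⟩,
  ⟨P1293, 1, [], []⟩,
  ⟨P1294, 0, [.a4], [.a4, .a5]⟩]
def S1442 : List St := [.cent 1 1 0 [⟨32, [.a5], [.a5]⟩,
  ⟨64, [.a6], [.a6]⟩],
  .phi 2 [⟨4, [.a2, .a3], [.a2, .a3]⟩,
  ⟨16, [.a4, .a7, .a9], [.a4, .a5, .a6, .a7, .a9]⟩,
  ⟨32, [.a5], [.a5]⟩,
  ⟨64, [.a6], [.a6]⟩,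
  ⟨256, [.a8], [.a8]⟩] [[[.a7], [.a0, .a7]], [[.a0, .a3, .a7, .a11]], [[.a0, .a8]], [[.a0, .a8], [.a4, .a7, .a9]], [[.a7]]]]
theorem bad1442 (c : CtxF Goal γ) : Bad Goal γ [] P1442 :=
  c.toCtx.chn (B := B1442) (D := D1442) (I := [9, 10, 0, 11, 1, 2, 3, 4]) (r := 3) (C := C1442) (l := S1442) (x := ⟨[.a11], [.a11]⟩) (ix := [0, 1]) (by decide +kernel) (by decide +kernel) (by decide +kernel) (by decide +kernel)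
    (allB_cons (bad1208 c) (allB_cons (bad1287 c) (allB_cons (bad1288 c) (allB_cons (bad1250 c) (allB_cons (bad1274 c) (allB_cons (bad1293 c) (allB_cons (bad1294 c) (allB_nil))))))))

def P1443 : List Ent := [⟨1, [.a0], [.a0]⟩,
  ⟨4, [.a2], [.a2]⟩,
  ⟨8, [.a3], [.a3]⟩,
  ⟨16, [.a4, .a9, .a11], [.a4, .a5, .a8, .a9, .a11]⟩,
  ⟨32, [.a5], [.a5]⟩,
  ⟨64, [.a6], [.a6]⟩,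
  ⟨128, [.a7, .a11], [.a7, .a8, .a11]⟩,
  ⟨256, [.a8], [.a8]⟩]
def B1443 : List Gv := [⟨[.a0], [.a0]⟩, ⟨[.a2], [.a2]⟩, ⟨[.a3], [.a3]⟩, ⟨[.a4, .a9, .a11], [.a4, .a5, .a8, .a9, .a11]⟩]
def D1443 : List Dv := [⟨[.a7, .a8, .a11], [3, 3, 0], [0, 3]⟩,
  ⟨[.a6, .a8], [4, 2], [2, 4]⟩,
  ⟨[.a8], [5, 4], [4, 5]⟩,
  ⟨[.a5, .a8], [6, 6], []⟩,
  ⟨[.a7, .a11], [3], [1]⟩,
  ⟨[.a6], [3], [2]⟩,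
  ⟨[.a5], [2], [3]⟩]
def C1443 : List Ch := [⟨P1200, 0, [.a0, .a1, .a3, .a5, .a6, .a7, .a8, .a9, .a10], [.a0, .a10, .a11]⟩,
  ⟨P1297, 1, [], []⟩,
  ⟨P1297, 0, [.a4], [.a4, .a5]⟩,
  ⟨P1298, 2, [], []⟩,
  ⟨P1298, 0, [.a7], [.a7, .a8]⟩,
  ⟨P1289, 1, [], []⟩,
  ⟨P1289, 0, [.a4], [.a4, .a5]⟩,
  ⟨P1247, 3, [], []⟩,
  ⟨P1273, 0, [], []⟩,
  ⟨P1299, 1, [], []⟩,
  ⟨P1299, 0, [.a4], [.a4, .a5]⟩,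
  ⟨P1300, 2, [], []⟩,
  ⟨P1300, 0, [.a7], [.a7, .a8]⟩,
  ⟨P1293, 1, [], []⟩,
  ⟨P1293, 0, [.a4], [.a4, .a5]⟩]
def S1443 : List St := [.cent 1 1 0 [⟨32, [.a5], [.a5]⟩,
  ⟨64, [.a6], [.a6]⟩],
  .phi 2 [⟨16, [.a4, .a7, .a9], [.a4, .a5, .a6, .a7, .a9]⟩,
  ⟨32, [.a5], [.a5]⟩,
  ⟨64, [.a6], [.a6]⟩,
  ⟨256, [.a8], [.a8]⟩] [[[.a0, .a3, .a7, .a11]], [[.a0, .a8]], [[.a2, .a4, .a7, .a9]], [[.a7, .a11]]],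
  .cent 3 3 1 [⟨4, [.a2, .a3], [.a2, .a3]⟩,
  ⟨16, [.a4, .a7, .a9], [.a4, .a5, .a6, .a7, .a9]⟩,
  ⟨32, [.a5], [.a5]⟩,
  ⟨64, [.a6], [.a6]⟩,
  ⟨256, [.a8], [.a8]⟩],
  .phi 1 [⟨32, [.a5, .a6], [.a5, .a6]⟩] [[[.a4, .a7, .a9]]]]
theorem bad1443 (c : CtxF Goal γ) : Bad Goal γ [] P1443 :=
  c.toCtx.chn (B := B1443) (D := D1443) (I := [7, 8, 9, 10, 0, 1, 2, 4]) (r := 4) (C := C1443) (l := S1443) (x := ⟨[.a11], [.a11]⟩) (ix := [1, 0]) (by decide +kernel) (by decide +kernel) (by decide +kernel) (by decide +kernel)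
    (allB_cons (bad1200 c) (allB_cons (bad1297 c) (allB_cons (bad1297 c) (allB_cons (bad1298 c) (allB_cons (bad1298 c) (allB_cons (bad1289 c) (allB_cons (bad1289 c) (allB_cons (bad1247 c) (allB_cons (bad1273 c) (allB_cons (bad1299 c) (allB_cons (bad1299 c) (allB_cons (bad1300 c) (allB_cons (bad1300 c) (allB_cons (bad1293 c) (allB_cons (bad1293 c) (allB_nil))))))))))))))))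

def P1444 : List Ent := [⟨1, [.a0, .a11], [.a0, .a2, .a3, .a4, .a5, .a6, .a7, .a9, .a11]⟩,
  ⟨4, [.a2], [.a2]⟩,
  ⟨8, [.a3], [.a3]⟩,
  ⟨16, [.a4, .a9, .a11], [.a4, .a5, .a8, .a9, .a11]⟩,
  ⟨32, [.a5], [.a5]⟩,
  ⟨64, [.a6], [.a6]⟩,
  ⟨128, [.a7, .a11], [.a7, .a8, .a11]⟩,
  ⟨256, [.a8], [.a8]⟩]
def B1444 : List Gv := [⟨[.a0, .a11], [.a0, .a2, .a3, .a4, .a5, .a6, .a7, .a9, .a11]⟩, ⟨[.a2], [.a2]⟩, ⟨[.a4, .a9, .a11], [.a4, .a5, .a8, .a9, .a11]⟩]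
def D1444 : List Dv := [⟨[.a3, .a4, .a5, .a6, .a7, .a9], [1, 0, 0], []⟩,
  ⟨[.a6, .a8], [2, 1], [1, 2]⟩,
  ⟨[.a7, .a8, .a11], [4, 4, 2], [2, 4]⟩,
  ⟨[.a5, .a8], [5, 5], []⟩,
  ⟨[.a8], [0, 3, 5], [5, 3]⟩,
  ⟨[.a7, .a11], [2], [0]⟩,
  ⟨[.a6], [4], [1]⟩,
  ⟨[.a5], [3], [2]⟩,
  ⟨[.a3], [7], [10, 0, 1, 2]⟩]
def C1444 : List Ch := [⟨P1200, 0, [.a0, .a1, .a3, .a5, .a6, .a7, .a8, .a9, .a10], [.a0, .a10, .a11]⟩,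
  ⟨P1290, 1, [], []⟩,
  ⟨P1290, 0, [.a4], [.a4, .a5]⟩,
  ⟨P1248, 2, [], []⟩,
  ⟨P1272, 0, [], []⟩,
  ⟨P1294, 1, [], []⟩,
  ⟨P1294, 0, [.a4], [.a4, .a5]⟩]
def N1444 : List Ent := [⟨1, [.a0, .a11], [.a0, .a2, .a3, .a4, .a5, .a6, .a7, .a9, .a11]⟩,
  ⟨4, [.a2], [.a2]⟩,
  ⟨8, [.a3], [.a3]⟩,
  ⟨16, [.a4, .a9, .a11], [.a4, .a5, .a8, .a9, .a11]⟩,
  ⟨32, [.a5], [.a5]⟩,
  ⟨64, [.a6], [.a6]⟩,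
  ⟨128, [.a7, .a11], [.a7, .a8, .a11]⟩,
  ⟨256, [.a8], [.a8]⟩,
  ⟨512, [.a9], [.a9]⟩,
  ⟨2048, [.a11], [.a11]⟩]
theorem bad1444 (c : CtxF Goal γ) : Bad Goal γ [] P1444 :=
  c.toCtx.bnd (B := B1444) (D := D1444) (I := [9, 10, 0, 11, 1, 2, 3, 4]) (r := 3) (C := C1444) (N := N1444) (by decide +kernel) (by decide +kernel) (by decide +kernel) (by decide +kernel)
    (allB_cons (bad1200 c) (allB_cons (bad1290 c) (allB_cons (bad1290 c) (allB_cons (bad1248 c) (allB_cons (bad1272 c) (allB_cons (bad1294 c) (allB_cons (bad1294 c) (allB_nil))))))))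

def P1445 : List Ent := [⟨1, [.a0], [.a0]⟩,
  ⟨4, [.a2, .a11], [.a2, .a5, .a6, .a8, .a11]⟩,
  ⟨8, [.a3, .a11], [.a3, .a8, .a11]⟩,
  ⟨16, [.a4, .a9, .a11], [.a4, .a5, .a8, .a9, .a11]⟩,
  ⟨32, [.a5], [.a5]⟩,
  ⟨64, [.a6], [.a6]⟩,
  ⟨128, [.a7, .a11], [.a7, .a8, .a11]⟩,
  ⟨256, [.a8], [.a8]⟩]
def B1445 : List Gv := [⟨[.a0], [.a0]⟩, ⟨[.a2, .a11], [.a2, .a5, .a6, .a8, .a11]⟩, ⟨[.a4, .a9, .a11], [.a4, .a5, .a8, .a9, .a11]⟩]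
def D1445 : List Dv := [⟨[.a3, .a4, .a6, .a7, .a9, .a11], [1, 1, 0], [0, 1]⟩,
  ⟨[.a5, .a6, .a8], [2, 2], []⟩,
  ⟨[.a7, .a8, .a11], [4, 4, 2], [2, 4]⟩,
  ⟨[.a6, .a8], [5, 4], [4, 5]⟩,
  ⟨[.a8], [0, 2, 6, 6], []⟩,
  ⟨[.a7, .a11], [2], [0]⟩,
  ⟨[.a6], [2], [1]⟩,
  ⟨[.a5], [5], [0, 2]⟩,
  ⟨[.a3, .a11], [7], [10, 1, 2]⟩]
def C1445 : List Ch := [⟨P1211, 0, [], []⟩,
  ⟨P1289, 1, [], []⟩,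
  ⟨P1290, 0, [.a4], [.a4, .a5]⟩,
  ⟨P1250, 2, [], []⟩,
  ⟨P1274, 0, [.a4], [.a4, .a5]⟩,
  ⟨P1291, 1, [], []⟩,
  ⟨P1292, 0, [.a4], [.a4, .a5]⟩]
def S1445 : List St := [.cent 1 1 0 [⟨32, [.a5], [.a5]⟩,
  ⟨64, [.a6], [.a6]⟩],
  .phi 2 [⟨4, [.a2, .a3], [.a2, .a3]⟩,
  ⟨16, [.a4, .a7, .a9], [.a4, .a5, .a6, .a7, .a9]⟩,
  ⟨32, [.a5], [.a5]⟩,
  ⟨64, [.a6], [.a6]⟩,
  ⟨256, [.a8], [.a8]⟩] [[[.a2, .a7], [.a0, .a2, .a7]], [[.a2, .a7], [.a0, .a7, .a11]], [[.a0, .a8]], [[.a0, .a8], [.a4, .a7, .a9]], [[.a2, .a7]]]]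
theorem bad1445 (c : CtxF Goal γ) : Bad Goal γ [] P1445 :=
  c.toCtx.chn (B := B1445) (D := D1445) (I := [9, 10, 0, 11, 1, 2, 3, 4]) (r := 3) (C := C1445) (l := S1445) (x := ⟨[.a11], [.a11]⟩) (ix := [0, 1]) (by decide +kernel) (by decide +kernel) (by decide +kernel) (by decide +kernel)
    (allB_cons (bad1211 c) (allB_cons (bad1289 c) (allB_cons (bad1290 c) (allB_cons (bad1250 c) (allB_cons (bad1274 c) (allB_cons (bad1291 c) (allB_cons (bad1292 c) (allB_nil))))))))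

def P1446 : List Ent := [⟨1, [.a0, .a9], [.a0, .a3, .a6, .a9]⟩,
  ⟨4, [.a2], [.a2]⟩,
  ⟨8, [.a3], [.a3]⟩,
  ⟨16, [.a4, .a9], [.a4, .a5, .a8, .a9]⟩,
  ⟨32, [.a5], [.a5]⟩,
  ⟨64, [.a6], [.a6]⟩,
  ⟨128, [.a7], [.a7, .a8]⟩,
  ⟨256, [.a8], [.a8]⟩]
def B1446 : List Gv := [⟨[.a0, .a9], [.a0, .a3, .a6, .a9]⟩, ⟨[.a4, .a9], [.a4, .a5, .a8, .a9]⟩, ⟨[.a7], [.a7, .a8]⟩]
def D1446 : List Dv := [⟨[.a3, .a6], [0, 0], []⟩,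
  ⟨[.a2, .a3, .a5, .a6, .a8], [2, 1], [1, 2]⟩,
  ⟨[.a5, .a8], [3, 3], []⟩,
  ⟨[.a6], [0, 1, 5, 3], [3, 5]⟩,
  ⟨[.a8], [6, 6], []⟩,
  ⟨[.a5], [2], [0]⟩,
  ⟨[.a3], [5], [2]⟩,
  ⟨[.a2], [5], [0, 1, 3, 2]⟩]
def C1446 : List Ch := [⟨P1210, 0, [], []⟩,
  ⟨P1301, 1, [], []⟩,
  ⟨P1301, 0, [.a11], [.a11]⟩,
  ⟨P1302, 2, [], []⟩,
  ⟨P1302, 0, [.a11], [.a11]⟩,
  ⟨P1251, 1, [], []⟩,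
  ⟨P1276, 0, [], []⟩]
def N1446 : List Ent := [⟨1, [.a0, .a9], [.a0, .a3, .a6, .a9]⟩,
  ⟨2, [.a1], [.a1, .a2]⟩,
  ⟨4, [.a2], [.a2]⟩,
  ⟨8, [.a3], [.a3]⟩,
  ⟨16, [.a4, .a9], [.a4, .a5, .a8, .a9]⟩,
  ⟨32, [.a5], [.a5]⟩,
  ⟨64, [.a6], [.a6]⟩,
  ⟨128, [.a7], [.a7, .a8]⟩,
  ⟨256, [.a8], [.a8]⟩,
  ⟨512, [.a9], [.a9]⟩,
  ⟨2048, [.a11], [.a11]⟩]
theorem bad1446 (c : CtxF Goal γ) : Bad Goal γ [] P1446 :=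
  c.toCtx.bnd (B := B1446) (D := D1446) (I := [8, 0, 1, 9, 2, 4, 10, 3]) (r := 3) (C := C1446) (N := N1446) (by decide +kernel) (by decide +kernel) (by decide +kernel) (by decide +kernel)
    (allB_cons (bad1210 c) (allB_cons (bad1301 c) (allB_cons (bad1301 c) (allB_cons (bad1302 c) (allB_cons (bad1302 c) (allB_cons (bad1251 c) (allB_cons (bad1276 c) (allB_nil))))))))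

def P1447 : List Ent := [⟨1, [.a0, .a9], [.a0, .a3, .a6, .a9]⟩,
  ⟨4, [.a2], [.a2]⟩,
  ⟨8, [.a3], [.a3]⟩,
  ⟨16, [.a4, .a9, .a11], [.a4, .a5, .a8, .a9, .a11]⟩,
  ⟨32, [.a5], [.a5]⟩,
  ⟨64, [.a6], [.a6]⟩,
  ⟨128, [.a7, .a11], [.a7, .a8, .a11]⟩,
  ⟨256, [.a8], [.a8]⟩]
def B1447 : List Gv := [⟨[.a0, .a9], [.a0, .a3, .a6, .a9]⟩, ⟨[.a2], [.a2]⟩, ⟨[.a4, .a9, .a11], [.a4, .a5, .a8, .a9, .a11]⟩]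
def D1447 : List Dv := [⟨[.a3, .a6], [0, 0], []⟩,
  ⟨[.a5], [2, 1], [1, 2]⟩,
  ⟨[.a7, .a11], [0, 4, 4, 2], [2, 4]⟩,
  ⟨[.a6, .a8], [5, 4], [4, 5]⟩,
  ⟨[.a8], [2, 6, 6], []⟩,
  ⟨[.a6], [1], [0]⟩,
  ⟨[.a3], [5], [0]⟩]
def C1447 : List Ch := [⟨P1200, 0, [.a0, .a1, .a3, .a5, .a6, .a7, .a8, .a9, .a10], [.a0, .a10, .a11]⟩,
  ⟨P1303, 1, [], []⟩,
  ⟨P1303, 0, [.a4], [.a4, .a5]⟩,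
  ⟨P1251, 2, [], []⟩,
  ⟨P1273, 0, [.a1], [.a1, .a2]⟩,
  ⟨P1304, 1, [], []⟩,
  ⟨P1304, 0, [.a4], [.a4, .a5]⟩]
def N1447 : List Ent := [⟨1, [.a0, .a9], [.a0, .a3, .a6, .a9]⟩,
  ⟨4, [.a2], [.a2]⟩,
  ⟨8, [.a3], [.a3]⟩,
  ⟨16, [.a4, .a9, .a11], [.a4, .a5, .a8, .a9, .a11]⟩,
  ⟨32, [.a5], [.a5]⟩,
  ⟨64, [.a6], [.a6]⟩,
  ⟨128, [.a7, .a11], [.a7, .a8, .a11]⟩,
  ⟨256, [.a8], [.a8]⟩,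
  ⟨512, [.a9], [.a9]⟩,
  ⟨2048, [.a11], [.a11]⟩]
theorem bad1447 (c : CtxF Goal γ) : Bad Goal γ [] P1447 :=
  c.toCtx.bnd (B := B1447) (D := D1447) (I := [7, 8, 0, 9, 5, 1, 4, 2]) (r := 3) (C := C1447) (N := N1447) (by decide +kernel) (by decide +kernel) (by decide +kernel) (by decide +kernel)
    (allB_cons (bad1200 c) (allB_cons (bad1303 c) (allB_cons (bad1303 c) (allB_cons (bad1251 c) (allB_cons (bad1273 c) (allB_cons (bad1304 c) (allB_cons (bad1304 c) (allB_nil))))))))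

def P1448 : List Ent := [⟨1, [.a0, .a9, .a11], [.a0, .a2, .a4, .a7, .a8, .a11]⟩,
  ⟨4, [.a2], [.a2]⟩,
  ⟨8, [.a3], [.a3]⟩,
  ⟨16, [.a4, .a9, .a11], [.a4, .a5, .a8, .a9, .a11]⟩,
  ⟨32, [.a5], [.a5]⟩,
  ⟨64, [.a6], [.a6]⟩,
  ⟨128, [.a7, .a11], [.a7, .a8, .a11]⟩,
  ⟨256, [.a8], [.a8]⟩]
def B1448 : List Gv := [⟨[.a0, .a9, .a11], [.a0, .a2, .a4, .a7, .a8, .a11]⟩, ⟨[.a3], [.a3]⟩, ⟨[.a4, .a9, .a11], [.a4, .a5, .a8, .a9, .a11]⟩]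
def D1448 : List Dv := [⟨[.a2, .a4, .a7, .a8, .a9], [0, 0], []⟩,
  ⟨[.a5, .a8], [2, 1], [1, 2]⟩,
  ⟨[.a7, .a8, .a11], [0, 4, 4, 2], [2, 4]⟩,
  ⟨[.a8], [5, 4], [4, 5]⟩,
  ⟨[.a6], [3, 3], []⟩,
  ⟨[.a7, .a11], [2], [1]⟩,
  ⟨[.a5], [4], [2]⟩,
  ⟨[.a2], [6], [9, 1, 3]⟩]
def C1448 : List Ch := [⟨P1200, 0, [.a0, .a1, .a3, .a5, .a6, .a7, .a8, .a9, .a10], [.a0, .a10, .a11]⟩,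
  ⟨P1305, 1, [], []⟩,
  ⟨P1305, 0, [.a7], [.a7, .a8]⟩,
  ⟨P1248, 2, [.a1], [.a1, .a2]⟩,
  ⟨P1276, 0, [], []⟩,
  ⟨P1306, 1, [], []⟩,
  ⟨P1306, 0, [.a7], [.a7, .a8]⟩]
def N1448 : List Ent := [⟨1, [.a0, .a9, .a11], [.a0, .a2, .a4, .a7, .a8, .a11]⟩,
  ⟨4, [.a2], [.a2]⟩,
  ⟨8, [.a3], [.a3]⟩,
  ⟨16, [.a4, .a9, .a11], [.a4, .a5, .a8, .a9, .a11]⟩,
  ⟨32, [.a5], [.a5]⟩,
  ⟨64, [.a6], [.a6]⟩,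
  ⟨128, [.a7, .a11], [.a7, .a8, .a11]⟩,
  ⟨256, [.a8], [.a8]⟩,
  ⟨512, [.a9], [.a9]⟩,
  ⟨2048, [.a11], [.a11]⟩]
theorem bad1448 (c : CtxF Goal γ) : Bad Goal γ [] P1448 :=
  c.toCtx.bnd (B := B1448) (D := D1448) (I := [8, 0, 9, 10, 1, 3, 2, 4]) (r := 3) (C := C1448) (N := N1448) (by decide +kernel) (by decide +kernel) (by decide +kernel) (by decide +kernel)
    (allB_cons (bad1200 c) (allB_cons (bad1305 c) (allB_cons (bad1305 c) (allB_cons (bad1248 c) (allB_cons (bad1276 c) (allB_cons (bad1306 c) (allB_cons (bad1306 c) (allB_nil))))))))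

def P1449 : List Ent := [⟨1, [.a0], [.a0]⟩,
  ⟨4, [.a2], [.a2]⟩,
  ⟨8, [.a3, .a7, .a9], [.a3, .a5, .a7, .a8, .a9]⟩,
  ⟨16, [.a4], [.a4, .a5]⟩,
  ⟨32, [.a5], [.a5]⟩,
  ⟨64, [.a6], [.a6]⟩,
  ⟨256, [.a8], [.a8]⟩,
  ⟨2048, [.a11], [.a11]⟩]
def B1449 : List Gv := [⟨[.a0], [.a0]⟩, ⟨[.a3, .a7, .a9], [.a3, .a5, .a7, .a8, .a9]⟩, ⟨[.a11], [.a11]⟩]
def D1449 : List Dv := [⟨[.a2, .a5, .a6], [1, 0], [0, 1]⟩,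
  ⟨[.a5, .a8], [2, 2], []⟩,
  ⟨[.a4], [3, 1, 4, 2], [2, 4]⟩,
  ⟨[.a8], [5, 4], [4, 5]⟩,
  ⟨[.a6], [2, 3, 6], [6, 3]⟩,
  ⟨[.a5], [3], [1]⟩,
  ⟨[.a2], [5], [0, 1]⟩]
def C1449 : List Ch := [⟨P1182, 0, [], []⟩,
  ⟨P1245, 1, [], []⟩,
  ⟨P1275, 0, [.a7], [.a7, .a8]⟩,
  ⟨P1307, 2, [], []⟩,
  ⟨P1308, 0, [], []⟩,
  ⟨P1300, 1, [.a1], [.a1, .a2]⟩,
  ⟨P1306, 0, [.a1], [.a1, .a2]⟩]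
def S1449 : List St := [.phi 1 [⟨4, [.a2], [.a2]⟩,
  ⟨8, [.a3, .a4, .a7, .a9], [.a3, .a4, .a6, .a7, .a9]⟩,
  ⟨32, [.a5], [.a5]⟩,
  ⟨64, [.a6], [.a6]⟩,
  ⟨256, [.a8], [.a8]⟩] [[[.a0, .a4, .a8]], [[.a0, .a2, .a3, .a7, .a8, .a9, .a11]], [[.a4]], [[.a3, .a4, .a7, .a9]], [[.a2, .a3, .a7, .a9]]],
  .comm 0 0 [⟨32, [.a5], [.a5]⟩] [⟨[.a2], [.a3, .a4, .a7, .a9]⟩],
  .om 1 [⟨4, [.a2], [.a2]⟩,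
  ⟨32, [.a5], [.a5]⟩,
  ⟨64, [.a6], [.a6]⟩,
  ⟨256, [.a8], [.a8]⟩] [[[.a2]], [[.a5]], [[.a6]], [[.a8]]]]
theorem bad1449 (c : CtxF Goal γ) : Bad Goal γ [] P1449 :=
  c.toCtx.chn (B := B1449) (D := D1449) (I := [7, 0, 8, 4, 1, 2, 3, 9]) (r := 3) (C := C1449) (l := S1449) (x := ⟨[.a7, .a9], [.a7, .a8, .a9]⟩) (ix := [0, 1]) (by decide +kernel) (by decide +kernel) (by decide +kernel) (by decide +kernel)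
    (allB_cons (bad1182 c) (allB_cons (bad1245 c) (allB_cons (bad1275 c) (allB_cons (bad1307 c) (allB_cons (bad1308 c) (allB_cons (bad1300 c) (allB_cons (bad1306 c) (allB_nil))))))))

def P1450 : List Ent := [⟨1, [.a0], [.a0]⟩,
  ⟨4, [.a2], [.a2]⟩,
  ⟨8, [.a3, .a4], [.a3, .a4, .a5]⟩,
  ⟨32, [.a5], [.a5]⟩,
  ⟨64, [.a6], [.a6]⟩,
  ⟨128, [.a7, .a9], [.a7, .a8, .a9]⟩,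
  ⟨256, [.a8], [.a8]⟩,
  ⟨2048, [.a11], [.a11]⟩]
def B1450 : List Gv := [⟨[.a0], [.a0]⟩, ⟨[.a3, .a4], [.a3, .a4, .a5]⟩, ⟨[.a11], [.a11]⟩]
def D1450 : List Dv := [⟨[.a2], [1, 0], [0, 1]⟩,
  ⟨[.a5], [2, 2], []⟩,
  ⟨[.a7, .a9], [0, 3, 1, 4, 2], [2, 4]⟩,
  ⟨[.a8], [5, 4], [4, 5]⟩,
  ⟨[.a6, .a8], [2, 3, 6], [6, 3]⟩,
  ⟨[.a6], [0], [1]⟩]
def C1450 : List Ch := [⟨P1176, 0, [.a1], [.a1, .a2]⟩,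
  ⟨P1245, 1, [], []⟩,
  ⟨P1275, 0, [], []⟩,
  ⟨P1309, 2, [], []⟩,
  ⟨P1310, 0, [], []⟩,
  ⟨P1298, 1, [.a1], [.a1, .a2]⟩,
  ⟨P1305, 0, [.a1], [.a1, .a2]⟩]
def S1450 : List St := [.phi 1 [⟨4, [.a2], [.a2]⟩,
  ⟨8, [.a3, .a4, .a7, .a9], [.a3, .a4, .a6, .a7, .a9]⟩,
  ⟨32, [.a5], [.a5]⟩,
  ⟨64, [.a6], [.a6]⟩,
  ⟨256, [.a8], [.a8]⟩] [[[.a0, .a3, .a4, .a8]], [[.a0, .a3, .a4, .a8, .a11]], [[.a3, .a4]], [[.a3, .a4, .a7, .a9]], [[.a7, .a9]]],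
  .om 0 [⟨4, [.a2], [.a2]⟩,
  ⟨32, [.a5], [.a5]⟩,
  ⟨64, [.a6], [.a6]⟩,
  ⟨256, [.a8], [.a8]⟩] [[[.a2]], [[.a5]], [[.a6]], [[.a8]]]]
theorem bad1450 (c : CtxF Goal γ) : Bad Goal γ [] P1450 :=
  c.toCtx.chn (B := B1450) (D := D1450) (I := [6, 5, 7, 4, 0, 3, 2, 8]) (r := 3) (C := C1450) (l := S1450) (x := ⟨[.a4], [.a4, .a5]⟩) (ix := [0]) (by decide +kernel) (by decide +kernel) (by decide +kernel) (by decide +kernel)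
    (allB_cons (bad1176 c) (allB_cons (bad1245 c) (allB_cons (bad1275 c) (allB_cons (bad1309 c) (allB_cons (bad1310 c) (allB_cons (bad1298 c) (allB_cons (bad1305 c) (allB_nil))))))))

def P1451 : List Ent := [⟨1, [.a0], [.a0]⟩,
  ⟨4, [.a2], [.a2]⟩,
  ⟨8, [.a3], [.a3]⟩,
  ⟨16, [.a4], [.a4, .a5]⟩,
  ⟨32, [.a5], [.a5]⟩,
  ⟨64, [.a6], [.a6]⟩,
  ⟨128, [.a7, .a9], [.a7, .a8, .a9]⟩,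
  ⟨256, [.a8], [.a8]⟩]
def B1451 : List Gv := [⟨[.a0], [.a0]⟩, ⟨[.a3], [.a3]⟩, ⟨[.a4], [.a4, .a5]⟩, ⟨[.a7, .a9], [.a7, .a8, .a9]⟩]
def D1451 : List Dv := [⟨[.a2], [2, 0], [0, 2]⟩,
  ⟨[.a5], [3, 3], []⟩,
  ⟨[.a6], [0, 1, 5, 2], [2, 5]⟩,
  ⟨[.a8], [0, 6, 5], [5, 6]⟩]
def C1451 : List Ch := [⟨P1195, 0, [.a10], [.a10, .a11]⟩,
  ⟨P1309, 1, [.a1], [.a1, .a2]⟩,
  ⟨P1309, 0, [.a1, .a7], [.a1, .a2, .a7, .a8]⟩,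
  ⟨P1311, 2, [], []⟩,
  ⟨P1311, 0, [.a11], [.a11]⟩,
  ⟨P1309, 1, [], []⟩,
  ⟨P1309, 0, [.a7], [.a7, .a8]⟩,
  ⟨P1312, 3, [], []⟩,
  ⟨P1312, 0, [.a11], [.a11]⟩,
  ⟨P1307, 1, [], []⟩,
  ⟨P1307, 0, [.a7], [.a7, .a8]⟩,
  ⟨P1247, 2, [], []⟩,
  ⟨P1276, 0, [], []⟩,
  ⟨P1307, 1, [.a1], [.a1, .a2]⟩,
  ⟨P1307, 0, [.a1, .a7], [.a1, .a2, .a7, .a8]⟩]
def N1451 : List Ent := [⟨1, [.a0], [.a0]⟩,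
  ⟨2, [.a1], [.a1, .a2]⟩,
  ⟨4, [.a2], [.a2]⟩,
  ⟨8, [.a3], [.a3]⟩,
  ⟨16, [.a4], [.a4, .a5]⟩,
  ⟨32, [.a5], [.a5]⟩,
  ⟨64, [.a6], [.a6]⟩,
  ⟨128, [.a7, .a9], [.a7, .a8, .a9]⟩,
  ⟨256, [.a8], [.a8]⟩,
  ⟨512, [.a9], [.a9]⟩,
  ⟨2048, [.a11], [.a11]⟩]
theorem bad1451 (c : CtxF Goal γ) : Bad Goal γ [] P1451 :=
  c.toCtx.bnd (B := B1451) (D := D1451) (I := [4, 3, 5, 6, 2, 1, 7, 0]) (r := 4) (C := C1451) (N := N1451) (by decide +kernel) (by decide +kernel) (by decide +kernel) (by decide +kernel)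
    (allB_cons (bad1195 c) (allB_cons (bad1309 c) (allB_cons (bad1309 c) (allB_cons (bad1311 c) (allB_cons (bad1311 c) (allB_cons (bad1309 c) (allB_cons (bad1309 c) (allB_cons (bad1312 c) (allB_cons (bad1312 c) (allB_cons (bad1307 c) (allB_cons (bad1307 c) (allB_cons (bad1247 c) (allB_cons (bad1276 c) (allB_cons (bad1307 c) (allB_cons (bad1307 c) (allB_nil))))))))))))))))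

def P1452 : List Ent := [⟨1, [.a0, .a11], [.a0, .a2, .a3, .a4, .a5, .a6, .a7, .a9, .a11]⟩,
  ⟨4, [.a2], [.a2]⟩,
  ⟨8, [.a3], [.a3]⟩,
  ⟨16, [.a4], [.a4, .a5]⟩,
  ⟨32, [.a5], [.a5]⟩,
  ⟨64, [.a6], [.a6]⟩,
  ⟨128, [.a7, .a9], [.a7, .a8, .a9]⟩,
  ⟨256, [.a8], [.a8]⟩]
def B1452 : List Gv := [⟨[.a0, .a11], [.a0, .a2, .a3, .a4, .a5, .a6, .a7, .a9, .a11]⟩, ⟨[.a3], [.a3]⟩, ⟨[.a4], [.a4, .a5]⟩]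
def D1452 : List Dv := [⟨[.a2, .a3, .a4, .a5, .a6, .a7, .a9], [0, 0], []⟩,
  ⟨[.a5, .a8], [2, 1], [1, 2]⟩,
  ⟨[.a6, .a7, .a8, .a9], [0, 4, 3, 1, 4, 2], [2, 4]⟩,
  ⟨[.a8], [1, 5, 5], []⟩,
  ⟨[.a7, .a9], [1, 3, 6], [6, 3]⟩,
  ⟨[.a6], [2], [0, 1]⟩,
  ⟨[.a5], [4], [2]⟩,
  ⟨[.a2], [6], [8, 9, 0, 1, 2]⟩]
def C1452 : List Ch := [⟨P1195, 0, [.a10], [.a10, .a11]⟩,
  ⟨P1308, 1, [], []⟩,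
  ⟨P1308, 0, [.a7], [.a7, .a8]⟩,
  ⟨P1248, 2, [], []⟩,
  ⟨P1273, 0, [.a1], [.a1, .a2]⟩,
  ⟨P1310, 1, [], []⟩,
  ⟨P1310, 0, [.a7], [.a7, .a8]⟩]
def N1452 : List Ent := [⟨1, [.a0, .a11], [.a0, .a2, .a3, .a4, .a5, .a6, .a7, .a9, .a11]⟩,
  ⟨4, [.a2], [.a2]⟩,
  ⟨8, [.a3], [.a3]⟩,
  ⟨16, [.a4], [.a4, .a5]⟩,
  ⟨32, [.a5], [.a5]⟩,
  ⟨64, [.a6], [.a6]⟩,
  ⟨128, [.a7, .a9], [.a7, .a8, .a9]⟩,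
  ⟨256, [.a8], [.a8]⟩,
  ⟨512, [.a9], [.a9]⟩,
  ⟨2048, [.a11], [.a11]⟩]
theorem bad1452 (c : CtxF Goal γ) : Bad Goal γ [] P1452 :=
  c.toCtx.bnd (B := B1452) (D := D1452) (I := [8, 0, 9, 10, 1, 2, 3, 4]) (r := 3) (C := C1452) (N := N1452) (by decide +kernel) (by decide +kernel) (by decide +kernel) (by decide +kernel)
    (allB_cons (bad1195 c) (allB_cons (bad1308 c) (allB_cons (bad1308 c) (allB_cons (bad1248 c) (allB_cons (bad1273 c) (allB_cons (bad1310 c) (allB_cons (bad1310 c) (allB_nil))))))))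

def P1453 : List Ent := [⟨1, [.a0], [.a0]⟩,
  ⟨4, [.a2], [.a2]⟩,
  ⟨8, [.a3, .a11], [.a3, .a8, .a11]⟩,
  ⟨16, [.a4], [.a4, .a5]⟩,
  ⟨32, [.a5], [.a5]⟩,
  ⟨64, [.a6], [.a6]⟩,
  ⟨128, [.a7, .a9, .a11], [.a7, .a8, .a9, .a11]⟩,
  ⟨256, [.a8], [.a8]⟩]
def B1453 : List Gv := [⟨[.a0], [.a0]⟩, ⟨[.a3, .a11], [.a3, .a8, .a11]⟩, ⟨[.a4], [.a4, .a5]⟩]
def D1453 : List Dv := [⟨[.a2, .a3, .a4, .a5, .a7, .a9], [1, 0], [0, 1]⟩,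
  ⟨[.a8], [2, 2], []⟩,
  ⟨[.a5, .a7, .a8, .a9, .a11], [4, 3, 1, 4, 2], [2, 4]⟩,
  ⟨[.a7, .a8, .a9, .a11], [0, 5, 5], []⟩,
  ⟨[.a6, .a7, .a8, .a9, .a11], [1, 3, 4], [4, 3]⟩,
  ⟨[.a7, .a9, .a11], [1], [3]⟩,
  ⟨[.a6], [1], [0, 4]⟩,
  ⟨[.a5], [4], [1, 5]⟩,
  ⟨[.a2], [7], [9, 10, 0, 2]⟩]
def C1453 : List Ch := [⟨P1199, 0, [.a10], [.a10, .a11]⟩,
  ⟨P1307, 1, [], []⟩,
  ⟨P1308, 0, [.a7], [.a7, .a8]⟩,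
  ⟨P1249, 2, [], []⟩,
  ⟨P1277, 0, [.a7], [.a7, .a8]⟩,
  ⟨P1298, 1, [.a1], [.a1, .a2]⟩,
  ⟨P1305, 0, [.a1, .a7], [.a1, .a2, .a7, .a8]⟩]
def S1453 : List St := [.cent 1 1 0 [⟨32, [.a5], [.a5]⟩,
  ⟨64, [.a6], [.a6]⟩],
  .phi 2 [⟨4, [.a2], [.a2]⟩,
  ⟨8, [.a3, .a4, .a7, .a9], [.a3, .a4, .a6, .a7, .a9]⟩,
  ⟨32, [.a5], [.a5]⟩,
  ⟨64, [.a6], [.a6]⟩,
  ⟨256, [.a8], [.a8]⟩] [[[.a0, .a4, .a8]], [[.a0, .a3, .a4, .a8, .a11]], [[.a4]], [[.a3, .a4, .a7, .a9]], [[.a3, .a11]]],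
  .cent 3 3 1 [⟨32, [.a5], [.a5]⟩,
  ⟨64, [.a6], [.a6]⟩,
  ⟨256, [.a8], [.a8]⟩]]
theorem bad1453 (c : CtxF Goal γ) : Bad Goal γ [] P1453 :=
  c.toCtx.chn (B := B1453) (D := D1453) (I := [9, 0, 10, 11, 1, 2, 3, 7]) (r := 3) (C := C1453) (l := S1453) (x := ⟨[.a11], [.a11]⟩) (ix := [1, 0]) (by decide +kernel) (by decide +kernel) (by decide +kernel) (by decide +kernel)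
    (allB_cons (bad1199 c) (allB_cons (bad1307 c) (allB_cons (bad1308 c) (allB_cons (bad1249 c) (allB_cons (bad1277 c) (allB_cons (bad1298 c) (allB_cons (bad1305 c) (allB_nil))))))))

def P1454 : List Ent := [⟨1, [.a0], [.a0]⟩,
  ⟨4, [.a2], [.a2]⟩,
  ⟨8, [.a3, .a11], [.a3, .a8, .a11]⟩,
  ⟨16, [.a4, .a11], [.a4, .a5, .a11]⟩,
  ⟨32, [.a5], [.a5]⟩,
  ⟨64, [.a6], [.a6]⟩,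
  ⟨128, [.a7, .a9], [.a7, .a8, .a9]⟩,
  ⟨256, [.a8], [.a8]⟩]
def B1454 : List Gv := [⟨[.a0], [.a0]⟩, ⟨[.a3, .a11], [.a3, .a8, .a11]⟩, ⟨[.a4, .a11], [.a4, .a5, .a11]⟩]
def D1454 : List Dv := [⟨[.a2, .a3, .a4, .a5, .a7, .a9], [1, 0], [0, 1]⟩,
  ⟨[.a8], [2, 2], []⟩,
  ⟨[.a6, .a7, .a9], [4, 3, 4, 2], [2, 4]⟩,
  ⟨[.a5], [5, 5], []⟩,
  ⟨[.a7, .a9], [1, 0, 3, 4], [4, 3]⟩,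
  ⟨[.a6], [2], [0]⟩,
  ⟨[.a2], [5], [7, 8, 2, 1]⟩]
def C1454 : List Ch := [⟨P1198, 0, [.a10], [.a10, .a11]⟩,
  ⟨P1300, 1, [.a1], [.a1, .a2]⟩,
  ⟨P1306, 0, [.a1, .a7], [.a1, .a2, .a7, .a8]⟩,
  ⟨P1249, 2, [], []⟩,
  ⟨P1277, 0, [], []⟩,
  ⟨P1309, 1, [], []⟩,
  ⟨P1310, 0, [.a7], [.a7, .a8]⟩]
def S1454 : List St := [.cent 1 1 0 [⟨32, [.a5], [.a5]⟩,
  ⟨64, [.a6], [.a6]⟩],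
  .phi 2 [⟨4, [.a2], [.a2]⟩,
  ⟨8, [.a3, .a4, .a7, .a9], [.a3, .a4, .a6, .a7, .a9]⟩,
  ⟨32, [.a5], [.a5]⟩,
  ⟨64, [.a6], [.a6]⟩,
  ⟨256, [.a8], [.a8]⟩] [[[.a0, .a3, .a4, .a8]], [[.a0, .a2, .a3, .a7, .a8, .a9, .a11]], [[.a3, .a4]], [[.a3, .a4, .a7, .a9]], [[.a7, .a9]]],
  .cent 3 3 1 [⟨32, [.a5], [.a5]⟩,
  ⟨64, [.a6], [.a6]⟩,
  ⟨256, [.a8], [.a8]⟩]]
theorem bad1454 (c : CtxF Goal γ) : Bad Goal γ [] P1454 :=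
  c.toCtx.chn (B := B1454) (D := D1454) (I := [7, 0, 8, 9, 3, 1, 2, 5]) (r := 3) (C := C1454) (l := S1454) (x := ⟨[.a11], [.a11]⟩) (ix := [1, 0]) (by decide +kernel) (by decide +kernel) (by decide +kernel) (by decide +kernel)
    (allB_cons (bad1198 c) (allB_cons (bad1300 c) (allB_cons (bad1306 c) (allB_cons (bad1249 c) (allB_cons (bad1277 c) (allB_cons (bad1309 c) (allB_cons (bad1310 c) (allB_nil))))))))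

def P1455 : List Ent := [⟨1, [.a0, .a9], [.a0, .a3, .a6, .a9]⟩,
  ⟨4, [.a2], [.a2]⟩,
  ⟨8, [.a3], [.a3]⟩,
  ⟨16, [.a4], [.a4, .a5]⟩,
  ⟨32, [.a5], [.a5]⟩,
  ⟨64, [.a6], [.a6]⟩,
  ⟨128, [.a7, .a9], [.a7, .a8, .a9]⟩,
  ⟨256, [.a8], [.a8]⟩]
def B1455 : List Gv := [⟨[.a0, .a9], [.a0, .a3, .a6, .a9]⟩, ⟨[.a4], [.a4, .a5]⟩, ⟨[.a7, .a9], [.a7, .a8, .a9]⟩]
def D1455 : List Dv := [⟨[.a3, .a6], [0, 0], []⟩,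
  ⟨[.a2, .a5, .a8], [2, 1], [1, 2]⟩,
  ⟨[.a5], [3, 3], []⟩,
  ⟨[.a6, .a8], [1, 5, 3], [3, 5]⟩,
  ⟨[.a8], [6, 6], []⟩,
  ⟨[.a6], [1], [0]⟩,
  ⟨[.a3], [5], [0]⟩,
  ⟨[.a2], [5], [4, 2]⟩]
def C1455 : List Ch := [⟨P1195, 0, [.a10], [.a10, .a11]⟩,
  ⟨P1313, 1, [], []⟩,
  ⟨P1313, 0, [.a11], [.a11]⟩,
  ⟨P1314, 2, [], []⟩,
  ⟨P1314, 0, [.a11], [.a11]⟩,
  ⟨P1251, 1, [], []⟩,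
  ⟨P1272, 0, [], []⟩]
def N1455 : List Ent := [⟨1, [.a0, .a9], [.a0, .a3, .a6, .a9]⟩,
  ⟨2, [.a1], [.a1, .a2]⟩,
  ⟨4, [.a2], [.a2]⟩,
  ⟨8, [.a3], [.a3]⟩,
  ⟨16, [.a4], [.a4, .a5]⟩,
  ⟨32, [.a5], [.a5]⟩,
  ⟨64, [.a6], [.a6]⟩,
  ⟨128, [.a7, .a9], [.a7, .a8, .a9]⟩,
  ⟨256, [.a8], [.a8]⟩,
  ⟨512, [.a9], [.a9]⟩,
  ⟨2048, [.a11], [.a11]⟩]
theorem bad1455 (c : CtxF Goal γ) : Bad Goal γ [] P1455 :=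
  c.toCtx.bnd (B := B1455) (D := D1455) (I := [8, 0, 1, 9, 5, 2, 10, 3]) (r := 3) (C := C1455) (N := N1455) (by decide +kernel) (by decide +kernel) (by decide +kernel) (by decide +kernel)
    (allB_cons (bad1195 c) (allB_cons (bad1313 c) (allB_cons (bad1313 c) (allB_cons (bad1314 c) (allB_cons (bad1314 c) (allB_cons (bad1251 c) (allB_cons (bad1272 c) (allB_nil))))))))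

def P1456 : List Ent := [⟨1, [.a0], [.a0]⟩,
  ⟨4, [.a2], [.a2]⟩,
  ⟨8, [.a3], [.a3]⟩,
  ⟨32, [.a5], [.a5]⟩,
  ⟨64, [.a6], [.a6]⟩,
  ⟨128, [.a7], [.a7, .a8]⟩,
  ⟨256, [.a8], [.a8]⟩,
  ⟨512, [.a9], [.a9]⟩]
def B1456 : List Gv := [⟨[.a0], [.a0]⟩, ⟨[.a2], [.a2]⟩, ⟨[.a7], [.a7, .a8]⟩, ⟨[.a9], [.a9]⟩]
def D1456 : List Dv := [⟨[.a3], [1, 2, 0], [0, 2]⟩,
  ⟨[.a8], [3, 3], []⟩,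
  ⟨[.a6], [1, 5, 2], [2, 5]⟩,
  ⟨[.a5], [6, 4], [4, 6]⟩]
def C1456 : List Ch := [⟨P1099, 0, [], []⟩,
  ⟨P1315, 1, [], []⟩,
  ⟨P1316, 0, [], []⟩,
  ⟨P1255, 2, [], []⟩,
  ⟨P1278, 0, [], []⟩,
  ⟨P1316, 1, [.a4], [.a4, .a5]⟩,
  ⟨P1315, 0, [.a4], [.a4, .a5]⟩,
  ⟨P1295, 3, [], []⟩,
  ⟨P1301, 0, [], []⟩,
  ⟨P1315, 1, [.a1], [.a1, .a2]⟩,
  ⟨P1316, 0, [.a1], [.a1, .a2]⟩,
  ⟨P1311, 2, [], []⟩,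
  ⟨P1313, 0, [], []⟩,
  ⟨P1316, 1, [.a1, .a3, .a4], [.a1, .a2, .a4, .a5]⟩,
  ⟨P1315, 0, [.a1, .a3, .a4], [.a1, .a2, .a4, .a5]⟩]
def S1456 : List St := [.cent 1 1 0 [⟨32, [.a5], [.a5]⟩,
  ⟨64, [.a6], [.a6]⟩],
  .cent 2 2 0 [⟨4, [.a2], [.a2]⟩,
  ⟨8, [.a3], [.a3]⟩,
  ⟨32, [.a5], [.a5]⟩,
  ⟨64, [.a6], [.a6]⟩,
  ⟨256, [.a8], [.a8]⟩]]
theorem bad1456 (c : CtxF Goal γ) : Bad Goal γ [] P1456 :=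
  c.toCtx.chn (B := B1456) (D := D1456) (I := [4, 5, 3, 0, 1, 6, 2, 7]) (r := 4) (C := C1456) (l := S1456) (x := ⟨[.a4], [.a4, .a5]⟩) (ix := [0]) (by decide +kernel) (by decide +kernel) (by decide +kernel) (by decide +kernel)
    (allB_cons (bad1099 c) (allB_cons (bad1315 c) (allB_cons (bad1316 c) (allB_cons (bad1255 c) (allB_cons (bad1278 c) (allB_cons (bad1316 c) (allB_cons (bad1315 c) (allB_cons (bad1295 c) (allB_cons (bad1301 c) (allB_cons (bad1315 c) (allB_cons (bad1316 c) (allB_cons (bad1311 c) (allB_cons (bad1313 c) (allB_cons (bad1316 c) (allB_cons (bad1315 c) (allB_nil))))))))))))))))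

def P1457 : List Ent := [⟨1, [.a0], [.a0]⟩,
  ⟨4, [.a2], [.a2]⟩,
  ⟨8, [.a3], [.a3]⟩,
  ⟨16, [.a4], [.a4, .a5]⟩,
  ⟨32, [.a5], [.a5]⟩,
  ⟨64, [.a6], [.a6]⟩,
  ⟨256, [.a8], [.a8]⟩,
  ⟨512, [.a9], [.a9]⟩]
def B1457 : List Gv := [⟨[.a0], [.a0]⟩, ⟨[.a3], [.a3]⟩, ⟨[.a4], [.a4, .a5]⟩, ⟨[.a9], [.a9]⟩]
def D1457 : List Dv := [⟨[.a2], [2, 0], [0, 2]⟩,
  ⟨[.a5], [3, 3], []⟩,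
  ⟨[.a6], [3, 5, 2], [2, 5]⟩,
  ⟨[.a8], [6, 5], [5, 6]⟩]
def C1457 : List Ch := [⟨P1139, 0, [], []⟩,
  ⟨P1317, 1, [], []⟩,
  ⟨P1318, 0, [], []⟩,
  ⟨P1255, 2, [], []⟩,
  ⟨P1278, 0, [.a11], [.a11]⟩,
  ⟨P1318, 1, [.a7], [.a7, .a8]⟩,
  ⟨P1317, 0, [.a7], [.a7, .a8]⟩,
  ⟨P1312, 3, [], []⟩,
  ⟨P1314, 0, [], []⟩,
  ⟨P1318, 1, [.a1, .a7], [.a1, .a2, .a7, .a8]⟩,
  ⟨P1317, 0, [.a1, .a7], [.a1, .a2, .a7, .a8]⟩,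
  ⟨P1296, 2, [], []⟩,
  ⟨P1302, 0, [], []⟩,
  ⟨P1317, 1, [.a1], [.a1, .a2]⟩,
  ⟨P1318, 0, [.a1], [.a1, .a2]⟩]
def S1457 : List St := [.cent 1 1 0 [⟨8, [.a3], [.a3]⟩,
  ⟨32, [.a5], [.a5]⟩,
  ⟨64, [.a6], [.a6]⟩],
  .phi 2 [⟨4, [.a2], [.a2]⟩,
  ⟨8, [.a3, .a6], [.a3, .a6]⟩,
  ⟨32, [.a5], [.a5]⟩,
  ⟨256, [.a8], [.a8]⟩] [[[.a0, .a4, .a8]], [[.a0, .a9]], [[.a4]], [[.a2, .a4, .a9]]],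
  .cent 3 3 1 [⟨4, [.a2], [.a2]⟩,
  ⟨8, [.a3], [.a3]⟩,
  ⟨32, [.a5], [.a5]⟩,
  ⟨64, [.a6], [.a6]⟩,
  ⟨256, [.a8], [.a8]⟩],
  .comm 1 4 [⟨32, [.a5], [.a5]⟩] [⟨[.a8], [.a0]⟩]]
theorem bad1457 (c : CtxF Goal γ) : Bad Goal γ [] P1457 :=
  c.toCtx.chn (B := B1457) (D := D1457) (I := [4, 3, 5, 6, 2, 1, 0, 7]) (r := 4) (C := C1457) (l := S1457) (x := ⟨[.a7], [.a7, .a8]⟩) (ix := [1, 0]) (by decide +kernel) (by decide +kernel) (by decide +kernel) (by decide +kernel)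
    (allB_cons (bad1139 c) (allB_cons (bad1317 c) (allB_cons (bad1318 c) (allB_cons (bad1255 c) (allB_cons (bad1278 c) (allB_cons (bad1318 c) (allB_cons (bad1317 c) (allB_cons (bad1312 c) (allB_cons (bad1314 c) (allB_cons (bad1318 c) (allB_cons (bad1317 c) (allB_cons (bad1296 c) (allB_cons (bad1302 c) (allB_cons (bad1317 c) (allB_cons (bad1318 c) (allB_nil))))))))))))))))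

def P1458 : List Ent := [⟨1, [.a0], [.a0]⟩,
  ⟨4, [.a2], [.a2]⟩,
  ⟨8, [.a3], [.a3]⟩,
  ⟨16, [.a4], [.a4, .a5]⟩,
  ⟨32, [.a5], [.a5]⟩,
  ⟨64, [.a6], [.a6]⟩,
  ⟨128, [.a7], [.a7, .a8]⟩,
  ⟨256, [.a8], [.a8]⟩]
def B1458 : List Gv := [⟨[.a0], [.a0]⟩, ⟨[.a4], [.a4, .a5]⟩, ⟨[.a7], [.a7, .a8]⟩]
def D1458 : List Dv := [⟨[.a2], [1, 0], [0, 1]⟩,
  ⟨[.a5], [2, 2], []⟩,
  ⟨[.a3], [1, 4, 2], [2, 4]⟩,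
  ⟨[.a6], [5, 4], [4, 5]⟩,
  ⟨[.a8], [6, 6], []⟩]
def C1458 : List Ch := [⟨P1195, 0, [], []⟩,
  ⟨P1295, 1, [], []⟩,
  ⟨P1301, 0, [.a11], [.a11]⟩,
  ⟨P1312, 2, [], []⟩,
  ⟨P1314, 0, [.a11], [.a11]⟩,
  ⟨P1256, 1, [], []⟩,
  ⟨P1279, 0, [], []⟩]
def N1458 : List Ent := [⟨1, [.a0], [.a0]⟩,
  ⟨2, [.a1], [.a1, .a2]⟩,
  ⟨4, [.a2], [.a2]⟩,
  ⟨8, [.a3], [.a3]⟩,
  ⟨16, [.a4], [.a4, .a5]⟩,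
  ⟨32, [.a5], [.a5]⟩,
  ⟨64, [.a6], [.a6]⟩,
  ⟨128, [.a7], [.a7, .a8]⟩,
  ⟨256, [.a8], [.a8]⟩,
  ⟨512, [.a9], [.a9]⟩]
theorem bad1458 (c : CtxF Goal γ) : Bad Goal γ [] P1458 :=
  c.toCtx.bnd (B := B1458) (D := D1458) (I := [5, 4, 2, 6, 3, 1, 7, 0]) (r := 3) (C := C1458) (N := N1458) (by decide +kernel) (by decide +kernel) (by decide +kernel) (by decide +kernel)
    (allB_cons (bad1195 c) (allB_cons (bad1295 c) (allB_cons (bad1301 c) (allB_cons (bad1312 c) (allB_cons (bad1314 c) (allB_cons (bad1256 c) (allB_cons (bad1279 c) (allB_nil))))))))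

def P1459 : List Ent := [⟨1, [.a0], [.a0]⟩,
  ⟨4, [.a2], [.a2]⟩,
  ⟨8, [.a3], [.a3]⟩,
  ⟨16, [.a4, .a9], [.a4, .a5, .a8, .a9]⟩,
  ⟨32, [.a5], [.a5]⟩,
  ⟨64, [.a6], [.a6]⟩,
  ⟨128, [.a7, .a9], [.a7, .a8, .a9]⟩,
  ⟨256, [.a8], [.a8]⟩]
def B1459 : List Gv := [⟨[.a0], [.a0]⟩, ⟨[.a4, .a9], [.a4, .a5, .a8, .a9]⟩, ⟨[.a7, .a9], [.a7, .a8, .a9]⟩]
def D1459 : List Dv := [⟨[.a2, .a3, .a6], [1, 0], [0, 1]⟩,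
  ⟨[.a5, .a8], [2, 2], []⟩,
  ⟨[.a3, .a5], [1, 4, 2], [2, 4]⟩,
  ⟨[.a6, .a8], [5, 4], [4, 5]⟩,
  ⟨[.a8], [6, 6], []⟩,
  ⟨[.a6], [1], [0]⟩,
  ⟨[.a5], [4], [1]⟩,
  ⟨[.a3], [4], [0]⟩,
  ⟨[.a2], [7], [0, 2]⟩]
def C1459 : List Ch := [⟨P1210, 0, [.a10], [.a10, .a11]⟩,
  ⟨P1311, 1, [], []⟩,
  ⟨P1313, 0, [.a11], [.a11]⟩,
  ⟨P1296, 2, [], []⟩,
  ⟨P1302, 0, [.a11], [.a11]⟩,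
  ⟨P1256, 1, [], []⟩,
  ⟨P1279, 0, [.a11], [.a11]⟩]
def N1459 : List Ent := [⟨1, [.a0], [.a0]⟩,
  ⟨2, [.a1], [.a1, .a2]⟩,
  ⟨4, [.a2], [.a2]⟩,
  ⟨8, [.a3], [.a3]⟩,
  ⟨16, [.a4, .a9], [.a4, .a5, .a8, .a9]⟩,
  ⟨32, [.a5], [.a5]⟩,
  ⟨64, [.a6], [.a6]⟩,
  ⟨128, [.a7, .a9], [.a7, .a8, .a9]⟩,
  ⟨256, [.a8], [.a8]⟩,
  ⟨512, [.a9], [.a9]⟩]
theorem bad1459 (c : CtxF Goal γ) : Bad Goal γ [] P1459 :=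
  c.toCtx.bnd (B := B1459) (D := D1459) (I := [9, 0, 1, 10, 2, 3, 11, 4]) (r := 3) (C := C1459) (N := N1459) (by decide +kernel) (by decide +kernel) (by decide +kernel) (by decide +kernel)
    (allB_cons (bad1210 c) (allB_cons (bad1311 c) (allB_cons (bad1313 c) (allB_cons (bad1296 c) (allB_cons (bad1302 c) (allB_cons (bad1256 c) (allB_cons (bad1279 c) (allB_nil))))))))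

def P1460 : List Ent := [⟨1, [.a0], [.a0]⟩,
  ⟨8, [.a3], [.a3]⟩,
  ⟨16, [.a4, .a11], [.a4, .a5, .a11]⟩,
  ⟨32, [.a5], [.a5]⟩,
  ⟨64, [.a6], [.a6]⟩,
  ⟨128, [.a7, .a11], [.a7, .a8, .a11]⟩,
  ⟨256, [.a8], [.a8]⟩,
  ⟨512, [.a9], [.a9]⟩]
def B1460 : List Gv := [⟨[.a0], [.a0]⟩, ⟨[.a4, .a11], [.a4, .a5, .a11]⟩, ⟨[.a7, .a11], [.a7, .a8, .a11]⟩]
def D1460 : List Dv := [⟨[.a3, .a4, .a5, .a6, .a7, .a8, .a9], [1, 0], [0, 1]⟩,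
  ⟨[.a5], [2, 2], []⟩,
  ⟨[.a6, .a7, .a9, .a11], [3, 4, 2], [2, 4]⟩,
  ⟨[.a8, .a9], [5, 0, 5, 4], [4, 5]⟩,
  ⟨[.a9], [0, 6, 6], []⟩,
  ⟨[.a8], [1], [0]⟩,
  ⟨[.a6], [3], [8, 1]⟩,
  ⟨[.a3], [6], [8, 5, 0, 9, 1, 2]⟩]
def C1460 : List Ch := [⟨P1084, 0, [], []⟩,
  ⟨P1297, 1, [], []⟩,
  ⟨P1303, 0, [], []⟩,
  ⟨P1297, 2, [.a1], [.a1, .a2]⟩,
  ⟨P1303, 0, [.a1], [.a1, .a2]⟩,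
  ⟨P1254, 1, [], []⟩,
  ⟨P1280, 0, [], []⟩]
def N1460 : List Ent := [⟨1, [.a0], [.a0]⟩,
  ⟨2, [.a1], [.a1, .a2]⟩,
  ⟨4, [.a2], [.a2]⟩,
  ⟨8, [.a3], [.a3]⟩,
  ⟨16, [.a4, .a11], [.a4, .a5, .a11]⟩,
  ⟨32, [.a5], [.a5]⟩,
  ⟨64, [.a6], [.a6]⟩,
  ⟨128, [.a7, .a11], [.a7, .a8, .a11]⟩,
  ⟨256, [.a8], [.a8]⟩,
  ⟨512, [.a9], [.a9]⟩]
theorem bad1460 (c : CtxF Goal γ) : Bad Goal γ [] P1460 :=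
  c.toCtx.bnd (B := B1460) (D := D1460) (I := [8, 0, 9, 6, 1, 10, 2, 3]) (r := 3) (C := C1460) (N := N1460) (by decide +kernel) (by decide +kernel) (by decide +kernel) (by decide +kernel)
    (allB_cons (bad1084 c) (allB_cons (bad1297 c) (allB_cons (bad1303 c) (allB_cons (bad1297 c) (allB_cons (bad1303 c) (allB_cons (bad1254 c) (allB_cons (bad1280 c) (allB_nil))))))))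

def P1461 : List Ent := [⟨1, [.a0], [.a0]⟩,
  ⟨4, [.a2, .a9], [.a2, .a5, .a9]⟩,
  ⟨8, [.a3], [.a3]⟩,
  ⟨16, [.a4, .a9, .a11], [.a4, .a5, .a8, .a9, .a11]⟩,
  ⟨32, [.a5], [.a5]⟩,
  ⟨64, [.a6], [.a6]⟩,
  ⟨128, [.a7, .a11], [.a7, .a8, .a11]⟩,
  ⟨256, [.a8], [.a8]⟩]
def B1461 : List Gv := [⟨[.a0], [.a0]⟩, ⟨[.a2, .a9], [.a2, .a5, .a9]⟩, ⟨[.a4, .a9, .a11], [.a4, .a5, .a8, .a9, .a11]⟩]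
def D1461 : List Dv := [⟨[.a3, .a6], [1, 0], [0, 1]⟩,
  ⟨[.a5], [2, 2], []⟩,
  ⟨[.a7, .a8, .a11], [4, 4, 2], [2, 4]⟩,
  ⟨[.a6], [5, 4], [4, 5]⟩,
  ⟨[.a8], [2, 6, 6], []⟩,
  ⟨[.a7, .a11], [2], [0]⟩,
  ⟨[.a3], [5], [2]⟩]
def C1461 : List Ch := [⟨P1206, 0, [.a0, .a1, .a3, .a5, .a6, .a7, .a8, .a9, .a10], [.a0, .a10, .a11]⟩,
  ⟨P1297, 1, [], []⟩,
  ⟨P1303, 0, [.a4], [.a4, .a5]⟩,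
  ⟨P1257, 2, [], []⟩,
  ⟨P1281, 0, [], []⟩,
  ⟨P1299, 1, [.a1], [.a1, .a2]⟩,
  ⟨P1304, 0, [.a1, .a3, .a4], [.a1, .a2, .a4, .a5]⟩]
def S1461 : List St := [.phi 1 [⟨8, [.a3], [.a3]⟩,
  ⟨16, [.a4, .a7, .a9], [.a4, .a5, .a6, .a7, .a9]⟩,
  ⟨32, [.a5], [.a5]⟩,
  ⟨64, [.a6], [.a6]⟩,
  ⟨256, [.a8], [.a8]⟩] [[[.a3, .a4, .a7, .a9], [.a0, .a2, .a8, .a9]], [[.a0, .a3, .a7, .a11]], [[.a0, .a8]], [[.a3, .a4, .a7, .a9]], [[.a7, .a11]]],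
  .om 0 [⟨8, [.a3], [.a3]⟩,
  ⟨32, [.a5], [.a5]⟩,
  ⟨64, [.a6], [.a6]⟩,
  ⟨256, [.a8], [.a8]⟩] [[[.a3]], [[.a5]], [[.a6]], [[.a8]]]]
theorem bad1461 (c : CtxF Goal γ) : Bad Goal γ [] P1461 :=
  c.toCtx.chn (B := B1461) (D := D1461) (I := [7, 8, 0, 9, 5, 3, 1, 2]) (r := 3) (C := C1461) (l := S1461) (x := ⟨[.a9], [.a9]⟩) (ix := [0]) (by decide +kernel) (by decide +kernel) (by decide +kernel) (by decide +kernel)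
    (allB_cons (bad1206 c) (allB_cons (bad1297 c) (allB_cons (bad1303 c) (allB_cons (bad1257 c) (allB_cons (bad1281 c) (allB_cons (bad1299 c) (allB_cons (bad1304 c) (allB_nil))))))))

def P1462 : List Ent := [⟨1, [.a0], [.a0]⟩,
  ⟨4, [.a2, .a7, .a11], [.a2, .a5, .a6, .a7, .a11]⟩,
  ⟨8, [.a3], [.a3]⟩,
  ⟨16, [.a4, .a7], [.a4, .a5, .a6, .a7, .a8]⟩,
  ⟨32, [.a5], [.a5]⟩,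
  ⟨64, [.a6], [.a6]⟩,
  ⟨256, [.a8], [.a8]⟩,
  ⟨512, [.a9], [.a9]⟩]
def B1462 : List Gv := [⟨[.a0], [.a0]⟩, ⟨[.a2, .a7, .a11], [.a2, .a5, .a6, .a7, .a11]⟩, ⟨[.a4, .a7], [.a4, .a5, .a6, .a7, .a8]⟩]
def D1462 : List Dv := [⟨[.a5, .a8, .a9], [2, 1, 0], [0, 1]⟩,
  ⟨[.a6, .a8, .a9], [0, 2, 2], []⟩,
  ⟨[.a3], [4, 2], [2, 4]⟩,
  ⟨[.a8, .a9], [1, 5, 4], [4, 5]⟩,
  ⟨[.a9], [0, 2, 3, 6, 6], []⟩,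
  ⟨[.a8], [1], [0]⟩,
  ⟨[.a6], [4], [0, 1]⟩,
  ⟨[.a5], [6], [1, 2]⟩]
def C1462 : List Ch := [⟨P1158, 0, [], []⟩,
  ⟨P1254, 1, [], []⟩,
  ⟨P1280, 0, [.a4], [.a4, .a5]⟩,
  ⟨P1299, 2, [], []⟩,
  ⟨P1304, 0, [], []⟩,
  ⟨P1299, 1, [.a1], [.a1, .a2]⟩,
  ⟨P1304, 0, [.a1], [.a1, .a2]⟩]
def N1462 : List Ent := [⟨1, [.a0], [.a0]⟩,
  ⟨2, [.a1], [.a1, .a2]⟩,
  ⟨4, [.a2, .a7, .a11], [.a2, .a5, .a6, .a7, .a11]⟩,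
  ⟨8, [.a3], [.a3]⟩,
  ⟨16, [.a4, .a7], [.a4, .a5, .a6, .a7, .a8]⟩,
  ⟨32, [.a5], [.a5]⟩,
  ⟨64, [.a6], [.a6]⟩,
  ⟨128, [.a7, .a11], [.a7, .a8, .a11]⟩,
  ⟨256, [.a8], [.a8]⟩,
  ⟨512, [.a9], [.a9]⟩]
theorem bad1462 (c : CtxF Goal γ) : Bad Goal γ [] P1462 :=
  c.toCtx.bnd (B := B1462) (D := D1462) (I := [8, 9, 5, 10, 0, 1, 2, 3]) (r := 3) (C := C1462) (N := N1462) (by decide +kernel) (by decide +kernel) (by decide +kernel) (by decide +kernel)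
    (allB_cons (bad1158 c) (allB_cons (bad1254 c) (allB_cons (bad1280 c) (allB_cons (bad1299 c) (allB_cons (bad1304 c) (allB_cons (bad1299 c) (allB_cons (bad1304 c) (allB_nil))))))))

def P1463 : List Ent := [⟨1, [.a0], [.a0]⟩,
  ⟨2, [.a1], [.a1, .a2]⟩,
  ⟨4, [.a2], [.a2]⟩,
  ⟨8, [.a3], [.a3]⟩,
  ⟨32, [.a5], [.a5]⟩,
  ⟨64, [.a6], [.a6]⟩,
  ⟨256, [.a8], [.a8]⟩,
  ⟨512, [.a9], [.a9]⟩]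
def B1463 : List Gv := [⟨[.a0], [.a0]⟩, ⟨[.a1], [.a1, .a2]⟩, ⟨[.a3], [.a3]⟩, ⟨[.a9], [.a9]⟩]
def D1463 : List Dv := [⟨[.a2], [1, 1], []⟩,
  ⟨[.a6], [3, 4, 1], [1, 4]⟩,
  ⟨[.a8], [0, 5, 3], [3, 5]⟩,
  ⟨[.a5], [2, 6], [6, 2]⟩]
def C1463 : List Ch := [⟨P1213, 0, [], []⟩,
  ⟨P1255, 1, [], []⟩,
  ⟨P1278, 0, [.a10], [.a10, .a11]⟩,
  ⟨P1319, 2, [], []⟩,
  ⟨P1319, 0, [.a7], [.a7, .a8]⟩,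
  ⟨P1320, 1, [], []⟩,
  ⟨P1320, 0, [.a7], [.a7, .a8]⟩,
  ⟨P1321, 3, [], []⟩,
  ⟨P1322, 0, [], []⟩,
  ⟨P1323, 1, [], []⟩,
  ⟨P1324, 0, [], []⟩,
  ⟨P1320, 2, [.a4], [.a4, .a5]⟩,
  ⟨P1320, 0, [.a4, .a6, .a7], [.a4, .a5, .a7, .a8]⟩,
  ⟨P1319, 1, [.a4], [.a4, .a5]⟩,
  ⟨P1319, 0, [.a4, .a6, .a7], [.a4, .a5, .a7, .a8]⟩]
def S1463 : List St := [.cent 1 1 0 [⟨8, [.a3], [.a3]⟩,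
  ⟨32, [.a5], [.a5]⟩],
  .cent 2 2 0 [⟨4, [.a2], [.a2]⟩,
  ⟨8, [.a3], [.a3]⟩,
  ⟨32, [.a5], [.a5]⟩,
  ⟨64, [.a6], [.a6]⟩,
  ⟨256, [.a8], [.a8]⟩]]
theorem bad1463 (c : CtxF Goal γ) : Bad Goal γ [] P1463 :=
  c.toCtx.chn (B := B1463) (D := D1463) (I := [4, 5, 3, 6, 0, 2, 1, 7]) (r := 4) (C := C1463) (l := S1463) (x := ⟨[.a4], [.a4, .a5]⟩) (ix := [0]) (by decide +kernel) (by decide +kernel) (by decide +kernel) (by decide +kernel)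
    (allB_cons (bad1213 c) (allB_cons (bad1255 c) (allB_cons (bad1278 c) (allB_cons (bad1319 c) (allB_cons (bad1319 c) (allB_cons (bad1320 c) (allB_cons (bad1320 c) (allB_cons (bad1321 c) (allB_cons (bad1322 c) (allB_cons (bad1323 c) (allB_cons (bad1324 c) (allB_cons (bad1320 c) (allB_cons (bad1320 c) (allB_cons (bad1319 c) (allB_cons (bad1319 c) (allB_nil))))))))))))))))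

def P1464 : List Ent := [⟨1, [.a0], [.a0]⟩,
  ⟨2, [.a1, .a4, .a7], [.a1, .a2, .a3, .a4, .a6, .a7, .a8]⟩,
  ⟨4, [.a2], [.a2]⟩,
  ⟨8, [.a3], [.a3]⟩,
  ⟨32, [.a5], [.a5]⟩,
  ⟨64, [.a6], [.a6]⟩,
  ⟨256, [.a8], [.a8]⟩,
  ⟨512, [.a9], [.a9]⟩]
def B1464 : List Gv := [⟨[.a0], [.a0]⟩, ⟨[.a1, .a4, .a7], [.a1, .a2, .a3, .a4, .a6, .a7, .a8]⟩, ⟨[.a2], [.a2]⟩, ⟨[.a9], [.a9]⟩]
def D1464 : List Dv := [⟨[.a3], [1, 0], [0, 1]⟩,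
  ⟨[.a5, .a6, .a8], [0, 3, 2, 2], []⟩,
  ⟨[.a6], [1, 5, 2], [2, 5]⟩,
  ⟨[.a8], [0, 1, 6, 5], [5, 6]⟩,
  ⟨[.a5], [2], [1, 0]⟩]
def C1464 : List Ch := [⟨P1213, 0, [.a10], [.a10, .a11]⟩,
  ⟨P1255, 1, [], []⟩,
  ⟨P1278, 0, [.a10, .a11], [.a10]⟩,
  ⟨P1325, 2, [], []⟩,
  ⟨P1325, 0, [.a7], [.a7, .a8]⟩,
  ⟨P1326, 1, [], []⟩,
  ⟨P1326, 0, [.a7], [.a7, .a8]⟩,
  ⟨P1327, 3, [], []⟩,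
  ⟨P1328, 0, [], []⟩,
  ⟨P1329, 1, [], []⟩,
  ⟨P1330, 0, [], []⟩,
  ⟨P1325, 2, [.a1], [.a1, .a2]⟩,
  ⟨P1325, 0, [.a4], [.a4, .a5]⟩,
  ⟨P1326, 1, [.a1], [.a1, .a2]⟩,
  ⟨P1326, 0, [.a4], [.a4, .a5]⟩]
def S1464 : List St := [.cent 1 1 0 [⟨8, [.a3, .a6], [.a3, .a6]⟩,
  ⟨32, [.a5], [.a5]⟩],
  .phi 2 [⟨4, [.a2, .a8], [.a2, .a8]⟩,
  ⟨8, [.a3], [.a3]⟩,
  ⟨32, [.a5], [.a5]⟩,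
  ⟨64, [.a6], [.a6]⟩] [[[.a0, .a9], [.a1, .a3, .a4, .a7]], [[.a0, .a1, .a3, .a4, .a7], [.a1, .a3, .a4, .a7]], [[.a0, .a8]], [[.a1, .a4, .a7, .a9], [.a1, .a3, .a4, .a7]]],
  .cent 3 3 1 [⟨1, [.a0, .a9], [.a0, .a3, .a6, .a9]⟩,
  ⟨4, [.a2], [.a2]⟩,
  ⟨8, [.a3], [.a3]⟩,
  ⟨32, [.a5], [.a5]⟩,
  ⟨64, [.a6], [.a6]⟩,
  ⟨256, [.a8], [.a8]⟩]]
theorem bad1464 (c : CtxF Goal γ) : Bad Goal γ [] P1464 :=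
  c.toCtx.chn (B := B1464) (D := D1464) (I := [5, 6, 7, 4, 0, 2, 1, 8]) (r := 4) (C := C1464) (l := S1464) (x := ⟨[.a4], [.a4, .a5]⟩) (ix := [0, 1]) (by decide +kernel) (by decide +kernel) (by decide +kernel) (by decide +kernel)
    (allB_cons (bad1213 c) (allB_cons (bad1255 c) (allB_cons (bad1278 c) (allB_cons (bad1325 c) (allB_cons (bad1325 c) (allB_cons (bad1326 c) (allB_cons (bad1326 c) (allB_cons (bad1327 c) (allB_cons (bad1328 c) (allB_cons (bad1329 c) (allB_cons (bad1330 c) (allB_cons (bad1325 c) (allB_cons (bad1325 c) (allB_cons (bad1326 c) (allB_cons (bad1326 c) (allB_nil))))))))))))))))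

def P1465 : List Ent := [⟨1, [.a0], [.a0]⟩,
  ⟨2, [.a1], [.a1, .a2]⟩,
  ⟨4, [.a2], [.a2]⟩,
  ⟨8, [.a3], [.a3]⟩,
  ⟨16, [.a4, .a7], [.a4, .a5, .a6, .a7, .a8]⟩,
  ⟨32, [.a5], [.a5]⟩,
  ⟨64, [.a6], [.a6]⟩,
  ⟨256, [.a8], [.a8]⟩]
def B1465 : List Gv := [⟨[.a0], [.a0]⟩, ⟨[.a1], [.a1, .a2]⟩, ⟨[.a4, .a7], [.a4, .a5, .a6, .a7, .a8]⟩, ⟨[.a6], [.a6]⟩]
def D1465 : List Dv := [⟨[.a2], [1, 1], []⟩,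
  ⟨[.a3], [3, 1], [1, 3]⟩,
  ⟨[.a5, .a6, .a8], [4, 4], []⟩,
  ⟨[.a8], [6, 0, 6, 4], [4, 6]⟩,
  ⟨[.a5], [1], [7, 0]⟩]
def C1465 : List Ch := [⟨P1216, 0, [], []⟩,
  ⟨P1256, 1, [], []⟩,
  ⟨P1272, 0, [.a10], [.a10, .a11]⟩,
  ⟨P1321, 2, [], []⟩,
  ⟨P1324, 0, [.a11], [.a11]⟩,
  ⟨P1327, 1, [], []⟩,
  ⟨P1330, 0, [.a11], [.a11]⟩,
  ⟨P1331, 3, [], []⟩,
  ⟨P1331, 0, [.a4, .a8, .a9], [.a4, .a5, .a9]⟩,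
  ⟨P1332, 1, [], []⟩,
  ⟨P1332, 0, [.a4, .a8, .a9], [.a4, .a5, .a9]⟩,
  ⟨P1331, 2, [.a4], [.a4, .a5]⟩,
  ⟨P1331, 0, [.a9], [.a9]⟩,
  ⟨P1332, 1, [.a4], [.a4, .a5]⟩,
  ⟨P1332, 0, [.a9], [.a9]⟩]
def S1465 : List St := [.cent 1 1 0 [⟨4, [.a2], [.a2]⟩,
  ⟨32, [.a5], [.a5]⟩],
  .phi 2 [⟨4, [.a2], [.a2]⟩,
  ⟨8, [.a3], [.a3]⟩,
  ⟨32, [.a5], [.a5]⟩,
  ⟨64, [.a6, .a8], [.a6, .a8]⟩] [[[.a1]], [[.a3, .a4, .a7], [.a0, .a3, .a4, .a7]], [[.a0, .a8]], [[.a3, .a4, .a7]]],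
  .om 3 [⟨1, [.a0], [.a0]⟩,
  ⟨4, [.a2], [.a2]⟩,
  ⟨8, [.a3], [.a3]⟩,
  ⟨32, [.a5], [.a5]⟩,
  ⟨64, [.a6], [.a6]⟩,
  ⟨256, [.a8], [.a8]⟩] [[[.a0]], [[.a2]], [[.a3]], [[.a5]], [[.a6]], [[.a8]]]]
theorem bad1465 (c : CtxF Goal γ) : Bad Goal γ [] P1465 :=
  c.toCtx.chn (B := B1465) (D := D1465) (I := [5, 6, 4, 3, 7, 0, 8, 1]) (r := 4) (C := C1465) (l := S1465) (x := ⟨[.a7], [.a7, .a8]⟩) (ix := [0, 1, 2]) (by decide +kernel) (by decide +kernel) (by decide +kernel) (by decide +kernel)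
    (allB_cons (bad1216 c) (allB_cons (bad1256 c) (allB_cons (bad1272 c) (allB_cons (bad1321 c) (allB_cons (bad1324 c) (allB_cons (bad1327 c) (allB_cons (bad1330 c) (allB_cons (bad1331 c) (allB_cons (bad1331 c) (allB_cons (bad1332 c) (allB_cons (bad1332 c) (allB_cons (bad1331 c) (allB_cons (bad1331 c) (allB_cons (bad1332 c) (allB_cons (bad1332 c) (allB_nil))))))))))))))))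

def P1466 : List Ent := [⟨1, [.a0, .a9], [.a0, .a3, .a6, .a9]⟩,
  ⟨2, [.a1], [.a1, .a2]⟩,
  ⟨4, [.a2], [.a2]⟩,
  ⟨8, [.a3], [.a3]⟩,
  ⟨16, [.a4, .a7], [.a4, .a5, .a6, .a7, .a8]⟩,
  ⟨32, [.a5], [.a5]⟩,
  ⟨64, [.a6], [.a6]⟩,
  ⟨256, [.a8], [.a8]⟩]
def B1466 : List Gv := [⟨[.a0, .a9], [.a0, .a3, .a6, .a9]⟩, ⟨[.a1], [.a1, .a2]⟩, ⟨[.a4, .a7], [.a4, .a5, .a6, .a7, .a8]⟩]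
def D1466 : List Dv := [⟨[.a3, .a6], [0, 0], []⟩,
  ⟨[.a5, .a6, .a8], [2, 1], [1, 2]⟩,
  ⟨[.a2], [3, 3], []⟩,
  ⟨[.a6], [2, 5, 4], [4, 5]⟩,
  ⟨[.a8], [0, 2, 3, 5], [5, 3]⟩,
  ⟨[.a5], [3], [1, 0]⟩,
  ⟨[.a3], [5], [2]⟩]
def C1466 : List Ch := [⟨P1216, 0, [], []⟩,
  ⟨P1256, 1, [.a11], [.a11]⟩,
  ⟨P1276, 0, [.a10], [.a10, .a11]⟩,
  ⟨P1322, 2, [], []⟩,
  ⟨P1323, 0, [.a11], [.a11]⟩,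
  ⟨P1328, 1, [], []⟩,
  ⟨P1329, 0, [.a11], [.a11]⟩]
def N1466 : List Ent := [⟨1, [.a0, .a9], [.a0, .a3, .a6, .a9]⟩,
  ⟨2, [.a1], [.a1, .a2]⟩,
  ⟨4, [.a2], [.a2]⟩,
  ⟨8, [.a3], [.a3]⟩,
  ⟨16, [.a4, .a7], [.a4, .a5, .a6, .a7, .a8]⟩,
  ⟨32, [.a5], [.a5]⟩,
  ⟨64, [.a6], [.a6]⟩,
  ⟨128, [.a7], [.a7, .a8]⟩,
  ⟨256, [.a8], [.a8]⟩,
  ⟨512, [.a9], [.a9]⟩]
theorem bad1466 (c : CtxF Goal γ) : Bad Goal γ [] P1466 :=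
  c.toCtx.bnd (B := B1466) (D := D1466) (I := [7, 8, 4, 0, 9, 1, 3, 2]) (r := 3) (C := C1466) (N := N1466) (by decide +kernel) (by decide +kernel) (by decide +kernel) (by decide +kernel)
    (allB_cons (bad1216 c) (allB_cons (bad1256 c) (allB_cons (bad1276 c) (allB_cons (bad1322 c) (allB_cons (bad1323 c) (allB_cons (bad1328 c) (allB_cons (bad1329 c) (allB_nil))))))))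

def P1467 : List Ent := [⟨1, [.a0], [.a0]⟩,
  ⟨2, [.a1], [.a1, .a2]⟩,
  ⟨4, [.a2], [.a2]⟩,
  ⟨8, [.a3], [.a3]⟩,
  ⟨16, [.a4, .a7, .a9], [.a4, .a5, .a6, .a7, .a9]⟩,
  ⟨32, [.a5], [.a5]⟩,
  ⟨64, [.a6], [.a6]⟩,
  ⟨256, [.a8], [.a8]⟩]
def B1467 : List Gv := [⟨[.a0], [.a0]⟩, ⟨[.a1], [.a1, .a2]⟩, ⟨[.a3], [.a3]⟩, ⟨[.a4, .a7, .a9], [.a4, .a5, .a6, .a7, .a9]⟩]
def D1467 : List Dv := [⟨[.a2], [1, 1], []⟩,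
  ⟨[.a5, .a6], [4, 1], [1, 4]⟩,
  ⟨[.a6, .a8], [4, 5, 3], [3, 5]⟩,
  ⟨[.a8], [0, 1, 6, 5], [5, 6]⟩,
  ⟨[.a6], [1], [0]⟩,
  ⟨[.a5], [3], [0]⟩]
def C1467 : List Ch := [⟨P1216, 0, [.a10, .a11], [.a10]⟩,
  ⟨P1247, 1, [], []⟩,
  ⟨P1279, 0, [.a10], [.a10, .a11]⟩,
  ⟨P1333, 2, [], []⟩,
  ⟨P1333, 0, [.a7], [.a7, .a8]⟩,
  ⟨P1334, 1, [], []⟩,
  ⟨P1334, 0, [.a7], [.a7, .a8]⟩,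
  ⟨P1321, 3, [], []⟩,
  ⟨P1323, 0, [.a11], [.a11]⟩,
  ⟨P1329, 1, [], []⟩,
  ⟨P1327, 0, [.a11], [.a11]⟩,
  ⟨P1334, 2, [.a4], [.a4, .a5]⟩,
  ⟨P1334, 0, [.a9], [.a9]⟩,
  ⟨P1333, 1, [.a4], [.a4, .a5]⟩,
  ⟨P1333, 0, [.a9], [.a9]⟩]
def S1467 : List St := [.cent 1 1 0 [⟨4, [.a2, .a3], [.a2, .a3]⟩,
  ⟨32, [.a5], [.a5]⟩],
  .phi 2 [⟨4, [.a2], [.a2]⟩,
  ⟨8, [.a3, .a8], [.a3, .a8]⟩,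
  ⟨32, [.a5], [.a5]⟩,
  ⟨64, [.a6], [.a6]⟩] [[[.a1]], [[.a1], [.a1, .a4, .a7, .a9]], [[.a0, .a8]], [[.a2, .a4, .a7, .a9]]],
  .cent 3 3 1 [⟨4, [.a2], [.a2]⟩,
  ⟨8, [.a3], [.a3]⟩,
  ⟨32, [.a5], [.a5]⟩,
  ⟨64, [.a6], [.a6]⟩,
  ⟨256, [.a8], [.a8]⟩],
  .comm 1 4 [⟨32, [.a5], [.a5]⟩] [⟨[.a6], [.a1]⟩]]
theorem bad1467 (c : CtxF Goal γ) : Bad Goal γ [] P1467 :=
  c.toCtx.chn (B := B1467) (D := D1467) (I := [6, 7, 5, 8, 9, 0, 1, 2]) (r := 4) (C := C1467) (l := S1467) (x := ⟨[.a9], [.a9]⟩) (ix := [1, 0]) (by decide +kernel) (by decide +kernel) (by decide +kernel) (by decide +kernel)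
    (allB_cons (bad1216 c) (allB_cons (bad1247 c) (allB_cons (bad1279 c) (allB_cons (bad1333 c) (allB_cons (bad1333 c) (allB_cons (bad1334 c) (allB_cons (bad1334 c) (allB_cons (bad1321 c) (allB_cons (bad1323 c) (allB_cons (bad1329 c) (allB_cons (bad1327 c) (allB_cons (bad1334 c) (allB_cons (bad1334 c) (allB_cons (bad1333 c) (allB_cons (bad1333 c) (allB_nil))))))))))))))))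

def P1468 : List Ent := [⟨1, [.a0, .a9], [.a0, .a3, .a6, .a9]⟩,
  ⟨2, [.a1], [.a1, .a2]⟩,
  ⟨4, [.a2], [.a2]⟩,
  ⟨8, [.a3], [.a3]⟩,
  ⟨16, [.a4, .a7, .a9], [.a4, .a5, .a6, .a7, .a9]⟩,
  ⟨32, [.a5], [.a5]⟩,
  ⟨64, [.a6], [.a6]⟩,
  ⟨256, [.a8], [.a8]⟩]
def B1468 : List Gv := [⟨[.a0, .a9], [.a0, .a3, .a6, .a9]⟩, ⟨[.a1], [.a1, .a2]⟩, ⟨[.a4, .a7, .a9], [.a4, .a5, .a6, .a7, .a9]⟩]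
def D1468 : List Dv := [⟨[.a3, .a6], [0, 0], []⟩,
  ⟨[.a5, .a6, .a8], [2, 1], [1, 2]⟩,
  ⟨[.a2], [3, 3], []⟩,
  ⟨[.a6, .a8], [5, 3], [3, 5]⟩,
  ⟨[.a8], [3, 6, 5], [5, 6]⟩,
  ⟨[.a6], [1], [0]⟩,
  ⟨[.a5], [4], [0, 1]⟩,
  ⟨[.a3], [6], [1]⟩]
def C1468 : List Ch := [⟨P1216, 0, [.a10, .a11], [.a10]⟩,
  ⟨P1251, 1, [], []⟩,
  ⟨P1279, 0, [.a10, .a11], [.a10]⟩,
  ⟨P1322, 2, [], []⟩,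
  ⟨P1324, 0, [.a11], [.a11]⟩,
  ⟨P1330, 1, [], []⟩,
  ⟨P1328, 0, [.a11], [.a11]⟩]
def N1468 : List Ent := [⟨1, [.a0, .a9], [.a0, .a3, .a6, .a9]⟩,
  ⟨2, [.a1], [.a1, .a2]⟩,
  ⟨4, [.a2], [.a2]⟩,
  ⟨8, [.a3], [.a3]⟩,
  ⟨16, [.a4, .a7, .a9], [.a4, .a5, .a6, .a7, .a9]⟩,
  ⟨32, [.a5], [.a5]⟩,
  ⟨64, [.a6], [.a6]⟩,
  ⟨128, [.a7], [.a7, .a8]⟩,
  ⟨256, [.a8], [.a8]⟩,
  ⟨512, [.a9], [.a9]⟩]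
theorem bad1468 (c : CtxF Goal γ) : Bad Goal γ [] P1468 :=
  c.toCtx.bnd (B := B1468) (D := D1468) (I := [8, 9, 5, 0, 10, 1, 2, 3]) (r := 3) (C := C1468) (N := N1468) (by decide +kernel) (by decide +kernel) (by decide +kernel) (by decide +kernel)
    (allB_cons (bad1216 c) (allB_cons (bad1251 c) (allB_cons (bad1279 c) (allB_cons (bad1322 c) (allB_cons (bad1324 c) (allB_cons (bad1330 c) (allB_cons (bad1328 c) (allB_nil))))))))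

def P1469 : List Ent := [⟨1, [.a0], [.a0]⟩,
  ⟨2, [.a1, .a11], [.a1, .a2, .a5, .a6, .a9, .a11]⟩,
  ⟨4, [.a2, .a9], [.a2, .a5, .a9]⟩,
  ⟨8, [.a3], [.a3]⟩,
  ⟨16, [.a4, .a7], [.a4, .a5, .a6, .a7, .a8]⟩,
  ⟨32, [.a5], [.a5]⟩,
  ⟨64, [.a6], [.a6]⟩,
  ⟨256, [.a8], [.a8]⟩]
def B1469 : List Gv := [⟨[.a0], [.a0]⟩, ⟨[.a1, .a11], [.a1, .a2, .a5, .a6, .a9, .a11]⟩]
def D1469 : List Dv := [⟨[.a2, .a4, .a6, .a7, .a8, .a9], [1, 0], [0, 1]⟩,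
  ⟨[.a4, .a6, .a7], [0, 2, 2], []⟩,
  ⟨[.a6], [1, 2], [2, 1]⟩,
  ⟨[.a3, .a5], [2, 4], [4, 2]⟩,
  ⟨[.a5], [0, 2, 4], [4, 2]⟩,
  ⟨[.a8], [3, 4], [4, 3]⟩,
  ⟨[.a4, .a7], [4], [3]⟩,
  ⟨[.a3], [3], [2]⟩,
  ⟨[.a2, .a9], [7], [1, 5]⟩]
def C1469 : List Ch := [⟨P1217, 0, [], []⟩,
  ⟨P1241, 1, [], []⟩,
  ⟨P1281, 0, [.a10], [.a10, .a11]⟩]
def S1469 : List St := [.phi 1 [⟨4, [.a2, .a9], [.a2, .a5, .a9]⟩,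
  ⟨8, [.a3], [.a3]⟩,
  ⟨16, [.a4, .a7], [.a4, .a5, .a6, .a7, .a8]⟩,
  ⟨32, [.a5], [.a5]⟩,
  ⟨64, [.a6], [.a6]⟩,
  ⟨256, [.a8], [.a8]⟩] [[[.a1, .a3, .a6, .a11]], [[.a2, .a4, .a7, .a9], [.a0, .a2, .a8, .a9]], [[.a0, .a1, .a11]], [[.a0, .a8]], [[.a2, .a4, .a7, .a9]], [[.a2, .a4, .a7, .a9], [.a3, .a4, .a7]]],
  .comm 0 2 [⟨8, [.a3], [.a3]⟩,
  ⟨32, [.a5], [.a5]⟩,
  ⟨64, [.a6], [.a6]⟩,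
  ⟨256, [.a8], [.a8]⟩] [⟨[.a4, .a7], [.a0]⟩, ⟨[.a8], [.a0]⟩, ⟨[.a2, .a4, .a7, .a9], [.a0, .a3]⟩, ⟨[.a3], [.a1, .a11]⟩]]
theorem bad1469 (c : CtxF Goal γ) : Bad Goal γ [] P1469 :=
  c.toCtx.chn (B := B1469) (D := D1469) (I := [9, 10, 0, 1, 2, 4, 6, 3]) (r := 2) (C := C1469) (l := S1469) (x := ⟨[.a9], [.a9]⟩) (ix := [0]) (by decide +kernel) (by decide +kernel) (by decide +kernel) (by decide +kernel)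
    (allB_cons (bad1217 c) (allB_cons (bad1241 c) (allB_cons (bad1281 c) (allB_nil))))

def P1470 : List Ent := [⟨1, [.a0], [.a0]⟩,
  ⟨2, [.a1], [.a1, .a2]⟩,
  ⟨4, [.a2], [.a2]⟩,
  ⟨8, [.a3], [.a3]⟩,
  ⟨32, [.a5], [.a5]⟩,
  ⟨64, [.a6], [.a6]⟩,
  ⟨128, [.a7], [.a7, .a8]⟩,
  ⟨256, [.a8], [.a8]⟩]
def B1470 : List Gv := [⟨[.a0], [.a0]⟩, ⟨[.a1], [.a1, .a2]⟩, ⟨[.a6], [.a6]⟩, ⟨[.a7], [.a7, .a8]⟩]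
def D1470 : List Dv := [⟨[.a2], [1, 1], []⟩,
  ⟨[.a5], [3, 2], [2, 3]⟩,
  ⟨[.a3], [1, 5, 2], [2, 5]⟩,
  ⟨[.a8], [6, 6], []⟩]
def C1470 : List Ch := [⟨P1232, 0, [], []⟩,
  ⟨P1295, 1, [], []⟩,
  ⟨P1313, 0, [.a10], [.a10, .a11]⟩,
  ⟨P1335, 2, [], []⟩,
  ⟨P1336, 0, [], []⟩,
  ⟨P1336, 1, [.a9], [.a9]⟩,
  ⟨P1335, 0, [.a9], [.a9]⟩,
  ⟨P1321, 3, [], []⟩,
  ⟨P1330, 0, [.a10], [.a10, .a11]⟩,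
  ⟨P1262, 1, [], []⟩,
  ⟨P1282, 0, [], []⟩,
  ⟨P1335, 2, [.a4], [.a4, .a5]⟩,
  ⟨P1336, 0, [.a4], [.a4, .a5]⟩,
  ⟨P1336, 1, [.a4, .a8, .a9], [.a4, .a5, .a9]⟩,
  ⟨P1335, 0, [.a4, .a8, .a9], [.a4, .a5, .a9]⟩]
def S1470 : List St := [.cent 1 1 0 [⟨4, [.a2], [.a2]⟩,
  ⟨32, [.a5], [.a5]⟩],
  .om 2 [⟨1, [.a0], [.a0]⟩,
  ⟨4, [.a2], [.a2]⟩,
  ⟨8, [.a3], [.a3]⟩,
  ⟨32, [.a5], [.a5]⟩,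
  ⟨64, [.a6], [.a6]⟩,
  ⟨256, [.a8], [.a8]⟩] [[[.a0]], [[.a2]], [[.a3]], [[.a5]], [[.a6]], [[.a8]]]]
theorem bad1470 (c : CtxF Goal γ) : Bad Goal γ [] P1470 :=
  c.toCtx.chn (B := B1470) (D := D1470) (I := [4, 5, 3, 1, 2, 6, 7, 0]) (r := 4) (C := C1470) (l := S1470) (x := ⟨[.a4], [.a4, .a5]⟩) (ix := [0, 1]) (by decide +kernel) (by decide +kernel) (by decide +kernel) (by decide +kernel)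
    (allB_cons (bad1232 c) (allB_cons (bad1295 c) (allB_cons (bad1313 c) (allB_cons (bad1335 c) (allB_cons (bad1336 c) (allB_cons (bad1336 c) (allB_cons (bad1335 c) (allB_cons (bad1321 c) (allB_cons (bad1330 c) (allB_cons (bad1262 c) (allB_cons (bad1282 c) (allB_cons (bad1335 c) (allB_cons (bad1336 c) (allB_cons (bad1336 c) (allB_cons (bad1335 c) (allB_nil))))))))))))))))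

def P1471 : List Ent := [⟨1, [.a0, .a9], [.a0, .a3, .a6, .a9]⟩,
  ⟨2, [.a1], [.a1, .a2]⟩,
  ⟨4, [.a2], [.a2]⟩,
  ⟨8, [.a3], [.a3]⟩,
  ⟨32, [.a5], [.a5]⟩,
  ⟨64, [.a6], [.a6]⟩,
  ⟨128, [.a7], [.a7, .a8]⟩,
  ⟨256, [.a8], [.a8]⟩]
def B1471 : List Gv := [⟨[.a0, .a9], [.a0, .a3, .a6, .a9]⟩, ⟨[.a1], [.a1, .a2]⟩, ⟨[.a7], [.a7, .a8]⟩]
def D1471 : List Dv := [⟨[.a3, .a6], [0, 0], []⟩,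
  ⟨[.a5, .a6, .a8], [2, 1], [1, 2]⟩,
  ⟨[.a2], [3, 3], []⟩,
  ⟨[.a6], [2, 0, 5, 3], [3, 5]⟩,
  ⟨[.a8], [6, 6], []⟩,
  ⟨[.a5], [3], [1, 0]⟩,
  ⟨[.a3], [5], [2]⟩]
def C1471 : List Ch := [⟨P1232, 0, [], []⟩,
  ⟨P1301, 1, [], []⟩,
  ⟨P1311, 0, [.a10], [.a10, .a11]⟩,
  ⟨P1322, 2, [], []⟩,
  ⟨P1329, 0, [.a10], [.a10, .a11]⟩,
  ⟨P1263, 1, [], []⟩,
  ⟨P1283, 0, [], []⟩]
def N1471 : List Ent := [⟨1, [.a0, .a9], [.a0, .a3, .a6, .a9]⟩,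
  ⟨2, [.a1], [.a1, .a2]⟩,
  ⟨4, [.a2], [.a2]⟩,
  ⟨8, [.a3], [.a3]⟩,
  ⟨16, [.a4], [.a4, .a5]⟩,
  ⟨32, [.a5], [.a5]⟩,
  ⟨64, [.a6], [.a6]⟩,
  ⟨128, [.a7], [.a7, .a8]⟩,
  ⟨256, [.a8], [.a8]⟩,
  ⟨512, [.a9], [.a9]⟩]
theorem bad1471 (c : CtxF Goal γ) : Bad Goal γ [] P1471 :=
  c.toCtx.bnd (B := B1471) (D := D1471) (I := [7, 8, 4, 0, 1, 3, 9, 2]) (r := 3) (C := C1471) (N := N1471) (by decide +kernel) (by decide +kernel) (by decide +kernel) (by decide +kernel)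
    (allB_cons (bad1232 c) (allB_cons (bad1301 c) (allB_cons (bad1311 c) (allB_cons (bad1322 c) (allB_cons (bad1329 c) (allB_cons (bad1263 c) (allB_cons (bad1283 c) (allB_nil))))))))

def P1472 : List Ent := [⟨1, [.a0], [.a0]⟩,
  ⟨2, [.a1, .a9], [.a1, .a2, .a6, .a8, .a9]⟩,
  ⟨4, [.a2], [.a2]⟩,
  ⟨8, [.a3], [.a3]⟩,
  ⟨32, [.a5], [.a5]⟩,
  ⟨64, [.a6], [.a6]⟩,
  ⟨128, [.a7], [.a7, .a8]⟩,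
  ⟨256, [.a8], [.a8]⟩]
def B1472 : List Gv := [⟨[.a0], [.a0]⟩, ⟨[.a1, .a9], [.a1, .a2, .a6, .a8, .a9]⟩, ⟨[.a2], [.a2]⟩, ⟨[.a7], [.a7, .a8]⟩]
def D1472 : List Dv := [⟨[.a3, .a5, .a6], [1, 0], [0, 1]⟩,
  ⟨[.a5, .a6, .a8], [3, 2, 2], []⟩,
  ⟨[.a6, .a8], [0, 4, 3], [3, 4]⟩,
  ⟨[.a8], [1, 2, 5, 6, 3], [3, 6]⟩,
  ⟨[.a6], [1], [0]⟩,
  ⟨[.a5], [3], [0, 1]⟩,
  ⟨[.a3], [5], [0, 1]⟩]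
def C1472 : List Ch := [⟨P1232, 0, [.a11], [.a11]⟩,
  ⟨P1295, 1, [], []⟩,
  ⟨P1311, 0, [.a10], [.a10, .a11]⟩,
  ⟨P1337, 2, [], []⟩,
  ⟨P1338, 0, [], []⟩,
  ⟨P1337, 1, [.a1], [.a1, .a2]⟩,
  ⟨P1338, 0, [.a1], [.a1, .a2]⟩,
  ⟨P1323, 3, [], []⟩,
  ⟨P1327, 0, [.a10], [.a10, .a11]⟩,
  ⟨P1264, 1, [], []⟩,
  ⟨P1284, 0, [], []⟩,
  ⟨P1338, 2, [.a1, .a3, .a4], [.a1, .a2, .a4, .a5]⟩,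
  ⟨P1337, 0, [.a1, .a3, .a4], [.a1, .a2, .a4, .a5]⟩,
  ⟨P1338, 1, [.a4], [.a4, .a5]⟩,
  ⟨P1337, 0, [.a4], [.a4, .a5]⟩]
def S1472 : List St := [.cent 1 1 0 [⟨4, [.a2, .a6], [.a2, .a6]⟩,
  ⟨32, [.a5], [.a5]⟩],
  .phi 2 [⟨4, [.a2, .a6], [.a2, .a6]⟩,
  ⟨8, [.a3, .a6], [.a3, .a6]⟩,
  ⟨32, [.a5], [.a5]⟩,
  ⟨256, [.a8], [.a8]⟩] [[[.a1, .a2, .a7, .a9]], [[.a0, .a7], [.a1, .a2, .a9]], [[.a0, .a8]], [[.a7]]],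
  .cent 3 3 1 [⟨2, [.a1, .a7, .a9], [.a1, .a2, .a6, .a7, .a9]⟩,
  ⟨4, [.a2], [.a2]⟩,
  ⟨8, [.a3], [.a3]⟩,
  ⟨32, [.a5], [.a5]⟩,
  ⟨64, [.a6], [.a6]⟩,
  ⟨256, [.a8], [.a8]⟩]]
theorem bad1472 (c : CtxF Goal γ) : Bad Goal γ [] P1472 :=
  c.toCtx.chn (B := B1472) (D := D1472) (I := [7, 8, 9, 0, 1, 2, 10, 3]) (r := 4) (C := C1472) (l := S1472) (x := ⟨[.a4], [.a4, .a5]⟩) (ix := [0, 1]) (by decide +kernel) (by decide +kernel) (by decide +kernel) (by decide +kernel)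
    (allB_cons (bad1232 c) (allB_cons (bad1295 c) (allB_cons (bad1311 c) (allB_cons (bad1337 c) (allB_cons (bad1338 c) (allB_cons (bad1337 c) (allB_cons (bad1338 c) (allB_cons (bad1323 c) (allB_cons (bad1327 c) (allB_cons (bad1264 c) (allB_cons (bad1284 c) (allB_cons (bad1338 c) (allB_cons (bad1337 c) (allB_cons (bad1338 c) (allB_cons (bad1337 c) (allB_nil))))))))))))))))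

def P1473 : List Ent := [⟨1, [.a0, .a9], [.a0, .a3, .a6, .a9]⟩,
  ⟨2, [.a1, .a9], [.a1, .a2, .a6, .a8, .a9]⟩,
  ⟨4, [.a2], [.a2]⟩,
  ⟨8, [.a3], [.a3]⟩,
  ⟨32, [.a5], [.a5]⟩,
  ⟨64, [.a6], [.a6]⟩,
  ⟨128, [.a7], [.a7, .a8]⟩,
  ⟨256, [.a8], [.a8]⟩]
def B1473 : List Gv := [⟨[.a0, .a9], [.a0, .a3, .a6, .a9]⟩, ⟨[.a1, .a9], [.a1, .a2, .a6, .a8, .a9]⟩, ⟨[.a7], [.a7, .a8]⟩]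
def D1473 : List Dv := [⟨[.a3, .a6], [0, 0], []⟩,
  ⟨[.a6, .a8], [0, 2, 1], [1, 2]⟩,
  ⟨[.a2, .a5, .a6, .a8], [3, 3], []⟩,
  ⟨[.a5, .a8], [2, 0, 5, 3], [3, 5]⟩,
  ⟨[.a8], [6, 6], []⟩,
  ⟨[.a6], [3], [0]⟩,
  ⟨[.a5], [2], [1]⟩,
  ⟨[.a3], [6], [1]⟩,
  ⟨[.a2], [5], [1, 2, 3]⟩]
def C1473 : List Ch := [⟨P1232, 0, [.a11], [.a11]⟩,
  ⟨P1301, 1, [], []⟩,
  ⟨P1313, 0, [.a10], [.a10, .a11]⟩,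
  ⟨P1324, 2, [], []⟩,
  ⟨P1328, 0, [.a10], [.a10, .a11]⟩,
  ⟨P1265, 1, [], []⟩,
  ⟨P1285, 0, [], []⟩]
def N1473 : List Ent := [⟨1, [.a0, .a9], [.a0, .a3, .a6, .a9]⟩,
  ⟨2, [.a1, .a9], [.a1, .a2, .a6, .a8, .a9]⟩,
  ⟨4, [.a2], [.a2]⟩,
  ⟨8, [.a3], [.a3]⟩,
  ⟨16, [.a4], [.a4, .a5]⟩,
  ⟨32, [.a5], [.a5]⟩,
  ⟨64, [.a6], [.a6]⟩,
  ⟨128, [.a7], [.a7, .a8]⟩,
  ⟨256, [.a8], [.a8]⟩,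
  ⟨512, [.a9], [.a9]⟩]
theorem bad1473 (c : CtxF Goal γ) : Bad Goal γ [] P1473 :=
  c.toCtx.bnd (B := B1473) (D := D1473) (I := [9, 10, 0, 1, 2, 3, 11, 4]) (r := 3) (C := C1473) (N := N1473) (by decide +kernel) (by decide +kernel) (by decide +kernel) (by decide +kernel)
    (allB_cons (bad1232 c) (allB_cons (bad1301 c) (allB_cons (bad1313 c) (allB_cons (bad1324 c) (allB_cons (bad1328 c) (allB_cons (bad1265 c) (allB_cons (bad1285 c) (allB_nil))))))))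

def P1474 : List Ent := [⟨1, [.a0], [.a0]⟩,
  ⟨2, [.a1], [.a1, .a2]⟩,
  ⟨4, [.a2], [.a2]⟩,
  ⟨8, [.a3], [.a3]⟩,
  ⟨32, [.a5], [.a5]⟩,
  ⟨64, [.a6], [.a6]⟩,
  ⟨128, [.a7, .a9], [.a7, .a8, .a9]⟩,
  ⟨256, [.a8], [.a8]⟩]
def B1474 : List Gv := [⟨[.a0], [.a0]⟩, ⟨[.a1], [.a1, .a2]⟩, ⟨[.a3], [.a3]⟩, ⟨[.a7, .a9], [.a7, .a8, .a9]⟩]
def D1474 : List Dv := [⟨[.a2], [1, 1], []⟩,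
  ⟨[.a5, .a6], [0, 4, 1], [1, 4]⟩,
  ⟨[.a6, .a8], [5, 3], [3, 5]⟩,
  ⟨[.a8], [0, 1, 6, 5], [5, 6]⟩,
  ⟨[.a6], [1], [0]⟩,
  ⟨[.a5], [3], [0]⟩]
def C1474 : List Ch := [⟨P1233, 0, [], []⟩,
  ⟨P1311, 1, [], []⟩,
  ⟨P1295, 0, [.a10], [.a10, .a11]⟩,
  ⟨P1339, 2, [], []⟩,
  ⟨P1339, 0, [.a7], [.a7, .a8]⟩,
  ⟨P1339, 1, [.a4], [.a4, .a5]⟩,
  ⟨P1339, 0, [.a4, .a6, .a7], [.a4, .a5, .a7, .a8]⟩,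
  ⟨P1321, 3, [], []⟩,
  ⟨P1329, 0, [.a10], [.a10, .a11]⟩,
  ⟨P1264, 1, [], []⟩,
  ⟨P1285, 0, [], []⟩,
  ⟨P1340, 2, [], []⟩,
  ⟨P1340, 0, [.a7], [.a7, .a8]⟩,
  ⟨P1340, 1, [.a4], [.a4, .a5]⟩,
  ⟨P1340, 0, [.a4, .a6, .a7], [.a4, .a5, .a7, .a8]⟩]
def S1474 : List St := [.cent 1 1 0 [⟨4, [.a2, .a3], [.a2, .a3]⟩,
  ⟨32, [.a5], [.a5]⟩],
  .cent 2 2 0 [⟨4, [.a2], [.a2]⟩,
  ⟨8, [.a3], [.a3]⟩,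
  ⟨32, [.a5], [.a5]⟩,
  ⟨64, [.a6], [.a6]⟩,
  ⟨256, [.a8], [.a8]⟩]]
theorem bad1474 (c : CtxF Goal γ) : Bad Goal γ [] P1474 :=
  c.toCtx.chn (B := B1474) (D := D1474) (I := [6, 7, 5, 8, 0, 1, 9, 2]) (r := 4) (C := C1474) (l := S1474) (x := ⟨[.a4], [.a4, .a5]⟩) (ix := [0]) (by decide +kernel) (by decide +kernel) (by decide +kernel) (by decide +kernel)
    (allB_cons (bad1233 c) (allB_cons (bad1311 c) (allB_cons (bad1295 c) (allB_cons (bad1339 c) (allB_cons (bad1339 c) (allB_cons (bad1339 c) (allB_cons (bad1339 c) (allB_cons (bad1321 c) (allB_cons (bad1329 c) (allB_cons (bad1264 c) (allB_cons (bad1285 c) (allB_cons (bad1340 c) (allB_cons (bad1340 c) (allB_cons (bad1340 c) (allB_cons (bad1340 c) (allB_nil))))))))))))))))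

def P1475 : List Ent := [⟨1, [.a0, .a9], [.a0, .a3, .a6, .a9]⟩,
  ⟨2, [.a1], [.a1, .a2]⟩,
  ⟨4, [.a2], [.a2]⟩,
  ⟨8, [.a3], [.a3]⟩,
  ⟨32, [.a5], [.a5]⟩,
  ⟨64, [.a6], [.a6]⟩,
  ⟨128, [.a7, .a9], [.a7, .a8, .a9]⟩,
  ⟨256, [.a8], [.a8]⟩]
def B1475 : List Gv := [⟨[.a0, .a9], [.a0, .a3, .a6, .a9]⟩, ⟨[.a1], [.a1, .a2]⟩, ⟨[.a7, .a9], [.a7, .a8, .a9]⟩]
def D1475 : List Dv := [⟨[.a3, .a6], [0, 0], []⟩,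
  ⟨[.a5, .a6, .a8], [2, 1], [1, 2]⟩,
  ⟨[.a2], [3, 3], []⟩,
  ⟨[.a8], [1, 0, 5, 3], [3, 5]⟩,
  ⟨[.a6, .a8], [6, 5], [5, 6]⟩,
  ⟨[.a6], [0], [1]⟩,
  ⟨[.a5], [4], [0, 2]⟩,
  ⟨[.a3], [6], [1]⟩]
def C1475 : List Ch := [⟨P1233, 0, [], []⟩,
  ⟨P1313, 1, [], []⟩,
  ⟨P1301, 0, [.a10], [.a10, .a11]⟩,
  ⟨P1322, 2, [], []⟩,
  ⟨P1330, 0, [.a10], [.a10, .a11]⟩,
  ⟨P1265, 1, [], []⟩,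
  ⟨P1284, 0, [], []⟩]
def N1475 : List Ent := [⟨1, [.a0, .a9], [.a0, .a3, .a6, .a9]⟩,
  ⟨2, [.a1], [.a1, .a2]⟩,
  ⟨4, [.a2], [.a2]⟩,
  ⟨8, [.a3], [.a3]⟩,
  ⟨16, [.a4], [.a4, .a5]⟩,
  ⟨32, [.a5], [.a5]⟩,
  ⟨64, [.a6], [.a6]⟩,
  ⟨128, [.a7, .a9], [.a7, .a8, .a9]⟩,
  ⟨256, [.a8], [.a8]⟩,
  ⟨512, [.a9], [.a9]⟩]
theorem bad1475 (c : CtxF Goal γ) : Bad Goal γ [] P1475 :=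
  c.toCtx.bnd (B := B1475) (D := D1475) (I := [8, 9, 5, 0, 1, 2, 10, 4]) (r := 3) (C := C1475) (N := N1475) (by decide +kernel) (by decide +kernel) (by decide +kernel) (by decide +kernel)
    (allB_cons (bad1233 c) (allB_cons (bad1313 c) (allB_cons (bad1301 c) (allB_cons (bad1322 c) (allB_cons (bad1330 c) (allB_cons (bad1265 c) (allB_cons (bad1284 c) (allB_nil))))))))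

def P1476 : List Ent := [⟨1, [.a0], [.a0]⟩,
  ⟨2, [.a1, .a9], [.a1, .a2, .a6, .a8, .a9]⟩,
  ⟨4, [.a2], [.a2]⟩,
  ⟨8, [.a3], [.a3]⟩,
  ⟨32, [.a5], [.a5]⟩,
  ⟨64, [.a6], [.a6]⟩,
  ⟨128, [.a7, .a9], [.a7, .a8, .a9]⟩,
  ⟨256, [.a8], [.a8]⟩]
def B1476 : List Gv := [⟨[.a0], [.a0]⟩, ⟨[.a1, .a9], [.a1, .a2, .a6, .a8, .a9]⟩, ⟨[.a7, .a9], [.a7, .a8, .a9]⟩]
def D1476 : List Dv := [⟨[.a3, .a5, .a6], [1, 0], [0, 1]⟩,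
  ⟨[.a2, .a5, .a6, .a8], [2, 2], []⟩,
  ⟨[.a8], [0, 4, 2], [2, 4]⟩,
  ⟨[.a6, .a8], [5, 4], [4, 5]⟩,
  ⟨[.a5], [3, 5], [5, 3]⟩,
  ⟨[.a6], [1], [2]⟩,
  ⟨[.a3], [5], [1, 0]⟩,
  ⟨[.a2], [5], [2, 1, 4]⟩]
def C1476 : List Ch := [⟨P1233, 0, [.a11], [.a11]⟩,
  ⟨P1311, 1, [], []⟩,
  ⟨P1301, 0, [.a10], [.a10, .a11]⟩,
  ⟨P1323, 2, [], []⟩,
  ⟨P1328, 0, [.a10], [.a10, .a11]⟩,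
  ⟨P1262, 1, [], []⟩,
  ⟨P1283, 0, [], []⟩]
def N1476 : List Ent := [⟨1, [.a0], [.a0]⟩,
  ⟨2, [.a1, .a9], [.a1, .a2, .a6, .a8, .a9]⟩,
  ⟨4, [.a2], [.a2]⟩,
  ⟨8, [.a3], [.a3]⟩,
  ⟨16, [.a4], [.a4, .a5]⟩,
  ⟨32, [.a5], [.a5]⟩,
  ⟨64, [.a6], [.a6]⟩,
  ⟨128, [.a7, .a9], [.a7, .a8, .a9]⟩,
  ⟨256, [.a8], [.a8]⟩,
  ⟨512, [.a9], [.a9]⟩]
theorem bad1476 (c : CtxF Goal γ) : Bad Goal γ [] P1476 :=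
  c.toCtx.bnd (B := B1476) (D := D1476) (I := [8, 9, 0, 1, 3, 2, 10, 5]) (r := 3) (C := C1476) (N := N1476) (by decide +kernel) (by decide +kernel) (by decide +kernel) (by decide +kernel)
    (allB_cons (bad1233 c) (allB_cons (bad1311 c) (allB_cons (bad1301 c) (allB_cons (bad1323 c) (allB_cons (bad1328 c) (allB_cons (bad1262 c) (allB_cons (bad1283 c) (allB_nil))))))))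

def P1477 : List Ent := [⟨1, [.a0, .a9], [.a0, .a3, .a6, .a9]⟩,
  ⟨2, [.a1, .a9], [.a1, .a2, .a6, .a8, .a9]⟩,
  ⟨4, [.a2], [.a2]⟩,
  ⟨8, [.a3], [.a3]⟩,
  ⟨32, [.a5], [.a5]⟩,
  ⟨64, [.a6], [.a6]⟩,
  ⟨128, [.a7, .a9], [.a7, .a8, .a9]⟩,
  ⟨256, [.a8], [.a8]⟩]
def B1477 : List Gv := [⟨[.a0, .a9], [.a0, .a3, .a6, .a9]⟩, ⟨[.a1, .a9], [.a1, .a2, .a6, .a8, .a9]⟩, ⟨[.a7, .a9], [.a7, .a8, .a9]⟩]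
def D1477 : List Dv := [⟨[.a3, .a6], [0, 0], []⟩,
  ⟨[.a6, .a8], [0, 2, 1], [1, 2]⟩,
  ⟨[.a2, .a5, .a6, .a8], [3, 3], []⟩,
  ⟨[.a8], [0, 5, 3], [3, 5]⟩,
  ⟨[.a5], [3, 5], [5, 3]⟩,
  ⟨[.a6], [3], [1]⟩,
  ⟨[.a3], [5], [0]⟩,
  ⟨[.a2], [4], [2, 1, 3]⟩]
def C1477 : List Ch := [⟨P1233, 0, [.a11], [.a11]⟩,
  ⟨P1313, 1, [], []⟩,
  ⟨P1295, 0, [.a10], [.a10, .a11]⟩,
  ⟨P1324, 2, [], []⟩,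
  ⟨P1327, 0, [.a10], [.a10, .a11]⟩,
  ⟨P1263, 1, [], []⟩,
  ⟨P1282, 0, [], []⟩]
def N1477 : List Ent := [⟨1, [.a0, .a9], [.a0, .a3, .a6, .a9]⟩,
  ⟨2, [.a1, .a9], [.a1, .a2, .a6, .a8, .a9]⟩,
  ⟨4, [.a2], [.a2]⟩,
  ⟨8, [.a3], [.a3]⟩,
  ⟨16, [.a4], [.a4, .a5]⟩,
  ⟨32, [.a5], [.a5]⟩,
  ⟨64, [.a6], [.a6]⟩,
  ⟨128, [.a7, .a9], [.a7, .a8, .a9]⟩,
  ⟨256, [.a8], [.a8]⟩,
  ⟨512, [.a9], [.a9]⟩]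
theorem bad1477 (c : CtxF Goal γ) : Bad Goal γ [] P1477 :=
  c.toCtx.bnd (B := B1477) (D := D1477) (I := [8, 9, 0, 1, 3, 2, 10, 4]) (r := 3) (C := C1477) (N := N1477) (by decide +kernel) (by decide +kernel) (by decide +kernel) (by decide +kernel)
    (allB_cons (bad1233 c) (allB_cons (bad1313 c) (allB_cons (bad1295 c) (allB_cons (bad1324 c) (allB_cons (bad1327 c) (allB_cons (bad1263 c) (allB_cons (bad1282 c) (allB_nil))))))))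

def P1478 : List Ent := [⟨1, [.a0], [.a0]⟩,
  ⟨2, [.a1], [.a1, .a2]⟩,
  ⟨4, [.a2], [.a2]⟩,
  ⟨8, [.a3], [.a3]⟩,
  ⟨16, [.a4], [.a4, .a5]⟩,
  ⟨32, [.a5], [.a5]⟩,
  ⟨64, [.a6], [.a6]⟩,
  ⟨256, [.a8], [.a8]⟩]
def B1478 : List Gv := [⟨[.a0], [.a0]⟩, ⟨[.a1], [.a1, .a2]⟩, ⟨[.a4], [.a4, .a5]⟩, ⟨[.a6], [.a6]⟩, ⟨[.a8], [.a8]⟩]
def D1478 : List Dv := [⟨[.a2], [1, 1], []⟩,
  ⟨[.a3], [3, 2], [2, 3]⟩,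
  ⟨[.a5], [4, 4], []⟩]
def C1478 : List Ch := [⟨P1236, 0, [], []⟩,
  ⟨P1312, 1, [], []⟩,
  ⟨P1314, 0, [.a10, .a11], [.a10]⟩,
  ⟨P1321, 2, [], []⟩,
  ⟨P1328, 0, [.a10, .a11], [.a10]⟩,
  ⟨P1263, 1, [.a10, .a11], [.a10]⟩,
  ⟨P1284, 0, [.a10], [.a10, .a11]⟩,
  ⟨P1341, 3, [], []⟩,
  ⟨P1342, 0, [], []⟩,
  ⟨P1342, 1, [.a9], [.a9]⟩,
  ⟨P1341, 0, [.a9], [.a9]⟩,
  ⟨P1341, 2, [.a7], [.a7, .a8]⟩,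
  ⟨P1342, 0, [.a7], [.a7, .a8]⟩,
  ⟨P1342, 1, [.a7, .a9], [.a7, .a8, .a9]⟩,
  ⟨P1341, 0, [.a7, .a9], [.a7, .a8, .a9]⟩,
  ⟨P1343, 4, [], []⟩,
  ⟨P1344, 0, [], []⟩,
  ⟨P1345, 1, [], []⟩,
  ⟨P1346, 0, [], []⟩,
  ⟨P1345, 2, [.a9], [.a9]⟩,
  ⟨P1346, 0, [.a9], [.a9]⟩,
  ⟨P1343, 1, [.a9], [.a9]⟩,
  ⟨P1344, 0, [.a9], [.a9]⟩,
  ⟨P1347, 3, [], []⟩,
  ⟨P1347, 0, [.a7, .a9], [.a7, .a8, .a9]⟩,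
  ⟨P1348, 1, [], []⟩,
  ⟨P1348, 0, [.a7, .a9], [.a7, .a8, .a9]⟩,
  ⟨P1347, 2, [.a7], [.a7, .a8]⟩,
  ⟨P1347, 0, [.a9], [.a9]⟩,
  ⟨P1348, 1, [.a7], [.a7, .a8]⟩,
  ⟨P1348, 0, [.a9], [.a9]⟩]
def S1478 : List St := [.om 1 [⟨1, [.a0], [.a0]⟩,
  ⟨4, [.a2], [.a2]⟩,
  ⟨8, [.a3], [.a3]⟩,
  ⟨32, [.a5], [.a5]⟩,
  ⟨64, [.a6], [.a6]⟩,
  ⟨256, [.a8], [.a8]⟩] [[[.a0]], [[.a2]], [[.a3]], [[.a5]], [[.a6]], [[.a8]]],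
  .cent 2 0 1 [⟨4, [.a2], [.a2]⟩,
  ⟨8, [.a3], [.a3]⟩,
  ⟨32, [.a5], [.a5]⟩,
  ⟨64, [.a6], [.a6]⟩],
  .phi 1 [⟨32, [.a5], [.a5]⟩] [[[.a0, .a8]]]]
theorem bad1478 (c : CtxF Goal γ) : Bad Goal γ [] P1478 :=
  c.toCtx.chn (B := B1478) (D := D1478) (I := [3, 4, 2, 1, 5, 0, 6, 7]) (r := 5) (C := C1478) (l := S1478) (x := ⟨[.a7], [.a7, .a8]⟩) (ix := [1, 0]) (by decide +kernel) (by decide +kernel) (by decide +kernel) (by decide +kernel)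
    (allB_cons (bad1236 c) (allB_cons (bad1312 c) (allB_cons (bad1314 c) (allB_cons (bad1321 c) (allB_cons (bad1328 c) (allB_cons (bad1263 c) (allB_cons (bad1284 c) (allB_cons (bad1341 c) (allB_cons (bad1342 c) (allB_cons (bad1342 c) (allB_cons (bad1341 c) (allB_cons (bad1341 c) (allB_cons (bad1342 c) (allB_cons (bad1342 c) (allB_cons (bad1341 c) (allB_cons (bad1343 c) (allB_cons (bad1344 c) (allB_cons (bad1345 c) (allB_cons (bad1346 c) (allB_cons (bad1345 c) (allB_cons (bad1346 c) (allB_cons (bad1343 c) (allB_cons (bad1344 c) (allB_cons (bad1347 c) (allB_cons (bad1347 c) (allB_cons (bad1348 c) (allB_cons (bad1348 c) (allB_cons (bad1347 c) (allB_cons (bad1347 c) (allB_cons (bad1348 c) (allB_cons (bad1348 c) (allB_nil))))))))))))))))))))))))))))))))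

def P1479 : List Ent := [⟨1, [.a0, .a9], [.a0, .a3, .a6, .a9]⟩,
  ⟨2, [.a1], [.a1, .a2]⟩,
  ⟨4, [.a2], [.a2]⟩,
  ⟨8, [.a3], [.a3]⟩,
  ⟨16, [.a4], [.a4, .a5]⟩,
  ⟨32, [.a5], [.a5]⟩,
  ⟨64, [.a6], [.a6]⟩,
  ⟨256, [.a8], [.a8]⟩]
def B1479 : List Gv := [⟨[.a0, .a9], [.a0, .a3, .a6, .a9]⟩, ⟨[.a1], [.a1, .a2]⟩, ⟨[.a4], [.a4, .a5]⟩]
def D1479 : List Dv := [⟨[.a3, .a6], [0, 0], []⟩,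
  ⟨[.a5, .a6, .a8], [2, 1], [1, 2]⟩,
  ⟨[.a2], [3, 3], []⟩,
  ⟨[.a6], [1, 0, 5, 3], [3, 5]⟩,
  ⟨[.a8], [0, 2, 6, 6], []⟩,
  ⟨[.a5], [3], [1, 0]⟩,
  ⟨[.a3], [5], [2]⟩]
def C1479 : List Ch := [⟨P1236, 0, [], []⟩,
  ⟨P1314, 1, [], []⟩,
  ⟨P1312, 0, [.a10, .a11], [.a10]⟩,
  ⟨P1322, 2, [], []⟩,
  ⟨P1327, 0, [.a10, .a11], [.a10]⟩,
  ⟨P1262, 1, [.a10, .a11], [.a10]⟩,
  ⟨P1285, 0, [.a10], [.a10, .a11]⟩]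
def N1479 : List Ent := [⟨1, [.a0, .a9], [.a0, .a3, .a6, .a9]⟩,
  ⟨2, [.a1], [.a1, .a2]⟩,
  ⟨4, [.a2], [.a2]⟩,
  ⟨8, [.a3], [.a3]⟩,
  ⟨16, [.a4], [.a4, .a5]⟩,
  ⟨32, [.a5], [.a5]⟩,
  ⟨64, [.a6], [.a6]⟩,
  ⟨128, [.a7], [.a7, .a8]⟩,
  ⟨256, [.a8], [.a8]⟩,
  ⟨512, [.a9], [.a9]⟩]
theorem bad1479 (c : CtxF Goal γ) : Bad Goal γ [] P1479 :=
  c.toCtx.bnd (B := B1479) (D := D1479) (I := [7, 8, 4, 0, 9, 1, 3, 2]) (r := 3) (C := C1479) (N := N1479) (by decide +kernel) (by decide +kernel) (by decide +kernel) (by decide +kernel)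
    (allB_cons (bad1236 c) (allB_cons (bad1314 c) (allB_cons (bad1312 c) (allB_cons (bad1322 c) (allB_cons (bad1327 c) (allB_cons (bad1262 c) (allB_cons (bad1285 c) (allB_nil))))))))

def P1480 : List Ent := [⟨1, [.a0], [.a0]⟩,
  ⟨2, [.a1, .a9], [.a1, .a2, .a6, .a8, .a9]⟩,
  ⟨4, [.a2], [.a2]⟩,
  ⟨8, [.a3], [.a3]⟩,
  ⟨16, [.a4], [.a4, .a5]⟩,
  ⟨32, [.a5], [.a5]⟩,
  ⟨64, [.a6], [.a6]⟩,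
  ⟨256, [.a8], [.a8]⟩]
def B1480 : List Gv := [⟨[.a0], [.a0]⟩, ⟨[.a1, .a9], [.a1, .a2, .a6, .a8, .a9]⟩, ⟨[.a3], [.a3]⟩, ⟨[.a4], [.a4, .a5]⟩]
def D1480 : List Dv := [⟨[.a5, .a6], [2, 1, 0], [0, 1]⟩,
  ⟨[.a2, .a5, .a6, .a8], [2, 2], []⟩,
  ⟨[.a8], [1, 0, 5, 2], [2, 5]⟩,
  ⟨[.a6], [2, 6, 6], []⟩,
  ⟨[.a5], [3], [0]⟩,
  ⟨[.a2], [3], [0, 1, 2]⟩]
def C1480 : List Ch := [⟨P1236, 0, [.a11], [.a11]⟩,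
  ⟨P1312, 1, [], []⟩,
  ⟨P1312, 0, [.a10, .a11], [.a10]⟩,
  ⟨P1349, 2, [], []⟩,
  ⟨P1349, 0, [.a1, .a7], [.a1, .a2, .a7, .a8]⟩,
  ⟨P1350, 1, [], []⟩,
  ⟨P1350, 0, [.a1, .a7], [.a1, .a2, .a7, .a8]⟩,
  ⟨P1323, 3, [], []⟩,
  ⟨P1329, 0, [.a10, .a11], [.a10]⟩,
  ⟨P1264, 1, [.a10, .a11], [.a10]⟩,
  ⟨P1283, 0, [.a10], [.a10, .a11]⟩,
  ⟨P1349, 2, [.a1], [.a1, .a2]⟩,
  ⟨P1349, 0, [.a7], [.a7, .a8]⟩,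
  ⟨P1350, 1, [.a1], [.a1, .a2]⟩,
  ⟨P1350, 0, [.a7], [.a7, .a8]⟩]
def S1480 : List St := [.cent 1 1 0 [⟨4, [.a2, .a6], [.a2, .a6]⟩,
  ⟨8, [.a3], [.a3]⟩,
  ⟨32, [.a5], [.a5]⟩],
  .phi 2 [⟨4, [.a2], [.a2]⟩,
  ⟨8, [.a3, .a8], [.a3, .a8]⟩,
  ⟨32, [.a5], [.a5]⟩,
  ⟨64, [.a6, .a8], [.a6, .a8]⟩] [[[.a0, .a4, .a8]], [[.a0, .a4, .a8], [.a0, .a1, .a9]], [[.a4]], [[.a0, .a4, .a8], [.a1, .a2, .a9]]],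
  .cent 3 3 1 [⟨4, [.a2], [.a2]⟩,
  ⟨8, [.a3], [.a3]⟩,
  ⟨32, [.a5], [.a5]⟩,
  ⟨64, [.a6], [.a6]⟩,
  ⟨256, [.a8], [.a8]⟩],
  .comm 1 4 [⟨32, [.a5], [.a5]⟩] [⟨[.a3, .a8], [.a0]⟩]]
theorem bad1480 (c : CtxF Goal γ) : Bad Goal γ [] P1480 :=
  c.toCtx.chn (B := B1480) (D := D1480) (I := [6, 7, 0, 8, 9, 1, 2, 3]) (r := 4) (C := C1480) (l := S1480) (x := ⟨[.a9], [.a9]⟩) (ix := [1, 0]) (by decide +kernel) (by decide +kernel) (by decide +kernel) (by decide +kernel)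
    (allB_cons (bad1236 c) (allB_cons (bad1312 c) (allB_cons (bad1312 c) (allB_cons (bad1349 c) (allB_cons (bad1349 c) (allB_cons (bad1350 c) (allB_cons (bad1350 c) (allB_cons (bad1323 c) (allB_cons (bad1329 c) (allB_cons (bad1264 c) (allB_cons (bad1283 c) (allB_cons (bad1349 c) (allB_cons (bad1349 c) (allB_cons (bad1350 c) (allB_cons (bad1350 c) (allB_nil))))))))))))))))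

def P1481 : List Ent := [⟨1, [.a0, .a9], [.a0, .a3, .a6, .a9]⟩,
  ⟨2, [.a1, .a9], [.a1, .a2, .a6, .a8, .a9]⟩,
  ⟨4, [.a2], [.a2]⟩,
  ⟨8, [.a3], [.a3]⟩,
  ⟨16, [.a4], [.a4, .a5]⟩,
  ⟨32, [.a5], [.a5]⟩,
  ⟨64, [.a6], [.a6]⟩,
  ⟨256, [.a8], [.a8]⟩]
def B1481 : List Gv := [⟨[.a0, .a9], [.a0, .a3, .a6, .a9]⟩, ⟨[.a1, .a9], [.a1, .a2, .a6, .a8, .a9]⟩, ⟨[.a4], [.a4, .a5]⟩]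
def D1481 : List Dv := [⟨[.a3, .a6], [0, 0], []⟩,
  ⟨[.a6, .a8], [0, 2, 1], [1, 2]⟩,
  ⟨[.a2, .a5, .a6, .a8], [3, 3], []⟩,
  ⟨[.a8], [1, 0, 5, 3], [3, 5]⟩,
  ⟨[.a5], [6, 6], []⟩,
  ⟨[.a6], [3], [1]⟩,
  ⟨[.a3], [5], [0]⟩,
  ⟨[.a2], [4], [2, 1, 3]⟩]
def C1481 : List Ch := [⟨P1236, 0, [.a11], [.a11]⟩,
  ⟨P1314, 1, [], []⟩,
  ⟨P1314, 0, [.a10, .a11], [.a10]⟩,
  ⟨P1324, 2, [], []⟩,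
  ⟨P1330, 0, [.a10, .a11], [.a10]⟩,
  ⟨P1265, 1, [.a10, .a11], [.a10]⟩,
  ⟨P1282, 0, [.a10], [.a10, .a11]⟩]
def N1481 : List Ent := [⟨1, [.a0, .a9], [.a0, .a3, .a6, .a9]⟩,
  ⟨2, [.a1, .a9], [.a1, .a2, .a6, .a8, .a9]⟩,
  ⟨4, [.a2], [.a2]⟩,
  ⟨8, [.a3], [.a3]⟩,
  ⟨16, [.a4], [.a4, .a5]⟩,
  ⟨32, [.a5], [.a5]⟩,
  ⟨64, [.a6], [.a6]⟩,
  ⟨128, [.a7], [.a7, .a8]⟩,
  ⟨256, [.a8], [.a8]⟩,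
  ⟨512, [.a9], [.a9]⟩]
theorem bad1481 (c : CtxF Goal γ) : Bad Goal γ [] P1481 :=
  c.toCtx.bnd (B := B1481) (D := D1481) (I := [8, 9, 0, 1, 10, 3, 2, 4]) (r := 3) (C := C1481) (N := N1481) (by decide +kernel) (by decide +kernel) (by decide +kernel) (by decide +kernel)
    (allB_cons (bad1236 c) (allB_cons (bad1314 c) (allB_cons (bad1314 c) (allB_cons (bad1324 c) (allB_cons (bad1330 c) (allB_cons (bad1265 c) (allB_cons (bad1282 c) (allB_nil))))))))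

def P1482 : List Ent := [⟨1, [.a0], [.a0]⟩,
  ⟨2, [.a1], [.a1, .a2]⟩,
  ⟨4, [.a2], [.a2]⟩,
  ⟨8, [.a3], [.a3]⟩,
  ⟨16, [.a4, .a9], [.a4, .a5, .a8, .a9]⟩,
  ⟨32, [.a5], [.a5]⟩,
  ⟨64, [.a6], [.a6]⟩,
  ⟨256, [.a8], [.a8]⟩]
def B1482 : List Gv := [⟨[.a0], [.a0]⟩, ⟨[.a1], [.a1, .a2]⟩, ⟨[.a3], [.a3]⟩, ⟨[.a4, .a9], [.a4, .a5, .a8, .a9]⟩]
def D1482 : List Dv := [⟨[.a2], [1, 1], []⟩,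
  ⟨[.a6], [3, 0, 4, 1], [1, 4]⟩,
  ⟨[.a8], [0, 4, 5, 3], [3, 5]⟩,
  ⟨[.a5, .a8], [6, 6], []⟩,
  ⟨[.a5], [0], [1]⟩]
def C1482 : List Ch := [⟨P1237, 0, [], []⟩,
  ⟨P1296, 1, [], []⟩,
  ⟨P1296, 0, [.a10, .a11], [.a10]⟩,
  ⟨P1351, 2, [], []⟩,
  ⟨P1352, 0, [], []⟩,
  ⟨P1351, 1, [.a4], [.a4, .a5]⟩,
  ⟨P1352, 0, [.a4], [.a4, .a5]⟩,
  ⟨P1321, 3, [], []⟩,
  ⟨P1327, 0, [.a10, .a11], [.a10]⟩,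
  ⟨P1264, 1, [.a10, .a11], [.a10]⟩,
  ⟨P1282, 0, [.a10], [.a10, .a11]⟩,
  ⟨P1352, 2, [.a7], [.a7, .a8]⟩,
  ⟨P1351, 0, [.a7], [.a7, .a8]⟩,
  ⟨P1352, 1, [.a4, .a6, .a7], [.a4, .a5, .a7, .a8]⟩,
  ⟨P1351, 0, [.a4, .a6, .a7], [.a4, .a5, .a7, .a8]⟩]
def S1482 : List St := [.cent 1 1 0 [⟨8, [.a3], [.a3]⟩,
  ⟨32, [.a5], [.a5]⟩],
  .phi 2 [⟨4, [.a2], [.a2]⟩,
  ⟨8, [.a3, .a6], [.a3, .a6]⟩,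
  ⟨32, [.a5], [.a5]⟩,
  ⟨256, [.a8], [.a8]⟩] [[[.a1]], [[.a1], [.a1, .a4, .a9]], [[.a0, .a8]], [[.a2, .a4, .a9]]],
  .cent 3 3 1 [⟨4, [.a2], [.a2]⟩,
  ⟨8, [.a3], [.a3]⟩,
  ⟨32, [.a5], [.a5]⟩,
  ⟨64, [.a6], [.a6]⟩,
  ⟨256, [.a8], [.a8]⟩],
  .comm 1 4 [⟨32, [.a5], [.a5]⟩] [⟨[.a8], [.a0]⟩]]
theorem bad1482 (c : CtxF Goal γ) : Bad Goal γ [] P1482 :=
  c.toCtx.chn (B := B1482) (D := D1482) (I := [5, 6, 4, 7, 8, 0, 3, 2]) (r := 4) (C := C1482) (l := S1482) (x := ⟨[.a9], [.a9]⟩) (ix := [1, 0]) (by decide +kernel) (by decide +kernel) (by decide +kernel) (by decide +kernel)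
    (allB_cons (bad1237 c) (allB_cons (bad1296 c) (allB_cons (bad1296 c) (allB_cons (bad1351 c) (allB_cons (bad1352 c) (allB_cons (bad1351 c) (allB_cons (bad1352 c) (allB_cons (bad1321 c) (allB_cons (bad1327 c) (allB_cons (bad1264 c) (allB_cons (bad1282 c) (allB_cons (bad1352 c) (allB_cons (bad1351 c) (allB_cons (bad1352 c) (allB_cons (bad1351 c) (allB_nil))))))))))))))))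

def P1483 : List Ent := [⟨1, [.a0, .a9], [.a0, .a3, .a6, .a9]⟩,
  ⟨2, [.a1], [.a1, .a2]⟩,
  ⟨4, [.a2], [.a2]⟩,
  ⟨8, [.a3], [.a3]⟩,
  ⟨16, [.a4, .a9], [.a4, .a5, .a8, .a9]⟩,
  ⟨32, [.a5], [.a5]⟩,
  ⟨64, [.a6], [.a6]⟩,
  ⟨256, [.a8], [.a8]⟩]
def B1483 : List Gv := [⟨[.a0, .a9], [.a0, .a3, .a6, .a9]⟩, ⟨[.a1], [.a1, .a2]⟩, ⟨[.a4, .a9], [.a4, .a5, .a8, .a9]⟩]
def D1483 : List Dv := [⟨[.a3, .a6], [0, 0], []⟩,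
  ⟨[.a5, .a6, .a8], [2, 1], [1, 2]⟩,
  ⟨[.a2], [3, 3], []⟩,
  ⟨[.a6], [1, 2, 0, 5, 3], [3, 5]⟩,
  ⟨[.a8], [3, 6, 5], [5, 6]⟩,
  ⟨[.a5], [3], [1, 0]⟩,
  ⟨[.a3], [5], [2]⟩]
def C1483 : List Ch := [⟨P1237, 0, [], []⟩,
  ⟨P1302, 1, [], []⟩,
  ⟨P1302, 0, [.a10, .a11], [.a10]⟩,
  ⟨P1322, 2, [], []⟩,
  ⟨P1328, 0, [.a10, .a11], [.a10]⟩,
  ⟨P1265, 1, [.a10, .a11], [.a10]⟩,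
  ⟨P1283, 0, [.a10], [.a10, .a11]⟩]
def N1483 : List Ent := [⟨1, [.a0, .a9], [.a0, .a3, .a6, .a9]⟩,
  ⟨2, [.a1], [.a1, .a2]⟩,
  ⟨4, [.a2], [.a2]⟩,
  ⟨8, [.a3], [.a3]⟩,
  ⟨16, [.a4, .a9], [.a4, .a5, .a8, .a9]⟩,
  ⟨32, [.a5], [.a5]⟩,
  ⟨64, [.a6], [.a6]⟩,
  ⟨128, [.a7], [.a7, .a8]⟩,
  ⟨256, [.a8], [.a8]⟩,
  ⟨512, [.a9], [.a9]⟩]
theorem bad1483 (c : CtxF Goal γ) : Bad Goal γ [] P1483 :=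
  c.toCtx.bnd (B := B1483) (D := D1483) (I := [7, 8, 4, 0, 9, 1, 3, 2]) (r := 3) (C := C1483) (N := N1483) (by decide +kernel) (by decide +kernel) (by decide +kernel) (by decide +kernel)
    (allB_cons (bad1237 c) (allB_cons (bad1302 c) (allB_cons (bad1302 c) (allB_cons (bad1322 c) (allB_cons (bad1328 c) (allB_cons (bad1265 c) (allB_cons (bad1283 c) (allB_nil))))))))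

def P1484 : List Ent := [⟨1, [.a0], [.a0]⟩,
  ⟨2, [.a1, .a9], [.a1, .a2, .a6, .a8, .a9]⟩,
  ⟨4, [.a2], [.a2]⟩,
  ⟨8, [.a3], [.a3]⟩,
  ⟨16, [.a4, .a9], [.a4, .a5, .a8, .a9]⟩,
  ⟨32, [.a5], [.a5]⟩,
  ⟨64, [.a6], [.a6]⟩,
  ⟨256, [.a8], [.a8]⟩]
def B1484 : List Gv := [⟨[.a0], [.a0]⟩, ⟨[.a1, .a9], [.a1, .a2, .a6, .a8, .a9]⟩, ⟨[.a4, .a9], [.a4, .a5, .a8, .a9]⟩]
def D1484 : List Dv := [⟨[.a3, .a5, .a6], [1, 0], [0, 1]⟩,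
  ⟨[.a2, .a5, .a6, .a8], [2, 2], []⟩,
  ⟨[.a6, .a8], [1, 0, 4, 2], [2, 4]⟩,
  ⟨[.a5], [2, 5, 4], [4, 5]⟩,
  ⟨[.a8], [0, 6, 6], []⟩,
  ⟨[.a6], [2], [0]⟩,
  ⟨[.a3], [5], [2, 0]⟩,
  ⟨[.a2], [5], [3, 1, 2]⟩]
def C1484 : List Ch := [⟨P1237, 0, [.a11], [.a11]⟩,
  ⟨P1296, 1, [], []⟩,
  ⟨P1302, 0, [.a10, .a11], [.a10]⟩,
  ⟨P1323, 2, [], []⟩,
  ⟨P1330, 0, [.a10, .a11], [.a10]⟩,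
  ⟨P1263, 1, [.a10, .a11], [.a10]⟩,
  ⟨P1285, 0, [.a10], [.a10, .a11]⟩]
def N1484 : List Ent := [⟨1, [.a0], [.a0]⟩,
  ⟨2, [.a1, .a9], [.a1, .a2, .a6, .a8, .a9]⟩,
  ⟨4, [.a2], [.a2]⟩,
  ⟨8, [.a3], [.a3]⟩,
  ⟨16, [.a4, .a9], [.a4, .a5, .a8, .a9]⟩,
  ⟨32, [.a5], [.a5]⟩,
  ⟨64, [.a6], [.a6]⟩,
  ⟨128, [.a7], [.a7, .a8]⟩,
  ⟨256, [.a8], [.a8]⟩,
  ⟨512, [.a9], [.a9]⟩]
theorem bad1484 (c : CtxF Goal γ) : Bad Goal γ [] P1484 :=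
  c.toCtx.bnd (B := B1484) (D := D1484) (I := [8, 9, 0, 1, 10, 4, 2, 3]) (r := 3) (C := C1484) (N := N1484) (by decide +kernel) (by decide +kernel) (by decide +kernel) (by decide +kernel)
    (allB_cons (bad1237 c) (allB_cons (bad1296 c) (allB_cons (bad1302 c) (allB_cons (bad1323 c) (allB_cons (bad1330 c) (allB_cons (bad1263 c) (allB_cons (bad1285 c) (allB_nil))))))))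

def P1485 : List Ent := [⟨1, [.a0, .a9], [.a0, .a3, .a6, .a9]⟩,
  ⟨2, [.a1, .a9], [.a1, .a2, .a6, .a8, .a9]⟩,
  ⟨4, [.a2], [.a2]⟩,
  ⟨8, [.a3], [.a3]⟩,
  ⟨16, [.a4, .a9], [.a4, .a5, .a8, .a9]⟩,
  ⟨32, [.a5], [.a5]⟩,
  ⟨64, [.a6], [.a6]⟩,
  ⟨256, [.a8], [.a8]⟩]
def B1485 : List Gv := [⟨[.a0, .a9], [.a0, .a3, .a6, .a9]⟩, ⟨[.a1, .a9], [.a1, .a2, .a6, .a8, .a9]⟩, ⟨[.a4, .a9], [.a4, .a5, .a8, .a9]⟩]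
def D1485 : List Dv := [⟨[.a3, .a6], [0, 0], []⟩,
  ⟨[.a6, .a8], [0, 2, 1], [1, 2]⟩,
  ⟨[.a2, .a5, .a6, .a8], [3, 3], []⟩,
  ⟨[.a8], [1, 2, 0, 5, 3], [3, 5]⟩,
  ⟨[.a5, .a8], [6, 6], []⟩,
  ⟨[.a6], [3], [1]⟩,
  ⟨[.a5], [1], [2]⟩,
  ⟨[.a3], [6], [1]⟩,
  ⟨[.a2], [5], [1, 2, 4]⟩]
def C1485 : List Ch := [⟨P1237, 0, [.a11], [.a11]⟩,
  ⟨P1302, 1, [], []⟩,
  ⟨P1296, 0, [.a10, .a11], [.a10]⟩,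
  ⟨P1324, 2, [], []⟩,
  ⟨P1329, 0, [.a10, .a11], [.a10]⟩,
  ⟨P1262, 1, [.a10, .a11], [.a10]⟩,
  ⟨P1284, 0, [.a10], [.a10, .a11]⟩]
def N1485 : List Ent := [⟨1, [.a0, .a9], [.a0, .a3, .a6, .a9]⟩,
  ⟨2, [.a1, .a9], [.a1, .a2, .a6, .a8, .a9]⟩,
  ⟨4, [.a2], [.a2]⟩,
  ⟨8, [.a3], [.a3]⟩,
  ⟨16, [.a4, .a9], [.a4, .a5, .a8, .a9]⟩,
  ⟨32, [.a5], [.a5]⟩,
  ⟨64, [.a6], [.a6]⟩,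
  ⟨128, [.a7], [.a7, .a8]⟩,
  ⟨256, [.a8], [.a8]⟩,
  ⟨512, [.a9], [.a9]⟩]
theorem bad1485 (c : CtxF Goal γ) : Bad Goal γ [] P1485 :=
  c.toCtx.bnd (B := B1485) (D := D1485) (I := [9, 10, 0, 1, 11, 2, 3, 5]) (r := 3) (C := C1485) (N := N1485) (by decide +kernel) (by decide +kernel) (by decide +kernel) (by decide +kernel)
    (allB_cons (bad1237 c) (allB_cons (bad1302 c) (allB_cons (bad1296 c) (allB_cons (bad1324 c) (allB_cons (bad1329 c) (allB_cons (bad1262 c) (allB_cons (bad1284 c) (allB_nil))))))))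

def P1486 : List Ent := [⟨1, [.a0, .a10], [.a0, .a1, .a2, .a3, .a4, .a6, .a8, .a9, .a10, .a11]⟩,
  ⟨2, [.a1, .a11], [.a1, .a2, .a5, .a6, .a9, .a11]⟩,
  ⟨4, [.a2, .a9], [.a2, .a5, .a9]⟩,
  ⟨8, [.a3], [.a3]⟩,
  ⟨32, [.a5], [.a5]⟩,
  ⟨64, [.a6], [.a6]⟩,
  ⟨128, [.a7, .a9], [.a7, .a8, .a9]⟩,
  ⟨256, [.a8], [.a8]⟩]
def B1486 : List Gv := [⟨[.a0, .a10], [.a0, .a1, .a2, .a3, .a4, .a6, .a8, .a9, .a10, .a11]⟩, ⟨[.a1, .a11], [.a1, .a2, .a5, .a6, .a9, .a11]⟩]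
def D1486 : List Dv := [⟨[.a2, .a3, .a6, .a7, .a8], [1, 0, 0], []⟩,
  ⟨[.a7, .a8, .a9], [0, 2, 1], [1, 2]⟩,
  ⟨[.a3, .a5, .a6, .a7, .a9], [1, 3, 3], []⟩,
  ⟨[.a8], [1, 2, 2, 3], [3, 2]⟩,
  ⟨[.a5, .a6], [3, 5], [5, 3]⟩,
  ⟨[.a6, .a8], [0, 4, 4], []⟩,
  ⟨[.a7, .a9], [4], [2]⟩,
  ⟨[.a6], [1], [3]⟩,
  ⟨[.a5], [3], [0]⟩,
  ⟨[.a3], [6], [0, 1, 2]⟩,
  ⟨[.a2, .a9], [9], [0, 2, 3, 6]⟩]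
def C1486 : List Ch := [⟨P1235, 0, [], []⟩,
  ⟨P1270, 1, [], []⟩,
  ⟨P1286, 0, [], []⟩]
def S1486 : List St := [.om 1 [⟨8, [.a3], [.a3]⟩,
  ⟨32, [.a5], [.a5]⟩,
  ⟨64, [.a6], [.a6]⟩,
  ⟨256, [.a8], [.a8]⟩] [[[.a3]], [[.a5]], [[.a6]], [[.a8]]]]
theorem bad1486 (c : CtxF Goal γ) : Bad Goal γ [] P1486 :=
  c.toCtx.chn (B := B1486) (D := D1486) (I := [11, 12, 0, 1, 2, 3, 4, 7]) (r := 2) (C := C1486) (l := S1486) (x := ⟨[.a9], [.a9]⟩) (ix := [0]) (by decide +kernel) (by decide +kernel) (by decide +kernel) (by decide +kernel)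
    (allB_cons (bad1235 c) (allB_cons (bad1270 c) (allB_cons (bad1286 c) (allB_nil))))

def P1487 : List Ent := [⟨1, [.a0, .a10], [.a0, .a1, .a2, .a3, .a4, .a6, .a8, .a9, .a10, .a11]⟩,
  ⟨2, [.a1, .a9, .a11], [.a1, .a2, .a5, .a8, .a11]⟩,
  ⟨4, [.a2, .a9], [.a2, .a5, .a9]⟩,
  ⟨8, [.a3], [.a3]⟩,
  ⟨32, [.a5], [.a5]⟩,
  ⟨64, [.a6], [.a6]⟩,
  ⟨128, [.a7], [.a7, .a8]⟩,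
  ⟨256, [.a8], [.a8]⟩]
def B1487 : List Gv := [⟨[.a0, .a10], [.a0, .a1, .a2, .a3, .a4, .a6, .a8, .a9, .a10, .a11]⟩, ⟨[.a1, .a9, .a11], [.a1, .a2, .a5, .a8, .a11]⟩, ⟨[.a3], [.a3]⟩]
def D1487 : List Dv := [⟨[.a2, .a3, .a5, .a7, .a9], [1, 0, 0], []⟩,
  ⟨[.a7, .a8], [3, 0, 2, 1], [1, 2]⟩,
  ⟨[.a6, .a7], [4, 1, 3, 3], []⟩,
  ⟨[.a5, .a6], [5, 3], [3, 5]⟩,
  ⟨[.a8], [6, 5], [5, 6]⟩,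
  ⟨[.a7], [3], [0]⟩,
  ⟨[.a6], [3], [0]⟩,
  ⟨[.a5], [3], [0]⟩,
  ⟨[.a2, .a9], [7], [10, 0, 2]⟩]
def C1487 : List Ch := [⟨P1234, 0, [.a1], [.a1, .a2]⟩,
  ⟨P1270, 1, [], []⟩,
  ⟨P1286, 0, [.a4], [.a4, .a5]⟩,
  ⟨P1353, 2, [], []⟩,
  ⟨P1353, 0, [.a9], [.a9]⟩,
  ⟨P1354, 1, [], []⟩,
  ⟨P1354, 0, [.a9], [.a9]⟩]
def S1487 : List St := [.om 1 [⟨8, [.a3], [.a3]⟩,
  ⟨32, [.a5], [.a5]⟩,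
  ⟨64, [.a6], [.a6]⟩,
  ⟨256, [.a8], [.a8]⟩] [[[.a3]], [[.a5]], [[.a6]], [[.a8]]]]
theorem bad1487 (c : CtxF Goal γ) : Bad Goal γ [] P1487 :=
  c.toCtx.chn (B := B1487) (D := D1487) (I := [9, 10, 0, 11, 1, 2, 3, 4]) (r := 3) (C := C1487) (l := S1487) (x := ⟨[.a9], [.a9]⟩) (ix := [0]) (by decide +kernel) (by decide +kernel) (by decide +kernel) (by decide +kernel)
    (allB_cons (bad1234 c) (allB_cons (bad1270 c) (allB_cons (bad1286 c) (allB_cons (bad1353 c) (allB_cons (bad1353 c) (allB_cons (bad1354 c) (allB_cons (bad1354 c) (allB_nil))))))))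

def P1488 : List Ent := [⟨8, [.a3], [.a3]⟩,
  ⟨16, [.a4], [.a4, .a5]⟩,
  ⟨32, [.a5], [.a5]⟩,
  ⟨64, [.a6], [.a6]⟩,
  ⟨128, [.a7], [.a7, .a8]⟩,
  ⟨256, [.a8], [.a8]⟩,
  ⟨512, [.a9], [.a9]⟩,
  ⟨1024, [.a10], [.a10, .a11]⟩,
  ⟨2048, [.a11], [.a11]⟩]
def B1488 : List Gv := [⟨[.a3], [.a3]⟩, ⟨[.a4], [.a4, .a5]⟩, ⟨[.a7], [.a7, .a8]⟩, ⟨[.a10], [.a10, .a11]⟩]
def D1488 : List Dv := [⟨[.a5], [1, 1], []⟩,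
  ⟨[.a6], [3, 2], [2, 3]⟩,
  ⟨[.a8], [4, 4], []⟩,
  ⟨[.a9], [6, 5], [5, 6]⟩,
  ⟨[.a11], [7, 7], []⟩]
def C1488 : List Ch := [⟨P1355, 0, [], []⟩,
  ⟨P1356, 1, [], []⟩,
  ⟨P1355, 0, [.a1, .a2], [.a1]⟩,
  ⟨P1357, 2, [], []⟩,
  ⟨P1358, 0, [], []⟩,
  ⟨P1359, 1, [], []⟩,
  ⟨P1358, 0, [.a1], [.a1, .a2]⟩,
  ⟨P1360, 3, [], []⟩,
  ⟨P1355, 0, [.a2], [.a2]⟩,
  ⟨P1356, 1, [.a1], [.a1, .a2]⟩,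
  ⟨P1355, 0, [.a1], [.a1, .a2]⟩,
  ⟨P1357, 2, [.a1], [.a1, .a2]⟩,
  ⟨P1358, 0, [.a2], [.a2]⟩,
  ⟨P1361, 1, [], []⟩,
  ⟨P1358, 0, [.a1, .a2], [.a1]⟩]
def S1488 : List St := [.cent 1 1 0 [⟨32, [.a5], [.a5]⟩,
  ⟨256, [.a8], [.a8]⟩],
  .comm 2 2 [⟨32, [.a5], [.a5]⟩,
  ⟨64, [.a6], [.a6]⟩,
  ⟨256, [.a8], [.a8]⟩,
  ⟨512, [.a9], [.a9]⟩] [⟨[.a3], [.a7]⟩, ⟨[.a4], [.a7]⟩, ⟨[.a4], [.a9]⟩, ⟨[.a7], [.a10]⟩],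
  .om 3 [⟨8, [.a3], [.a3]⟩,
  ⟨32, [.a5], [.a5]⟩,
  ⟨64, [.a6], [.a6]⟩,
  ⟨256, [.a8], [.a8]⟩,
  ⟨512, [.a9], [.a9]⟩,
  ⟨2048, [.a11], [.a11]⟩] [[[.a3]], [[.a5]], [[.a6]], [[.a8]], [[.a9]], [[.a11]]]]
theorem bad1488 (c : CtxF Goal γ) : Bad Goal γ [] P1488 :=
  c.toCtx.chn (B := B1488) (D := D1488) (I := [5, 6, 4, 3, 7, 2, 1, 8, 0]) (r := 4) (C := C1488) (l := S1488) (x := ⟨[.a2], [.a2]⟩) (ix := [0, 1, 2]) (by decide +kernel) (by decide +kernel) (by decide +kernel) (by decide +kernel)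
    (allB_cons (bad1355 c) (allB_cons (bad1356 c) (allB_cons (bad1355 c) (allB_cons (bad1357 c) (allB_cons (bad1358 c) (allB_cons (bad1359 c) (allB_cons (bad1358 c) (allB_cons (bad1360 c) (allB_cons (bad1355 c) (allB_cons (bad1356 c) (allB_cons (bad1355 c) (allB_cons (bad1357 c) (allB_cons (bad1358 c) (allB_cons (bad1361 c) (allB_cons (bad1358 c) (allB_nil))))))))))))))))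

def P1489 : List Ent := [⟨4, [.a2], [.a2]⟩,
  ⟨8, [.a3], [.a3]⟩,
  ⟨32, [.a5], [.a5]⟩,
  ⟨64, [.a6], [.a6]⟩,
  ⟨128, [.a7], [.a7, .a8]⟩,
  ⟨256, [.a8], [.a8]⟩,
  ⟨512, [.a9], [.a9]⟩,
  ⟨1024, [.a10], [.a10, .a11]⟩,
  ⟨2048, [.a11], [.a11]⟩]
def B1489 : List Gv := [⟨[.a2], [.a2]⟩, ⟨[.a7], [.a7, .a8]⟩, ⟨[.a10], [.a10, .a11]⟩]
def D1489 : List Dv := [⟨[.a8], [1, 1], []⟩,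
  ⟨[.a3, .a6, .a8], [3, 1], [1, 3]⟩,
  ⟨[.a9], [4, 3], [3, 4]⟩,
  ⟨[.a11], [5, 5], []⟩,
  ⟨[.a5], [2, 5], [5, 2]⟩,
  ⟨[.a6, .a8], [0, 3, 7], [7, 3]⟩,
  ⟨[.a6], [0], [5]⟩,
  ⟨[.a3], [5], [0, 6]⟩]
def C1489 : List Ch := [⟨P1356, 0, [], []⟩,
  ⟨P1362, 1, [], []⟩,
  ⟨P1363, 0, [], []⟩,
  ⟨P1364, 2, [], []⟩,
  ⟨P1365, 0, [], []⟩,
  ⟨P1366, 1, [], []⟩,
  ⟨P1367, 0, [], []⟩]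
def S1489 : List St := [.cent 1 1 0 [⟨32, [.a5], [.a5]⟩,
  ⟨256, [.a8], [.a8]⟩],
  .comm 2 2 [⟨8, [.a3, .a6, .a8], [.a3, .a6, .a8]⟩,
  ⟨32, [.a5], [.a5]⟩,
  ⟨64, [.a6], [.a6]⟩,
  ⟨256, [.a8], [.a8]⟩,
  ⟨512, [.a9], [.a9]⟩] [⟨[.a2], [.a10]⟩, ⟨[.a3], [.a7]⟩, ⟨[.a3], [.a7, .a10]⟩, ⟨[.a3], [.a11]⟩, ⟨[.a7], [.a10]⟩]]
theorem bad1489 (c : CtxF Goal γ) : Bad Goal γ [] P1489 :=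
  c.toCtx.chn (B := B1489) (D := D1489) (I := [8, 0, 3, 1, 9, 7, 5, 10, 4]) (r := 3) (C := C1489) (l := S1489) (x := ⟨[.a4], [.a4, .a5]⟩) (ix := [0, 1]) (by decide +kernel) (by decide +kernel) (by decide +kernel) (by decide +kernel)
    (allB_cons (bad1356 c) (allB_cons (bad1362 c) (allB_cons (bad1363 c) (allB_cons (bad1364 c) (allB_cons (bad1365 c) (allB_cons (bad1366 c) (allB_cons (bad1367 c) (allB_nil))))))))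

def P1490 : List Ent := [⟨4, [.a2, .a4], [.a2, .a4, .a5]⟩,
  ⟨8, [.a3], [.a3]⟩,
  ⟨32, [.a5], [.a5]⟩,
  ⟨64, [.a6], [.a6]⟩,
  ⟨128, [.a7], [.a7, .a8]⟩,
  ⟨256, [.a8], [.a8]⟩,
  ⟨512, [.a9], [.a9]⟩,
  ⟨1024, [.a10], [.a10, .a11]⟩,
  ⟨2048, [.a11], [.a11]⟩]
def B1490 : List Gv := [⟨[.a2, .a4], [.a2, .a4, .a5]⟩, ⟨[.a7], [.a7, .a8]⟩, ⟨[.a10], [.a10, .a11]⟩]
def D1490 : List Dv := [⟨[.a5], [0, 0], []⟩,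
  ⟨[.a6], [2, 1], [1, 2]⟩,
  ⟨[.a8], [3, 3], []⟩,
  ⟨[.a3, .a6, .a8], [5, 3], [3, 5]⟩,
  ⟨[.a9], [6, 5], [5, 6]⟩,
  ⟨[.a11], [7, 7], []⟩,
  ⟨[.a3], [2], [4, 3]⟩]
def C1490 : List Ch := [⟨P1356, 0, [], []⟩,
  ⟨P1368, 1, [], []⟩,
  ⟨P1369, 0, [], []⟩,
  ⟨P1370, 2, [], []⟩,
  ⟨P1365, 0, [.a1], [.a1, .a2]⟩,
  ⟨P1371, 1, [], []⟩,
  ⟨P1372, 0, [], []⟩]
def S1490 : List St := [.cent 1 1 0 [⟨32, [.a5], [.a5]⟩,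
  ⟨256, [.a8], [.a8]⟩],
  .comm 2 2 [⟨8, [.a3, .a6, .a8], [.a3, .a6, .a8]⟩,
  ⟨32, [.a5], [.a5]⟩,
  ⟨64, [.a6], [.a6]⟩,
  ⟨256, [.a8], [.a8]⟩,
  ⟨512, [.a9], [.a9]⟩] [⟨[.a10], [.a2, .a4]⟩, ⟨[.a3], [.a7]⟩, ⟨[.a7], [.a2, .a4]⟩, ⟨[.a3], [.a11]⟩, ⟨[.a7], [.a10]⟩]]
theorem bad1490 (c : CtxF Goal γ) : Bad Goal γ [] P1490 :=
  c.toCtx.chn (B := B1490) (D := D1490) (I := [7, 0, 6, 5, 8, 4, 2, 9, 1]) (r := 3) (C := C1490) (l := S1490) (x := ⟨[.a4], [.a4, .a5]⟩) (ix := [0, 1]) (by decide +kernel) (by decide +kernel) (by decide +kernel) (by decide +kernel)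
    (allB_cons (bad1356 c) (allB_cons (bad1368 c) (allB_cons (bad1369 c) (allB_cons (bad1370 c) (allB_cons (bad1365 c) (allB_cons (bad1371 c) (allB_cons (bad1372 c) (allB_nil))))))))

def P1491 : List Ent := [⟨4, [.a2], [.a2]⟩,
  ⟨8, [.a3], [.a3]⟩,
  ⟨16, [.a4], [.a4, .a5]⟩,
  ⟨32, [.a5], [.a5]⟩,
  ⟨64, [.a6], [.a6]⟩,
  ⟨256, [.a8], [.a8]⟩,
  ⟨512, [.a9], [.a9]⟩,
  ⟨1024, [.a10], [.a10, .a11]⟩,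
  ⟨2048, [.a11], [.a11]⟩]
def B1491 : List Gv := [⟨[.a2], [.a2]⟩, ⟨[.a4], [.a4, .a5]⟩, ⟨[.a9], [.a9]⟩, ⟨[.a10], [.a10, .a11]⟩]
def D1491 : List Dv := [⟨[.a5], [1, 1], []⟩,
  ⟨[.a8], [3, 2], [2, 3]⟩,
  ⟨[.a3, .a6, .a8], [5, 2], [2, 5]⟩,
  ⟨[.a11], [6, 6], []⟩,
  ⟨[.a6, .a8], [3, 1, 7], [7, 1]⟩,
  ⟨[.a6], [0], [3]⟩,
  ⟨[.a3], [3], [0, 4]⟩]
def C1491 : List Ch := [⟨P1357, 0, [], []⟩,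
  ⟨P1362, 1, [], []⟩,
  ⟨P1368, 0, [], []⟩,
  ⟨P1373, 2, [], []⟩,
  ⟨P1374, 0, [], []⟩,
  ⟨P1375, 1, [], []⟩,
  ⟨P1376, 0, [], []⟩,
  ⟨P1377, 3, [], []⟩,
  ⟨P1378, 0, [], []⟩,
  ⟨P1366, 1, [.a1], [.a1, .a2]⟩,
  ⟨P1371, 0, [.a1], [.a1, .a2]⟩,
  ⟨P1373, 2, [.a7], [.a7, .a8]⟩,
  ⟨P1374, 0, [.a7], [.a7, .a8]⟩,
  ⟨P1375, 1, [.a7], [.a7, .a8]⟩,
  ⟨P1376, 0, [.a7], [.a7, .a8]⟩]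
def S1491 : List St := [.cent 1 1 0 [⟨32, [.a5], [.a5]⟩,
  ⟨256, [.a8], [.a8]⟩],
  .om 2 [⟨4, [.a2], [.a2]⟩,
  ⟨8, [.a3], [.a3]⟩,
  ⟨32, [.a5], [.a5]⟩,
  ⟨64, [.a6], [.a6]⟩,
  ⟨256, [.a8], [.a8]⟩,
  ⟨512, [.a9], [.a9]⟩,
  ⟨2048, [.a11], [.a11]⟩] [[[.a2]], [[.a3]], [[.a5]], [[.a6]], [[.a8]], [[.a9]], [[.a11]]]]
theorem bad1491 (c : CtxF Goal γ) : Bad Goal γ [] P1491 :=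
  c.toCtx.chn (B := B1491) (D := D1491) (I := [7, 0, 8, 6, 1, 5, 9, 10, 3]) (r := 4) (C := C1491) (l := S1491) (x := ⟨[.a7], [.a7, .a8]⟩) (ix := [0, 1]) (by decide +kernel) (by decide +kernel) (by decide +kernel) (by decide +kernel)
    (allB_cons (bad1357 c) (allB_cons (bad1362 c) (allB_cons (bad1368 c) (allB_cons (bad1373 c) (allB_cons (bad1374 c) (allB_cons (bad1375 c) (allB_cons (bad1376 c) (allB_cons (bad1377 c) (allB_cons (bad1378 c) (allB_cons (bad1366 c) (allB_cons (bad1371 c) (allB_cons (bad1373 c) (allB_cons (bad1374 c) (allB_cons (bad1375 c) (allB_cons (bad1376 c) (allB_nil))))))))))))))))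

def P1492 : List Ent := [⟨4, [.a2, .a7], [.a2, .a7, .a8]⟩,
  ⟨8, [.a3], [.a3]⟩,
  ⟨16, [.a4], [.a4, .a5]⟩,
  ⟨32, [.a5], [.a5]⟩,
  ⟨64, [.a6], [.a6]⟩,
  ⟨256, [.a8], [.a8]⟩,
  ⟨512, [.a9], [.a9]⟩,
  ⟨1024, [.a10], [.a10, .a11]⟩,
  ⟨2048, [.a11], [.a11]⟩]
def B1492 : List Gv := [⟨[.a2, .a7], [.a2, .a7, .a8]⟩, ⟨[.a3], [.a3]⟩, ⟨[.a4], [.a4, .a5]⟩, ⟨[.a10], [.a10, .a11]⟩]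
def D1492 : List Dv := [⟨[.a8], [0, 0], []⟩,
  ⟨[.a5], [2, 1], [1, 2]⟩,
  ⟨[.a6], [4, 2], [2, 4]⟩,
  ⟨[.a9], [2, 0, 1, 4, 6, 3], [3, 6]⟩,
  ⟨[.a11], [7, 7], []⟩]
def C1492 : List Ch := [⟨P1357, 0, [], []⟩,
  ⟨P1379, 1, [], []⟩,
  ⟨P1380, 0, [], []⟩,
  ⟨P1363, 2, [], []⟩,
  ⟨P1369, 0, [], []⟩,
  ⟨P1381, 1, [], []⟩,
  ⟨P1382, 0, [], []⟩,
  ⟨P1370, 3, [.a0], [.a0]⟩,
  ⟨P1378, 0, [.a1], [.a1, .a2]⟩,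
  ⟨P1379, 1, [.a7], [.a7, .a8]⟩,
  ⟨P1380, 0, [.a7], [.a7, .a8]⟩,
  ⟨P1367, 2, [.a1], [.a1, .a2]⟩,
  ⟨P1372, 0, [.a1], [.a1, .a2]⟩,
  ⟨P1381, 1, [.a7], [.a7, .a8]⟩,
  ⟨P1382, 0, [.a7], [.a7, .a8]⟩]
def S1492 : List St := [.cent 1 1 0 [⟨32, [.a5], [.a5]⟩,
  ⟨256, [.a8], [.a8]⟩],
  .comm 2 2 [⟨8, [.a3, .a5, .a6, .a8, .a9], [.a3, .a5, .a6, .a8, .a9]⟩,
  ⟨32, [.a5, .a6], [.a5, .a6]⟩,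
  ⟨64, [.a6], [.a6]⟩,
  ⟨256, [.a8], [.a8]⟩] [⟨[.a10], [.a2, .a7]⟩, ⟨[.a3], [.a10]⟩, ⟨[.a4], [.a2, .a7]⟩, ⟨[.a4], [.a9]⟩],
  .om 3 [⟨4, [.a2, .a4, .a7], [.a2, .a4, .a5, .a6, .a7, .a8]⟩,
  ⟨8, [.a3], [.a3]⟩,
  ⟨32, [.a5], [.a5]⟩,
  ⟨64, [.a6], [.a6]⟩,
  ⟨256, [.a8], [.a8]⟩,
  ⟨512, [.a9], [.a9]⟩,
  ⟨2048, [.a11], [.a11]⟩] [[[.a11], [.a2, .a4, .a5, .a6, .a7, .a8, .a11]], [[.a3]], [[.a5]], [[.a6]], [[.a8]], [[.a9]], [[.a11]]]]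
theorem bad1492 (c : CtxF Goal γ) : Bad Goal γ [] P1492 :=
  c.toCtx.chn (B := B1492) (D := D1492) (I := [5, 6, 7, 3, 2, 4, 1, 8, 0]) (r := 4) (C := C1492) (l := S1492) (x := ⟨[.a7], [.a7, .a8]⟩) (ix := [0, 1, 2]) (by decide +kernel) (by decide +kernel) (by decide +kernel) (by decide +kernel)
    (allB_cons (bad1357 c) (allB_cons (bad1379 c) (allB_cons (bad1380 c) (allB_cons (bad1363 c) (allB_cons (bad1369 c) (allB_cons (bad1381 c) (allB_cons (bad1382 c) (allB_cons (bad1370 c) (allB_cons (bad1378 c) (allB_cons (bad1379 c) (allB_cons (bad1380 c) (allB_cons (bad1367 c) (allB_cons (bad1372 c) (allB_cons (bad1381 c) (allB_cons (bad1382 c) (allB_nil))))))))))))))))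

def P1493 : List Ent := [⟨4, [.a2], [.a2]⟩,
  ⟨8, [.a3], [.a3]⟩,
  ⟨16, [.a4, .a7], [.a4, .a5, .a6, .a7, .a8]⟩,
  ⟨32, [.a5], [.a5]⟩,
  ⟨64, [.a6], [.a6]⟩,
  ⟨256, [.a8], [.a8]⟩,
  ⟨512, [.a9], [.a9]⟩,
  ⟨1024, [.a10], [.a10, .a11]⟩,
  ⟨2048, [.a11], [.a11]⟩]
def B1493 : List Gv := [⟨[.a2], [.a2]⟩, ⟨[.a4, .a7], [.a4, .a5, .a6, .a7, .a8]⟩, ⟨[.a10], [.a10, .a11]⟩]
def D1493 : List Dv := [⟨[.a5, .a6, .a8], [1, 1], []⟩,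
  ⟨[.a3, .a6, .a8], [3, 1], [1, 3]⟩,
  ⟨[.a8, .a9], [4, 3], [3, 4]⟩,
  ⟨[.a11], [5, 5], []⟩,
  ⟨[.a9], [1, 3, 6], [6, 3]⟩,
  ⟨[.a6, .a8], [4, 3, 6], [6, 3]⟩,
  ⟨[.a8], [3], [1]⟩,
  ⟨[.a6], [1], [0]⟩,
  ⟨[.a5], [7], [0, 1]⟩,
  ⟨[.a3], [7], [1, 2]⟩]
def C1493 : List Ch := [⟨P1359, 0, [], []⟩,
  ⟨P1362, 1, [], []⟩,
  ⟨P1369, 0, [], []⟩,
  ⟨P1383, 2, [], []⟩,
  ⟨P1384, 0, [], []⟩,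
  ⟨P1362, 1, [.a1], [.a1, .a2]⟩,
  ⟨P1369, 0, [.a1], [.a1, .a2]⟩]
def N1493 : List Ent := [⟨2, [.a1], [.a1, .a2]⟩,
  ⟨4, [.a2], [.a2]⟩,
  ⟨8, [.a3], [.a3]⟩,
  ⟨16, [.a4, .a7], [.a4, .a5, .a6, .a7, .a8]⟩,
  ⟨32, [.a5], [.a5]⟩,
  ⟨64, [.a6], [.a6]⟩,
  ⟨128, [.a7], [.a7, .a8]⟩,
  ⟨256, [.a8], [.a8]⟩,
  ⟨512, [.a9], [.a9]⟩,
  ⟨1024, [.a10], [.a10, .a11]⟩,
  ⟨2048, [.a11], [.a11]⟩]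
theorem bad1493 (c : CtxF Goal γ) : Bad Goal γ [] P1493 :=
  c.toCtx.bnd (B := B1493) (D := D1493) (I := [10, 0, 11, 1, 2, 3, 5, 12, 6]) (r := 3) (C := C1493) (N := N1493) (by decide +kernel) (by decide +kernel) (by decide +kernel) (by decide +kernel)
    (allB_cons (bad1359 c) (allB_cons (bad1362 c) (allB_cons (bad1369 c) (allB_cons (bad1383 c) (allB_cons (bad1384 c) (allB_cons (bad1362 c) (allB_cons (bad1369 c) (allB_nil))))))))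

def P1494 : List Ent := [⟨4, [.a2, .a7], [.a2, .a7, .a8]⟩,
  ⟨8, [.a3], [.a3]⟩,
  ⟨16, [.a4, .a7], [.a4, .a5, .a6, .a7, .a8]⟩,
  ⟨32, [.a5], [.a5]⟩,
  ⟨64, [.a6], [.a6]⟩,
  ⟨256, [.a8], [.a8]⟩,
  ⟨512, [.a9], [.a9]⟩,
  ⟨1024, [.a10], [.a10, .a11]⟩,
  ⟨2048, [.a11], [.a11]⟩]
def B1494 : List Gv := [⟨[.a2, .a7], [.a2, .a7, .a8]⟩, ⟨[.a4, .a7], [.a4, .a5, .a6, .a7, .a8]⟩, ⟨[.a10], [.a10, .a11]⟩]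
def D1494 : List Dv := [⟨[.a8], [0, 0], []⟩,
  ⟨[.a6], [2, 1], [1, 2]⟩,
  ⟨[.a5, .a6, .a8], [3, 3], []⟩,
  ⟨[.a3, .a5, .a6, .a8, .a9], [5, 3], [3, 5]⟩,
  ⟨[.a9], [3, 6, 5], [5, 6]⟩,
  ⟨[.a11], [7, 7], []⟩,
  ⟨[.a5], [3], [4, 5]⟩,
  ⟨[.a3], [3], [0, 5, 6, 2]⟩]
def C1494 : List Ch := [⟨P1359, 0, [], []⟩,
  ⟨P1363, 1, [], []⟩,
  ⟨P1368, 0, [], []⟩,
  ⟨P1385, 2, [], []⟩,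
  ⟨P1386, 0, [], []⟩,
  ⟨P1363, 1, [.a1], [.a1, .a2]⟩,
  ⟨P1368, 0, [.a1], [.a1, .a2]⟩]
def N1494 : List Ent := [⟨2, [.a1], [.a1, .a2]⟩,
  ⟨4, [.a2, .a7], [.a2, .a7, .a8]⟩,
  ⟨8, [.a3], [.a3]⟩,
  ⟨16, [.a4, .a7], [.a4, .a5, .a6, .a7, .a8]⟩,
  ⟨32, [.a5], [.a5]⟩,
  ⟨64, [.a6], [.a6]⟩,
  ⟨128, [.a7], [.a7, .a8]⟩,
  ⟨256, [.a8], [.a8]⟩,
  ⟨512, [.a9], [.a9]⟩,
  ⟨1024, [.a10], [.a10, .a11]⟩,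
  ⟨2048, [.a11], [.a11]⟩]
theorem bad1494 (c : CtxF Goal γ) : Bad Goal γ [] P1494 :=
  c.toCtx.bnd (B := B1494) (D := D1494) (I := [8, 0, 9, 1, 6, 7, 3, 10, 2]) (r := 3) (C := C1494) (N := N1494) (by decide +kernel) (by decide +kernel) (by decide +kernel) (by decide +kernel)
    (allB_cons (bad1359 c) (allB_cons (bad1363 c) (allB_cons (bad1368 c) (allB_cons (bad1385 c) (allB_cons (bad1386 c) (allB_cons (bad1363 c) (allB_cons (bad1368 c) (allB_nil))))))))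

def P1495 : List Ent := [⟨4, [.a2], [.a2]⟩,
  ⟨8, [.a3], [.a3]⟩,
  ⟨16, [.a4], [.a4, .a5]⟩,
  ⟨32, [.a5], [.a5]⟩,
  ⟨64, [.a6], [.a6]⟩,
  ⟨128, [.a7], [.a7, .a8]⟩,
  ⟨256, [.a8], [.a8]⟩,
  ⟨512, [.a9], [.a9]⟩,
  ⟨2048, [.a11], [.a11]⟩]
def B1495 : List Gv := [⟨[.a2], [.a2]⟩, ⟨[.a3], [.a3]⟩, ⟨[.a4], [.a4, .a5]⟩, ⟨[.a7], [.a7, .a8]⟩, ⟨[.a9], [.a9]⟩, ⟨[.a11], [.a11]⟩]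
def D1495 : List Dv := [⟨[.a5], [2, 2], []⟩,
  ⟨[.a6], [4, 3], [3, 4]⟩,
  ⟨[.a8], [5, 5], []⟩]
def C1495 : List Ch := [⟨P1360, 0, [], []⟩,
  ⟨P1387, 1, [], []⟩,
  ⟨P1387, 0, [.a10], [.a10, .a11]⟩,
  ⟨P1364, 2, [], []⟩,
  ⟨P1370, 0, [], []⟩,
  ⟨P1387, 1, [.a1], [.a1, .a2]⟩,
  ⟨P1387, 0, [.a1, .a10], [.a1, .a2, .a4, .a5, .a7, .a9, .a10, .a11]⟩,
  ⟨P1377, 3, [], []⟩,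
  ⟨P1370, 0, [.a0], [.a0]⟩,
  ⟨P1388, 1, [], []⟩,
  ⟨P1388, 0, [.a10], [.a10, .a11]⟩,
  ⟨P1383, 2, [], []⟩,
  ⟨P1385, 0, [], []⟩,
  ⟨P1388, 1, [.a1], [.a1, .a2]⟩,
  ⟨P1388, 0, [.a1, .a10], [.a1, .a2, .a4, .a5, .a7, .a9, .a10, .a11]⟩,
  ⟨P1389, 4, [], []⟩,
  ⟨P1390, 0, [], []⟩,
  ⟨P1388, 1, [.a0], [.a0]⟩,
  ⟨P1391, 0, [], []⟩,
  ⟨P1392, 2, [], []⟩,
  ⟨P1390, 0, [.a0, .a1, .a3, .a5, .a6, .a7, .a8, .a9, .a10], [.a0, .a10, .a11]⟩,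
  ⟨P1393, 1, [], []⟩,
  ⟨P1387, 0, [.a0, .a10], [.a0, .a1, .a2, .a3, .a4, .a6, .a8, .a9, .a10, .a11]⟩,
  ⟨P1389, 3, [.a10], [.a10, .a11]⟩,
  ⟨P1390, 0, [.a10], [.a10, .a11]⟩,
  ⟨P1391, 1, [.a10], [.a10, .a11]⟩,
  ⟨P1388, 0, [.a0, .a1, .a3, .a5, .a6, .a7, .a8, .a9, .a10], [.a0, .a10, .a11]⟩,
  ⟨P1392, 2, [.a10], [.a10, .a11]⟩,
  ⟨P1390, 0, [.a0], [.a0]⟩,
  ⟨P1387, 1, [.a0, .a1], [.a0, .a1, .a2]⟩,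
  ⟨P1393, 0, [.a10], [.a10, .a11]⟩,
  ⟨P1394, 5, [], []⟩,
  ⟨P1385, 0, [.a0], [.a0]⟩,
  ⟨P1391, 1, [.a0, .a10], [.a0, .a1, .a2, .a3, .a4, .a6, .a8, .a9, .a10, .a11]⟩,
  ⟨P1391, 0, [.a0, .a1], [.a0, .a1, .a2]⟩,
  ⟨P1364, 2, [.a0], [.a0]⟩,
  ⟨P1395, 0, [], []⟩,
  ⟨P1391, 1, [.a0, .a1, .a3, .a5, .a6, .a7, .a8, .a9, .a10], [.a0, .a10, .a11]⟩,
  ⟨P1391, 0, [.a0], [.a0]⟩,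
  ⟨P1377, 3, [.a0], [.a0]⟩,
  ⟨P1395, 0, [.a0], [.a0]⟩,
  ⟨P1393, 1, [.a0, .a1], [.a0, .a1, .a2]⟩,
  ⟨P1393, 0, [.a0, .a10], [.a0, .a1, .a2, .a3, .a4, .a6, .a8, .a9, .a10, .a11]⟩,
  ⟨P1396, 2, [], []⟩,
  ⟨P1360, 0, [.a0], [.a0]⟩,
  ⟨P1393, 1, [.a0], [.a0]⟩,
  ⟨P1393, 0, [.a0, .a1, .a3, .a5, .a6, .a7, .a8, .a9, .a10], [.a0, .a10, .a11]⟩,
  ⟨P1389, 4, [.a0], [.a0]⟩,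
  ⟨P1390, 0, [.a1], [.a1, .a2]⟩,
  ⟨P1393, 1, [.a1], [.a1, .a2]⟩,
  ⟨P1387, 0, [.a0, .a1, .a3, .a5, .a6, .a7, .a8, .a9, .a10], [.a0, .a10, .a11]⟩,
  ⟨P1392, 2, [.a1], [.a1, .a2]⟩,
  ⟨P1390, 0, [.a0, .a10], [.a0, .a1, .a2, .a3, .a4, .a6, .a8, .a9, .a10, .a11]⟩,
  ⟨P1388, 1, [.a0, .a1], [.a0, .a1, .a2]⟩,
  ⟨P1391, 0, [.a1], [.a1, .a2]⟩,
  ⟨P1389, 3, [.a0, .a1, .a3, .a5, .a6, .a7, .a8, .a9, .a10], [.a0, .a10, .a11]⟩,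
  ⟨P1390, 0, [.a1, .a10], [.a1, .a2, .a4, .a5, .a7, .a9, .a10, .a11]⟩,
  ⟨P1387, 1, [.a0], [.a0]⟩,
  ⟨P1393, 0, [.a1, .a10], [.a1, .a2, .a4, .a5, .a7, .a9, .a10, .a11]⟩,
  ⟨P1392, 2, [.a0, .a10], [.a0, .a1, .a2, .a3, .a4, .a6, .a8, .a9, .a10, .a11]⟩,
  ⟨P1390, 0, [.a0, .a1], [.a0, .a1, .a2]⟩,
  ⟨P1391, 1, [.a1, .a10], [.a1, .a2, .a4, .a5, .a7, .a9, .a10, .a11]⟩,
  ⟨P1388, 0, [.a0, .a10], [.a0, .a1, .a2, .a3, .a4, .a6, .a8, .a9, .a10, .a11]⟩]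
theorem bad1495 (c : CtxF Goal γ) : Bad Goal γ [] P1495 :=
  c.toCtx.good (B := B1495) (D := D1495) (I := [3, 4, 5, 2, 1, 6, 0, 7, 8]) (r := 6) (C := C1495) (by decide +kernel) (by decide +kernel) (by decide +kernel) c.gM
    (allB_cons (bad1360 c) (allB_cons (bad1387 c) (allB_cons (bad1387 c) (allB_cons (bad1364 c) (allB_cons (bad1370 c) (allB_cons (bad1387 c) (allB_cons (bad1387 c) (allB_cons (bad1377 c) (allB_cons (bad1370 c) (allB_cons (bad1388 c) (allB_cons (bad1388 c) (allB_cons (bad1383 c) (allB_cons (bad1385 c) (allB_cons (bad1388 c) (allB_cons (bad1388 c) (allB_cons (bad1389 c) (allB_cons (bad1390 c) (allB_cons (bad1388 c) (allB_cons (bad1391 c) (allB_cons (bad1392 c) (allB_cons (bad1390 c) (allB_cons (bad1393 c) (allB_cons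 (bad1387 c) (allB_cons (bad1389 c) (allB_cons (bad1390 c) (allB_cons (bad1391 c) (allB_cons (bad1388 c) (allB_cons (bad1392 c) (allB_cons (bad1390 c) (allB_cons (bad1387 c) (allB_cons (bad1393 c) (allB_cons (bad1394 c) (allB_cons (bad1385 c) (allB_cons (bad1391 c) (allB_cons (bad1391 c) (allB_cons (bad1364 c) (allB_cons (bad1395 c) (allB_cons (bad1391 c) (allB_cons (bad1391 c) (allB_cons (bad1377 c) (allB_cons (bad1395 c) (allB_cons (bad1393 c) (allB_cons (bad1393 c) (allB_cons (bad1396 c) (allB_cons (bad1360 c) (allB_cons (bad1393 c) (allB_cons (bad1393 c) (allB_cons (bad1389 c) (allB_cons (bad1390 c) (allB_cons (bad1393 c) (allB_cons (bad1387 c) (allB_cons (bad1392 c) (allB_cons (bad1390 c) (allB_cons (bad1388 c) (allB_cons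 (bad1391 c) (allB_cons (bad1389 c) (allB_cons (bad1390 c) (allB_cons (bad1387 c) (allB_cons (bad1393 c) (allB_cons (bad1392 c) (allB_cons (bad1390 c) (allB_cons (bad1391 c) (allB_cons (bad1388 c) (allB_nil))))))))))))))))))))))))))))))))))))))))))))))))))))))))))))))))

def P1496 : List Ent := [⟨4, [.a2, .a10], [.a2, .a3, .a5, .a8, .a10, .a11]⟩,
  ⟨8, [.a3], [.a3]⟩,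
  ⟨16, [.a4], [.a4, .a5]⟩,
  ⟨32, [.a5], [.a5]⟩,
  ⟨64, [.a6], [.a6]⟩,
  ⟨128, [.a7], [.a7, .a8]⟩,
  ⟨256, [.a8], [.a8]⟩,
  ⟨512, [.a9], [.a9]⟩,
  ⟨2048, [.a11], [.a11]⟩]
def B1496 : List Gv := [⟨[.a2, .a10], [.a2, .a3, .a5, .a8, .a10, .a11]⟩, ⟨[.a3], [.a3]⟩, ⟨[.a4], [.a4, .a5]⟩, ⟨[.a7], [.a7, .a8]⟩]
def D1496 : List Dv := [⟨[.a6, .a8, .a11], [1, 0, 0], []⟩,
  ⟨[.a5, .a6], [2, 1], [1, 2]⟩,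
  ⟨[.a8, .a11], [1, 0, 4, 4], []⟩,
  ⟨[.a9], [0, 2, 1, 6, 3], [3, 6]⟩,
  ⟨[.a11], [1, 7, 7], []⟩,
  ⟨[.a8], [2], [0]⟩,
  ⟨[.a6], [5], [0, 1]⟩,
  ⟨[.a5], [5], [0]⟩]
def C1496 : List Ch := [⟨P1360, 0, [], []⟩,
  ⟨P1397, 1, [], []⟩,
  ⟨P1397, 0, [.a10], [.a10, .a11]⟩,
  ⟨P1365, 2, [], []⟩,
  ⟨P1365, 0, [.a1], [.a1, .a2]⟩,
  ⟨P1397, 1, [.a1, .a10], [.a1, .a2, .a4, .a5, .a7, .a9, .a10, .a11]⟩,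
  ⟨P1397, 0, [.a1], [.a1, .a2]⟩,
  ⟨P1378, 3, [], []⟩,
  ⟨P1378, 0, [.a1], [.a1, .a2]⟩,
  ⟨P1398, 1, [], []⟩,
  ⟨P1398, 0, [.a10], [.a10, .a11]⟩,
  ⟨P1384, 2, [], []⟩,
  ⟨P1386, 0, [], []⟩,
  ⟨P1398, 1, [.a1], [.a1, .a2]⟩,
  ⟨P1398, 0, [.a1, .a10], [.a1, .a2, .a4, .a5, .a7, .a9, .a10, .a11]⟩]
def S1496 : List St := [.cent 1 1 0 [⟨32, [.a5], [.a5]⟩,
  ⟨256, [.a8], [.a8]⟩],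
  .comm 2 2 [⟨32, [.a5], [.a5]⟩,
  ⟨64, [.a6], [.a6]⟩,
  ⟨256, [.a8], [.a8]⟩,
  ⟨512, [.a9], [.a9]⟩] [⟨[.a3], [.a7]⟩, ⟨[.a4], [.a7]⟩, ⟨[.a3], [.a11]⟩, ⟨[.a7, .a9], [.a2, .a10]⟩],
  .om 3 [⟨8, [.a3], [.a3]⟩,
  ⟨32, [.a5], [.a5]⟩,
  ⟨64, [.a6], [.a6]⟩,
  ⟨256, [.a8], [.a8]⟩,
  ⟨512, [.a9], [.a9]⟩,
  ⟨2048, [.a11], [.a11]⟩] [[[.a3]], [[.a5]], [[.a6]], [[.a8]], [[.a9]], [[.a11]]]]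
theorem bad1496 (c : CtxF Goal γ) : Bad Goal γ [] P1496 :=
  c.toCtx.chn (B := B1496) (D := D1496) (I := [8, 9, 10, 0, 1, 11, 2, 4, 3]) (r := 4) (C := C1496) (l := S1496) (x := ⟨[.a10], [.a10, .a11]⟩) (ix := [0, 1, 2]) (by decide +kernel) (by decide +kernel) (by decide +kernel) (by decide +kernel)
    (allB_cons (bad1360 c) (allB_cons (bad1397 c) (allB_cons (bad1397 c) (allB_cons (bad1365 c) (allB_cons (bad1365 c) (allB_cons (bad1397 c) (allB_cons (bad1397 c) (allB_cons (bad1378 c) (allB_cons (bad1378 c) (allB_cons (bad1398 c) (allB_cons (bad1398 c) (allB_cons (bad1384 c) (allB_cons (bad1386 c) (allB_cons (bad1398 c) (allB_cons (bad1398 c) (allB_nil))))))))))))))))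

def P1497 : List Ent := [⟨4, [.a2], [.a2]⟩,
  ⟨8, [.a3], [.a3]⟩,
  ⟨16, [.a4, .a10], [.a4, .a5, .a10, .a11]⟩,
  ⟨32, [.a5], [.a5]⟩,
  ⟨64, [.a6], [.a6]⟩,
  ⟨128, [.a7, .a10], [.a7, .a8, .a9, .a10, .a11]⟩,
  ⟨256, [.a8], [.a8]⟩,
  ⟨512, [.a9], [.a9]⟩,
  ⟨2048, [.a11], [.a11]⟩]
def B1497 : List Gv := [⟨[.a2], [.a2]⟩, ⟨[.a4, .a10], [.a4, .a5, .a10, .a11]⟩, ⟨[.a7, .a10], [.a7, .a8, .a9, .a10, .a11]⟩]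
def D1497 : List Dv := [⟨[.a3, .a6, .a8], [1, 0], [0, 1]⟩,
  ⟨[.a5, .a11], [2, 2], []⟩,
  ⟨[.a11], [0, 1, 4, 2], [2, 4]⟩,
  ⟨[.a6, .a8, .a9], [5, 4], [4, 5]⟩,
  ⟨[.a8, .a9, .a11], [6, 6], []⟩,
  ⟨[.a9, .a11], [1, 3, 4, 6], [6, 4]⟩,
  ⟨[.a9], [0], [3]⟩,
  ⟨[.a8], [2], [0, 4]⟩,
  ⟨[.a6], [4], [0, 1]⟩,
  ⟨[.a5], [7], [6]⟩,
  ⟨[.a3], [9], [1, 2]⟩]
def C1497 : List Ch := [⟨P1361, 0, [], []⟩,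
  ⟨P1366, 1, [], []⟩,
  ⟨P1372, 0, [], []⟩,
  ⟨P1366, 2, [.a1], [.a1, .a2]⟩,
  ⟨P1372, 0, [.a1], [.a1, .a2]⟩,
  ⟨P1383, 1, [], []⟩,
  ⟨P1386, 0, [], []⟩]
def N1497 : List Ent := [⟨2, [.a1], [.a1, .a2]⟩,
  ⟨4, [.a2], [.a2]⟩,
  ⟨8, [.a3], [.a3]⟩,
  ⟨16, [.a4, .a10], [.a4, .a5, .a10, .a11]⟩,
  ⟨32, [.a5], [.a5]⟩,
  ⟨64, [.a6], [.a6]⟩,
  ⟨128, [.a7, .a10], [.a7, .a8, .a9, .a10, .a11]⟩,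
  ⟨256, [.a8], [.a8]⟩,
  ⟨512, [.a9], [.a9]⟩,
  ⟨1024, [.a10], [.a10, .a11]⟩,
  ⟨2048, [.a11], [.a11]⟩]
theorem bad1497 (c : CtxF Goal γ) : Bad Goal γ [] P1497 :=
  c.toCtx.bnd (B := B1497) (D := D1497) (I := [11, 0, 12, 1, 2, 13, 3, 4, 8]) (r := 3) (C := C1497) (N := N1497) (by decide +kernel) (by decide +kernel) (by decide +kernel) (by decide +kernel)
    (allB_cons (bad1361 c) (allB_cons (bad1366 c) (allB_cons (bad1372 c) (allB_cons (bad1366 c) (allB_cons (bad1372 c) (allB_cons (bad1383 c) (allB_cons (bad1386 c) (allB_nil))))))))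

def P1498 : List Ent := [⟨4, [.a2, .a10], [.a2, .a3, .a5, .a8, .a10, .a11]⟩,
  ⟨8, [.a3], [.a3]⟩,
  ⟨16, [.a4, .a10], [.a4, .a5, .a10, .a11]⟩,
  ⟨32, [.a5], [.a5]⟩,
  ⟨64, [.a6], [.a6]⟩,
  ⟨128, [.a7, .a10], [.a7, .a8, .a9, .a10, .a11]⟩,
  ⟨256, [.a8], [.a8]⟩,
  ⟨512, [.a9], [.a9]⟩,
  ⟨2048, [.a11], [.a11]⟩]
def B1498 : List Gv := [⟨[.a2, .a10], [.a2, .a3, .a5, .a8, .a10, .a11]⟩, ⟨[.a4, .a10], [.a4, .a5, .a10, .a11]⟩, ⟨[.a7, .a10], [.a7, .a8, .a9, .a10, .a11]⟩]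
def D1498 : List Dv := [⟨[.a3, .a6, .a8, .a11], [0, 0], []⟩,
  ⟨[.a8, .a11], [0, 2, 1], [1, 2]⟩,
  ⟨[.a5, .a11], [3, 3], []⟩,
  ⟨[.a9], [1, 2, 5, 3], [3, 5]⟩,
  ⟨[.a6, .a8, .a9], [6, 5], [5, 6]⟩,
  ⟨[.a11], [1, 0, 2, 4, 6], [6, 4]⟩,
  ⟨[.a8], [4], [0]⟩,
  ⟨[.a6], [2], [0, 3]⟩,
  ⟨[.a5], [5], [2]⟩,
  ⟨[.a3], [8], [1, 2, 3]⟩]
def C1498 : List Ch := [⟨P1361, 0, [], []⟩,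
  ⟨P1367, 1, [], []⟩,
  ⟨P1371, 0, [], []⟩,
  ⟨P1371, 2, [.a1], [.a1, .a2]⟩,
  ⟨P1367, 0, [.a1], [.a1, .a2]⟩,
  ⟨P1384, 1, [], []⟩,
  ⟨P1385, 0, [], []⟩]
def N1498 : List Ent := [⟨2, [.a1], [.a1, .a2]⟩,
  ⟨4, [.a2, .a10], [.a2, .a3, .a5, .a8, .a10, .a11]⟩,
  ⟨8, [.a3], [.a3]⟩,
  ⟨16, [.a4, .a10], [.a4, .a5, .a10, .a11]⟩,
  ⟨32, [.a5], [.a5]⟩,
  ⟨64, [.a6], [.a6]⟩,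
  ⟨128, [.a7, .a10], [.a7, .a8, .a9, .a10, .a11]⟩,
  ⟨256, [.a8], [.a8]⟩,
  ⟨512, [.a9], [.a9]⟩,
  ⟨1024, [.a10], [.a10, .a11]⟩,
  ⟨2048, [.a11], [.a11]⟩]
theorem bad1498 (c : CtxF Goal γ) : Bad Goal γ [] P1498 :=
  c.toCtx.bnd (B := B1498) (D := D1498) (I := [10, 0, 11, 1, 2, 12, 3, 6, 4]) (r := 3) (C := C1498) (N := N1498) (by decide +kernel) (by decide +kernel) (by decide +kernel) (by decide +kernel)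
    (allB_cons (bad1361 c) (allB_cons (bad1367 c) (allB_cons (bad1371 c) (allB_cons (bad1371 c) (allB_cons (bad1367 c) (allB_cons (bad1384 c) (allB_cons (bad1385 c) (allB_nil))))))))

def P1499 : List Ent := [⟨2, [.a1], [.a1, .a2]⟩,
  ⟨4, [.a2], [.a2]⟩,
  ⟨8, [.a3], [.a3]⟩,
  ⟨16, [.a4, .a7], [.a4, .a5, .a6, .a7, .a8]⟩,
  ⟨32, [.a5], [.a5]⟩,
  ⟨64, [.a6], [.a6]⟩,
  ⟨256, [.a8], [.a8]⟩,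
  ⟨512, [.a9], [.a9]⟩,
  ⟨2048, [.a11], [.a11]⟩]
def B1499 : List Gv := [⟨[.a1], [.a1, .a2]⟩, ⟨[.a4, .a7], [.a4, .a5, .a6, .a7, .a8]⟩, ⟨[.a11], [.a11]⟩]
def D1499 : List Dv := [⟨[.a2], [0, 0], []⟩,
  ⟨[.a3], [2, 1], [1, 2]⟩,
  ⟨[.a5, .a6, .a8], [3, 3], []⟩,
  ⟨[.a8, .a9], [0, 5, 3], [3, 5]⟩,
  ⟨[.a6, .a8], [1, 2, 5], [5, 2]⟩,
  ⟨[.a9], [1, 3, 7], [7, 3]⟩,
  ⟨[.a8], [2], [0]⟩,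
  ⟨[.a6], [2], [0]⟩,
  ⟨[.a5], [5], [0, 1]⟩]
def C1499 : List Ch := [⟨P1383, 0, [], []⟩,
  ⟨P1399, 1, [], []⟩,
  ⟨P1399, 0, [.a10], [.a10, .a11]⟩,
  ⟨P1400, 2, [], []⟩,
  ⟨P1401, 0, [], []⟩,
  ⟨P1399, 1, [.a0], [.a0]⟩,
  ⟨P1399, 0, [.a0, .a1, .a3, .a5, .a6, .a7, .a8, .a9, .a10], [.a0, .a10, .a11]⟩]
def N1499 : List Ent := [⟨1, [.a0], [.a0]⟩,
  ⟨2, [.a1], [.a1, .a2]⟩,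
  ⟨4, [.a2], [.a2]⟩,
  ⟨8, [.a3], [.a3]⟩,
  ⟨16, [.a4, .a7], [.a4, .a5, .a6, .a7, .a8]⟩,
  ⟨32, [.a5], [.a5]⟩,
  ⟨64, [.a6], [.a6]⟩,
  ⟨128, [.a7], [.a7, .a8]⟩,
  ⟨256, [.a8], [.a8]⟩,
  ⟨512, [.a9], [.a9]⟩,
  ⟨1024, [.a10], [.a10, .a11]⟩,
  ⟨2048, [.a11], [.a11]⟩]
theorem bad1499 (c : CtxF Goal γ) : Bad Goal γ [] P1499 :=
  c.toCtx.bnd (B := B1499) (D := D1499) (I := [9, 8, 7, 10, 0, 1, 2, 3, 11]) (r := 3) (C := C1499) (N := N1499) (by decide +kernel) (by decide +kernel) (by decide +kernel) (by decide +kernel)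
    (allB_cons (bad1383 c) (allB_cons (bad1399 c) (allB_cons (bad1399 c) (allB_cons (bad1400 c) (allB_cons (bad1401 c) (allB_cons (bad1399 c) (allB_cons (bad1399 c) (allB_nil))))))))

def P1500 : List Ent := [⟨2, [.a1, .a7], [.a1, .a2, .a7, .a8]⟩,
  ⟨4, [.a2], [.a2]⟩,
  ⟨8, [.a3], [.a3]⟩,
  ⟨16, [.a4, .a7], [.a4, .a5, .a6, .a7, .a8]⟩,
  ⟨32, [.a5], [.a5]⟩,
  ⟨64, [.a6], [.a6]⟩,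
  ⟨256, [.a8], [.a8]⟩,
  ⟨512, [.a9], [.a9]⟩,
  ⟨2048, [.a11], [.a11]⟩]
def B1500 : List Gv := [⟨[.a1, .a7], [.a1, .a2, .a7, .a8]⟩, ⟨[.a4, .a7], [.a4, .a5, .a6, .a7, .a8]⟩, ⟨[.a11], [.a11]⟩]
def D1500 : List Dv := [⟨[.a2, .a8], [0, 0], []⟩,
  ⟨[.a3, .a5, .a6], [2, 1], [1, 2]⟩,
  ⟨[.a5, .a6, .a8], [3, 3], []⟩,
  ⟨[.a8, .a9], [0, 5, 3], [3, 5]⟩,
  ⟨[.a6, .a8], [1, 2, 5], [5, 2]⟩,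
  ⟨[.a9], [1, 3, 7], [7, 3]⟩,
  ⟨[.a8], [2], [0]⟩,
  ⟨[.a6], [2], [0]⟩,
  ⟨[.a5], [5], [0, 1]⟩,
  ⟨[.a3], [7], [0, 1]⟩,
  ⟨[.a2], [9], [3]⟩]
def C1500 : List Ch := [⟨P1383, 0, [], []⟩,
  ⟨P1402, 1, [], []⟩,
  ⟨P1402, 0, [.a10], [.a10, .a11]⟩,
  ⟨P1403, 2, [], []⟩,
  ⟨P1404, 0, [], []⟩,
  ⟨P1402, 1, [.a0], [.a0]⟩,
  ⟨P1402, 0, [.a0, .a1, .a3, .a5, .a6, .a7, .a8, .a9, .a10], [.a0, .a10, .a11]⟩]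
def N1500 : List Ent := [⟨1, [.a0], [.a0]⟩,
  ⟨2, [.a1, .a7], [.a1, .a2, .a7, .a8]⟩,
  ⟨4, [.a2], [.a2]⟩,
  ⟨8, [.a3], [.a3]⟩,
  ⟨16, [.a4, .a7], [.a4, .a5, .a6, .a7, .a8]⟩,
  ⟨32, [.a5], [.a5]⟩,
  ⟨64, [.a6], [.a6]⟩,
  ⟨128, [.a7], [.a7, .a8]⟩,
  ⟨256, [.a8], [.a8]⟩,
  ⟨512, [.a9], [.a9]⟩,
  ⟨1024, [.a10], [.a10, .a11]⟩,
  ⟨2048, [.a11], [.a11]⟩]
theorem bad1500 (c : CtxF Goal γ) : Bad Goal γ [] P1500 :=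
  c.toCtx.bnd (B := B1500) (D := D1500) (I := [11, 0, 1, 12, 2, 3, 4, 5, 13]) (r := 3) (C := C1500) (N := N1500) (by decide +kernel) (by decide +kernel) (by decide +kernel) (by decide +kernel)
    (allB_cons (bad1383 c) (allB_cons (bad1402 c) (allB_cons (bad1402 c) (allB_cons (bad1403 c) (allB_cons (bad1404 c) (allB_cons (bad1402 c) (allB_cons (bad1402 c) (allB_nil))))))))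

def P1501 : List Ent := [⟨2, [.a1], [.a1, .a2]⟩,
  ⟨4, [.a2], [.a2]⟩,
  ⟨8, [.a3], [.a3]⟩,
  ⟨32, [.a5], [.a5]⟩,
  ⟨64, [.a6], [.a6]⟩,
  ⟨128, [.a7], [.a7, .a8]⟩,
  ⟨256, [.a8], [.a8]⟩,
  ⟨512, [.a9], [.a9]⟩,
  ⟨2048, [.a11], [.a11]⟩]
def B1501 : List Gv := [⟨[.a1], [.a1, .a2]⟩, ⟨[.a3], [.a3]⟩, ⟨[.a7], [.a7, .a8]⟩, ⟨[.a11], [.a11]⟩]
def D1501 : List Dv := [⟨[.a2], [0, 0], []⟩,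
  ⟨[.a5], [3, 2], [2, 3]⟩,
  ⟨[.a8], [4, 4], []⟩,
  ⟨[.a6, .a9], [1, 6, 3], [3, 6]⟩,
  ⟨[.a9], [1, 0, 2, 3, 7], [7, 3]⟩,
  ⟨[.a6], [1], [0]⟩]
def C1501 : List Ch := [⟨P1364, 0, [], []⟩,
  ⟨P1405, 1, [], []⟩,
  ⟨P1405, 0, [.a4], [.a4, .a5]⟩,
  ⟨P1399, 2, [], []⟩,
  ⟨P1402, 0, [], []⟩,
  ⟨P1406, 1, [], []⟩,
  ⟨P1406, 0, [.a4], [.a4, .a5]⟩,
  ⟨P1407, 3, [], []⟩,
  ⟨P1408, 0, [], []⟩,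
  ⟨P1409, 1, [], []⟩,
  ⟨P1409, 0, [.a4], [.a4, .a5]⟩,
  ⟨P1410, 2, [], []⟩,
  ⟨P1411, 0, [], []⟩,
  ⟨P1412, 1, [], []⟩,
  ⟨P1412, 0, [.a4], [.a4, .a5]⟩]
def S1501 : List St := [.cent 1 1 0 [⟨32, [.a5], [.a5]⟩,
  ⟨256, [.a8], [.a8]⟩],
  .om 2 [⟨4, [.a2], [.a2]⟩,
  ⟨8, [.a3], [.a3]⟩,
  ⟨32, [.a5], [.a5]⟩,
  ⟨64, [.a6], [.a6]⟩,
  ⟨256, [.a8], [.a8]⟩,
  ⟨512, [.a9], [.a9]⟩,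
  ⟨2048, [.a11], [.a11]⟩] [[[.a2]], [[.a3]], [[.a5]], [[.a6]], [[.a8]], [[.a9]], [[.a11]]]]
theorem bad1501 (c : CtxF Goal γ) : Bad Goal γ [] P1501 :=
  c.toCtx.chn (B := B1501) (D := D1501) (I := [6, 5, 7, 4, 0, 8, 3, 1, 9]) (r := 4) (C := C1501) (l := S1501) (x := ⟨[.a4], [.a4, .a5]⟩) (ix := [0, 1]) (by decide +kernel) (by decide +kernel) (by decide +kernel) (by decide +kernel)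
    (allB_cons (bad1364 c) (allB_cons (bad1405 c) (allB_cons (bad1405 c) (allB_cons (bad1399 c) (allB_cons (bad1402 c) (allB_cons (bad1406 c) (allB_cons (bad1406 c) (allB_cons (bad1407 c) (allB_cons (bad1408 c) (allB_cons (bad1409 c) (allB_cons (bad1409 c) (allB_cons (bad1410 c) (allB_cons (bad1411 c) (allB_cons (bad1412 c) (allB_cons (bad1412 c) (allB_nil))))))))))))))))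

def P1502 : List Ent := [⟨2, [.a1], [.a1, .a2]⟩,
  ⟨4, [.a2], [.a2]⟩,
  ⟨8, [.a3], [.a3]⟩,
  ⟨16, [.a4], [.a4, .a5]⟩,
  ⟨32, [.a5], [.a5]⟩,
  ⟨64, [.a6], [.a6]⟩,
  ⟨256, [.a8], [.a8]⟩,
  ⟨512, [.a9], [.a9]⟩,
  ⟨2048, [.a11], [.a11]⟩]
def B1502 : List Gv := [⟨[.a1], [.a1, .a2]⟩, ⟨[.a4], [.a4, .a5]⟩, ⟨[.a11], [.a11]⟩]
def D1502 : List Dv := [⟨[.a2], [0, 0], []⟩,
  ⟨[.a3], [2, 1], [1, 2]⟩,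
  ⟨[.a5], [3, 3], []⟩,
  ⟨[.a6, .a9], [0, 5, 3], [3, 5]⟩,
  ⟨[.a8, .a9], [0, 1, 3, 6], [6, 3]⟩,
  ⟨[.a9], [0, 3, 7], [7, 3]⟩,
  ⟨[.a8], [1], [0]⟩,
  ⟨[.a6], [3], [1]⟩]
def C1502 : List Ch := [⟨P1377, 0, [], []⟩,
  ⟨P1399, 1, [], []⟩,
  ⟨P1402, 0, [.a10], [.a10, .a11]⟩,
  ⟨P1413, 2, [], []⟩,
  ⟨P1414, 0, [], []⟩,
  ⟨P1410, 1, [.a0], [.a0]⟩,
  ⟨P1411, 0, [.a0, .a1, .a3, .a5, .a6, .a7, .a8, .a9, .a10], [.a0, .a10, .a11]⟩]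
def S1502 : List St := [.cent 1 1 0 [⟨32, [.a5], [.a5]⟩,
  ⟨256, [.a8], [.a8]⟩],
  .comm 2 2 [⟨8, [.a3], [.a3]⟩,
  ⟨32, [.a5], [.a5]⟩,
  ⟨64, [.a6, .a8], [.a6, .a8]⟩,
  ⟨256, [.a8], [.a8]⟩,
  ⟨512, [.a9], [.a9]⟩] [⟨[.a1], [.a4]⟩, ⟨[.a1], [.a6]⟩, ⟨[.a1], [.a9]⟩, ⟨[.a3], [.a11]⟩, ⟨[.a1, .a3], [.a1, .a11]⟩]]
theorem bad1502 (c : CtxF Goal γ) : Bad Goal γ [] P1502 :=
  c.toCtx.chn (B := B1502) (D := D1502) (I := [8, 7, 6, 9, 5, 0, 1, 2, 10]) (r := 3) (C := C1502) (l := S1502) (x := ⟨[.a7], [.a7, .a8]⟩) (ix := [0, 1]) (by decide +kernel) (by decide +kernel) (by decide +kernel) (by decide +kernel)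
    (allB_cons (bad1377 c) (allB_cons (bad1399 c) (allB_cons (bad1402 c) (allB_cons (bad1413 c) (allB_cons (bad1414 c) (allB_cons (bad1410 c) (allB_cons (bad1411 c) (allB_nil))))))))

def P1503 : List Ent := [⟨2, [.a1], [.a1, .a2]⟩,
  ⟨4, [.a2], [.a2]⟩,
  ⟨8, [.a3], [.a3]⟩,
  ⟨16, [.a4], [.a4, .a5]⟩,
  ⟨32, [.a5], [.a5]⟩,
  ⟨64, [.a6], [.a6]⟩,
  ⟨128, [.a7], [.a7, .a8]⟩,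
  ⟨256, [.a8], [.a8]⟩,
  ⟨512, [.a9], [.a9]⟩]
def B1503 : List Gv := [⟨[.a1], [.a1, .a2]⟩, ⟨[.a4], [.a4, .a5]⟩, ⟨[.a7], [.a7, .a8]⟩, ⟨[.a9], [.a9]⟩]
def D1503 : List Dv := [⟨[.a2], [0, 0], []⟩,
  ⟨[.a3], [2, 1], [1, 2]⟩,
  ⟨[.a5], [3, 3], []⟩,
  ⟨[.a6], [5, 4], [4, 5]⟩,
  ⟨[.a8], [6, 6], []⟩]
def C1503 : List Ch := [⟨P1394, 0, [], []⟩,
  ⟨P1407, 1, [], []⟩,
  ⟨P1407, 0, [.a10], [.a10, .a11]⟩,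
  ⟨P1413, 2, [], []⟩,
  ⟨P1413, 0, [.a10], [.a10, .a11]⟩,
  ⟨P1400, 1, [], []⟩,
  ⟨P1403, 0, [], []⟩,
  ⟨P1415, 3, [], []⟩,
  ⟨P1415, 0, [.a11], [.a11]⟩,
  ⟨P1416, 1, [], []⟩,
  ⟨P1416, 0, [.a11], [.a11]⟩,
  ⟨P1415, 2, [.a10, .a11], [.a10]⟩,
  ⟨P1415, 0, [.a10], [.a10, .a11]⟩,
  ⟨P1416, 1, [.a10], [.a10, .a11]⟩,
  ⟨P1416, 0, [.a10, .a11], [.a10]⟩]
def N1503 : List Ent := [⟨1, [.a0], [.a0]⟩,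
  ⟨2, [.a1], [.a1, .a2]⟩,
  ⟨4, [.a2], [.a2]⟩,
  ⟨8, [.a3], [.a3]⟩,
  ⟨16, [.a4], [.a4, .a5]⟩,
  ⟨32, [.a5], [.a5]⟩,
  ⟨64, [.a6], [.a6]⟩,
  ⟨128, [.a7], [.a7, .a8]⟩,
  ⟨256, [.a8], [.a8]⟩,
  ⟨512, [.a9], [.a9]⟩,
  ⟨1024, [.a10], [.a10, .a11]⟩,
  ⟨2048, [.a11], [.a11]⟩]
theorem bad1503 (c : CtxF Goal γ) : Bad Goal γ [] P1503 :=
  c.toCtx.bnd (B := B1503) (D := D1503) (I := [5, 4, 3, 6, 2, 1, 7, 0, 8]) (r := 4) (C := C1503) (N := N1503) (by decide +kernel) (by decide +kernel) (by decide +kernel) (by decide +kernel)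
    (allB_cons (bad1394 c) (allB_cons (bad1407 c) (allB_cons (bad1407 c) (allB_cons (bad1413 c) (allB_cons (bad1413 c) (allB_cons (bad1400 c) (allB_cons (bad1403 c) (allB_cons (bad1415 c) (allB_cons (bad1415 c) (allB_cons (bad1416 c) (allB_cons (bad1416 c) (allB_cons (bad1415 c) (allB_cons (bad1415 c) (allB_cons (bad1416 c) (allB_cons (bad1416 c) (allB_nil))))))))))))))))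

def P1504 : List Ent := [⟨2, [.a1, .a11], [.a1, .a2, .a5, .a6, .a9, .a11]⟩,
  ⟨4, [.a2], [.a2]⟩,
  ⟨8, [.a3], [.a3]⟩,
  ⟨16, [.a4], [.a4, .a5]⟩,
  ⟨32, [.a5], [.a5]⟩,
  ⟨64, [.a6], [.a6]⟩,
  ⟨128, [.a7], [.a7, .a8]⟩,
  ⟨256, [.a8], [.a8]⟩,
  ⟨512, [.a9], [.a9]⟩]
def B1504 : List Gv := [⟨[.a1, .a11], [.a1, .a2, .a5, .a6, .a9, .a11]⟩, ⟨[.a2], [.a2]⟩, ⟨[.a4], [.a4, .a5]⟩, ⟨[.a7], [.a7, .a8]⟩]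
def D1504 : List Dv := [⟨[.a5, .a8, .a9], [1, 0, 0], []⟩,
  ⟨[.a6, .a8], [2, 1], [1, 2]⟩,
  ⟨[.a3], [4, 2], [2, 4]⟩,
  ⟨[.a8, .a9], [2, 5, 5], []⟩,
  ⟨[.a9], [0, 2, 7, 6], [6, 7]⟩,
  ⟨[.a8], [1], [0]⟩,
  ⟨[.a6], [4], [0]⟩,
  ⟨[.a5], [6], [1, 2]⟩]
def C1504 : List Ch := [⟨P1394, 0, [], []⟩,
  ⟨P1417, 1, [], []⟩,
  ⟨P1417, 0, [.a1], [.a1, .a2]⟩,
  ⟨P1408, 2, [], []⟩,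
  ⟨P1408, 0, [.a0], [.a0]⟩,
  ⟨P1417, 1, [.a0, .a10], [.a0, .a1, .a2, .a3, .a4, .a6, .a8, .a9, .a10, .a11]⟩,
  ⟨P1417, 0, [.a0, .a1, .a3, .a5, .a6, .a7, .a8, .a9, .a10], [.a0, .a10, .a11]⟩,
  ⟨P1414, 3, [], []⟩,
  ⟨P1414, 0, [.a0], [.a0]⟩,
  ⟨P1417, 1, [.a1, .a10], [.a1, .a2, .a4, .a5, .a7, .a9, .a10, .a11]⟩,
  ⟨P1417, 0, [.a10], [.a10, .a11]⟩,
  ⟨P1401, 2, [], []⟩,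
  ⟨P1404, 0, [], []⟩,
  ⟨P1417, 1, [.a0], [.a0]⟩,
  ⟨P1417, 0, [.a0, .a1], [.a0, .a1, .a2]⟩]
def N1504 : List Ent := [⟨1, [.a0], [.a0]⟩,
  ⟨2, [.a1, .a11], [.a1, .a2, .a5, .a6, .a9, .a11]⟩,
  ⟨4, [.a2], [.a2]⟩,
  ⟨8, [.a3], [.a3]⟩,
  ⟨16, [.a4], [.a4, .a5]⟩,
  ⟨32, [.a5], [.a5]⟩,
  ⟨64, [.a6], [.a6]⟩,
  ⟨128, [.a7], [.a7, .a8]⟩,
  ⟨256, [.a8], [.a8]⟩,
  ⟨512, [.a9], [.a9]⟩,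
  ⟨1024, [.a10], [.a10, .a11]⟩,
  ⟨2048, [.a11], [.a11]⟩]
theorem bad1504 (c : CtxF Goal γ) : Bad Goal γ [] P1504 :=
  c.toCtx.bnd (B := B1504) (D := D1504) (I := [8, 9, 5, 10, 0, 1, 11, 2, 3]) (r := 4) (C := C1504) (N := N1504) (by decide +kernel) (by decide +kernel) (by decide +kernel) (by decide +kernel)
    (allB_cons (bad1394 c) (allB_cons (bad1417 c) (allB_cons (bad1417 c) (allB_cons (bad1408 c) (allB_cons (bad1408 c) (allB_cons (bad1417 c) (allB_cons (bad1417 c) (allB_cons (bad1414 c) (allB_cons (bad1414 c) (allB_cons (bad1417 c) (allB_cons (bad1417 c) (allB_cons (bad1401 c) (allB_cons (bad1404 c) (allB_cons (bad1417 c) (allB_cons (bad1417 c) (allB_nil))))))))))))))))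

def P1505 : List Ent := [⟨2, [.a1], [.a1, .a2]⟩,
  ⟨4, [.a2], [.a2]⟩,
  ⟨8, [.a3], [.a3]⟩,
  ⟨16, [.a4, .a11], [.a4, .a5, .a11]⟩,
  ⟨32, [.a5], [.a5]⟩,
  ⟨64, [.a6], [.a6]⟩,
  ⟨128, [.a7, .a11], [.a7, .a8, .a11]⟩,
  ⟨256, [.a8], [.a8]⟩,
  ⟨512, [.a9], [.a9]⟩]
def B1505 : List Gv := [⟨[.a1], [.a1, .a2]⟩, ⟨[.a4, .a11], [.a4, .a5, .a11]⟩, ⟨[.a7, .a11], [.a7, .a8, .a11]⟩]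
def D1505 : List Dv := [⟨[.a2], [0, 0], []⟩,
  ⟨[.a3, .a5, .a6, .a8, .a9], [2, 1], [1, 2]⟩,
  ⟨[.a5], [3, 3], []⟩,
  ⟨[.a6, .a9], [0, 5, 3], [3, 5]⟩,
  ⟨[.a9], [0, 6, 5], [5, 6]⟩,
  ⟨[.a8], [7, 7], []⟩,
  ⟨[.a6], [2], [1]⟩,
  ⟨[.a3], [5], [4, 0, 1, 2]⟩]
def C1505 : List Ch := [⟨P1396, 0, [], []⟩,
  ⟨P1410, 1, [], []⟩,
  ⟨P1410, 0, [.a10], [.a10, .a11]⟩,
  ⟨P1410, 2, [.a0], [.a0]⟩,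
  ⟨P1410, 0, [.a0, .a1, .a3, .a5, .a6, .a7, .a8, .a9, .a10], [.a0, .a10, .a11]⟩,
  ⟨P1400, 1, [], []⟩,
  ⟨P1404, 0, [], []⟩]
def N1505 : List Ent := [⟨1, [.a0], [.a0]⟩,
  ⟨2, [.a1], [.a1, .a2]⟩,
  ⟨4, [.a2], [.a2]⟩,
  ⟨8, [.a3], [.a3]⟩,
  ⟨16, [.a4, .a11], [.a4, .a5, .a11]⟩,
  ⟨32, [.a5], [.a5]⟩,
  ⟨64, [.a6], [.a6]⟩,
  ⟨128, [.a7, .a11], [.a7, .a8, .a11]⟩,
  ⟨256, [.a8], [.a8]⟩,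
  ⟨512, [.a9], [.a9]⟩,
  ⟨1024, [.a10], [.a10, .a11]⟩,
  ⟨2048, [.a11], [.a11]⟩]
theorem bad1505 (c : CtxF Goal γ) : Bad Goal γ [] P1505 :=
  c.toCtx.bnd (B := B1505) (D := D1505) (I := [8, 7, 0, 9, 5, 1, 10, 2, 3]) (r := 3) (C := C1505) (N := N1505) (by decide +kernel) (by decide +kernel) (by decide +kernel) (by decide +kernel)
    (allB_cons (bad1396 c) (allB_cons (bad1410 c) (allB_cons (bad1410 c) (allB_cons (bad1410 c) (allB_cons (bad1410 c) (allB_cons (bad1400 c) (allB_cons (bad1404 c) (allB_nil))))))))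

def P1506 : List Ent := [⟨2, [.a1, .a11], [.a1, .a2, .a5, .a6, .a9, .a11]⟩,
  ⟨4, [.a2], [.a2]⟩,
  ⟨8, [.a3], [.a3]⟩,
  ⟨16, [.a4, .a11], [.a4, .a5, .a11]⟩,
  ⟨32, [.a5], [.a5]⟩,
  ⟨64, [.a6], [.a6]⟩,
  ⟨128, [.a7, .a11], [.a7, .a8, .a11]⟩,
  ⟨256, [.a8], [.a8]⟩,
  ⟨512, [.a9], [.a9]⟩]
def B1506 : List Gv := [⟨[.a1, .a11], [.a1, .a2, .a5, .a6, .a9, .a11]⟩, ⟨[.a4, .a11], [.a4, .a5, .a11]⟩, ⟨[.a7, .a11], [.a7, .a8, .a11]⟩]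
def D1506 : List Dv := [⟨[.a2, .a5, .a8, .a9], [0, 0], []⟩,
  ⟨[.a3, .a5, .a6, .a8, .a9], [2, 1], [1, 2]⟩,
  ⟨[.a5], [3, 3], []⟩,
  ⟨[.a6, .a9], [0, 5, 3], [3, 5]⟩,
  ⟨[.a9], [0, 6, 5], [5, 6]⟩,
  ⟨[.a8], [7, 7], []⟩,
  ⟨[.a6], [2], [1]⟩,
  ⟨[.a3], [5], [4, 0, 1, 2]⟩,
  ⟨[.a2], [7], [5, 2, 3]⟩]
def C1506 : List Ch := [⟨P1396, 0, [], []⟩,
  ⟨P1411, 1, [], []⟩,
  ⟨P1411, 0, [.a10], [.a10, .a11]⟩,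
  ⟨P1411, 2, [.a0, .a1, .a3, .a5, .a6, .a7, .a8, .a9, .a10], [.a0, .a10, .a11]⟩,
  ⟨P1411, 0, [.a0], [.a0]⟩,
  ⟨P1401, 1, [], []⟩,
  ⟨P1403, 0, [], []⟩]
def N1506 : List Ent := [⟨1, [.a0], [.a0]⟩,
  ⟨2, [.a1, .a11], [.a1, .a2, .a5, .a6, .a9, .a11]⟩,
  ⟨4, [.a2], [.a2]⟩,
  ⟨8, [.a3], [.a3]⟩,
  ⟨16, [.a4, .a11], [.a4, .a5, .a11]⟩,
  ⟨32, [.a5], [.a5]⟩,
  ⟨64, [.a6], [.a6]⟩,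
  ⟨128, [.a7, .a11], [.a7, .a8, .a11]⟩,
  ⟨256, [.a8], [.a8]⟩,
  ⟨512, [.a9], [.a9]⟩,
  ⟨1024, [.a10], [.a10, .a11]⟩,
  ⟨2048, [.a11], [.a11]⟩]
theorem bad1506 (c : CtxF Goal γ) : Bad Goal γ [] P1506 :=
  c.toCtx.bnd (B := B1506) (D := D1506) (I := [9, 0, 1, 10, 6, 2, 11, 3, 4]) (r := 3) (C := C1506) (N := N1506) (by decide +kernel) (by decide +kernel) (by decide +kernel) (by decide +kernel)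
    (allB_cons (bad1396 c) (allB_cons (bad1411 c) (allB_cons (bad1411 c) (allB_cons (bad1411 c) (allB_cons (bad1411 c) (allB_cons (bad1401 c) (allB_cons (bad1403 c) (allB_nil))))))))

def P1507 : List Ent := [⟨1, [.a0], [.a0]⟩,
  ⟨4, [.a2], [.a2]⟩,
  ⟨8, [.a3], [.a3]⟩,
  ⟨16, [.a4, .a7], [.a4, .a5, .a6, .a7, .a8]⟩,
  ⟨32, [.a5], [.a5]⟩,
  ⟨64, [.a6], [.a6]⟩,
  ⟨256, [.a8], [.a8]⟩,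
  ⟨512, [.a9], [.a9]⟩,
  ⟨2048, [.a11], [.a11]⟩]
def B1507 : List Gv := [⟨[.a0], [.a0]⟩, ⟨[.a2], [.a2]⟩, ⟨[.a4, .a7], [.a4, .a5, .a6, .a7, .a8]⟩, ⟨[.a11], [.a11]⟩]
def D1507 : List Dv := [⟨[.a3], [2, 0], [0, 2]⟩,
  ⟨[.a5, .a6, .a8], [3, 3], []⟩,
  ⟨[.a9], [0, 4, 1, 3, 5, 2], [2, 5]⟩,
  ⟨[.a6, .a8], [1, 2, 5], [5, 2]⟩,
  ⟨[.a8], [3, 7], [7, 3]⟩,
  ⟨[.a6], [1], [0]⟩,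
  ⟨[.a5], [4], [0, 1]⟩]
def C1507 : List Ch := [⟨P1383, 0, [], []⟩,
  ⟨P1418, 1, [], []⟩,
  ⟨P1418, 0, [.a4], [.a4, .a5]⟩,
  ⟨P1419, 2, [], []⟩,
  ⟨P1420, 0, [], []⟩,
  ⟨P1421, 1, [], []⟩,
  ⟨P1421, 0, [.a4], [.a4, .a5]⟩,
  ⟨P1422, 3, [], []⟩,
  ⟨P1423, 0, [], []⟩,
  ⟨P1418, 1, [.a1], [.a1, .a2]⟩,
  ⟨P1418, 0, [.a1, .a3, .a4], [.a1, .a2, .a4, .a5]⟩,
  ⟨P1419, 2, [.a1], [.a1, .a2]⟩,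
  ⟨P1420, 0, [.a1], [.a1, .a2]⟩,
  ⟨P1424, 1, [], []⟩,
  ⟨P1424, 0, [.a4], [.a4, .a5]⟩]
def S1507 : List St := [.cent 1 1 0 [⟨32, [.a5], [.a5]⟩,
  ⟨64, [.a6], [.a6]⟩],
  .phi 2 [⟨4, [.a2, .a4, .a7, .a9], [.a2, .a4, .a6, .a7, .a9]⟩,
  ⟨8, [.a3], [.a3]⟩,
  ⟨32, [.a5], [.a5]⟩,
  ⟨64, [.a6], [.a6]⟩,
  ⟨256, [.a8], [.a8]⟩] [[[.a0, .a4, .a7, .a8, .a11]], [[.a2, .a4, .a7, .a9], [.a0, .a9]], [[.a0, .a8]], [[.a2, .a4, .a7, .a9]], [[.a3, .a11]]],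
  .cent 3 3 1 [⟨4, [.a2, .a3], [.a2, .a3]⟩,
  ⟨32, [.a5], [.a5]⟩,
  ⟨64, [.a6], [.a6]⟩,
  ⟨256, [.a8], [.a8]⟩],
  .comm 1 1 [⟨32, [.a5], [.a5]⟩] [⟨[.a3], [.a2, .a4, .a7, .a9]⟩]]
theorem bad1507 (c : CtxF Goal γ) : Bad Goal γ [] P1507 :=
  c.toCtx.chn (B := B1507) (D := D1507) (I := [7, 8, 6, 9, 0, 1, 2, 4, 10]) (r := 4) (C := C1507) (l := S1507) (x := ⟨[.a7], [.a7, .a8]⟩) (ix := [1, 0]) (by decide +kernel) (by decide +kernel) (by decide +kernel) (by decide +kernel)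
    (allB_cons (bad1383 c) (allB_cons (bad1418 c) (allB_cons (bad1418 c) (allB_cons (bad1419 c) (allB_cons (bad1420 c) (allB_cons (bad1421 c) (allB_cons (bad1421 c) (allB_cons (bad1422 c) (allB_cons (bad1423 c) (allB_cons (bad1418 c) (allB_cons (bad1418 c) (allB_cons (bad1419 c) (allB_cons (bad1420 c) (allB_cons (bad1424 c) (allB_cons (bad1424 c) (allB_nil))))))))))))))))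

def P1508 : List Ent := [⟨1, [.a0], [.a0]⟩,
  ⟨2, [.a1, .a7], [.a1, .a2, .a7, .a8]⟩,
  ⟨4, [.a2], [.a2]⟩,
  ⟨8, [.a3], [.a3]⟩,
  ⟨16, [.a4, .a7], [.a4, .a5, .a6, .a7, .a8]⟩,
  ⟨32, [.a5], [.a5]⟩,
  ⟨64, [.a6], [.a6]⟩,
  ⟨256, [.a8], [.a8]⟩,
  ⟨512, [.a9], [.a9]⟩]
def B1508 : List Gv := [⟨[.a0], [.a0]⟩, ⟨[.a1, .a7], [.a1, .a2, .a7, .a8]⟩, ⟨[.a4, .a7], [.a4, .a5, .a6, .a7, .a8]⟩, ⟨[.a9], [.a9]⟩]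
def D1508 : List Dv := [⟨[.a2, .a3], [1, 0], [0, 1]⟩,
  ⟨[.a3, .a8], [0, 2, 2], []⟩,
  ⟨[.a8], [0, 4, 2], [2, 4]⟩,
  ⟨[.a5, .a6, .a8], [1, 5, 4], [4, 5]⟩,
  ⟨[.a6, .a8], [2, 7, 4], [4, 7]⟩,
  ⟨[.a6], [0], [2]⟩,
  ⟨[.a5], [2], [0, 3]⟩,
  ⟨[.a3], [5], [4]⟩,
  ⟨[.a2], [7], [0]⟩]
def C1508 : List Ch := [⟨P1403, 0, [], []⟩,
  ⟨P1422, 1, [], []⟩,
  ⟨P1422, 0, [.a10], [.a10, .a11]⟩,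
  ⟨P1425, 2, [], []⟩,
  ⟨P1425, 0, [.a11], [.a11]⟩,
  ⟨P1425, 1, [.a10, .a11], [.a10]⟩,
  ⟨P1425, 0, [.a10], [.a10, .a11]⟩,
  ⟨P1426, 3, [], []⟩,
  ⟨P1427, 0, [], []⟩,
  ⟨P1427, 1, [.a11], [.a11]⟩,
  ⟨P1426, 0, [.a11], [.a11]⟩,
  ⟨P1427, 2, [.a10], [.a10, .a11]⟩,
  ⟨P1426, 0, [.a10], [.a10, .a11]⟩,
  ⟨P1427, 1, [.a10, .a11], [.a10]⟩,
  ⟨P1426, 0, [.a10, .a11], [.a10]⟩]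
def N1508 : List Ent := [⟨1, [.a0], [.a0]⟩,
  ⟨2, [.a1, .a7], [.a1, .a2, .a7, .a8]⟩,
  ⟨4, [.a2], [.a2]⟩,
  ⟨8, [.a3], [.a3]⟩,
  ⟨16, [.a4, .a7], [.a4, .a5, .a6, .a7, .a8]⟩,
  ⟨32, [.a5], [.a5]⟩,
  ⟨64, [.a6], [.a6]⟩,
  ⟨128, [.a7], [.a7, .a8]⟩,
  ⟨256, [.a8], [.a8]⟩,
  ⟨512, [.a9], [.a9]⟩,
  ⟨1024, [.a10], [.a10, .a11]⟩,
  ⟨2048, [.a11], [.a11]⟩]
theorem bad1508 (c : CtxF Goal γ) : Bad Goal γ [] P1508 :=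
  c.toCtx.bnd (B := B1508) (D := D1508) (I := [9, 10, 0, 1, 11, 2, 3, 6, 12]) (r := 4) (C := C1508) (N := N1508) (by decide +kernel) (by decide +kernel) (by decide +kernel) (by decide +kernel)
    (allB_cons (bad1403 c) (allB_cons (bad1422 c) (allB_cons (bad1422 c) (allB_cons (bad1425 c) (allB_cons (bad1425 c) (allB_cons (bad1425 c) (allB_cons (bad1425 c) (allB_cons (bad1426 c) (allB_cons (bad1427 c) (allB_cons (bad1427 c) (allB_cons (bad1426 c) (allB_cons (bad1427 c) (allB_cons (bad1426 c) (allB_cons (bad1427 c) (allB_cons (bad1426 c) (allB_nil))))))))))))))))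

def P1509 : List Ent := [⟨1, [.a0, .a11], [.a0, .a2, .a3, .a4, .a5, .a6, .a7, .a9, .a11]⟩,
  ⟨2, [.a1, .a7], [.a1, .a2, .a7, .a8]⟩,
  ⟨4, [.a2], [.a2]⟩,
  ⟨8, [.a3], [.a3]⟩,
  ⟨16, [.a4, .a7], [.a4, .a5, .a6, .a7, .a8]⟩,
  ⟨32, [.a5], [.a5]⟩,
  ⟨64, [.a6], [.a6]⟩,
  ⟨256, [.a8], [.a8]⟩,
  ⟨512, [.a9], [.a9]⟩]
def B1509 : List Gv := [⟨[.a0, .a11], [.a0, .a2, .a3, .a4, .a5, .a6, .a7, .a9, .a11]⟩, ⟨[.a1, .a7], [.a1, .a2, .a7, .a8]⟩]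
def D1509 : List Dv := [⟨[.a2, .a3, .a4, .a5, .a6, .a7, .a9], [0, 0], []⟩,
  ⟨[.a3, .a4, .a5, .a6, .a7], [0, 2, 1], [1, 2]⟩,
  ⟨[.a5, .a6, .a9], [0, 1, 3, 3], []⟩,
  ⟨[.a4, .a5, .a6, .a7, .a8], [1, 2, 4], [4, 2]⟩,
  ⟨[.a9], [1, 3, 3], []⟩,
  ⟨[.a8, .a9], [2, 1, 3, 3, 5], [5, 3]⟩,
  ⟨[.a6, .a9], [3, 2, 4, 4, 7], [7, 4]⟩,
  ⟨[.a8], [1], [2]⟩,
  ⟨[.a6], [1], [3]⟩,
  ⟨[.a5], [6], [0, 4]⟩,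
  ⟨[.a4, .a7], [6], [0, 1, 2]⟩,
  ⟨[.a3], [9], [0, 1, 2]⟩,
  ⟨[.a2], [11], [0, 1, 2, 3, 7]⟩]
def C1509 : List Ch := [⟨P1403, 0, [], []⟩,
  ⟨P1423, 1, [], []⟩,
  ⟨P1423, 0, [.a10], [.a10, .a11]⟩]
def N1509 : List Ent := [⟨1, [.a0, .a11], [.a0, .a2, .a3, .a4, .a5, .a6, .a7, .a9, .a11]⟩,
  ⟨2, [.a1, .a7], [.a1, .a2, .a7, .a8]⟩,
  ⟨4, [.a2], [.a2]⟩,
  ⟨8, [.a3], [.a3]⟩,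
  ⟨16, [.a4, .a7], [.a4, .a5, .a6, .a7, .a8]⟩,
  ⟨32, [.a5], [.a5]⟩,
  ⟨64, [.a6], [.a6]⟩,
  ⟨128, [.a7], [.a7, .a8]⟩,
  ⟨256, [.a8], [.a8]⟩,
  ⟨512, [.a9], [.a9]⟩,
  ⟨1024, [.a10], [.a10, .a11]⟩,
  ⟨2048, [.a11], [.a11]⟩]
theorem bad1509 (c : CtxF Goal γ) : Bad Goal γ [] P1509 :=
  c.toCtx.bnd (B := B1509) (D := D1509) (I := [13, 14, 0, 1, 2, 3, 4, 5, 8]) (r := 2) (C := C1509) (N := N1509) (by decide +kernel) (by decide +kernel) (by decide +kernel) (by decide +kernel)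
    (allB_cons (bad1403 c) (allB_cons (bad1423 c) (allB_cons (bad1423 c) (allB_nil))))

def P1510 : List Ent := [⟨1, [.a0], [.a0]⟩,
  ⟨2, [.a1, .a7, .a11], [.a1, .a2, .a5, .a6, .a7, .a8, .a9, .a11]⟩,
  ⟨4, [.a2], [.a2]⟩,
  ⟨8, [.a3], [.a3]⟩,
  ⟨16, [.a4, .a7], [.a4, .a5, .a6, .a7, .a8]⟩,
  ⟨32, [.a5], [.a5]⟩,
  ⟨64, [.a6], [.a6]⟩,
  ⟨256, [.a8], [.a8]⟩,
  ⟨512, [.a9], [.a9]⟩]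
def B1510 : List Gv := [⟨[.a0], [.a0]⟩, ⟨[.a1, .a7, .a11], [.a1, .a2, .a5, .a6, .a7, .a8, .a9, .a11]⟩, ⟨[.a2], [.a2]⟩]
def D1510 : List Dv := [⟨[.a3, .a4, .a7, .a8, .a9], [1, 0], [0, 1]⟩,
  ⟨[.a5, .a9], [3, 2, 2], []⟩,
  ⟨[.a6, .a8], [4, 3], [3, 4]⟩,
  ⟨[.a8], [0, 2, 3], [3, 2]⟩,
  ⟨[.a4, .a5, .a7, .a8, .a9], [3, 3, 5], [5, 3]⟩,
  ⟨[.a9], [3, 4, 7], [7, 4]⟩,
  ⟨[.a6], [3], [2]⟩,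
  ⟨[.a5], [5], [1]⟩,
  ⟨[.a4, .a7], [3], [0, 4, 2]⟩,
  ⟨[.a3], [8], [0, 5, 3]⟩]
def C1510 : List Ch := [⟨P1404, 0, [], []⟩,
  ⟨P1422, 1, [], []⟩,
  ⟨P1423, 0, [.a10], [.a10, .a11]⟩,
  ⟨P1428, 2, [], []⟩,
  ⟨P1428, 0, [.a4], [.a4, .a5]⟩,
  ⟨P1428, 1, [.a1], [.a1, .a2]⟩,
  ⟨P1428, 0, [.a11], [.a11]⟩]
def N1510 : List Ent := [⟨1, [.a0], [.a0]⟩,
  ⟨2, [.a1, .a7, .a11], [.a1, .a2, .a5, .a6, .a7, .a8, .a9, .a11]⟩,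
  ⟨4, [.a2], [.a2]⟩,
  ⟨8, [.a3], [.a3]⟩,
  ⟨16, [.a4, .a7], [.a4, .a5, .a6, .a7, .a8]⟩,
  ⟨32, [.a5], [.a5]⟩,
  ⟨64, [.a6], [.a6]⟩,
  ⟨128, [.a7], [.a7, .a8]⟩,
  ⟨256, [.a8], [.a8]⟩,
  ⟨512, [.a9], [.a9]⟩,
  ⟨2048, [.a11], [.a11]⟩]
theorem bad1510 (c : CtxF Goal γ) : Bad Goal γ [] P1510 :=
  c.toCtx.bnd (B := B1510) (D := D1510) (I := [10, 11, 12, 0, 1, 2, 3, 6, 4]) (r := 3) (C := C1510) (N := N1510) (by decide +kernel) (by decide +kernel) (by decide +kernel) (by decide +kernel)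
    (allB_cons (bad1404 c) (allB_cons (bad1422 c) (allB_cons (bad1423 c) (allB_cons (bad1428 c) (allB_cons (bad1428 c) (allB_cons (bad1428 c) (allB_cons (bad1428 c) (allB_nil))))))))

def P1511 : List Ent := [⟨1, [.a0, .a10], [.a0, .a1, .a2, .a3, .a4, .a6, .a8, .a9, .a10, .a11]⟩,
  ⟨2, [.a1, .a7, .a11], [.a1, .a2, .a5, .a6, .a7, .a8, .a9, .a11]⟩,
  ⟨4, [.a2], [.a2]⟩,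
  ⟨8, [.a3], [.a3]⟩,
  ⟨16, [.a4, .a7], [.a4, .a5, .a6, .a7, .a8]⟩,
  ⟨32, [.a5], [.a5]⟩,
  ⟨64, [.a6], [.a6]⟩,
  ⟨256, [.a8], [.a8]⟩,
  ⟨512, [.a9], [.a9]⟩]
def B1511 : List Gv := [⟨[.a0, .a10], [.a0, .a1, .a2, .a3, .a4, .a6, .a8, .a9, .a10, .a11]⟩, ⟨[.a4, .a7], [.a4, .a5, .a6, .a7, .a8]⟩]
def D1511 : List Dv := [⟨[.a1, .a3, .a5, .a6, .a7, .a8, .a9, .a11], [0, 0], []⟩,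
  ⟨[.a5, .a6, .a8, .a9], [2, 1], [1, 2]⟩,
  ⟨[.a9], [0, 3, 3], []⟩,
  ⟨[.a3, .a6, .a8], [2, 4], [4, 2]⟩,
  ⟨[.a2, .a6, .a9], [3, 3], []⟩,
  ⟨[.a8], [3, 6], [6, 3]⟩,
  ⟨[.a6, .a8], [3, 5], [5, 3]⟩,
  ⟨[.a6], [0], [1]⟩,
  ⟨[.a5], [6], [0, 2, 5]⟩,
  ⟨[.a3], [5], [1, 3]⟩,
  ⟨[.a2], [5], [2, 7]⟩,
  ⟨[.a1, .a7, .a11], [10], [1, 3, 8]⟩]
def C1511 : List Ch := [⟨P1404, 0, [], []⟩,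
  ⟨P1429, 1, [], []⟩,
  ⟨P1429, 0, [.a1], [.a1, .a2]⟩]
def N1511 : List Ent := [⟨1, [.a0, .a10], [.a0, .a1, .a2, .a3, .a4, .a6, .a8, .a9, .a10, .a11]⟩,
  ⟨2, [.a1, .a7, .a11], [.a1, .a2, .a5, .a6, .a7, .a8, .a9, .a11]⟩,
  ⟨4, [.a2], [.a2]⟩,
  ⟨8, [.a3], [.a3]⟩,
  ⟨16, [.a4, .a7], [.a4, .a5, .a6, .a7, .a8]⟩,
  ⟨32, [.a5], [.a5]⟩,
  ⟨64, [.a6], [.a6]⟩,
  ⟨128, [.a7], [.a7, .a8]⟩,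
  ⟨256, [.a8], [.a8]⟩,
  ⟨512, [.a9], [.a9]⟩,
  ⟨2048, [.a11], [.a11]⟩]
theorem bad1511 (c : CtxF Goal γ) : Bad Goal γ [] P1511 :=
  c.toCtx.bnd (B := B1511) (D := D1511) (I := [12, 0, 1, 2, 13, 3, 4, 6, 9]) (r := 2) (C := C1511) (N := N1511) (by decide +kernel) (by decide +kernel) (by decide +kernel) (by decide +kernel)
    (allB_cons (bad1404 c) (allB_cons (bad1429 c) (allB_cons (bad1429 c) (allB_nil))))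

def P1512 : List Ent := [⟨1, [.a0, .a7], [.a0, .a2, .a3, .a5, .a7, .a8]⟩,
  ⟨4, [.a2], [.a2]⟩,
  ⟨8, [.a3], [.a3]⟩,
  ⟨16, [.a4, .a7], [.a4, .a5, .a6, .a7, .a8]⟩,
  ⟨32, [.a5], [.a5]⟩,
  ⟨64, [.a6], [.a6]⟩,
  ⟨256, [.a8], [.a8]⟩,
  ⟨512, [.a9], [.a9]⟩,
  ⟨2048, [.a11], [.a11]⟩]
def B1512 : List Gv := [⟨[.a0, .a7], [.a0, .a2, .a3, .a5, .a7, .a8]⟩, ⟨[.a4, .a7], [.a4, .a5, .a6, .a7, .a8]⟩, ⟨[.a11], [.a11]⟩]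
def D1512 : List Dv := [⟨[.a2, .a3, .a8], [0, 0], []⟩,
  ⟨[.a3, .a6], [2, 1], [1, 2]⟩,
  ⟨[.a5, .a6, .a8], [3, 3], []⟩,
  ⟨[.a8, .a9], [0, 4, 2, 5, 3], [3, 5]⟩,
  ⟨[.a6, .a8], [1, 3, 5], [5, 3]⟩,
  ⟨[.a9], [1, 2, 4, 7], [7, 4]⟩,
  ⟨[.a8], [2], [0]⟩,
  ⟨[.a6], [2], [0]⟩,
  ⟨[.a5], [5], [0, 1]⟩,
  ⟨[.a3], [7], [1]⟩,
  ⟨[.a2], [9], [0, 3]⟩]
def C1512 : List Ch := [⟨P1383, 0, [], []⟩,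
  ⟨P1430, 1, [], []⟩,
  ⟨P1431, 0, [], []⟩,
  ⟨P1432, 2, [], []⟩,
  ⟨P1433, 0, [], []⟩,
  ⟨P1430, 1, [.a1], [.a1, .a2]⟩,
  ⟨P1431, 0, [.a1], [.a1, .a2]⟩]
def N1512 : List Ent := [⟨1, [.a0, .a7], [.a0, .a2, .a3, .a5, .a7, .a8]⟩,
  ⟨2, [.a1], [.a1, .a2]⟩,
  ⟨4, [.a2], [.a2]⟩,
  ⟨8, [.a3], [.a3]⟩,
  ⟨16, [.a4, .a7], [.a4, .a5, .a6, .a7, .a8]⟩,
  ⟨32, [.a5], [.a5]⟩,
  ⟨64, [.a6], [.a6]⟩,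
  ⟨128, [.a7], [.a7, .a8]⟩,
  ⟨256, [.a8], [.a8]⟩,
  ⟨512, [.a9], [.a9]⟩,
  ⟨2048, [.a11], [.a11]⟩]
theorem bad1512 (c : CtxF Goal γ) : Bad Goal γ [] P1512 :=
  c.toCtx.bnd (B := B1512) (D := D1512) (I := [11, 0, 1, 12, 2, 3, 4, 5, 13]) (r := 3) (C := C1512) (N := N1512) (by decide +kernel) (by decide +kernel) (by decide +kernel) (by decide +kernel)
    (allB_cons (bad1383 c) (allB_cons (bad1430 c) (allB_cons (bad1431 c) (allB_cons (bad1432 c) (allB_cons (bad1433 c) (allB_cons (bad1430 c) (allB_cons (bad1431 c) (allB_nil))))))))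

def P1513 : List Ent := [⟨1, [.a0, .a7], [.a0, .a2, .a3, .a5, .a7, .a8]⟩,
  ⟨2, [.a1, .a7], [.a1, .a2, .a7, .a8]⟩,
  ⟨4, [.a2], [.a2]⟩,
  ⟨8, [.a3], [.a3]⟩,
  ⟨16, [.a4, .a7], [.a4, .a5, .a6, .a7, .a8]⟩,
  ⟨32, [.a5], [.a5]⟩,
  ⟨64, [.a6], [.a6]⟩,
  ⟨256, [.a8], [.a8]⟩,
  ⟨512, [.a9], [.a9]⟩]
def B1513 : List Gv := [⟨[.a0, .a7], [.a0, .a2, .a3, .a5, .a7, .a8]⟩, ⟨[.a1, .a7], [.a1, .a2, .a7, .a8]⟩, ⟨[.a4, .a7], [.a4, .a5, .a6, .a7, .a8]⟩, ⟨[.a9], [.a9]⟩]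
def D1513 : List Dv := [⟨[.a2, .a3, .a8], [0, 0], []⟩,
  ⟨[.a8], [0, 2, 1], [1, 2]⟩,
  ⟨[.a3], [1, 3, 3], []⟩,
  ⟨[.a6], [0, 5, 3], [3, 5]⟩,
  ⟨[.a5, .a6], [1, 6, 5], [5, 6]⟩,
  ⟨[.a5], [0], [1]⟩,
  ⟨[.a2], [5], [3, 4]⟩]
def C1513 : List Ch := [⟨P1403, 0, [], []⟩,
  ⟨P1432, 1, [], []⟩,
  ⟨P1432, 0, [.a10], [.a10, .a11]⟩,
  ⟨P1434, 2, [], []⟩,
  ⟨P1434, 0, [.a11], [.a11]⟩,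
  ⟨P1434, 1, [.a10, .a11], [.a10]⟩,
  ⟨P1434, 0, [.a10], [.a10, .a11]⟩,
  ⟨P1435, 3, [], []⟩,
  ⟨P1436, 0, [], []⟩,
  ⟨P1436, 1, [.a11], [.a11]⟩,
  ⟨P1435, 0, [.a11], [.a11]⟩,
  ⟨P1435, 2, [.a10], [.a10, .a11]⟩,
  ⟨P1436, 0, [.a10], [.a10, .a11]⟩,
  ⟨P1435, 1, [.a10, .a11], [.a10]⟩,
  ⟨P1436, 0, [.a10, .a11], [.a10]⟩]
def N1513 : List Ent := [⟨1, [.a0, .a7], [.a0, .a2, .a3, .a5, .a7, .a8]⟩,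
  ⟨2, [.a1, .a7], [.a1, .a2, .a7, .a8]⟩,
  ⟨4, [.a2], [.a2]⟩,
  ⟨8, [.a3], [.a3]⟩,
  ⟨16, [.a4, .a7], [.a4, .a5, .a6, .a7, .a8]⟩,
  ⟨32, [.a5], [.a5]⟩,
  ⟨64, [.a6], [.a6]⟩,
  ⟨128, [.a7], [.a7, .a8]⟩,
  ⟨256, [.a8], [.a8]⟩,
  ⟨512, [.a9], [.a9]⟩,
  ⟨1024, [.a10], [.a10, .a11]⟩,
  ⟨2048, [.a11], [.a11]⟩]
theorem bad1513 (c : CtxF Goal γ) : Bad Goal γ [] P1513 :=
  c.toCtx.bnd (B := B1513) (D := D1513) (I := [7, 8, 0, 4, 9, 1, 3, 5, 10]) (r := 4) (C := C1513) (N := N1513) (by decide +kernel) (by decide +kernel) (by decide +kernel) (by decide +kernel)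
    (allB_cons (bad1403 c) (allB_cons (bad1432 c) (allB_cons (bad1432 c) (allB_cons (bad1434 c) (allB_cons (bad1434 c) (allB_cons (bad1434 c) (allB_cons (bad1434 c) (allB_cons (bad1435 c) (allB_cons (bad1436 c) (allB_cons (bad1436 c) (allB_cons (bad1435 c) (allB_cons (bad1435 c) (allB_cons (bad1436 c) (allB_cons (bad1435 c) (allB_cons (bad1436 c) (allB_nil))))))))))))))))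

def P1514 : List Ent := [⟨1, [.a0, .a7, .a11], [.a0, .a4, .a5, .a9, .a11]⟩,
  ⟨2, [.a1, .a7], [.a1, .a2, .a7, .a8]⟩,
  ⟨4, [.a2], [.a2]⟩,
  ⟨8, [.a3], [.a3]⟩,
  ⟨16, [.a4, .a7], [.a4, .a5, .a6, .a7, .a8]⟩,
  ⟨32, [.a5], [.a5]⟩,
  ⟨64, [.a6], [.a6]⟩,
  ⟨256, [.a8], [.a8]⟩,
  ⟨512, [.a9], [.a9]⟩]
def B1514 : List Gv := [⟨[.a0, .a7, .a11], [.a0, .a4, .a5, .a9, .a11]⟩, ⟨[.a1, .a7], [.a1, .a2, .a7, .a8]⟩]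
def D1514 : List Dv := [⟨[.a4, .a7, .a8, .a9], [0, 0], []⟩,
  ⟨[.a2, .a5, .a9], [2, 1], [1, 2]⟩,
  ⟨[.a8, .a9], [0, 3, 3], []⟩,
  ⟨[.a3, .a5, .a8], [2, 4], [4, 2]⟩,
  ⟨[.a5, .a6], [3, 3], []⟩,
  ⟨[.a6], [0, 1, 3, 5], [5, 3]⟩,
  ⟨[.a9], [3, 0, 4, 7], [7, 4]⟩,
  ⟨[.a8], [4], [0]⟩,
  ⟨[.a5], [3], [2]⟩,
  ⟨[.a4, .a7], [8], [1, 2]⟩,
  ⟨[.a3], [6], [1, 2]⟩,
  ⟨[.a2], [9], [2, 4]⟩]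
def C1514 : List Ch := [⟨P1403, 0, [], []⟩,
  ⟨P1433, 1, [], []⟩,
  ⟨P1433, 0, [.a10], [.a10, .a11]⟩]
def N1514 : List Ent := [⟨1, [.a0, .a7, .a11], [.a0, .a4, .a5, .a9, .a11]⟩,
  ⟨2, [.a1, .a7], [.a1, .a2, .a7, .a8]⟩,
  ⟨4, [.a2], [.a2]⟩,
  ⟨8, [.a3], [.a3]⟩,
  ⟨16, [.a4, .a7], [.a4, .a5, .a6, .a7, .a8]⟩,
  ⟨32, [.a5], [.a5]⟩,
  ⟨64, [.a6], [.a6]⟩,
  ⟨128, [.a7], [.a7, .a8]⟩,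
  ⟨256, [.a8], [.a8]⟩,
  ⟨512, [.a9], [.a9]⟩,
  ⟨1024, [.a10], [.a10, .a11]⟩,
  ⟨2048, [.a11], [.a11]⟩]
theorem bad1514 (c : CtxF Goal γ) : Bad Goal γ [] P1514 :=
  c.toCtx.bnd (B := B1514) (D := D1514) (I := [12, 13, 0, 1, 2, 3, 6, 4, 5]) (r := 2) (C := C1514) (N := N1514) (by decide +kernel) (by decide +kernel) (by decide +kernel) (by decide +kernel)
    (allB_cons (bad1403 c) (allB_cons (bad1433 c) (allB_cons (bad1433 c) (allB_nil))))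

def P1515 : List Ent := [⟨1, [.a0, .a7], [.a0, .a2, .a3, .a5, .a7, .a8]⟩,
  ⟨2, [.a1, .a7, .a11], [.a1, .a2, .a5, .a6, .a7, .a8, .a9, .a11]⟩,
  ⟨4, [.a2], [.a2]⟩,
  ⟨8, [.a3], [.a3]⟩,
  ⟨16, [.a4, .a7], [.a4, .a5, .a6, .a7, .a8]⟩,
  ⟨32, [.a5], [.a5]⟩,
  ⟨64, [.a6], [.a6]⟩,
  ⟨256, [.a8], [.a8]⟩,
  ⟨512, [.a9], [.a9]⟩]
def B1515 : List Gv := [⟨[.a0, .a7], [.a0, .a2, .a3, .a5, .a7, .a8]⟩, ⟨[.a1, .a7, .a11], [.a1, .a2, .a5, .a6, .a7, .a8, .a9, .a11]⟩]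
def D1515 : List Dv := [⟨[.a2, .a3, .a8], [0, 0], []⟩,
  ⟨[.a3, .a4, .a7, .a8, .a9], [2, 1], [1, 2]⟩,
  ⟨[.a4, .a7], [0, 1, 3, 3], []⟩,
  ⟨[.a5, .a6], [2, 4], [4, 2]⟩,
  ⟨[.a6], [0, 2, 4], [4, 2]⟩,
  ⟨[.a9], [0, 2, 3, 3, 6], [6, 3]⟩,
  ⟨[.a8], [1, 2, 3, 4], [4, 3]⟩,
  ⟨[.a5], [3], [2]⟩,
  ⟨[.a3], [6], [5, 1, 2]⟩,
  ⟨[.a2], [8], [0, 2]⟩]
def C1515 : List Ch := [⟨P1404, 0, [], []⟩,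
  ⟨P1432, 1, [], []⟩,
  ⟨P1433, 0, [.a10], [.a10, .a11]⟩]
def N1515 : List Ent := [⟨1, [.a0, .a7], [.a0, .a2, .a3, .a5, .a7, .a8]⟩,
  ⟨2, [.a1, .a7, .a11], [.a1, .a2, .a5, .a6, .a7, .a8, .a9, .a11]⟩,
  ⟨4, [.a2], [.a2]⟩,
  ⟨8, [.a3], [.a3]⟩,
  ⟨16, [.a4, .a7], [.a4, .a5, .a6, .a7, .a8]⟩,
  ⟨32, [.a5], [.a5]⟩,
  ⟨64, [.a6], [.a6]⟩,
  ⟨128, [.a7], [.a7, .a8]⟩,
  ⟨256, [.a8], [.a8]⟩,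
  ⟨512, [.a9], [.a9]⟩,
  ⟨2048, [.a11], [.a11]⟩]
theorem bad1515 (c : CtxF Goal γ) : Bad Goal γ [] P1515 :=
  c.toCtx.bnd (B := B1515) (D := D1515) (I := [10, 11, 0, 1, 7, 2, 5, 3, 4]) (r := 2) (C := C1515) (N := N1515) (by decide +kernel) (by decide +kernel) (by decide +kernel) (by decide +kernel)
    (allB_cons (bad1404 c) (allB_cons (bad1432 c) (allB_cons (bad1433 c) (allB_nil))))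

def P1516 : List Ent := [⟨1, [.a0, .a7, .a10], [.a0, .a1, .a3, .a4, .a7, .a10, .a11]⟩,
  ⟨2, [.a1, .a7, .a11], [.a1, .a2, .a5, .a6, .a7, .a8, .a9, .a11]⟩,
  ⟨4, [.a2], [.a2]⟩,
  ⟨8, [.a3], [.a3]⟩,
  ⟨16, [.a4, .a7], [.a4, .a5, .a6, .a7, .a8]⟩,
  ⟨32, [.a5], [.a5]⟩,
  ⟨64, [.a6], [.a6]⟩,
  ⟨256, [.a8], [.a8]⟩,
  ⟨512, [.a9], [.a9]⟩]
def B1516 : List Gv := [⟨[.a0, .a7, .a10], [.a0, .a1, .a3, .a4, .a7, .a10, .a11]⟩, ⟨[.a4, .a7], [.a4, .a5, .a6, .a7, .a8]⟩]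
def D1516 : List Dv := [⟨[.a1, .a2, .a6, .a7, .a11], [0, 0], []⟩,
  ⟨[.a5, .a8, .a9], [2, 1], [1, 2]⟩,
  ⟨[.a6, .a9], [0, 3, 3], []⟩,
  ⟨[.a3, .a5, .a6], [2, 4], [4, 2]⟩,
  ⟨[.a2, .a6, .a8, .a9], [3, 3], []⟩,
  ⟨[.a8], [3, 6], [6, 3]⟩,
  ⟨[.a9], [0, 3, 3, 5], [5, 3]⟩,
  ⟨[.a6], [4], [0]⟩,
  ⟨[.a5], [6], [2, 1]⟩,
  ⟨[.a3], [5], [0, 1]⟩,
  ⟨[.a2], [5], [2, 4, 3]⟩,
  ⟨[.a1, .a7, .a11], [10], [0, 2, 5]⟩]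
def C1516 : List Ch := [⟨P1404, 0, [], []⟩,
  ⟨P1437, 1, [], []⟩,
  ⟨P1437, 0, [.a1], [.a1, .a2]⟩]
def N1516 : List Ent := [⟨1, [.a0, .a7, .a10], [.a0, .a1, .a3, .a4, .a7, .a10, .a11]⟩,
  ⟨2, [.a1, .a7, .a11], [.a1, .a2, .a5, .a6, .a7, .a8, .a9, .a11]⟩,
  ⟨4, [.a2], [.a2]⟩,
  ⟨8, [.a3], [.a3]⟩,
  ⟨16, [.a4, .a7], [.a4, .a5, .a6, .a7, .a8]⟩,
  ⟨32, [.a5], [.a5]⟩,
  ⟨64, [.a6], [.a6]⟩,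
  ⟨128, [.a7], [.a7, .a8]⟩,
  ⟨256, [.a8], [.a8]⟩,
  ⟨512, [.a9], [.a9]⟩,
  ⟨2048, [.a11], [.a11]⟩]
theorem bad1516 (c : CtxF Goal γ) : Bad Goal γ [] P1516 :=
  c.toCtx.bnd (B := B1516) (D := D1516) (I := [12, 0, 1, 2, 13, 3, 4, 6, 5]) (r := 2) (C := C1516) (N := N1516) (by decide +kernel) (by decide +kernel) (by decide +kernel) (by decide +kernel)
    (allB_cons (bad1404 c) (allB_cons (bad1437 c) (allB_cons (bad1437 c) (allB_nil))))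

def P1517 : List Ent := [⟨1, [.a0], [.a0]⟩,
  ⟨4, [.a2], [.a2]⟩,
  ⟨8, [.a3], [.a3]⟩,
  ⟨16, [.a4, .a9], [.a4, .a5, .a8, .a9]⟩,
  ⟨32, [.a5], [.a5]⟩,
  ⟨64, [.a6], [.a6]⟩,
  ⟨128, [.a7], [.a7, .a8]⟩,
  ⟨256, [.a8], [.a8]⟩,
  ⟨2048, [.a11], [.a11]⟩]
def B1517 : List Gv := [⟨[.a0], [.a0]⟩, ⟨[.a2], [.a2]⟩, ⟨[.a4, .a9], [.a4, .a5, .a8, .a9]⟩, ⟨[.a11], [.a11]⟩]
def D1517 : List Dv := [⟨[.a3, .a6], [1, 2, 0], [0, 2]⟩,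
  ⟨[.a5], [3, 2], [2, 3]⟩,
  ⟨[.a8], [0, 4, 4], []⟩,
  ⟨[.a6, .a7, .a8], [1, 5, 2, 4, 6, 3], [3, 6]⟩,
  ⟨[.a7], [0, 2, 7, 5], [5, 7]⟩,
  ⟨[.a6], [1], [0, 2]⟩,
  ⟨[.a3], [5], [0]⟩]
def C1517 : List Ch := [⟨P1392, 0, [], []⟩,
  ⟨P1438, 1, [], []⟩,
  ⟨P1438, 0, [.a4], [.a4, .a5]⟩,
  ⟨P1419, 2, [], []⟩,
  ⟨P1430, 0, [], []⟩,
  ⟨P1439, 1, [], []⟩,
  ⟨P1439, 0, [.a4], [.a4, .a5]⟩,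
  ⟨P1440, 3, [], []⟩,
  ⟨P1441, 0, [], []⟩,
  ⟨P1442, 1, [], []⟩,
  ⟨P1442, 0, [.a4], [.a4, .a5]⟩,
  ⟨P1443, 2, [], []⟩,
  ⟨P1444, 0, [], []⟩,
  ⟨P1445, 1, [], []⟩,
  ⟨P1445, 0, [.a4], [.a4, .a5]⟩]
def S1517 : List St := [.phi 1 [⟨4, [.a2, .a3], [.a2, .a3]⟩,
  ⟨16, [.a4, .a7, .a9], [.a4, .a5, .a6, .a7, .a9]⟩,
  ⟨32, [.a5], [.a5]⟩,
  ⟨64, [.a6], [.a6]⟩,
  ⟨256, [.a8], [.a8]⟩] [[[.a7], [.a0, .a7]], [[.a0, .a3, .a7, .a11]], [[.a0, .a8]], [[.a2, .a4, .a7, .a9]], [[.a7]]],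
  .om 2 [⟨1, [.a0], [.a0]⟩,
  ⟨4, [.a2], [.a2]⟩,
  ⟨8, [.a3], [.a3]⟩,
  ⟨16, [.a4, .a7, .a9], [.a4, .a5, .a6, .a7, .a9]⟩,
  ⟨32, [.a5], [.a5]⟩,
  ⟨64, [.a6], [.a6]⟩,
  ⟨256, [.a8], [.a8]⟩,
  ⟨2048, [.a11], [.a11]⟩] [[[.a0]], [[.a2]], [[.a3]], [[.a0], [.a0, .a4, .a7, .a9]], [[.a5]], [[.a6]], [[.a8]], [[.a11]]],
  .phi 0 [⟨4, [.a2, .a3, .a4, .a7, .a9], [.a2, .a3, .a4, .a5, .a6, .a7, .a9]⟩,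
  ⟨32, [.a5], [.a5]⟩,
  ⟨64, [.a6], [.a6]⟩,
  ⟨256, [.a8], [.a8]⟩] [[[.a0, .a2, .a3, .a11]], [[.a0, .a8]], [[.a2, .a4, .a7, .a9]], [[.a3, .a11]]],
  .om 2 [⟨4, [.a2, .a3], [.a2, .a3]⟩,
  ⟨32, [.a5], [.a5]⟩,
  ⟨64, [.a6], [.a6]⟩,
  ⟨256, [.a8], [.a8]⟩] [[[.a2, .a3]], [[.a5]], [[.a6]], [[.a8]]],
  .cent 5 0 4 [⟨4, [.a2], [.a2]⟩,
  ⟨8, [.a3], [.a3]⟩,
  ⟨16, [.a4, .a7, .a9], [.a4, .a5, .a6, .a7, .a9]⟩,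
  ⟨32, [.a5], [.a5]⟩,
  ⟨64, [.a6], [.a6]⟩,
  ⟨256, [.a8], [.a8]⟩],
  .om 2 [⟨32, [.a5], [.a5]⟩,
  ⟨64, [.a6], [.a6]⟩,
  ⟨256, [.a8], [.a8]⟩] [[[.a5]], [[.a6]], [[.a8]]]]
theorem bad1517 (c : CtxF Goal γ) : Bad Goal γ [] P1517 :=
  c.toCtx.chn (B := B1517) (D := D1517) (I := [7, 8, 0, 9, 5, 1, 2, 4, 10]) (r := 4) (C := C1517) (l := S1517) (x := ⟨[.a9], [.a9]⟩) (ix := [1, 0]) (by decide +kernel) (by decide +kernel) (by decide +kernel) (by decide +kernel)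
    (allB_cons (bad1392 c) (allB_cons (bad1438 c) (allB_cons (bad1438 c) (allB_cons (bad1419 c) (allB_cons (bad1430 c) (allB_cons (bad1439 c) (allB_cons (bad1439 c) (allB_cons (bad1440 c) (allB_cons (bad1441 c) (allB_cons (bad1442 c) (allB_cons (bad1442 c) (allB_cons (bad1443 c) (allB_cons (bad1444 c) (allB_cons (bad1445 c) (allB_cons (bad1445 c) (allB_nil))))))))))))))))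

def P1518 : List Ent := [⟨1, [.a0, .a9], [.a0, .a3, .a6, .a9]⟩,
  ⟨4, [.a2], [.a2]⟩,
  ⟨8, [.a3], [.a3]⟩,
  ⟨16, [.a4, .a9], [.a4, .a5, .a8, .a9]⟩,
  ⟨32, [.a5], [.a5]⟩,
  ⟨64, [.a6], [.a6]⟩,
  ⟨128, [.a7], [.a7, .a8]⟩,
  ⟨256, [.a8], [.a8]⟩,
  ⟨2048, [.a11], [.a11]⟩]
def B1518 : List Gv := [⟨[.a0, .a9], [.a0, .a3, .a6, .a9]⟩, ⟨[.a4, .a9], [.a4, .a5, .a8, .a9]⟩, ⟨[.a11], [.a11]⟩]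
def D1518 : List Dv := [⟨[.a3, .a6], [0, 0], []⟩,
  ⟨[.a2, .a3, .a5, .a6, .a8], [2, 1], [1, 2]⟩,
  ⟨[.a5, .a8], [3, 3], []⟩,
  ⟨[.a6, .a7], [4, 1, 5, 3], [3, 5]⟩,
  ⟨[.a8], [3, 6], [6, 3]⟩,
  ⟨[.a7, .a8], [1, 2, 3, 7], [7, 3]⟩,
  ⟨[.a7], [0], [1]⟩,
  ⟨[.a6], [3], [0]⟩,
  ⟨[.a5], [5], [3]⟩,
  ⟨[.a3], [8], [1]⟩,
  ⟨[.a2], [8], [0, 1, 2, 5]⟩]
def C1518 : List Ch := [⟨P1392, 0, [], []⟩,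
  ⟨P1420, 1, [], []⟩,
  ⟨P1431, 0, [], []⟩,
  ⟨P1446, 2, [], []⟩,
  ⟨P1441, 0, [.a1], [.a1, .a2]⟩,
  ⟨P1447, 1, [], []⟩,
  ⟨P1448, 0, [], []⟩]
def S1518 : List St := [.phi 1 [⟨4, [.a2], [.a2]⟩,
  ⟨8, [.a3], [.a3]⟩,
  ⟨16, [.a4, .a7, .a9], [.a4, .a5, .a6, .a7, .a9]⟩,
  ⟨32, [.a5], [.a5]⟩,
  ⟨64, [.a6], [.a6]⟩,
  ⟨256, [.a8], [.a8]⟩] [[[.a0, .a4, .a8]], [[.a2, .a4, .a7, .a9], [.a0, .a9]], [[.a0, .a4, .a8], [.a0, .a4, .a7, .a8, .a11]], [[.a3, .a7, .a11]], [[.a2, .a4, .a7, .a9]], [[.a7]]],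
  .comm 0 0 [⟨32, [.a5], [.a5]⟩] [⟨[.a2], [.a4, .a7, .a9]⟩],
  .om 1 [⟨4, [.a2], [.a2]⟩,
  ⟨8, [.a3], [.a3]⟩,
  ⟨32, [.a5], [.a5]⟩,
  ⟨64, [.a6], [.a6]⟩,
  ⟨256, [.a8], [.a8]⟩] [[[.a2]], [[.a3]], [[.a5]], [[.a6]], [[.a8]]]]
theorem bad1518 (c : CtxF Goal γ) : Bad Goal γ [] P1518 :=
  c.toCtx.chn (B := B1518) (D := D1518) (I := [11, 0, 1, 12, 2, 3, 4, 6, 13]) (r := 3) (C := C1518) (l := S1518) (x := ⟨[.a9], [.a9]⟩) (ix := [0, 1]) (by decide +kernel) (by decide +kernel) (by decide +kernel) (by decide +kernel)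
    (allB_cons (bad1392 c) (allB_cons (bad1420 c) (allB_cons (bad1431 c) (allB_cons (bad1446 c) (allB_cons (bad1441 c) (allB_cons (bad1447 c) (allB_cons (bad1448 c) (allB_nil))))))))

def P1519 : List Ent := [⟨1, [.a0], [.a0]⟩,
  ⟨4, [.a2], [.a2]⟩,
  ⟨8, [.a3], [.a3]⟩,
  ⟨16, [.a4], [.a4, .a5]⟩,
  ⟨32, [.a5], [.a5]⟩,
  ⟨64, [.a6], [.a6]⟩,
  ⟨128, [.a7, .a9], [.a7, .a8, .a9]⟩,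
  ⟨256, [.a8], [.a8]⟩,
  ⟨2048, [.a11], [.a11]⟩]
def B1519 : List Gv := [⟨[.a0], [.a0]⟩, ⟨[.a3], [.a3]⟩, ⟨[.a4], [.a4, .a5]⟩, ⟨[.a11], [.a11]⟩]
def D1519 : List Dv := [⟨[.a2], [2, 0], [0, 2]⟩,
  ⟨[.a5], [3, 3], []⟩,
  ⟨[.a7, .a9], [0, 4, 3, 1, 5, 2], [2, 5]⟩,
  ⟨[.a8], [6, 4], [4, 6]⟩,
  ⟨[.a6, .a8], [2, 3, 7], [7, 3]⟩,
  ⟨[.a6], [0], [1]⟩]
def C1519 : List Ch := [⟨P1389, 0, [.a10], [.a10, .a11]⟩,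
  ⟨P1449, 1, [], []⟩,
  ⟨P1449, 0, [.a7], [.a7, .a8]⟩,
  ⟨P1419, 2, [], []⟩,
  ⟨P1431, 0, [], []⟩,
  ⟨P1450, 1, [], []⟩,
  ⟨P1450, 0, [.a7], [.a7, .a8]⟩,
  ⟨P1451, 3, [], []⟩,
  ⟨P1452, 0, [], []⟩,
  ⟨P1453, 1, [], []⟩,
  ⟨P1453, 0, [.a7], [.a7, .a8]⟩,
  ⟨P1443, 2, [.a1], [.a1, .a2]⟩,
  ⟨P1448, 0, [.a1], [.a1, .a2]⟩,
  ⟨P1454, 1, [], []⟩,
  ⟨P1454, 0, [.a7], [.a7, .a8]⟩]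
def S1519 : List St := [.cent 1 1 0 [⟨32, [.a5], [.a5]⟩,
  ⟨64, [.a6], [.a6]⟩],
  .phi 2 [⟨4, [.a2], [.a2]⟩,
  ⟨8, [.a3, .a4, .a7, .a9], [.a3, .a4, .a6, .a7, .a9]⟩,
  ⟨32, [.a5], [.a5]⟩,
  ⟨64, [.a6], [.a6]⟩,
  ⟨256, [.a8], [.a8]⟩] [[[.a0, .a4, .a8]], [[.a0, .a3, .a4, .a8, .a11]], [[.a4]], [[.a2, .a4, .a7, .a9]], [[.a7, .a9]]],
  .cent 3 3 1 [⟨4, [.a2, .a3], [.a2, .a3]⟩,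
  ⟨32, [.a5], [.a5]⟩,
  ⟨64, [.a6], [.a6]⟩,
  ⟨256, [.a8], [.a8]⟩],
  .cent 1 1 3 [⟨32, [.a5], [.a5]⟩,
  ⟨64, [.a6], [.a6]⟩,
  ⟨256, [.a8], [.a8]⟩],
  .cent 5 5 1 [⟨4, [.a2], [.a2]⟩,
  ⟨8, [.a3], [.a3]⟩,
  ⟨16, [.a4, .a7, .a9], [.a4, .a5, .a6, .a7, .a9]⟩,
  ⟨32, [.a5], [.a5]⟩,
  ⟨64, [.a6], [.a6]⟩,
  ⟨256, [.a8], [.a8]⟩]]
theorem bad1519 (c : CtxF Goal γ) : Bad Goal γ [] P1519 :=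
  c.toCtx.chn (B := B1519) (D := D1519) (I := [6, 5, 7, 8, 4, 0, 3, 2, 9]) (r := 4) (C := C1519) (l := S1519) (x := ⟨[.a9], [.a9]⟩) (ix := [0, 1]) (by decide +kernel) (by decide +kernel) (by decide +kernel) (by decide +kernel)
    (allB_cons (bad1389 c) (allB_cons (bad1449 c) (allB_cons (bad1449 c) (allB_cons (bad1419 c) (allB_cons (bad1431 c) (allB_cons (bad1450 c) (allB_cons (bad1450 c) (allB_cons (bad1451 c) (allB_cons (bad1452 c) (allB_cons (bad1453 c) (allB_cons (bad1453 c) (allB_cons (bad1443 c) (allB_cons (bad1448 c) (allB_cons (bad1454 c) (allB_cons (bad1454 c) (allB_nil))))))))))))))))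

def P1520 : List Ent := [⟨1, [.a0, .a9], [.a0, .a3, .a6, .a9]⟩,
  ⟨4, [.a2], [.a2]⟩,
  ⟨8, [.a3], [.a3]⟩,
  ⟨16, [.a4], [.a4, .a5]⟩,
  ⟨32, [.a5], [.a5]⟩,
  ⟨64, [.a6], [.a6]⟩,
  ⟨128, [.a7, .a9], [.a7, .a8, .a9]⟩,
  ⟨256, [.a8], [.a8]⟩,
  ⟨2048, [.a11], [.a11]⟩]
def B1520 : List Gv := [⟨[.a0, .a9], [.a0, .a3, .a6, .a9]⟩, ⟨[.a4], [.a4, .a5]⟩, ⟨[.a11], [.a11]⟩]
def D1520 : List Dv := [⟨[.a3, .a6], [0, 0], []⟩,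
  ⟨[.a2, .a5, .a8], [2, 1], [1, 2]⟩,
  ⟨[.a5], [3, 3], []⟩,
  ⟨[.a6, .a7, .a8, .a9], [4, 2, 1, 5, 3], [3, 5]⟩,
  ⟨[.a8], [3, 6], [6, 3]⟩,
  ⟨[.a7, .a9], [1, 2, 3, 7], [7, 3]⟩,
  ⟨[.a6], [2], [0, 1]⟩,
  ⟨[.a3], [6], [0]⟩,
  ⟨[.a2], [6], [5, 3]⟩]
def C1520 : List Ch := [⟨P1389, 0, [.a10], [.a10, .a11]⟩,
  ⟨P1420, 1, [], []⟩,
  ⟨P1430, 0, [], []⟩,
  ⟨P1455, 2, [], []⟩,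
  ⟨P1452, 0, [.a1], [.a1, .a2]⟩,
  ⟨P1447, 1, [.a1], [.a1, .a2]⟩,
  ⟨P1444, 0, [.a1], [.a1, .a2]⟩]
def S1520 : List St := [.phi 1 [⟨4, [.a2], [.a2]⟩,
  ⟨8, [.a3], [.a3]⟩,
  ⟨16, [.a4, .a7, .a9], [.a4, .a5, .a6, .a7, .a9]⟩,
  ⟨32, [.a5], [.a5]⟩,
  ⟨64, [.a6], [.a6]⟩,
  ⟨256, [.a8], [.a8]⟩] [[[.a0, .a3, .a4, .a7], [.a0, .a2, .a4, .a9]], [[.a2, .a4, .a7, .a9], [.a0, .a9]], [[.a0, .a3, .a7, .a11]], [[.a4]], [[.a2, .a4, .a7, .a9]], [[.a7, .a9]]],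
  .comm 0 0 [⟨32, [.a5], [.a5]⟩] [⟨[.a2], [.a4, .a7, .a9]⟩],
  .om 1 [⟨4, [.a2], [.a2]⟩,
  ⟨8, [.a3], [.a3]⟩,
  ⟨32, [.a5], [.a5]⟩,
  ⟨64, [.a6], [.a6]⟩,
  ⟨256, [.a8], [.a8]⟩] [[[.a2]], [[.a3]], [[.a5]], [[.a6]], [[.a8]]]]
theorem bad1520 (c : CtxF Goal γ) : Bad Goal γ [] P1520 :=
  c.toCtx.chn (B := B1520) (D := D1520) (I := [9, 0, 1, 10, 6, 2, 3, 4, 11]) (r := 3) (C := C1520) (l := S1520) (x := ⟨[.a9], [.a9]⟩) (ix := [0, 1]) (by decide +kernel) (by decide +kernel) (by decide +kernel) (by decide +kernel)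
    (allB_cons (bad1389 c) (allB_cons (bad1420 c) (allB_cons (bad1430 c) (allB_cons (bad1455 c) (allB_cons (bad1452 c) (allB_cons (bad1447 c) (allB_cons (bad1444 c) (allB_nil))))))))

def P1521 : List Ent := [⟨1, [.a0], [.a0]⟩,
  ⟨4, [.a2], [.a2]⟩,
  ⟨8, [.a3], [.a3]⟩,
  ⟨16, [.a4], [.a4, .a5]⟩,
  ⟨32, [.a5], [.a5]⟩,
  ⟨64, [.a6], [.a6]⟩,
  ⟨128, [.a7], [.a7, .a8]⟩,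
  ⟨256, [.a8], [.a8]⟩,
  ⟨512, [.a9], [.a9]⟩]
def B1521 : List Gv := [⟨[.a0], [.a0]⟩, ⟨[.a4], [.a4, .a5]⟩, ⟨[.a7], [.a7, .a8]⟩, ⟨[.a9], [.a9]⟩]
def D1521 : List Dv := [⟨[.a2], [1, 0], [0, 1]⟩,
  ⟨[.a5], [2, 2], []⟩,
  ⟨[.a3], [1, 4, 2], [2, 4]⟩,
  ⟨[.a6], [5, 4], [4, 5]⟩,
  ⟨[.a8], [6, 6], []⟩]
def C1521 : List Ch := [⟨P1394, 0, [], []⟩,
  ⟨P1456, 1, [], []⟩,
  ⟨P1456, 0, [.a11], [.a11]⟩,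
  ⟨P1457, 2, [], []⟩,
  ⟨P1457, 0, [.a11], [.a11]⟩,
  ⟨P1422, 1, [], []⟩,
  ⟨P1432, 0, [], []⟩,
  ⟨P1458, 3, [], []⟩,
  ⟨P1458, 0, [.a11], [.a11]⟩,
  ⟨P1440, 1, [], []⟩,
  ⟨P1446, 0, [], []⟩,
  ⟨P1451, 2, [], []⟩,
  ⟨P1455, 0, [], []⟩,
  ⟨P1459, 1, [], []⟩,
  ⟨P1459, 0, [.a11], [.a11]⟩]
def S1521 : List St := [.phi 1 [⟨4, [.a2], [.a2]⟩,
  ⟨8, [.a3], [.a3]⟩,
  ⟨32, [.a5], [.a5]⟩,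
  ⟨64, [.a6], [.a6]⟩,
  ⟨256, [.a8], [.a8]⟩] [[[.a0, .a4, .a8]], [[.a2, .a4, .a7, .a9], [.a0, .a9]], [[.a4]], [[.a2, .a4, .a7, .a9]], [[.a7]]],
  .om 2 [⟨1, [.a0], [.a0]⟩,
  ⟨4, [.a2], [.a2]⟩,
  ⟨8, [.a3], [.a3]⟩,
  ⟨16, [.a4, .a7], [.a4, .a5, .a6, .a7, .a8]⟩,
  ⟨32, [.a5], [.a5]⟩,
  ⟨64, [.a6], [.a6]⟩,
  ⟨256, [.a8], [.a8]⟩,
  ⟨512, [.a9], [.a9]⟩] [[[.a0]], [[.a2]], [[.a3]], [[.a0], [.a9], [.a0, .a3, .a4, .a6, .a7, .a8, .a9]], [[.a5]], [[.a6]], [[.a8]], [[.a9]]],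
  .comm 1 3 [⟨32, [.a5], [.a5]⟩] [⟨[.a8], [.a0]⟩],
  .phi 1 [⟨8, [.a3], [.a3]⟩,
  ⟨32, [.a5], [.a5]⟩,
  ⟨64, [.a6], [.a6]⟩,
  ⟨256, [.a8], [.a8]⟩] [[[.a2, .a4, .a7, .a9], [.a0, .a9]], [[.a0, .a8]], [[.a2, .a4, .a7, .a9]], [[.a2, .a4, .a7, .a9], [.a3, .a4, .a7]]]]
theorem bad1521 (c : CtxF Goal γ) : Bad Goal γ [] P1521 :=
  c.toCtx.chn (B := B1521) (D := D1521) (I := [5, 4, 2, 6, 3, 1, 7, 0, 8]) (r := 4) (C := C1521) (l := S1521) (x := ⟨[.a1], [.a1, .a2]⟩) (ix := [0, 1]) (by decide +kernel) (by decide +kernel) (by decide +kernel) (by decide +kernel)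
    (allB_cons (bad1394 c) (allB_cons (bad1456 c) (allB_cons (bad1456 c) (allB_cons (bad1457 c) (allB_cons (bad1457 c) (allB_cons (bad1422 c) (allB_cons (bad1432 c) (allB_cons (bad1458 c) (allB_cons (bad1458 c) (allB_cons (bad1440 c) (allB_cons (bad1446 c) (allB_cons (bad1451 c) (allB_cons (bad1455 c) (allB_cons (bad1459 c) (allB_cons (bad1459 c) (allB_nil))))))))))))))))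

def P1522 : List Ent := [⟨1, [.a0, .a11], [.a0, .a2, .a3, .a4, .a5, .a6, .a7, .a9, .a11]⟩,
  ⟨4, [.a2], [.a2]⟩,
  ⟨8, [.a3], [.a3]⟩,
  ⟨16, [.a4], [.a4, .a5]⟩,
  ⟨32, [.a5], [.a5]⟩,
  ⟨64, [.a6], [.a6]⟩,
  ⟨128, [.a7], [.a7, .a8]⟩,
  ⟨256, [.a8], [.a8]⟩,
  ⟨512, [.a9], [.a9]⟩]
def B1522 : List Gv := [⟨[.a0, .a11], [.a0, .a2, .a3, .a4, .a5, .a6, .a7, .a9, .a11]⟩, ⟨[.a4], [.a4, .a5]⟩, ⟨[.a7], [.a7, .a8]⟩]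
def D1522 : List Dv := [⟨[.a2, .a3, .a4, .a5, .a6, .a7, .a9], [0, 0], []⟩,
  ⟨[.a3, .a4, .a6, .a7, .a9], [0, 2, 1], [1, 2]⟩,
  ⟨[.a5], [3, 3], []⟩,
  ⟨[.a6, .a7, .a9], [4, 2, 5, 3], [3, 5]⟩,
  ⟨[.a8, .a9], [6, 0, 6, 5], [5, 6]⟩,
  ⟨[.a9], [0, 7, 7], []⟩,
  ⟨[.a8], [1], [0]⟩,
  ⟨[.a6], [3], [9, 1]⟩,
  ⟨[.a3], [6], [9, 0, 10, 2]⟩,
  ⟨[.a2], [8], [0, 10, 6, 1, 11, 3]⟩]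
def C1522 : List Ch := [⟨P1394, 0, [], []⟩,
  ⟨P1441, 1, [], []⟩,
  ⟨P1441, 0, [.a1], [.a1, .a2]⟩,
  ⟨P1452, 2, [], []⟩,
  ⟨P1452, 0, [.a1], [.a1, .a2]⟩,
  ⟨P1423, 1, [], []⟩,
  ⟨P1433, 0, [], []⟩]
def N1522 : List Ent := [⟨1, [.a0, .a11], [.a0, .a2, .a3, .a4, .a5, .a6, .a7, .a9, .a11]⟩,
  ⟨2, [.a1], [.a1, .a2]⟩,
  ⟨4, [.a2], [.a2]⟩,
  ⟨8, [.a3], [.a3]⟩,
  ⟨16, [.a4], [.a4, .a5]⟩,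
  ⟨32, [.a5], [.a5]⟩,
  ⟨64, [.a6], [.a6]⟩,
  ⟨128, [.a7], [.a7, .a8]⟩,
  ⟨256, [.a8], [.a8]⟩,
  ⟨512, [.a9], [.a9]⟩,
  ⟨2048, [.a11], [.a11]⟩]
theorem bad1522 (c : CtxF Goal γ) : Bad Goal γ [] P1522 :=
  c.toCtx.bnd (B := B1522) (D := D1522) (I := [10, 0, 1, 11, 7, 2, 12, 3, 4]) (r := 3) (C := C1522) (N := N1522) (by decide +kernel) (by decide +kernel) (by decide +kernel) (by decide +kernel)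
    (allB_cons (bad1394 c) (allB_cons (bad1441 c) (allB_cons (bad1441 c) (allB_cons (bad1452 c) (allB_cons (bad1452 c) (allB_cons (bad1423 c) (allB_cons (bad1433 c) (allB_nil))))))))

def P1523 : List Ent := [⟨1, [.a0], [.a0]⟩,
  ⟨4, [.a2], [.a2]⟩,
  ⟨8, [.a3], [.a3]⟩,
  ⟨16, [.a4, .a11], [.a4, .a5, .a11]⟩,
  ⟨32, [.a5], [.a5]⟩,
  ⟨64, [.a6], [.a6]⟩,
  ⟨128, [.a7, .a11], [.a7, .a8, .a11]⟩,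
  ⟨256, [.a8], [.a8]⟩,
  ⟨512, [.a9], [.a9]⟩]
def B1523 : List Gv := [⟨[.a0], [.a0]⟩, ⟨[.a2], [.a2]⟩, ⟨[.a4, .a11], [.a4, .a5, .a11]⟩, ⟨[.a7, .a11], [.a7, .a8, .a11]⟩]
def D1523 : List Dv := [⟨[.a3, .a4, .a5, .a6, .a7, .a8, .a9], [2, 0], [0, 2]⟩,
  ⟨[.a5, .a6, .a8], [3, 2], [2, 3]⟩,
  ⟨[.a6, .a8], [0, 4, 4], []⟩,
  ⟨[.a9], [6, 0, 5, 6, 3], [3, 6]⟩,
  ⟨[.a8], [1, 7, 6], [6, 7]⟩,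
  ⟨[.a6], [2], [0]⟩,
  ⟨[.a5], [4], [0, 1]⟩,
  ⟨[.a3], [6], [9, 0, 1, 10, 2, 3]⟩]
def C1523 : List Ch := [⟨P1396, 0, [], []⟩,
  ⟨P1460, 1, [], []⟩,
  ⟨P1460, 0, [.a4], [.a4, .a5]⟩,
  ⟨P1443, 2, [], []⟩,
  ⟨P1447, 0, [], []⟩,
  ⟨P1461, 1, [], []⟩,
  ⟨P1461, 0, [.a4], [.a4, .a5]⟩,
  ⟨P1443, 3, [.a1], [.a1, .a2]⟩,
  ⟨P1447, 0, [.a1], [.a1, .a2]⟩,
  ⟨P1461, 1, [.a1], [.a1, .a2]⟩,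
  ⟨P1461, 0, [.a1, .a3, .a4], [.a1, .a2, .a4, .a5]⟩,
  ⟨P1422, 2, [], []⟩,
  ⟨P1433, 0, [], []⟩,
  ⟨P1462, 1, [], []⟩,
  ⟨P1462, 0, [.a4], [.a4, .a5]⟩]
def S1523 : List St := [.phi 1 [⟨8, [.a3], [.a3]⟩,
  ⟨16, [.a4, .a7, .a9], [.a4, .a5, .a6, .a7, .a9]⟩,
  ⟨32, [.a5], [.a5]⟩,
  ⟨64, [.a6], [.a6]⟩,
  ⟨256, [.a8], [.a8]⟩] [[[.a2, .a4, .a7, .a9], [.a0, .a9]], [[.a0, .a3, .a7, .a11]], [[.a0, .a8]], [[.a2, .a4, .a7, .a9]], [[.a7, .a11]]],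
  .om 2 [⟨1, [.a0], [.a0]⟩,
  ⟨4, [.a2], [.a2]⟩,
  ⟨8, [.a3], [.a3]⟩,
  ⟨16, [.a4, .a7], [.a4, .a5, .a6, .a7, .a8]⟩,
  ⟨32, [.a5], [.a5]⟩,
  ⟨64, [.a6], [.a6]⟩,
  ⟨256, [.a8], [.a8]⟩,
  ⟨512, [.a9], [.a9]⟩] [[[.a0]], [[.a2]], [[.a3]], [[.a0], [.a9], [.a0, .a3, .a4, .a6, .a7, .a8, .a9]], [[.a5]], [[.a6]], [[.a8]], [[.a9]]],
  .comm 1 1 [⟨32, [.a5], [.a5]⟩] [⟨[.a3], [.a4, .a7, .a9]⟩],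
  .phi 1 [⟨8, [.a3], [.a3]⟩,
  ⟨32, [.a5], [.a5]⟩,
  ⟨64, [.a6], [.a6]⟩,
  ⟨256, [.a8], [.a8]⟩] [[[.a2, .a4, .a7, .a9], [.a0, .a9]], [[.a0, .a8]], [[.a2, .a4, .a7, .a9]], [[.a2, .a4, .a7, .a9], [.a3, .a4, .a7]]]]
theorem bad1523 (c : CtxF Goal γ) : Bad Goal γ [] P1523 :=
  c.toCtx.chn (B := B1523) (D := D1523) (I := [8, 9, 0, 10, 1, 2, 11, 3, 4]) (r := 4) (C := C1523) (l := S1523) (x := ⟨[.a1], [.a1, .a2]⟩) (ix := [2, 0, 1]) (by decide +kernel) (by decide +kernel) (by decide +kernel) (by decide +kernel)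
    (allB_cons (bad1396 c) (allB_cons (bad1460 c) (allB_cons (bad1460 c) (allB_cons (bad1443 c) (allB_cons (bad1447 c) (allB_cons (bad1461 c) (allB_cons (bad1461 c) (allB_cons (bad1443 c) (allB_cons (bad1447 c) (allB_cons (bad1461 c) (allB_cons (bad1461 c) (allB_cons (bad1422 c) (allB_cons (bad1433 c) (allB_cons (bad1462 c) (allB_cons (bad1462 c) (allB_nil))))))))))))))))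

def P1524 : List Ent := [⟨1, [.a0, .a11], [.a0, .a2, .a3, .a4, .a5, .a6, .a7, .a9, .a11]⟩,
  ⟨4, [.a2], [.a2]⟩,
  ⟨8, [.a3], [.a3]⟩,
  ⟨16, [.a4, .a11], [.a4, .a5, .a11]⟩,
  ⟨32, [.a5], [.a5]⟩,
  ⟨64, [.a6], [.a6]⟩,
  ⟨128, [.a7, .a11], [.a7, .a8, .a11]⟩,
  ⟨256, [.a8], [.a8]⟩,
  ⟨512, [.a9], [.a9]⟩]
def B1524 : List Gv := [⟨[.a0, .a11], [.a0, .a2, .a3, .a4, .a5, .a6, .a7, .a9, .a11]⟩, ⟨[.a4, .a11], [.a4, .a5, .a11]⟩, ⟨[.a7, .a11], [.a7, .a8, .a11]⟩]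
def D1524 : List Dv := [⟨[.a2, .a3, .a4, .a5, .a6, .a7, .a9], [0, 0], []⟩,
  ⟨[.a3, .a4, .a5, .a6, .a7, .a8, .a9], [2, 1], [1, 2]⟩,
  ⟨[.a5], [3, 3], []⟩,
  ⟨[.a6, .a7, .a9, .a11], [4, 5, 3], [3, 5]⟩,
  ⟨[.a8, .a9], [6, 0, 6, 5], [5, 6]⟩,
  ⟨[.a9], [0, 7, 7], []⟩,
  ⟨[.a8], [1], [0]⟩,
  ⟨[.a6], [3], [9, 1]⟩,
  ⟨[.a3], [6], [9, 5, 0, 10, 1, 2]⟩,
  ⟨[.a2], [8], [0, 10, 6, 1, 11, 3]⟩]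
def C1524 : List Ch := [⟨P1396, 0, [], []⟩,
  ⟨P1444, 1, [], []⟩,
  ⟨P1448, 0, [], []⟩,
  ⟨P1448, 2, [.a1], [.a1, .a2]⟩,
  ⟨P1444, 0, [.a1], [.a1, .a2]⟩,
  ⟨P1423, 1, [], []⟩,
  ⟨P1432, 0, [], []⟩]
def N1524 : List Ent := [⟨1, [.a0, .a11], [.a0, .a2, .a3, .a4, .a5, .a6, .a7, .a9, .a11]⟩,
  ⟨2, [.a1], [.a1, .a2]⟩,
  ⟨4, [.a2], [.a2]⟩,
  ⟨8, [.a3], [.a3]⟩,
  ⟨16, [.a4, .a11], [.a4, .a5, .a11]⟩,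
  ⟨32, [.a5], [.a5]⟩,
  ⟨64, [.a6], [.a6]⟩,
  ⟨128, [.a7, .a11], [.a7, .a8, .a11]⟩,
  ⟨256, [.a8], [.a8]⟩,
  ⟨512, [.a9], [.a9]⟩,
  ⟨2048, [.a11], [.a11]⟩]
theorem bad1524 (c : CtxF Goal γ) : Bad Goal γ [] P1524 :=
  c.toCtx.bnd (B := B1524) (D := D1524) (I := [10, 0, 1, 11, 7, 2, 12, 3, 4]) (r := 3) (C := C1524) (N := N1524) (by decide +kernel) (by decide +kernel) (by decide +kernel) (by decide +kernel)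
    (allB_cons (bad1396 c) (allB_cons (bad1444 c) (allB_cons (bad1448 c) (allB_cons (bad1448 c) (allB_cons (bad1444 c) (allB_cons (bad1423 c) (allB_cons (bad1432 c) (allB_nil))))))))

def P1525 : List Ent := [⟨1, [.a0], [.a0]⟩,
  ⟨2, [.a1], [.a1, .a2]⟩,
  ⟨4, [.a2], [.a2]⟩,
  ⟨8, [.a3], [.a3]⟩,
  ⟨16, [.a4, .a7], [.a4, .a5, .a6, .a7, .a8]⟩,
  ⟨32, [.a5], [.a5]⟩,
  ⟨64, [.a6], [.a6]⟩,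
  ⟨256, [.a8], [.a8]⟩,
  ⟨512, [.a9], [.a9]⟩]
def B1525 : List Gv := [⟨[.a0], [.a0]⟩, ⟨[.a1], [.a1, .a2]⟩, ⟨[.a4, .a7], [.a4, .a5, .a6, .a7, .a8]⟩, ⟨[.a9], [.a9]⟩]
def D1525 : List Dv := [⟨[.a2], [1, 1], []⟩,
  ⟨[.a3], [3, 1], [1, 3]⟩,
  ⟨[.a5, .a6, .a8], [4, 4], []⟩,
  ⟨[.a6], [1, 6, 3], [3, 6]⟩,
  ⟨[.a8], [0, 7, 5], [5, 7]⟩,
  ⟨[.a5], [2], [1, 0]⟩]
def C1525 : List Ch := [⟨P1400, 0, [], []⟩,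
  ⟨P1422, 1, [], []⟩,
  ⟨P1432, 0, [.a10], [.a10, .a11]⟩,
  ⟨P1463, 2, [], []⟩,
  ⟨P1463, 0, [.a11], [.a11]⟩,
  ⟨P1464, 1, [], []⟩,
  ⟨P1464, 0, [.a11], [.a11]⟩,
  ⟨P1465, 3, [], []⟩,
  ⟨P1466, 0, [], []⟩,
  ⟨P1466, 1, [.a11], [.a11]⟩,
  ⟨P1465, 0, [.a11], [.a11]⟩,
  ⟨P1467, 2, [], []⟩,
  ⟨P1468, 0, [], []⟩,
  ⟨P1467, 1, [.a11], [.a11]⟩,
  ⟨P1468, 0, [.a11], [.a11]⟩]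
def S1525 : List St := [.cent 1 1 0 [⟨32, [.a5], [.a5]⟩],
  .phi 2 [⟨4, [.a2], [.a2]⟩,
  ⟨8, [.a3], [.a3]⟩,
  ⟨32, [.a5], [.a5]⟩,
  ⟨64, [.a6], [.a6]⟩,
  ⟨256, [.a8], [.a8]⟩] [[[.a1]], [[.a2, .a4, .a7, .a9], [.a0, .a9]], [[.a0, .a8]], [[.a2, .a4, .a7, .a9]], [[.a2, .a4, .a7, .a9], [.a3, .a4, .a7]]]]
theorem bad1525 (c : CtxF Goal γ) : Bad Goal γ [] P1525 :=
  c.toCtx.chn (B := B1525) (D := D1525) (I := [6, 7, 5, 4, 8, 0, 2, 1, 9]) (r := 4) (C := C1525) (l := S1525) (x := ⟨[.a7], [.a7, .a8]⟩) (ix := [0, 1]) (by decide +kernel) (by decide +kernel) (by decide +kernel) (by decide +kernel)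
    (allB_cons (bad1400 c) (allB_cons (bad1422 c) (allB_cons (bad1432 c) (allB_cons (bad1463 c) (allB_cons (bad1463 c) (allB_cons (bad1464 c) (allB_cons (bad1464 c) (allB_cons (bad1465 c) (allB_cons (bad1466 c) (allB_cons (bad1466 c) (allB_cons (bad1465 c) (allB_cons (bad1467 c) (allB_cons (bad1468 c) (allB_cons (bad1467 c) (allB_cons (bad1468 c) (allB_nil))))))))))))))))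

def P1526 : List Ent := [⟨1, [.a0, .a11], [.a0, .a2, .a3, .a4, .a5, .a6, .a7, .a9, .a11]⟩,
  ⟨2, [.a1], [.a1, .a2]⟩,
  ⟨4, [.a2], [.a2]⟩,
  ⟨8, [.a3], [.a3]⟩,
  ⟨16, [.a4, .a7], [.a4, .a5, .a6, .a7, .a8]⟩,
  ⟨32, [.a5], [.a5]⟩,
  ⟨64, [.a6], [.a6]⟩,
  ⟨256, [.a8], [.a8]⟩,
  ⟨512, [.a9], [.a9]⟩]
def B1526 : List Gv := [⟨[.a0, .a11], [.a0, .a2, .a3, .a4, .a5, .a6, .a7, .a9, .a11]⟩, ⟨[.a1], [.a1, .a2]⟩]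
def D1526 : List Dv := [⟨[.a2, .a3, .a4, .a5, .a6, .a7, .a9], [0, 0], []⟩,
  ⟨[.a3, .a5, .a9], [2, 1], [1, 2]⟩,
  ⟨[.a4, .a5, .a6, .a7, .a8], [0, 1, 3, 3], []⟩,
  ⟨[.a6, .a8, .a9], [1, 2, 4], [4, 2]⟩,
  ⟨[.a5, .a6], [3, 3], []⟩,
  ⟨[.a9], [1, 3, 6], [6, 3]⟩,
  ⟨[.a8], [4, 5], [5, 4]⟩,
  ⟨[.a6], [3], [0, 1]⟩,
  ⟨[.a5], [3], [0]⟩,
  ⟨[.a4, .a7], [6], [0, 1, 2]⟩,
  ⟨[.a3], [8], [1, 4]⟩,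
  ⟨[.a2], [10], [0, 1, 2, 3, 5]⟩]
def C1526 : List Ch := [⟨P1400, 0, [], []⟩,
  ⟨P1423, 1, [], []⟩,
  ⟨P1433, 0, [.a10], [.a10, .a11]⟩]
def N1526 : List Ent := [⟨1, [.a0, .a11], [.a0, .a2, .a3, .a4, .a5, .a6, .a7, .a9, .a11]⟩,
  ⟨2, [.a1], [.a1, .a2]⟩,
  ⟨4, [.a2], [.a2]⟩,
  ⟨8, [.a3], [.a3]⟩,
  ⟨16, [.a4, .a7], [.a4, .a5, .a6, .a7, .a8]⟩,
  ⟨32, [.a5], [.a5]⟩,
  ⟨64, [.a6], [.a6]⟩,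
  ⟨128, [.a7], [.a7, .a8]⟩,
  ⟨256, [.a8], [.a8]⟩,
  ⟨512, [.a9], [.a9]⟩,
  ⟨2048, [.a11], [.a11]⟩]
theorem bad1526 (c : CtxF Goal γ) : Bad Goal γ [] P1526 :=
  c.toCtx.bnd (B := B1526) (D := D1526) (I := [12, 13, 0, 1, 2, 3, 4, 5, 6]) (r := 2) (C := C1526) (N := N1526) (by decide +kernel) (by decide +kernel) (by decide +kernel) (by decide +kernel)
    (allB_cons (bad1400 c) (allB_cons (bad1423 c) (allB_cons (bad1433 c) (allB_nil))))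

def P1527 : List Ent := [⟨1, [.a0], [.a0]⟩,
  ⟨2, [.a1, .a11], [.a1, .a2, .a5, .a6, .a9, .a11]⟩,
  ⟨4, [.a2], [.a2]⟩,
  ⟨8, [.a3], [.a3]⟩,
  ⟨16, [.a4, .a7], [.a4, .a5, .a6, .a7, .a8]⟩,
  ⟨32, [.a5], [.a5]⟩,
  ⟨64, [.a6], [.a6]⟩,
  ⟨256, [.a8], [.a8]⟩,
  ⟨512, [.a9], [.a9]⟩]
def B1527 : List Gv := [⟨[.a0], [.a0]⟩, ⟨[.a1, .a11], [.a1, .a2, .a5, .a6, .a9, .a11]⟩, ⟨[.a2], [.a2]⟩]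
def D1527 : List Dv := [⟨[.a4, .a6, .a7, .a8, .a9], [2, 1, 0], [0, 1]⟩,
  ⟨[.a5, .a8, .a9], [3, 2, 2], []⟩,
  ⟨[.a6, .a8], [4, 3], [3, 4]⟩,
  ⟨[.a8], [0, 2, 3], [3, 2]⟩,
  ⟨[.a3, .a5, .a6, .a8], [3, 5], [5, 3]⟩,
  ⟨[.a9], [1, 3, 4, 7], [7, 4]⟩,
  ⟨[.a6], [3], [2]⟩,
  ⟨[.a5], [5], [3, 1]⟩,
  ⟨[.a4, .a7], [7], [1, 4, 2]⟩,
  ⟨[.a3], [4], [1, 2, 5]⟩]
def C1527 : List Ch := [⟨P1401, 0, [], []⟩,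
  ⟨P1422, 1, [], []⟩,
  ⟨P1433, 0, [.a10], [.a10, .a11]⟩,
  ⟨P1469, 2, [], []⟩,
  ⟨P1469, 0, [.a4], [.a4, .a5]⟩,
  ⟨P1469, 1, [.a1], [.a1, .a2]⟩,
  ⟨P1469, 0, [.a1, .a3, .a4], [.a1, .a2, .a4, .a5]⟩]
def N1527 : List Ent := [⟨1, [.a0], [.a0]⟩,
  ⟨2, [.a1, .a11], [.a1, .a2, .a5, .a6, .a9, .a11]⟩,
  ⟨4, [.a2], [.a2]⟩,
  ⟨8, [.a3], [.a3]⟩,
  ⟨16, [.a4, .a7], [.a4, .a5, .a6, .a7, .a8]⟩,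
  ⟨32, [.a5], [.a5]⟩,
  ⟨64, [.a6], [.a6]⟩,
  ⟨128, [.a7], [.a7, .a8]⟩,
  ⟨256, [.a8], [.a8]⟩,
  ⟨512, [.a9], [.a9]⟩,
  ⟨2048, [.a11], [.a11]⟩]
theorem bad1527 (c : CtxF Goal γ) : Bad Goal γ [] P1527 :=
  c.toCtx.bnd (B := B1527) (D := D1527) (I := [10, 11, 12, 0, 1, 2, 3, 6, 4]) (r := 3) (C := C1527) (N := N1527) (by decide +kernel) (by decide +kernel) (by decide +kernel) (by decide +kernel)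
    (allB_cons (bad1401 c) (allB_cons (bad1422 c) (allB_cons (bad1433 c) (allB_cons (bad1469 c) (allB_cons (bad1469 c) (allB_cons (bad1469 c) (allB_cons (bad1469 c) (allB_nil))))))))

def P1528 : List Ent := [⟨1, [.a0, .a11], [.a0, .a2, .a3, .a4, .a5, .a6, .a7, .a9, .a11]⟩,
  ⟨2, [.a1, .a11], [.a1, .a2, .a5, .a6, .a9, .a11]⟩,
  ⟨4, [.a2], [.a2]⟩,
  ⟨8, [.a3], [.a3]⟩,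
  ⟨16, [.a4, .a7], [.a4, .a5, .a6, .a7, .a8]⟩,
  ⟨32, [.a5], [.a5]⟩,
  ⟨64, [.a6], [.a6]⟩,
  ⟨256, [.a8], [.a8]⟩,
  ⟨512, [.a9], [.a9]⟩]
def B1528 : List Gv := [⟨[.a0, .a11], [.a0, .a2, .a3, .a4, .a5, .a6, .a7, .a9, .a11]⟩, ⟨[.a1, .a11], [.a1, .a2, .a5, .a6, .a9, .a11]⟩]
def D1528 : List Dv := [⟨[.a2, .a3, .a4, .a5, .a6, .a7, .a9], [0, 0], []⟩,
  ⟨[.a6, .a8, .a9], [0, 2, 1], [1, 2]⟩,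
  ⟨[.a3, .a4, .a5, .a6, .a7, .a8], [1, 3, 3], []⟩,
  ⟨[.a4, .a5, .a6, .a7], [0, 2, 4], [4, 2]⟩,
  ⟨[.a5, .a6], [3, 3], []⟩,
  ⟨[.a8, .a9], [3, 0, 1, 2, 3, 5], [5, 3]⟩,
  ⟨[.a9], [0, 1, 4, 7], [7, 4]⟩,
  ⟨[.a8], [1], [0]⟩,
  ⟨[.a6], [6], [0, 1]⟩,
  ⟨[.a5], [4], [0]⟩,
  ⟨[.a4, .a7], [6], [0, 1]⟩,
  ⟨[.a3], [8], [0, 1, 2, 3]⟩,
  ⟨[.a2], [11], [0, 1, 2, 3, 5]⟩]
def C1528 : List Ch := [⟨P1401, 0, [], []⟩,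
  ⟨P1423, 1, [], []⟩,
  ⟨P1432, 0, [.a10], [.a10, .a11]⟩]
def N1528 : List Ent := [⟨1, [.a0, .a11], [.a0, .a2, .a3, .a4, .a5, .a6, .a7, .a9, .a11]⟩,
  ⟨2, [.a1, .a11], [.a1, .a2, .a5, .a6, .a9, .a11]⟩,
  ⟨4, [.a2], [.a2]⟩,
  ⟨8, [.a3], [.a3]⟩,
  ⟨16, [.a4, .a7], [.a4, .a5, .a6, .a7, .a8]⟩,
  ⟨32, [.a5], [.a5]⟩,
  ⟨64, [.a6], [.a6]⟩,
  ⟨128, [.a7], [.a7, .a8]⟩,
  ⟨256, [.a8], [.a8]⟩,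
  ⟨512, [.a9], [.a9]⟩,
  ⟨2048, [.a11], [.a11]⟩]
theorem bad1528 (c : CtxF Goal γ) : Bad Goal γ [] P1528 :=
  c.toCtx.bnd (B := B1528) (D := D1528) (I := [13, 14, 0, 1, 2, 3, 4, 5, 6]) (r := 2) (C := C1528) (N := N1528) (by decide +kernel) (by decide +kernel) (by decide +kernel) (by decide +kernel)
    (allB_cons (bad1401 c) (allB_cons (bad1423 c) (allB_cons (bad1432 c) (allB_nil))))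

def P1529 : List Ent := [⟨1, [.a0], [.a0]⟩,
  ⟨2, [.a1], [.a1, .a2]⟩,
  ⟨4, [.a2], [.a2]⟩,
  ⟨8, [.a3], [.a3]⟩,
  ⟨32, [.a5], [.a5]⟩,
  ⟨64, [.a6], [.a6]⟩,
  ⟨128, [.a7], [.a7, .a8]⟩,
  ⟨256, [.a8], [.a8]⟩,
  ⟨512, [.a9], [.a9]⟩]
def B1529 : List Gv := [⟨[.a0], [.a0]⟩, ⟨[.a1], [.a1, .a2]⟩, ⟨[.a7], [.a7, .a8]⟩, ⟨[.a9], [.a9]⟩]
def D1529 : List Dv := [⟨[.a2], [1, 1], []⟩,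
  ⟨[.a3], [0, 3, 1], [1, 3]⟩,
  ⟨[.a8], [4, 4], []⟩,
  ⟨[.a6], [1, 6, 3], [3, 6]⟩,
  ⟨[.a5], [3, 7], [7, 3]⟩]
def C1529 : List Ch := [⟨P1407, 0, [], []⟩,
  ⟨P1456, 1, [], []⟩,
  ⟨P1456, 0, [.a10], [.a10, .a11]⟩,
  ⟨P1463, 2, [], []⟩,
  ⟨P1464, 0, [.a10], [.a10, .a11]⟩,
  ⟨P1425, 1, [], []⟩,
  ⟨P1434, 0, [], []⟩,
  ⟨P1470, 3, [], []⟩,
  ⟨P1471, 0, [], []⟩,
  ⟨P1472, 1, [], []⟩,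
  ⟨P1473, 0, [], []⟩,
  ⟨P1474, 2, [], []⟩,
  ⟨P1475, 0, [], []⟩,
  ⟨P1476, 1, [], []⟩,
  ⟨P1477, 0, [], []⟩]
def S1529 : List St := [.phi 1 [⟨4, [.a2], [.a2]⟩,
  ⟨8, [.a3], [.a3]⟩,
  ⟨32, [.a5], [.a5]⟩,
  ⟨64, [.a6], [.a6]⟩,
  ⟨256, [.a8], [.a8]⟩] [[[.a1]], [[.a7], [.a0, .a1, .a7]], [[.a0, .a8]], [[.a1], [.a1, .a2, .a7, .a9]], [[.a7]]]]
theorem bad1529 (c : CtxF Goal γ) : Bad Goal γ [] P1529 :=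
  c.toCtx.chn (B := B1529) (D := D1529) (I := [5, 6, 4, 3, 0, 1, 7, 2, 8]) (r := 4) (C := C1529) (l := S1529) (x := ⟨[.a4], [.a4, .a5]⟩) (ix := [0]) (by decide +kernel) (by decide +kernel) (by decide +kernel) (by decide +kernel)
    (allB_cons (bad1407 c) (allB_cons (bad1456 c) (allB_cons (bad1456 c) (allB_cons (bad1463 c) (allB_cons (bad1464 c) (allB_cons (bad1425 c) (allB_cons (bad1434 c) (allB_cons (bad1470 c) (allB_cons (bad1471 c) (allB_cons (bad1472 c) (allB_cons (bad1473 c) (allB_cons (bad1474 c) (allB_cons (bad1475 c) (allB_cons (bad1476 c) (allB_cons (bad1477 c) (allB_nil))))))))))))))))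

def P1530 : List Ent := [⟨1, [.a0], [.a0]⟩,
  ⟨2, [.a1], [.a1, .a2]⟩,
  ⟨4, [.a2], [.a2]⟩,
  ⟨8, [.a3], [.a3]⟩,
  ⟨16, [.a4], [.a4, .a5]⟩,
  ⟨32, [.a5], [.a5]⟩,
  ⟨64, [.a6], [.a6]⟩,
  ⟨256, [.a8], [.a8]⟩,
  ⟨512, [.a9], [.a9]⟩]
def B1530 : List Gv := [⟨[.a0], [.a0]⟩, ⟨[.a1], [.a1, .a2]⟩, ⟨[.a4], [.a4, .a5]⟩, ⟨[.a9], [.a9]⟩]
def D1530 : List Dv := [⟨[.a2], [1, 1], []⟩,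
  ⟨[.a3], [3, 2], [2, 3]⟩,
  ⟨[.a5], [4, 4], []⟩,
  ⟨[.a6], [1, 6, 3], [3, 6]⟩,
  ⟨[.a8], [0, 7, 5], [5, 7]⟩]
def C1530 : List Ch := [⟨P1413, 0, [], []⟩,
  ⟨P1457, 1, [], []⟩,
  ⟨P1457, 0, [.a10, .a11], [.a10]⟩,
  ⟨P1463, 2, [], []⟩,
  ⟨P1464, 0, [.a10, .a11], [.a10]⟩,
  ⟨P1425, 1, [.a10, .a11], [.a10]⟩,
  ⟨P1434, 0, [.a10], [.a10, .a11]⟩,
  ⟨P1478, 3, [], []⟩,
  ⟨P1479, 0, [], []⟩,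
  ⟨P1480, 1, [], []⟩,
  ⟨P1481, 0, [], []⟩,
  ⟨P1482, 2, [], []⟩,
  ⟨P1483, 0, [], []⟩,
  ⟨P1484, 1, [], []⟩,
  ⟨P1485, 0, [], []⟩]
def S1530 : List St := [.phi 1 [⟨4, [.a2], [.a2]⟩,
  ⟨8, [.a3], [.a3]⟩,
  ⟨32, [.a5], [.a5]⟩,
  ⟨64, [.a6], [.a6]⟩,
  ⟨256, [.a8], [.a8]⟩] [[[.a1]], [[.a0, .a1, .a4, .a6]], [[.a4]], [[.a0, .a1, .a4, .a6], [.a0, .a9]], [[.a2, .a4, .a9]]],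
  .om 2 [⟨1, [.a0], [.a0]⟩,
  ⟨2, [.a1, .a4], [.a1, .a2, .a3, .a4, .a5]⟩,
  ⟨4, [.a2], [.a2]⟩,
  ⟨8, [.a3], [.a3]⟩,
  ⟨32, [.a5], [.a5]⟩,
  ⟨64, [.a6], [.a6]⟩,
  ⟨256, [.a8], [.a8]⟩,
  ⟨512, [.a9], [.a9]⟩] [[[.a0]], [[.a0], [.a6, .a9], [.a0, .a1, .a3, .a4, .a5, .a6, .a9]], [[.a2]], [[.a3]], [[.a5]], [[.a6]], [[.a8]], [[.a9]]],
  .comm 1 3 [⟨32, [.a5], [.a5]⟩] [⟨[.a6], [.a1]⟩],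
  .phi 1 [⟨4, [.a2], [.a2]⟩,
  ⟨8, [.a3], [.a3]⟩,
  ⟨32, [.a5], [.a5]⟩,
  ⟨64, [.a6], [.a6]⟩] [[[.a0, .a1, .a4, .a6], [.a1, .a4, .a6]], [[.a0, .a1, .a4, .a6]], [[.a0, .a8]], [[.a0, .a1, .a4, .a6], [.a0, .a9]]]]
theorem bad1530 (c : CtxF Goal γ) : Bad Goal γ [] P1530 :=
  c.toCtx.chn (B := B1530) (D := D1530) (I := [5, 6, 4, 3, 7, 2, 1, 0, 8]) (r := 4) (C := C1530) (l := S1530) (x := ⟨[.a7], [.a7, .a8]⟩) (ix := [0, 1]) (by decide +kernel) (by decide +kernel) (by decide +kernel) (by decide +kernel)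
    (allB_cons (bad1413 c) (allB_cons (bad1457 c) (allB_cons (bad1457 c) (allB_cons (bad1463 c) (allB_cons (bad1464 c) (allB_cons (bad1425 c) (allB_cons (bad1434 c) (allB_cons (bad1478 c) (allB_cons (bad1479 c) (allB_cons (bad1480 c) (allB_cons (bad1481 c) (allB_cons (bad1482 c) (allB_cons (bad1483 c) (allB_cons (bad1484 c) (allB_cons (bad1485 c) (allB_nil))))))))))))))))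

def P1531 : List Ent := [⟨1, [.a0], [.a0]⟩,
  ⟨2, [.a1], [.a1, .a2]⟩,
  ⟨4, [.a2], [.a2]⟩,
  ⟨8, [.a3], [.a3]⟩,
  ⟨16, [.a4], [.a4, .a5]⟩,
  ⟨32, [.a5], [.a5]⟩,
  ⟨64, [.a6], [.a6]⟩,
  ⟨128, [.a7], [.a7, .a8]⟩,
  ⟨256, [.a8], [.a8]⟩]
def B1531 : List Gv := [⟨[.a0], [.a0]⟩, ⟨[.a1], [.a1, .a2]⟩, ⟨[.a4], [.a4, .a5]⟩, ⟨[.a7], [.a7, .a8]⟩]
def D1531 : List Dv := [⟨[.a2], [1, 1], []⟩,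
  ⟨[.a3], [3, 2], [2, 3]⟩,
  ⟨[.a5], [4, 4], []⟩,
  ⟨[.a6], [6, 5], [5, 6]⟩,
  ⟨[.a8], [7, 7], []⟩]
def C1531 : List Ch := [⟨P1415, 0, [], []⟩,
  ⟨P1458, 1, [], []⟩,
  ⟨P1455, 0, [.a10], [.a10, .a11]⟩,
  ⟨P1470, 2, [], []⟩,
  ⟨P1473, 0, [.a11], [.a11]⟩,
  ⟨P1477, 1, [.a10, .a11], [.a10]⟩,
  ⟨P1475, 0, [.a10], [.a10, .a11]⟩,
  ⟨P1478, 3, [], []⟩,
  ⟨P1481, 0, [.a11], [.a11]⟩,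
  ⟨P1479, 1, [.a10], [.a10, .a11]⟩,
  ⟨P1481, 0, [.a10, .a11], [.a10]⟩,
  ⟨P1465, 2, [], []⟩,
  ⟨P1468, 0, [.a10], [.a10, .a11]⟩,
  ⟨P1426, 1, [], []⟩,
  ⟨P1435, 0, [], []⟩]
def S1531 : List St := [.phi 1 [⟨4, [.a2], [.a2]⟩,
  ⟨8, [.a3], [.a3]⟩,
  ⟨32, [.a5], [.a5]⟩,
  ⟨64, [.a6], [.a6]⟩,
  ⟨256, [.a8], [.a8]⟩] [[[.a1]], [[.a0, .a1, .a4, .a6]], [[.a4]], [[.a7], [.a3, .a4, .a7]], [[.a7]]],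
  .comm 0 2 [⟨32, [.a5], [.a5]⟩] [⟨[.a6], [.a1]⟩]]
theorem bad1531 (c : CtxF Goal γ) : Bad Goal γ [] P1531 :=
  c.toCtx.chn (B := B1531) (D := D1531) (I := [5, 6, 4, 3, 7, 2, 1, 8, 0]) (r := 4) (C := C1531) (l := S1531) (x := ⟨[.a9], [.a9]⟩) (ix := [1, 0]) (by decide +kernel) (by decide +kernel) (by decide +kernel) (by decide +kernel)
    (allB_cons (bad1415 c) (allB_cons (bad1458 c) (allB_cons (bad1455 c) (allB_cons (bad1470 c) (allB_cons (bad1473 c) (allB_cons (bad1477 c) (allB_cons (bad1475 c) (allB_cons (bad1478 c) (allB_cons (bad1481 c) (allB_cons (bad1479 c) (allB_cons (bad1481 c) (allB_cons (bad1465 c) (allB_cons (bad1468 c) (allB_cons (bad1426 c) (allB_cons (bad1435 c) (allB_nil))))))))))))))))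

def P1532 : List Ent := [⟨1, [.a0, .a9], [.a0, .a3, .a6, .a9]⟩,
  ⟨2, [.a1], [.a1, .a2]⟩,
  ⟨4, [.a2], [.a2]⟩,
  ⟨8, [.a3], [.a3]⟩,
  ⟨16, [.a4], [.a4, .a5]⟩,
  ⟨32, [.a5], [.a5]⟩,
  ⟨64, [.a6], [.a6]⟩,
  ⟨128, [.a7], [.a7, .a8]⟩,
  ⟨256, [.a8], [.a8]⟩]
def B1532 : List Gv := [⟨[.a0, .a9], [.a0, .a3, .a6, .a9]⟩, ⟨[.a1], [.a1, .a2]⟩, ⟨[.a4], [.a4, .a5]⟩, ⟨[.a7], [.a7, .a8]⟩]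
def D1532 : List Dv := [⟨[.a3, .a6], [0, 0], []⟩,
  ⟨[.a5, .a6, .a8], [2, 1], [1, 2]⟩,
  ⟨[.a2], [3, 3], []⟩,
  ⟨[.a6], [1, 0, 5, 3], [3, 5]⟩,
  ⟨[.a8], [0, 2, 6, 6], []⟩,
  ⟨[.a5], [3], [1, 0]⟩,
  ⟨[.a3], [5], [2]⟩]
def C1532 : List Ch := [⟨P1415, 0, [], []⟩,
  ⟨P1458, 1, [.a11], [.a11]⟩,
  ⟨P1451, 0, [.a10], [.a10, .a11]⟩,
  ⟨P1471, 2, [], []⟩,
  ⟨P1472, 0, [.a11], [.a11]⟩,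
  ⟨P1476, 1, [.a10, .a11], [.a10]⟩,
  ⟨P1474, 0, [.a10], [.a10, .a11]⟩,
  ⟨P1479, 3, [], []⟩,
  ⟨P1480, 0, [.a11], [.a11]⟩,
  ⟨P1478, 1, [.a10], [.a10, .a11]⟩,
  ⟨P1480, 0, [.a10, .a11], [.a10]⟩,
  ⟨P1466, 2, [], []⟩,
  ⟨P1467, 0, [.a10], [.a10, .a11]⟩,
  ⟨P1427, 1, [], []⟩,
  ⟨P1436, 0, [], []⟩]
def S1532 : List St := [.phi 1 [⟨4, [.a2], [.a2]⟩,
  ⟨8, [.a3], [.a3]⟩,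
  ⟨32, [.a5], [.a5]⟩,
  ⟨64, [.a6], [.a6]⟩,
  ⟨256, [.a8], [.a8]⟩] [[[.a1]], [[.a1], [.a1, .a4, .a6]], [[.a4]], [[.a7], [.a3, .a4, .a7]], [[.a7]]],
  .comm 0 2 [⟨32, [.a5], [.a5]⟩] [⟨[.a6], [.a1]⟩]]
theorem bad1532 (c : CtxF Goal γ) : Bad Goal γ [] P1532 :=
  c.toCtx.chn (B := B1532) (D := D1532) (I := [7, 8, 4, 0, 9, 1, 3, 10, 2]) (r := 4) (C := C1532) (l := S1532) (x := ⟨[.a9], [.a9]⟩) (ix := [1, 0]) (by decide +kernel) (by decide +kernel) (by decide +kernel) (by decide +kernel)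
    (allB_cons (bad1415 c) (allB_cons (bad1458 c) (allB_cons (bad1451 c) (allB_cons (bad1471 c) (allB_cons (bad1472 c) (allB_cons (bad1476 c) (allB_cons (bad1474 c) (allB_cons (bad1479 c) (allB_cons (bad1480 c) (allB_cons (bad1478 c) (allB_cons (bad1480 c) (allB_cons (bad1466 c) (allB_cons (bad1467 c) (allB_cons (bad1427 c) (allB_cons (bad1436 c) (allB_nil))))))))))))))))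

def P1533 : List Ent := [⟨1, [.a0], [.a0]⟩,
  ⟨2, [.a1], [.a1, .a2]⟩,
  ⟨4, [.a2], [.a2]⟩,
  ⟨8, [.a3], [.a3]⟩,
  ⟨16, [.a4, .a9], [.a4, .a5, .a8, .a9]⟩,
  ⟨32, [.a5], [.a5]⟩,
  ⟨64, [.a6], [.a6]⟩,
  ⟨128, [.a7], [.a7, .a8]⟩,
  ⟨256, [.a8], [.a8]⟩]
def B1533 : List Gv := [⟨[.a0], [.a0]⟩, ⟨[.a1], [.a1, .a2]⟩, ⟨[.a4, .a9], [.a4, .a5, .a8, .a9]⟩, ⟨[.a7], [.a7, .a8]⟩]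
def D1533 : List Dv := [⟨[.a2], [1, 1], []⟩,
  ⟨[.a3, .a6], [0, 3, 1], [1, 3]⟩,
  ⟨[.a8], [0, 4, 3], [3, 4]⟩,
  ⟨[.a5, .a8], [5, 5], []⟩,
  ⟨[.a6], [2, 3, 7, 4], [4, 7]⟩,
  ⟨[.a5], [1], [2]⟩,
  ⟨[.a3], [4], [1]⟩]
def C1533 : List Ch := [⟨P1416, 0, [], []⟩,
  ⟨P1440, 1, [], []⟩,
  ⟨P1459, 0, [.a10, .a11], [.a10]⟩,
  ⟨P1470, 2, [], []⟩,
  ⟨P1472, 0, [.a11], [.a11]⟩,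
  ⟨P1474, 1, [.a10, .a11], [.a10]⟩,
  ⟨P1477, 0, [.a10], [.a10, .a11]⟩,
  ⟨P1482, 3, [], []⟩,
  ⟨P1484, 0, [.a11], [.a11]⟩,
  ⟨P1485, 1, [.a10], [.a10, .a11]⟩,
  ⟨P1482, 0, [.a10, .a11], [.a10]⟩,
  ⟨P1467, 2, [], []⟩,
  ⟨P1465, 0, [.a10, .a11], [.a10]⟩,
  ⟨P1427, 1, [.a10], [.a10, .a11]⟩,
  ⟨P1435, 0, [.a10], [.a10, .a11]⟩]
def S1533 : List St := [.cent 1 1 0 [⟨32, [.a5], [.a5]⟩],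
  .phi 2 [⟨4, [.a2], [.a2]⟩,
  ⟨8, [.a3], [.a3]⟩,
  ⟨32, [.a5], [.a5]⟩,
  ⟨64, [.a6], [.a6]⟩,
  ⟨256, [.a8], [.a8]⟩] [[[.a1]], [[.a7], [.a0, .a1, .a7]], [[.a0, .a8]], [[.a2, .a4, .a7, .a9]], [[.a7]]]]
theorem bad1533 (c : CtxF Goal γ) : Bad Goal γ [] P1533 :=
  c.toCtx.chn (B := B1533) (D := D1533) (I := [7, 8, 6, 0, 9, 1, 2, 10, 4]) (r := 4) (C := C1533) (l := S1533) (x := ⟨[.a9], [.a9]⟩) (ix := [0, 1]) (by decide +kernel) (by decide +kernel) (by decide +kernel) (by decide +kernel)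
    (allB_cons (bad1416 c) (allB_cons (bad1440 c) (allB_cons (bad1459 c) (allB_cons (bad1470 c) (allB_cons (bad1472 c) (allB_cons (bad1474 c) (allB_cons (bad1477 c) (allB_cons (bad1482 c) (allB_cons (bad1484 c) (allB_cons (bad1485 c) (allB_cons (bad1482 c) (allB_cons (bad1467 c) (allB_cons (bad1465 c) (allB_cons (bad1427 c) (allB_cons (bad1435 c) (allB_nil))))))))))))))))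

def P1534 : List Ent := [⟨1, [.a0, .a9], [.a0, .a3, .a6, .a9]⟩,
  ⟨2, [.a1], [.a1, .a2]⟩,
  ⟨4, [.a2], [.a2]⟩,
  ⟨8, [.a3], [.a3]⟩,
  ⟨16, [.a4, .a9], [.a4, .a5, .a8, .a9]⟩,
  ⟨32, [.a5], [.a5]⟩,
  ⟨64, [.a6], [.a6]⟩,
  ⟨128, [.a7], [.a7, .a8]⟩,
  ⟨256, [.a8], [.a8]⟩]
def B1534 : List Gv := [⟨[.a0, .a9], [.a0, .a3, .a6, .a9]⟩, ⟨[.a1], [.a1, .a2]⟩, ⟨[.a4, .a9], [.a4, .a5, .a8, .a9]⟩, ⟨[.a7], [.a7, .a8]⟩]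
def D1534 : List Dv := [⟨[.a3, .a6], [0, 0], []⟩,
  ⟨[.a5, .a6, .a8], [2, 1], [1, 2]⟩,
  ⟨[.a2], [3, 3], []⟩,
  ⟨[.a6], [1, 2, 0, 5, 3], [3, 5]⟩,
  ⟨[.a8], [3, 6, 5], [5, 6]⟩,
  ⟨[.a5], [3], [1, 0]⟩,
  ⟨[.a3], [5], [2]⟩]
def C1534 : List Ch := [⟨P1416, 0, [], []⟩,
  ⟨P1446, 1, [], []⟩,
  ⟨P1459, 0, [.a10], [.a10, .a11]⟩,
  ⟨P1471, 2, [], []⟩,
  ⟨P1473, 0, [.a11], [.a11]⟩,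
  ⟨P1475, 1, [.a10, .a11], [.a10]⟩,
  ⟨P1476, 0, [.a10], [.a10, .a11]⟩,
  ⟨P1483, 3, [], []⟩,
  ⟨P1485, 0, [.a11], [.a11]⟩,
  ⟨P1484, 1, [.a10], [.a10, .a11]⟩,
  ⟨P1483, 0, [.a10, .a11], [.a10]⟩,
  ⟨P1468, 2, [], []⟩,
  ⟨P1466, 0, [.a10, .a11], [.a10]⟩,
  ⟨P1426, 1, [.a10], [.a10, .a11]⟩,
  ⟨P1436, 0, [.a10], [.a10, .a11]⟩]
def S1534 : List St := [.cent 1 1 0 [⟨32, [.a5], [.a5]⟩],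
  .phi 2 [⟨4, [.a2], [.a2]⟩,
  ⟨8, [.a3], [.a3]⟩,
  ⟨32, [.a5], [.a5]⟩,
  ⟨64, [.a6], [.a6]⟩,
  ⟨256, [.a8], [.a8]⟩] [[[.a1]], [[.a0, .a1, .a4, .a6]], [[.a0, .a1, .a7, .a9]], [[.a2, .a4, .a7, .a9]], [[.a7]]]]
theorem bad1534 (c : CtxF Goal γ) : Bad Goal γ [] P1534 :=
  c.toCtx.chn (B := B1534) (D := D1534) (I := [7, 8, 4, 0, 9, 1, 3, 10, 2]) (r := 4) (C := C1534) (l := S1534) (x := ⟨[.a9], [.a9]⟩) (ix := [0, 1]) (by decide +kernel) (by decide +kernel) (by decide +kernel) (by decide +kernel)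
    (allB_cons (bad1416 c) (allB_cons (bad1446 c) (allB_cons (bad1459 c) (allB_cons (bad1471 c) (allB_cons (bad1473 c) (allB_cons (bad1475 c) (allB_cons (bad1476 c) (allB_cons (bad1483 c) (allB_cons (bad1485 c) (allB_cons (bad1484 c) (allB_cons (bad1483 c) (allB_cons (bad1468 c) (allB_cons (bad1466 c) (allB_cons (bad1426 c) (allB_cons (bad1436 c) (allB_nil))))))))))))))))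

def P1535 : List Ent := [⟨1, [.a0, .a10], [.a0, .a1, .a2, .a3, .a4, .a6, .a8, .a9, .a10, .a11]⟩,
  ⟨2, [.a1, .a7, .a11], [.a1, .a2, .a5, .a6, .a7, .a8, .a9, .a11]⟩,
  ⟨4, [.a2], [.a2]⟩,
  ⟨8, [.a3], [.a3]⟩,
  ⟨16, [.a4], [.a4, .a5]⟩,
  ⟨32, [.a5], [.a5]⟩,
  ⟨64, [.a6], [.a6]⟩,
  ⟨256, [.a8], [.a8]⟩,
  ⟨512, [.a9], [.a9]⟩]
def B1535 : List Gv := [⟨[.a0, .a10], [.a0, .a1, .a2, .a3, .a4, .a6, .a8, .a9, .a10, .a11]⟩, ⟨[.a4], [.a4, .a5]⟩]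
def D1535 : List Dv := [⟨[.a1, .a3, .a5, .a6, .a7, .a8, .a9, .a11], [0, 0], []⟩,
  ⟨[.a2], [2, 1], [1, 2]⟩,
  ⟨[.a5], [3, 3], []⟩,
  ⟨[.a3, .a5, .a6, .a8], [2, 4], [4, 2]⟩,
  ⟨[.a6, .a9], [2, 3, 3], []⟩,
  ⟨[.a8, .a9], [0, 2, 3, 4], [4, 3]⟩,
  ⟨[.a9], [0, 2, 5], [5, 2]⟩,
  ⟨[.a8], [1], [0]⟩,
  ⟨[.a6], [3], [1]⟩,
  ⟨[.a3], [5], [6, 0, 1]⟩,
  ⟨[.a1, .a7, .a11], [9], [0, 1, 3]⟩]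
def C1535 : List Ch := [⟨P1414, 0, [.a0], [.a0]⟩,
  ⟨P1429, 1, [], []⟩,
  ⟨P1437, 0, [.a1], [.a1, .a2]⟩]
def S1535 : List St := [.cent 1 1 0 [⟨32, [.a5], [.a5]⟩],
  .om 2 [⟨4, [.a2], [.a2]⟩,
  ⟨8, [.a3], [.a3]⟩,
  ⟨32, [.a5], [.a5]⟩,
  ⟨64, [.a6], [.a6]⟩,
  ⟨256, [.a8], [.a8]⟩,
  ⟨512, [.a9], [.a9]⟩] [[[.a2]], [[.a3]], [[.a5]], [[.a6]], [[.a8]], [[.a9]]]]
theorem bad1535 (c : CtxF Goal γ) : Bad Goal γ [] P1535 :=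
  c.toCtx.chn (B := B1535) (D := D1535) (I := [11, 0, 9, 1, 12, 8, 2, 3, 4]) (r := 2) (C := C1535) (l := S1535) (x := ⟨[.a7], [.a7, .a8]⟩) (ix := [0, 1]) (by decide +kernel) (by decide +kernel) (by decide +kernel) (by decide +kernel)
    (allB_cons (bad1414 c) (allB_cons (bad1429 c) (allB_cons (bad1437 c) (allB_nil))))

def P1536 : List Ent := [⟨1, [.a0, .a10], [.a0, .a1, .a2, .a3, .a4, .a6, .a8, .a9, .a10, .a11]⟩,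
  ⟨2, [.a1, .a11], [.a1, .a2, .a5, .a6, .a9, .a11]⟩,
  ⟨4, [.a2], [.a2]⟩,
  ⟨8, [.a3], [.a3]⟩,
  ⟨32, [.a5], [.a5]⟩,
  ⟨64, [.a6], [.a6]⟩,
  ⟨128, [.a7], [.a7, .a8]⟩,
  ⟨256, [.a8], [.a8]⟩,
  ⟨512, [.a9], [.a9]⟩]
def B1536 : List Gv := [⟨[.a0, .a10], [.a0, .a1, .a2, .a3, .a4, .a6, .a8, .a9, .a10, .a11]⟩, ⟨[.a1, .a11], [.a1, .a2, .a5, .a6, .a9, .a11]⟩, ⟨[.a2], [.a2]⟩]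
def D1536 : List Dv := [⟨[.a3, .a6, .a7, .a8], [2, 1, 0, 0], []⟩,
  ⟨[.a7, .a8, .a9], [0, 3, 2, 1], [1, 2]⟩,
  ⟨[.a5, .a8, .a9], [4, 3, 3], []⟩,
  ⟨[.a9], [1, 2, 5, 3], [3, 5]⟩,
  ⟨[.a6, .a8], [6, 5], [5, 6]⟩,
  ⟨[.a8, .a9], [3, 0, 2, 4, 7, 3, 5], [5, 3]⟩,
  ⟨[.a8], [0], [2]⟩,
  ⟨[.a7], [5], [0, 3]⟩,
  ⟨[.a6], [3], [1]⟩,
  ⟨[.a5], [6], [2, 5]⟩,
  ⟨[.a3], [9], [1, 2, 3]⟩]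
def C1536 : List Ch := [⟨P1408, 0, [], []⟩,
  ⟨P1429, 1, [], []⟩,
  ⟨P1437, 0, [], []⟩,
  ⟨P1486, 2, [], []⟩,
  ⟨P1486, 0, [.a4], [.a4, .a5]⟩,
  ⟨P1487, 1, [], []⟩,
  ⟨P1487, 0, [.a4], [.a4, .a5]⟩]
def S1536 : List St := [.phi 1 [⟨2, [.a1, .a7, .a9, .a11], [.a1, .a2, .a5, .a7, .a11]⟩,
  ⟨4, [.a2, .a9], [.a2, .a5, .a9]⟩,
  ⟨8, [.a3], [.a3]⟩,
  ⟨32, [.a5], [.a5]⟩,
  ⟨64, [.a6], [.a6]⟩,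
  ⟨256, [.a8], [.a8]⟩] [[[.a0, .a2, .a8, .a10]], [[.a1, .a3, .a6, .a11]], [[.a0, .a3, .a7, .a8, .a10], [.a0, .a3, .a8, .a10]], [[.a2, .a9]], [[.a1, .a3, .a6, .a11], [.a1, .a2, .a11]], [[.a7]]],
  .om 2 [⟨4, [.a2], [.a2]⟩,
  ⟨8, [.a3], [.a3]⟩,
  ⟨32, [.a5], [.a5]⟩,
  ⟨64, [.a6], [.a6]⟩,
  ⟨256, [.a8], [.a8]⟩,
  ⟨512, [.a9], [.a9]⟩] [[[.a2]], [[.a3]], [[.a5]], [[.a6]], [[.a8]], [[.a9]]],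
  .comm 1 1 [⟨32, [.a5, .a8], [.a5, .a8]⟩,
  ⟨256, [.a8], [.a8]⟩] [⟨[.a3], [.a1, .a2, .a7, .a11]⟩, ⟨[.a3, .a6], [.a1, .a2, .a7, .a11]⟩]]
theorem bad1536 (c : CtxF Goal γ) : Bad Goal γ [] P1536 :=
  c.toCtx.chn (B := B1536) (D := D1536) (I := [11, 12, 13, 0, 1, 2, 3, 4, 7]) (r := 3) (C := C1536) (l := S1536) (x := ⟨[.a4], [.a4, .a5]⟩) (ix := [1, 0]) (by decide +kernel) (by decide +kernel) (by decide +kernel) (by decide +kernel)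
    (allB_cons (bad1408 c) (allB_cons (bad1429 c) (allB_cons (bad1437 c) (allB_cons (bad1486 c) (allB_cons (bad1486 c) (allB_cons (bad1487 c) (allB_cons (bad1487 c) (allB_nil))))))))

def P1537 : List Ent := [⟨4, [.a2], [.a2]⟩,
  ⟨8, [.a3], [.a3]⟩,
  ⟨16, [.a4], [.a4, .a5]⟩,
  ⟨32, [.a5], [.a5]⟩,
  ⟨64, [.a6], [.a6]⟩,
  ⟨128, [.a7], [.a7, .a8]⟩,
  ⟨256, [.a8], [.a8]⟩,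
  ⟨512, [.a9], [.a9]⟩,
  ⟨1024, [.a10], [.a10, .a11]⟩,
  ⟨2048, [.a11], [.a11]⟩]
def B1537 : List Gv := [⟨[.a2], [.a2]⟩, ⟨[.a4], [.a4, .a5]⟩, ⟨[.a7], [.a7, .a8]⟩, ⟨[.a10], [.a10, .a11]⟩]
def D1537 : List Dv := [⟨[.a5], [1, 1], []⟩,
  ⟨[.a6], [3, 2], [2, 3]⟩,
  ⟨[.a8], [4, 4], []⟩,
  ⟨[.a3, .a6, .a8], [6, 3], [3, 6]⟩,
  ⟨[.a9], [7, 6], [6, 7]⟩,
  ⟨[.a11], [8, 8], []⟩,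
  ⟨[.a3], [2], [4, 3]⟩]
def C1537 : List Ch := [⟨P1488, 0, [], []⟩,
  ⟨P1489, 1, [], []⟩,
  ⟨P1490, 0, [], []⟩,
  ⟨P1491, 2, [], []⟩,
  ⟨P1492, 0, [], []⟩,
  ⟨P1493, 1, [], []⟩,
  ⟨P1494, 0, [], []⟩,
  ⟨P1495, 3, [], []⟩,
  ⟨P1496, 0, [], []⟩,
  ⟨P1489, 1, [.a1], [.a1, .a2]⟩,
  ⟨P1490, 0, [.a1], [.a1, .a2]⟩,
  ⟨P1491, 2, [.a1], [.a1, .a2]⟩,
  ⟨P1492, 0, [.a1], [.a1, .a2]⟩,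
  ⟨P1497, 1, [], []⟩,
  ⟨P1498, 0, [], []⟩]
def S1537 : List St := [.cent 1 1 0 [⟨32, [.a5], [.a5]⟩,
  ⟨256, [.a8], [.a8]⟩],
  .phi 2 [⟨8, [.a3], [.a3]⟩,
  ⟨32, [.a5], [.a5]⟩,
  ⟨64, [.a6], [.a6]⟩,
  ⟨256, [.a8], [.a8]⟩,
  ⟨512, [.a9], [.a9]⟩,
  ⟨2048, [.a11], [.a11]⟩] [[[.a10], [.a2, .a3, .a4, .a10]], [[.a4]], [[.a2, .a4, .a7, .a9]], [[.a7]], [[.a10], [.a6, .a7, .a10]], [[.a10]]],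
  .comm 3 3 [⟨8, [.a3, .a6, .a8], [.a3, .a6, .a8]⟩,
  ⟨32, [.a5], [.a5]⟩,
  ⟨64, [.a6], [.a6]⟩,
  ⟨256, [.a8], [.a8]⟩,
  ⟨512, [.a9], [.a9]⟩] [⟨[.a2], [.a10]⟩, ⟨[.a3], [.a7]⟩, ⟨[.a4], [.a7]⟩, ⟨[.a4], [.a9]⟩, ⟨[.a7], [.a10]⟩],
  .om 4 [⟨4, [.a2], [.a2]⟩,
  ⟨8, [.a3], [.a3]⟩,
  ⟨16, [.a4, .a7], [.a4, .a5, .a6, .a7, .a8]⟩,
  ⟨32, [.a5], [.a5]⟩,
  ⟨64, [.a6], [.a6]⟩,
  ⟨256, [.a8], [.a8]⟩,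
  ⟨512, [.a9], [.a9]⟩,
  ⟨2048, [.a11], [.a11]⟩] [[[.a2]], [[.a3]], [[.a2], [.a11], [.a2, .a4, .a5, .a6, .a7, .a8, .a11]], [[.a5]], [[.a6]], [[.a8]], [[.a9]], [[.a11]]],
  .comm 2 5 [⟨32, [.a5], [.a5]⟩,
  ⟨64, [.a6, .a8], [.a6, .a8]⟩,
  ⟨256, [.a8], [.a8]⟩] [⟨[.a9], [.a2]⟩, ⟨[.a9, .a11], [.a2]⟩, ⟨[.a9], [.a4]⟩]]
theorem bad1537 (c : CtxF Goal γ) : Bad Goal γ [] P1537 :=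
  c.toCtx.chn (B := B1537) (D := D1537) (I := [7, 0, 8, 6, 5, 9, 4, 2, 10, 1]) (r := 4) (C := C1537) (l := S1537) (x := ⟨[.a1], [.a1, .a2]⟩) (ix := [1, 2, 0, 4]) (by decide +kernel) (by decide +kernel) (by decide +kernel) (by decide +kernel)
    (allB_cons (bad1488 c) (allB_cons (bad1489 c) (allB_cons (bad1490 c) (allB_cons (bad1491 c) (allB_cons (bad1492 c) (allB_cons (bad1493 c) (allB_cons (bad1494 c) (allB_cons (bad1495 c) (allB_cons (bad1496 c) (allB_cons (bad1489 c) (allB_cons (bad1490 c) (allB_cons (bad1491 c) (allB_cons (bad1492 c) (allB_cons (bad1497 c) (allB_cons (bad1498 c) (allB_nil))))))))))))))))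

def P1538 : List Ent := [⟨2, [.a1], [.a1, .a2]⟩,
  ⟨4, [.a2], [.a2]⟩,
  ⟨8, [.a3], [.a3]⟩,
  ⟨16, [.a4, .a7], [.a4, .a5, .a6, .a7, .a8]⟩,
  ⟨32, [.a5], [.a5]⟩,
  ⟨64, [.a6], [.a6]⟩,
  ⟨256, [.a8], [.a8]⟩,
  ⟨512, [.a9], [.a9]⟩,
  ⟨1024, [.a10], [.a10, .a11]⟩,
  ⟨2048, [.a11], [.a11]⟩]
def B1538 : List Gv := [⟨[.a1], [.a1, .a2]⟩, ⟨[.a10], [.a10, .a11]⟩]
def D1538 : List Dv := [⟨[.a2], [0, 0], []⟩,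
  ⟨[.a4, .a5, .a7], [2, 1], [1, 2]⟩,
  ⟨[.a11], [3, 3], []⟩,
  ⟨[.a3, .a6, .a8], [2, 4], [4, 2]⟩,
  ⟨[.a6, .a8], [0, 2, 4], [4, 2]⟩,
  ⟨[.a8, .a9], [3, 6], [6, 3]⟩,
  ⟨[.a5, .a6, .a8], [4, 4], []⟩,
  ⟨[.a9], [1, 3, 4], [4, 3]⟩,
  ⟨[.a8], [2], [0]⟩,
  ⟨[.a6], [4], [0]⟩,
  ⟨[.a5], [3], [0, 1]⟩,
  ⟨[.a4, .a7], [9], [0]⟩,
  ⟨[.a3], [8], [2, 3]⟩]
def C1538 : List Ch := [⟨P1493, 0, [], []⟩,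
  ⟨P1499, 1, [], []⟩,
  ⟨P1497, 0, [.a0], [.a0]⟩]
def S1538 : List St := [.cent 1 1 0 [⟨32, [.a5], [.a5]⟩,
  ⟨256, [.a8], [.a8]⟩],
  .phi 2 [⟨4, [.a2], [.a2]⟩,
  ⟨8, [.a3], [.a3]⟩,
  ⟨16, [.a4, .a7], [.a4, .a5, .a6, .a7, .a8]⟩,
  ⟨32, [.a5], [.a5]⟩,
  ⟨64, [.a6], [.a6]⟩,
  ⟨256, [.a8], [.a8]⟩,
  ⟨512, [.a9], [.a9]⟩,
  ⟨2048, [.a11], [.a11]⟩] [[[.a1]], [[.a1, .a2, .a9], [.a1, .a3, .a4, .a7]], [[.a1], [.a2, .a3, .a6, .a9, .a10], [.a1, .a3, .a10]], [[.a2, .a9]], [[.a2, .a4, .a7, .a9]], [[.a3, .a11]], [[.a1], [.a1, .a3, .a6, .a11]], [[.a10]]],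
  .comm 0 3 [⟨8, [.a3, .a6, .a8], [.a3, .a6, .a8]⟩,
  ⟨32, [.a5], [.a5]⟩,
  ⟨64, [.a6, .a8], [.a6, .a8]⟩,
  ⟨256, [.a8], [.a8]⟩,
  ⟨512, [.a9], [.a9]⟩] [⟨[.a2], [.a10]⟩, ⟨[.a6], [.a1]⟩, ⟨[.a9], [.a1]⟩, ⟨[.a11], [.a3]⟩, ⟨[.a4, .a6, .a7], [.a10]⟩]]
theorem bad1538 (c : CtxF Goal γ) : Bad Goal γ [] P1538 :=
  c.toCtx.chn (B := B1538) (D := D1538) (I := [13, 12, 0, 1, 2, 3, 4, 5, 14, 10]) (r := 2) (C := C1538) (l := S1538) (x := ⟨[.a7], [.a7, .a8]⟩) (ix := [0, 2]) (by decide +kernel) (by decide +kernel) (by decide +kernel) (by decide +kernel)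
    (allB_cons (bad1493 c) (allB_cons (bad1499 c) (allB_cons (bad1497 c) (allB_nil))))

def P1539 : List Ent := [⟨2, [.a1, .a7], [.a1, .a2, .a7, .a8]⟩,
  ⟨4, [.a2], [.a2]⟩,
  ⟨8, [.a3], [.a3]⟩,
  ⟨16, [.a4, .a7], [.a4, .a5, .a6, .a7, .a8]⟩,
  ⟨32, [.a5], [.a5]⟩,
  ⟨64, [.a6], [.a6]⟩,
  ⟨256, [.a8], [.a8]⟩,
  ⟨512, [.a9], [.a9]⟩,
  ⟨1024, [.a10], [.a10, .a11]⟩,
  ⟨2048, [.a11], [.a11]⟩]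
def B1539 : List Gv := [⟨[.a1, .a7], [.a1, .a2, .a7, .a8]⟩, ⟨[.a10], [.a10, .a11]⟩]
def D1539 : List Dv := [⟨[.a2, .a8], [0, 0], []⟩,
  ⟨[.a4, .a5, .a6, .a7, .a8, .a9], [2, 1], [1, 2]⟩,
  ⟨[.a11], [3, 3], []⟩,
  ⟨[.a3, .a6, .a8], [2, 4], [4, 2]⟩,
  ⟨[.a6], [0, 2, 4], [4, 2]⟩,
  ⟨[.a9], [3, 6], [6, 3]⟩,
  ⟨[.a5], [4, 5], [5, 4]⟩,
  ⟨[.a8], [2, 0, 4, 6], [6, 4]⟩,
  ⟨[.a4, .a7], [6], [1, 3, 0, 2]⟩,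
  ⟨[.a3], [5], [4, 1]⟩,
  ⟨[.a2], [9], [2]⟩]
def C1539 : List Ch := [⟨P1493, 0, [], []⟩,
  ⟨P1500, 1, [], []⟩,
  ⟨P1493, 0, [.a0], [.a0]⟩]
def N1539 : List Ent := [⟨1, [.a0], [.a0]⟩,
  ⟨2, [.a1, .a7], [.a1, .a2, .a7, .a8]⟩,
  ⟨4, [.a2], [.a2]⟩,
  ⟨8, [.a3], [.a3]⟩,
  ⟨16, [.a4, .a7], [.a4, .a5, .a6, .a7, .a8]⟩,
  ⟨32, [.a5], [.a5]⟩,
  ⟨64, [.a6], [.a6]⟩,
  ⟨128, [.a7], [.a7, .a8]⟩,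
  ⟨256, [.a8], [.a8]⟩,
  ⟨512, [.a9], [.a9]⟩,
  ⟨1024, [.a10], [.a10, .a11]⟩,
  ⟨2048, [.a11], [.a11]⟩]
theorem bad1539 (c : CtxF Goal γ) : Bad Goal γ [] P1539 :=
  c.toCtx.bnd (B := B1539) (D := D1539) (I := [11, 0, 1, 2, 4, 6, 3, 5, 12, 8]) (r := 2) (C := C1539) (N := N1539) (by decide +kernel) (by decide +kernel) (by decide +kernel) (by decide +kernel)
    (allB_cons (bad1493 c) (allB_cons (bad1500 c) (allB_cons (bad1493 c) (allB_nil))))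

def P1540 : List Ent := [⟨2, [.a1], [.a1, .a2]⟩,
  ⟨4, [.a2], [.a2]⟩,
  ⟨8, [.a3], [.a3]⟩,
  ⟨16, [.a4], [.a4, .a5]⟩,
  ⟨32, [.a5], [.a5]⟩,
  ⟨64, [.a6], [.a6]⟩,
  ⟨128, [.a7], [.a7, .a8]⟩,
  ⟨256, [.a8], [.a8]⟩,
  ⟨512, [.a9], [.a9]⟩,
  ⟨2048, [.a11], [.a11]⟩]
def B1540 : List Gv := [⟨[.a1], [.a1, .a2]⟩, ⟨[.a4], [.a4, .a5]⟩, ⟨[.a7], [.a7, .a8]⟩, ⟨[.a11], [.a11]⟩]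
def D1540 : List Dv := [⟨[.a2], [0, 0], []⟩,
  ⟨[.a3], [2, 1], [1, 2]⟩,
  ⟨[.a5], [3, 3], []⟩,
  ⟨[.a6], [5, 4], [4, 5]⟩,
  ⟨[.a8], [6, 6], []⟩,
  ⟨[.a9], [1, 2, 8, 5], [5, 8]⟩]
def C1540 : List Ch := [⟨P1495, 0, [], []⟩,
  ⟨P1501, 1, [], []⟩,
  ⟨P1501, 0, [.a10], [.a10, .a11]⟩,
  ⟨P1502, 2, [], []⟩,
  ⟨P1502, 0, [.a10], [.a10, .a11]⟩,
  ⟨P1499, 1, [], []⟩,
  ⟨P1500, 0, [], []⟩,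
  ⟨P1503, 3, [], []⟩,
  ⟨P1504, 0, [], []⟩,
  ⟨P1501, 1, [.a0], [.a0]⟩,
  ⟨P1501, 0, [.a0, .a1, .a3, .a5, .a6, .a7, .a8, .a9, .a10], [.a0, .a10, .a11]⟩,
  ⟨P1502, 2, [.a0], [.a0]⟩,
  ⟨P1502, 0, [.a0, .a1, .a3, .a5, .a6, .a7, .a8, .a9, .a10], [.a0, .a10, .a11]⟩,
  ⟨P1505, 1, [], []⟩,
  ⟨P1506, 0, [], []⟩]
def S1540 : List St := [.cent 1 1 0 [⟨32, [.a5], [.a5]⟩,
  ⟨256, [.a8], [.a8]⟩],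
  .phi 2 [⟨4, [.a2], [.a2]⟩,
  ⟨8, [.a3], [.a3]⟩,
  ⟨32, [.a5], [.a5]⟩,
  ⟨64, [.a6], [.a6]⟩,
  ⟨256, [.a8], [.a8]⟩,
  ⟨512, [.a9], [.a9]⟩] [[[.a1]], [[.a1], [.a1, .a4, .a6]], [[.a4]], [[.a2, .a4, .a7, .a9]], [[.a7]], [[.a1], [.a1, .a3, .a6, .a11]]],
  .comm 3 3 [⟨8, [.a3], [.a3]⟩,
  ⟨32, [.a5], [.a5]⟩,
  ⟨64, [.a6, .a8], [.a6, .a8]⟩,
  ⟨256, [.a8], [.a8]⟩,
  ⟨512, [.a9], [.a9]⟩] [⟨[.a1], [.a4]⟩, ⟨[.a1], [.a6]⟩, ⟨[.a1], [.a9]⟩, ⟨[.a3], [.a11]⟩, ⟨[.a1, .a3], [.a1, .a11]⟩],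
  .om 4 [⟨4, [.a2], [.a2]⟩,
  ⟨8, [.a3], [.a3]⟩,
  ⟨16, [.a4, .a7], [.a4, .a5, .a6, .a7, .a8]⟩,
  ⟨32, [.a5], [.a5]⟩,
  ⟨64, [.a6], [.a6]⟩,
  ⟨256, [.a8], [.a8]⟩,
  ⟨512, [.a9], [.a9]⟩,
  ⟨2048, [.a11], [.a11]⟩] [[[.a2]], [[.a3]], [[.a2], [.a11], [.a2, .a4, .a5, .a6, .a7, .a8, .a11]], [[.a5]], [[.a6]], [[.a8]], [[.a9]], [[.a11]]],
  .comm 2 5 [⟨32, [.a5], [.a5]⟩,
  ⟨64, [.a6, .a8], [.a6, .a8]⟩,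
  ⟨256, [.a8], [.a8]⟩] [⟨[.a6], [.a1]⟩, ⟨[.a9], [.a1]⟩, ⟨[.a9], [.a4]⟩]]
theorem bad1540 (c : CtxF Goal γ) : Bad Goal γ [] P1540 :=
  c.toCtx.chn (B := B1540) (D := D1540) (I := [6, 5, 4, 7, 3, 2, 8, 1, 0, 9]) (r := 4) (C := C1540) (l := S1540) (x := ⟨[.a10], [.a10, .a11]⟩) (ix := [1, 2, 0, 4]) (by decide +kernel) (by decide +kernel) (by decide +kernel) (by decide +kernel)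
    (allB_cons (bad1495 c) (allB_cons (bad1501 c) (allB_cons (bad1501 c) (allB_cons (bad1502 c) (allB_cons (bad1502 c) (allB_cons (bad1499 c) (allB_cons (bad1500 c) (allB_cons (bad1503 c) (allB_cons (bad1504 c) (allB_cons (bad1501 c) (allB_cons (bad1501 c) (allB_cons (bad1502 c) (allB_cons (bad1502 c) (allB_cons (bad1505 c) (allB_cons (bad1506 c) (allB_nil))))))))))))))))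

def P1541 : List Ent := [⟨2, [.a1, .a10], [.a1, .a2, .a4, .a5, .a7, .a9, .a10, .a11]⟩,
  ⟨4, [.a2], [.a2]⟩,
  ⟨8, [.a3], [.a3]⟩,
  ⟨16, [.a4, .a10], [.a4, .a5, .a10, .a11]⟩,
  ⟨32, [.a5], [.a5]⟩,
  ⟨64, [.a6], [.a6]⟩,
  ⟨128, [.a7, .a10], [.a7, .a8, .a9, .a10, .a11]⟩,
  ⟨256, [.a8], [.a8]⟩,
  ⟨512, [.a9], [.a9]⟩,
  ⟨2048, [.a11], [.a11]⟩]
def B1541 : List Gv := [⟨[.a1, .a10], [.a1, .a2, .a4, .a5, .a7, .a9, .a10, .a11]⟩, ⟨[.a4, .a10], [.a4, .a5, .a10, .a11]⟩]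
def D1541 : List Dv := [⟨[.a2, .a3, .a4, .a5, .a7, .a11], [0, 0], []⟩,
  ⟨[.a3, .a4, .a6, .a7], [2, 1], [1, 2]⟩,
  ⟨[.a5, .a11], [3, 3], []⟩,
  ⟨[.a7, .a8, .a10], [4, 1, 2, 4], [4, 2]⟩,
  ⟨[.a8, .a11], [1, 3, 3], []⟩,
  ⟨[.a6, .a7, .a10, .a11], [2, 6, 3, 3, 5], [5, 3]⟩,
  ⟨[.a9], [1, 3, 4, 7], [7, 4]⟩,
  ⟨[.a11], [2, 5, 6], [6, 5]⟩,
  ⟨[.a8], [3], [0]⟩,
  ⟨[.a7, .a10], [5], [0]⟩,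
  ⟨[.a6], [4], [0, 2]⟩,
  ⟨[.a5], [8], [3]⟩,
  ⟨[.a3], [10], [13, 1, 2, 3, 5, 4]⟩,
  ⟨[.a2], [12], [0, 14, 1, 3, 6]⟩]
def C1541 : List Ch := [⟨P1497, 0, [], []⟩,
  ⟨P1497, 1, [.a0], [.a0]⟩,
  ⟨P1500, 0, [], []⟩]
def N1541 : List Ent := [⟨1, [.a0], [.a0]⟩,
  ⟨2, [.a1, .a10], [.a1, .a2, .a4, .a5, .a7, .a9, .a10, .a11]⟩,
  ⟨4, [.a2], [.a2]⟩,
  ⟨8, [.a3], [.a3]⟩,
  ⟨16, [.a4, .a10], [.a4, .a5, .a10, .a11]⟩,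
  ⟨32, [.a5], [.a5]⟩,
  ⟨64, [.a6], [.a6]⟩,
  ⟨128, [.a7, .a10], [.a7, .a8, .a9, .a10, .a11]⟩,
  ⟨256, [.a8], [.a8]⟩,
  ⟨512, [.a9], [.a9]⟩,
  ⟨1024, [.a10], [.a10, .a11]⟩,
  ⟨2048, [.a11], [.a11]⟩]
theorem bad1541 (c : CtxF Goal γ) : Bad Goal γ [] P1541 :=
  c.toCtx.bnd (B := B1541) (D := D1541) (I := [14, 0, 1, 15, 2, 3, 4, 5, 7, 6]) (r := 2) (C := C1541) (N := N1541) (by decide +kernel) (by decide +kernel) (by decide +kernel) (by decide +kernel)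
    (allB_cons (bad1497 c) (allB_cons (bad1497 c) (allB_cons (bad1500 c) (allB_nil))))

def P1542 : List Ent := [⟨1, [.a0], [.a0]⟩,
  ⟨2, [.a1, .a7], [.a1, .a2, .a7, .a8]⟩,
  ⟨4, [.a2], [.a2]⟩,
  ⟨8, [.a3], [.a3]⟩,
  ⟨16, [.a4, .a7], [.a4, .a5, .a6, .a7, .a8]⟩,
  ⟨32, [.a5], [.a5]⟩,
  ⟨64, [.a6], [.a6]⟩,
  ⟨256, [.a8], [.a8]⟩,
  ⟨512, [.a9], [.a9]⟩,
  ⟨2048, [.a11], [.a11]⟩]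
def B1542 : List Gv := [⟨[.a0], [.a0]⟩, ⟨[.a1, .a7], [.a1, .a2, .a7, .a8]⟩, ⟨[.a11], [.a11]⟩]
def D1542 : List Dv := [⟨[.a2, .a3], [1, 0], [0, 1]⟩,
  ⟨[.a3, .a8], [0, 2, 2], []⟩,
  ⟨[.a4, .a7, .a9], [1, 4, 2], [2, 4]⟩,
  ⟨[.a5, .a6, .a9], [5, 4], [4, 5]⟩,
  ⟨[.a6, .a9], [0, 3, 5], [5, 3]⟩,
  ⟨[.a9], [1, 4, 7], [7, 4]⟩,
  ⟨[.a8], [4, 8], [8, 4]⟩,
  ⟨[.a6], [2], [1]⟩,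
  ⟨[.a5], [4], [0, 2]⟩,
  ⟨[.a4, .a7], [6], [3]⟩,
  ⟨[.a3], [8], [3]⟩,
  ⟨[.a2], [10], [0]⟩]
def C1542 : List Ch := [⟨P1500, 0, [], []⟩,
  ⟨P1507, 1, [], []⟩,
  ⟨P1507, 0, [.a10], [.a10, .a11]⟩,
  ⟨P1508, 2, [], []⟩,
  ⟨P1509, 0, [], []⟩,
  ⟨P1510, 1, [], []⟩,
  ⟨P1510, 0, [.a10], [.a10, .a11]⟩]
def N1542 : List Ent := [⟨1, [.a0], [.a0]⟩,
  ⟨2, [.a1, .a7], [.a1, .a2, .a7, .a8]⟩,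
  ⟨4, [.a2], [.a2]⟩,
  ⟨8, [.a3], [.a3]⟩,
  ⟨16, [.a4, .a7], [.a4, .a5, .a6, .a7, .a8]⟩,
  ⟨32, [.a5], [.a5]⟩,
  ⟨64, [.a6], [.a6]⟩,
  ⟨128, [.a7], [.a7, .a8]⟩,
  ⟨256, [.a8], [.a8]⟩,
  ⟨512, [.a9], [.a9]⟩,
  ⟨1024, [.a10], [.a10, .a11]⟩,
  ⟨2048, [.a11], [.a11]⟩]
theorem bad1542 (c : CtxF Goal γ) : Bad Goal γ [] P1542 :=
  c.toCtx.bnd (B := B1542) (D := D1542) (I := [12, 13, 0, 1, 2, 3, 4, 5, 6, 14]) (r := 3) (C := C1542) (N := N1542) (by decide +kernel) (by decide +kernel) (by decide +kernel) (by decide +kernel)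
    (allB_cons (bad1500 c) (allB_cons (bad1507 c) (allB_cons (bad1507 c) (allB_cons (bad1508 c) (allB_cons (bad1509 c) (allB_cons (bad1510 c) (allB_cons (bad1510 c) (allB_nil))))))))

def P1543 : List Ent := [⟨1, [.a0, .a10], [.a0, .a1, .a2, .a3, .a4, .a6, .a8, .a9, .a10, .a11]⟩,
  ⟨2, [.a1, .a7], [.a1, .a2, .a7, .a8]⟩,
  ⟨4, [.a2], [.a2]⟩,
  ⟨8, [.a3], [.a3]⟩,
  ⟨16, [.a4, .a7], [.a4, .a5, .a6, .a7, .a8]⟩,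
  ⟨32, [.a5], [.a5]⟩,
  ⟨64, [.a6], [.a6]⟩,
  ⟨256, [.a8], [.a8]⟩,
  ⟨512, [.a9], [.a9]⟩,
  ⟨2048, [.a11], [.a11]⟩]
def B1543 : List Gv := [⟨[.a0, .a10], [.a0, .a1, .a2, .a3, .a4, .a6, .a8, .a9, .a10, .a11]⟩, ⟨[.a1, .a7], [.a1, .a2, .a7, .a8]⟩]
def D1543 : List Dv := [⟨[.a2, .a3, .a6, .a9, .a11], [1, 0, 0], []⟩,
  ⟨[.a4, .a6, .a7, .a11], [0, 2, 1], [1, 2]⟩,
  ⟨[.a3, .a9, .a11], [1, 3, 3], []⟩,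
  ⟨[.a5, .a6, .a8], [1, 2, 2, 3], [3, 2]⟩,
  ⟨[.a8, .a9], [3, 5], [5, 3]⟩,
  ⟨[.a6], [4, 4], []⟩,
  ⟨[.a9, .a11], [1, 0, 2, 3, 4, 7], [7, 4]⟩,
  ⟨[.a11], [0, 2, 1, 5, 6], [6, 5]⟩,
  ⟨[.a9], [1], [0]⟩,
  ⟨[.a8], [4], [0]⟩,
  ⟨[.a5], [6], [4, 0]⟩,
  ⟨[.a4, .a7], [9], [5, 3]⟩,
  ⟨[.a3], [9], [3, 4]⟩,
  ⟨[.a2], [12], [0, 7, 4, 5]⟩]
def C1543 : List Ch := [⟨P1500, 0, [], []⟩,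
  ⟨P1511, 1, [], []⟩,
  ⟨P1511, 0, [.a0], [.a0]⟩]
def N1543 : List Ent := [⟨1, [.a0, .a10], [.a0, .a1, .a2, .a3, .a4, .a6, .a8, .a9, .a10, .a11]⟩,
  ⟨2, [.a1, .a7], [.a1, .a2, .a7, .a8]⟩,
  ⟨4, [.a2], [.a2]⟩,
  ⟨8, [.a3], [.a3]⟩,
  ⟨16, [.a4, .a7], [.a4, .a5, .a6, .a7, .a8]⟩,
  ⟨32, [.a5], [.a5]⟩,
  ⟨64, [.a6], [.a6]⟩,
  ⟨128, [.a7], [.a7, .a8]⟩,
  ⟨256, [.a8], [.a8]⟩,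
  ⟨512, [.a9], [.a9]⟩,
  ⟨1024, [.a10], [.a10, .a11]⟩,
  ⟨2048, [.a11], [.a11]⟩]
theorem bad1543 (c : CtxF Goal γ) : Bad Goal γ [] P1543 :=
  c.toCtx.bnd (B := B1543) (D := D1543) (I := [14, 15, 0, 1, 2, 3, 8, 4, 5, 6]) (r := 2) (C := C1543) (N := N1543) (by decide +kernel) (by decide +kernel) (by decide +kernel) (by decide +kernel)
    (allB_cons (bad1500 c) (allB_cons (bad1511 c) (allB_cons (bad1511 c) (allB_nil))))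

def P1544 : List Ent := [⟨1, [.a0, .a7], [.a0, .a2, .a3, .a5, .a7, .a8]⟩,
  ⟨2, [.a1, .a7], [.a1, .a2, .a7, .a8]⟩,
  ⟨4, [.a2], [.a2]⟩,
  ⟨8, [.a3], [.a3]⟩,
  ⟨16, [.a4, .a7], [.a4, .a5, .a6, .a7, .a8]⟩,
  ⟨32, [.a5], [.a5]⟩,
  ⟨64, [.a6], [.a6]⟩,
  ⟨256, [.a8], [.a8]⟩,
  ⟨512, [.a9], [.a9]⟩,
  ⟨2048, [.a11], [.a11]⟩]
def B1544 : List Gv := [⟨[.a0, .a7], [.a0, .a2, .a3, .a5, .a7, .a8]⟩, ⟨[.a1, .a7], [.a1, .a2, .a7, .a8]⟩, ⟨[.a11], [.a11]⟩]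
def D1544 : List Dv := [⟨[.a2, .a3, .a8], [0, 0], []⟩,
  ⟨[.a8], [0, 2, 1], [1, 2]⟩,
  ⟨[.a3], [1, 3, 3], []⟩,
  ⟨[.a4, .a7, .a8, .a9], [2, 5, 3], [3, 5]⟩,
  ⟨[.a5, .a6, .a9], [6, 5], [5, 6]⟩,
  ⟨[.a6, .a9], [0, 4, 6], [6, 4]⟩,
  ⟨[.a9], [1, 5, 8], [8, 5]⟩,
  ⟨[.a6], [1], [0]⟩,
  ⟨[.a5], [3], [0, 1]⟩,
  ⟨[.a4, .a7], [5], [7, 2]⟩,
  ⟨[.a2], [9], [7, 8]⟩]
def C1544 : List Ch := [⟨P1500, 0, [], []⟩,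
  ⟨P1512, 1, [], []⟩,
  ⟨P1512, 0, [.a10], [.a10, .a11]⟩,
  ⟨P1513, 2, [], []⟩,
  ⟨P1514, 0, [], []⟩,
  ⟨P1515, 1, [], []⟩,
  ⟨P1515, 0, [.a10], [.a10, .a11]⟩]
def N1544 : List Ent := [⟨1, [.a0, .a7], [.a0, .a2, .a3, .a5, .a7, .a8]⟩,
  ⟨2, [.a1, .a7], [.a1, .a2, .a7, .a8]⟩,
  ⟨4, [.a2], [.a2]⟩,
  ⟨8, [.a3], [.a3]⟩,
  ⟨16, [.a4, .a7], [.a4, .a5, .a6, .a7, .a8]⟩,
  ⟨32, [.a5], [.a5]⟩,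
  ⟨64, [.a6], [.a6]⟩,
  ⟨128, [.a7], [.a7, .a8]⟩,
  ⟨256, [.a8], [.a8]⟩,
  ⟨512, [.a9], [.a9]⟩,
  ⟨1024, [.a10], [.a10, .a11]⟩,
  ⟨2048, [.a11], [.a11]⟩]
theorem bad1544 (c : CtxF Goal γ) : Bad Goal γ [] P1544 :=
  c.toCtx.bnd (B := B1544) (D := D1544) (I := [11, 12, 0, 8, 1, 2, 3, 9, 4, 13]) (r := 3) (C := C1544) (N := N1544) (by decide +kernel) (by decide +kernel) (by decide +kernel) (by decide +kernel)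
    (allB_cons (bad1500 c) (allB_cons (bad1512 c) (allB_cons (bad1512 c) (allB_cons (bad1513 c) (allB_cons (bad1514 c) (allB_cons (bad1515 c) (allB_cons (bad1515 c) (allB_nil))))))))

def P1545 : List Ent := [⟨1, [.a0, .a7, .a10], [.a0, .a1, .a3, .a4, .a7, .a10, .a11]⟩,
  ⟨2, [.a1, .a7], [.a1, .a2, .a7, .a8]⟩,
  ⟨4, [.a2], [.a2]⟩,
  ⟨8, [.a3], [.a3]⟩,
  ⟨16, [.a4, .a7], [.a4, .a5, .a6, .a7, .a8]⟩,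
  ⟨32, [.a5], [.a5]⟩,
  ⟨64, [.a6], [.a6]⟩,
  ⟨256, [.a8], [.a8]⟩,
  ⟨512, [.a9], [.a9]⟩,
  ⟨2048, [.a11], [.a11]⟩]
def B1545 : List Gv := [⟨[.a0, .a7, .a10], [.a0, .a1, .a3, .a4, .a7, .a10, .a11]⟩, ⟨[.a1, .a7], [.a1, .a2, .a7, .a8]⟩]
def D1545 : List Dv := [⟨[.a6, .a8, .a11], [1, 0, 0], []⟩,
  ⟨[.a2, .a3, .a4, .a7, .a8, .a9], [2, 1], [1, 2]⟩,
  ⟨[.a3, .a4, .a5, .a7, .a9], [0, 3, 3], []⟩,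
  ⟨[.a5, .a6], [1, 2, 3], [3, 2]⟩,
  ⟨[.a8, .a9, .a11], [3, 3, 5], [5, 3]⟩,
  ⟨[.a4, .a7, .a8, .a9], [2, 3, 6], [6, 3]⟩,
  ⟨[.a9], [2, 0, 3, 3, 6], [6, 3]⟩,
  ⟨[.a11], [0, 2, 4, 6], [6, 4]⟩,
  ⟨[.a8], [3], [1, 0]⟩,
  ⟨[.a6], [8], [0, 1]⟩,
  ⟨[.a5], [6], [0]⟩,
  ⟨[.a4, .a7], [5], [2, 4]⟩,
  ⟨[.a3], [9], [0, 1, 5]⟩,
  ⟨[.a2], [11], [0, 1, 4, 6]⟩]
def C1545 : List Ch := [⟨P1500, 0, [], []⟩,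
  ⟨P1516, 1, [], []⟩,
  ⟨P1516, 0, [.a0], [.a0]⟩]
def N1545 : List Ent := [⟨1, [.a0, .a7, .a10], [.a0, .a1, .a3, .a4, .a7, .a10, .a11]⟩,
  ⟨2, [.a1, .a7], [.a1, .a2, .a7, .a8]⟩,
  ⟨4, [.a2], [.a2]⟩,
  ⟨8, [.a3], [.a3]⟩,
  ⟨16, [.a4, .a7], [.a4, .a5, .a6, .a7, .a8]⟩,
  ⟨32, [.a5], [.a5]⟩,
  ⟨64, [.a6], [.a6]⟩,
  ⟨128, [.a7], [.a7, .a8]⟩,
  ⟨256, [.a8], [.a8]⟩,
  ⟨512, [.a9], [.a9]⟩,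
  ⟨1024, [.a10], [.a10, .a11]⟩,
  ⟨2048, [.a11], [.a11]⟩]
theorem bad1545 (c : CtxF Goal γ) : Bad Goal γ [] P1545 :=
  c.toCtx.bnd (B := B1545) (D := D1545) (I := [14, 15, 0, 1, 2, 3, 4, 5, 7, 6]) (r := 2) (C := C1545) (N := N1545) (by decide +kernel) (by decide +kernel) (by decide +kernel) (by decide +kernel)
    (allB_cons (bad1500 c) (allB_cons (bad1516 c) (allB_cons (bad1516 c) (allB_nil))))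

def P1546 : List Ent := [⟨1, [.a0], [.a0]⟩,
  ⟨4, [.a2], [.a2]⟩,
  ⟨8, [.a3], [.a3]⟩,
  ⟨16, [.a4], [.a4, .a5]⟩,
  ⟨32, [.a5], [.a5]⟩,
  ⟨64, [.a6], [.a6]⟩,
  ⟨128, [.a7], [.a7, .a8]⟩,
  ⟨256, [.a8], [.a8]⟩,
  ⟨512, [.a9], [.a9]⟩,
  ⟨2048, [.a11], [.a11]⟩]
def B1546 : List Gv := [⟨[.a0], [.a0]⟩, ⟨[.a4], [.a4, .a5]⟩, ⟨[.a7], [.a7, .a8]⟩, ⟨[.a11], [.a11]⟩]
def D1546 : List Dv := [⟨[.a2], [1, 0], [0, 1]⟩,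
  ⟨[.a5], [2, 2], []⟩,
  ⟨[.a3], [1, 4, 2], [2, 4]⟩,
  ⟨[.a6], [5, 4], [4, 5]⟩,
  ⟨[.a8], [6, 6], []⟩,
  ⟨[.a9], [0, 7, 3, 6, 2, 4, 8, 5], [5, 8]⟩]
def C1546 : List Ch := [⟨P1495, 0, [], []⟩,
  ⟨P1517, 1, [], []⟩,
  ⟨P1518, 0, [], []⟩,
  ⟨P1519, 2, [], []⟩,
  ⟨P1520, 0, [], []⟩,
  ⟨P1507, 1, [], []⟩,
  ⟨P1512, 0, [], []⟩,
  ⟨P1521, 3, [], []⟩,
  ⟨P1522, 0, [], []⟩,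
  ⟨P1517, 1, [.a1], [.a1, .a2]⟩,
  ⟨P1518, 0, [.a1], [.a1, .a2]⟩,
  ⟨P1519, 2, [.a1], [.a1, .a2]⟩,
  ⟨P1520, 0, [.a1], [.a1, .a2]⟩,
  ⟨P1523, 1, [], []⟩,
  ⟨P1524, 0, [], []⟩]
def S1546 : List St := [.cent 1 1 0 [⟨32, [.a5], [.a5]⟩,
  ⟨64, [.a6], [.a6]⟩],
  .phi 2 [⟨4, [.a2], [.a2]⟩,
  ⟨8, [.a3], [.a3]⟩,
  ⟨16, [.a4, .a7, .a9], [.a4, .a5, .a6, .a7, .a9]⟩,
  ⟨32, [.a5], [.a5]⟩,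
  ⟨64, [.a6], [.a6]⟩,
  ⟨256, [.a8], [.a8]⟩] [[[.a0, .a4, .a8]], [[.a2, .a4, .a7, .a9], [.a0, .a9]], [[.a0, .a3, .a7, .a11]], [[.a4]], [[.a2, .a4, .a7, .a9]], [[.a7]]],
  .cent 3 3 1 [⟨4, [.a2, .a3], [.a2, .a3]⟩,
  ⟨32, [.a5], [.a5]⟩,
  ⟨64, [.a6], [.a6]⟩,
  ⟨256, [.a8], [.a8]⟩],
  .comm 1 1 [⟨32, [.a5], [.a5]⟩] [⟨[.a2], [.a4, .a7, .a9]⟩],
  .om 2 [⟨4, [.a2], [.a2]⟩,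
  ⟨8, [.a3], [.a3]⟩,
  ⟨32, [.a5], [.a5]⟩,
  ⟨64, [.a6], [.a6]⟩,
  ⟨256, [.a8], [.a8]⟩] [[[.a2]], [[.a3]], [[.a5]], [[.a6]], [[.a8]]],
  .cent 6 2 5 [⟨4, [.a2], [.a2]⟩,
  ⟨8, [.a3], [.a3]⟩,
  ⟨16, [.a4], [.a4, .a5]⟩,
  ⟨32, [.a5], [.a5]⟩,
  ⟨64, [.a6], [.a6]⟩,
  ⟨128, [.a7, .a9], [.a7, .a8, .a9]⟩,
  ⟨256, [.a8], [.a8]⟩],
  .cent 7 7 1 [⟨4, [.a2], [.a2]⟩,
  ⟨8, [.a3], [.a3]⟩,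
  ⟨16, [.a4], [.a4, .a5]⟩,
  ⟨32, [.a5], [.a5]⟩,
  ⟨64, [.a6], [.a6]⟩,
  ⟨128, [.a7], [.a7, .a8]⟩,
  ⟨256, [.a8], [.a8]⟩,
  ⟨512, [.a9], [.a9]⟩],
  .comm 1 1 [⟨32, [.a5], [.a5]⟩,
  ⟨64, [.a6, .a8], [.a6, .a8]⟩] [⟨[.a2], [.a7, .a9]⟩, ⟨[.a4], [.a7, .a9]⟩],
  .om 1 [⟨4, [.a2], [.a2]⟩,
  ⟨8, [.a3], [.a3]⟩,
  ⟨32, [.a5], [.a5]⟩,
  ⟨64, [.a6], [.a6]⟩,
  ⟨256, [.a8], [.a8]⟩,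
  ⟨512, [.a9], [.a9]⟩] [[[.a2]], [[.a3]], [[.a5]], [[.a6]], [[.a8]], [[.a9]]]]
theorem bad1546 (c : CtxF Goal γ) : Bad Goal γ [] P1546 :=
  c.toCtx.chn (B := B1546) (D := D1546) (I := [6, 5, 3, 7, 4, 2, 8, 1, 0, 9]) (r := 4) (C := C1546) (l := S1546) (x := ⟨[.a1], [.a1, .a2]⟩) (ix := [0, 1, 5]) (by decide +kernel) (by decide +kernel) (by decide +kernel) (by decide +kernel)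
    (allB_cons (bad1495 c) (allB_cons (bad1517 c) (allB_cons (bad1518 c) (allB_cons (bad1519 c) (allB_cons (bad1520 c) (allB_cons (bad1507 c) (allB_cons (bad1512 c) (allB_cons (bad1521 c) (allB_cons (bad1522 c) (allB_cons (bad1517 c) (allB_cons (bad1518 c) (allB_cons (bad1519 c) (allB_cons (bad1520 c) (allB_cons (bad1523 c) (allB_cons (bad1524 c) (allB_nil))))))))))))))))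

def P1547 : List Ent := [⟨1, [.a0], [.a0]⟩,
  ⟨2, [.a1], [.a1, .a2]⟩,
  ⟨4, [.a2], [.a2]⟩,
  ⟨8, [.a3], [.a3]⟩,
  ⟨16, [.a4, .a7], [.a4, .a5, .a6, .a7, .a8]⟩,
  ⟨32, [.a5], [.a5]⟩,
  ⟨64, [.a6], [.a6]⟩,
  ⟨256, [.a8], [.a8]⟩,
  ⟨512, [.a9], [.a9]⟩,
  ⟨2048, [.a11], [.a11]⟩]
def B1547 : List Gv := [⟨[.a0], [.a0]⟩, ⟨[.a1], [.a1, .a2]⟩, ⟨[.a11], [.a11]⟩]
def D1547 : List Dv := [⟨[.a2], [1, 1], []⟩,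
  ⟨[.a3, .a4, .a7, .a9], [0, 3, 1], [1, 3]⟩,
  ⟨[.a5, .a6, .a9], [4, 3], [3, 4]⟩,
  ⟨[.a8, .a9], [0, 2, 5], [5, 2]⟩,
  ⟨[.a9], [1, 2, 4], [4, 2]⟩,
  ⟨[.a4, .a5, .a6, .a7, .a8, .a9], [3, 3, 6], [6, 3]⟩,
  ⟨[.a6, .a9], [3, 4, 5], [5, 4]⟩,
  ⟨[.a8], [3], [2]⟩,
  ⟨[.a6], [1], [3]⟩,
  ⟨[.a5], [6], [0, 4]⟩,
  ⟨[.a4, .a7], [4], [0, 1, 2, 5]⟩,
  ⟨[.a3], [9], [0, 6]⟩]
def C1547 : List Ch := [⟨P1499, 0, [], []⟩,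
  ⟨P1507, 1, [], []⟩,
  ⟨P1512, 0, [.a10], [.a10, .a11]⟩,
  ⟨P1525, 2, [], []⟩,
  ⟨P1526, 0, [], []⟩,
  ⟨P1527, 1, [], []⟩,
  ⟨P1528, 0, [], []⟩]
def S1547 : List St := [.cent 1 1 0 [⟨32, [.a5], [.a5]⟩],
  .phi 2 [⟨4, [.a2], [.a2]⟩,
  ⟨8, [.a3], [.a3]⟩,
  ⟨16, [.a4, .a7], [.a4, .a5, .a6, .a7, .a8]⟩,
  ⟨32, [.a5], [.a5]⟩,
  ⟨64, [.a6], [.a6]⟩,
  ⟨256, [.a8], [.a8]⟩,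
  ⟨512, [.a9], [.a9]⟩] [[[.a1]], [[.a2, .a4, .a7, .a9], [.a0, .a9]], [[.a0, .a1, .a11]], [[.a0, .a8]], [[.a2, .a4, .a7, .a9]], [[.a3, .a11]], [[.a1], [.a1, .a3, .a6, .a11]]],
  .om 0 [⟨4, [.a2], [.a2]⟩,
  ⟨8, [.a3], [.a3]⟩,
  ⟨32, [.a5], [.a5]⟩,
  ⟨64, [.a6], [.a6]⟩,
  ⟨256, [.a8], [.a8]⟩,
  ⟨512, [.a9], [.a9]⟩] [[[.a2]], [[.a3]], [[.a5]], [[.a6]], [[.a8]], [[.a9]]]]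
theorem bad1547 (c : CtxF Goal γ) : Bad Goal γ [] P1547 :=
  c.toCtx.chn (B := B1547) (D := D1547) (I := [12, 13, 11, 0, 1, 2, 3, 4, 7, 14]) (r := 3) (C := C1547) (l := S1547) (x := ⟨[.a7], [.a7, .a8]⟩) (ix := [0, 2]) (by decide +kernel) (by decide +kernel) (by decide +kernel) (by decide +kernel)
    (allB_cons (bad1499 c) (allB_cons (bad1507 c) (allB_cons (bad1512 c) (allB_cons (bad1525 c) (allB_cons (bad1526 c) (allB_cons (bad1527 c) (allB_cons (bad1528 c) (allB_nil))))))))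

def P1548 : List Ent := [⟨1, [.a0], [.a0]⟩,
  ⟨2, [.a1], [.a1, .a2]⟩,
  ⟨4, [.a2], [.a2]⟩,
  ⟨8, [.a3], [.a3]⟩,
  ⟨16, [.a4], [.a4, .a5]⟩,
  ⟨32, [.a5], [.a5]⟩,
  ⟨64, [.a6], [.a6]⟩,
  ⟨128, [.a7], [.a7, .a8]⟩,
  ⟨256, [.a8], [.a8]⟩,
  ⟨512, [.a9], [.a9]⟩]
def B1548 : List Gv := [⟨[.a0], [.a0]⟩, ⟨[.a1], [.a1, .a2]⟩, ⟨[.a4], [.a4, .a5]⟩, ⟨[.a7], [.a7, .a8]⟩, ⟨[.a9], [.a9]⟩]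
def D1548 : List Dv := [⟨[.a2], [1, 1], []⟩,
  ⟨[.a3], [3, 2], [2, 3]⟩,
  ⟨[.a5], [4, 4], []⟩,
  ⟨[.a6], [6, 5], [5, 6]⟩,
  ⟨[.a8], [7, 7], []⟩]
def C1548 : List Ch := [⟨P1503, 0, [], []⟩,
  ⟨P1521, 1, [], []⟩,
  ⟨P1521, 0, [.a10], [.a10, .a11]⟩,
  ⟨P1529, 2, [], []⟩,
  ⟨P1529, 0, [.a11], [.a11]⟩,
  ⟨P1529, 1, [.a10, .a11], [.a10]⟩,
  ⟨P1529, 0, [.a10], [.a10, .a11]⟩,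
  ⟨P1530, 3, [], []⟩,
  ⟨P1530, 0, [.a11], [.a11]⟩,
  ⟨P1530, 1, [.a10], [.a10, .a11]⟩,
  ⟨P1530, 0, [.a10, .a11], [.a10]⟩,
  ⟨P1525, 2, [], []⟩,
  ⟨P1525, 0, [.a10], [.a10, .a11]⟩,
  ⟨P1508, 1, [], []⟩,
  ⟨P1513, 0, [], []⟩,
  ⟨P1531, 4, [], []⟩,
  ⟨P1532, 0, [], []⟩,
  ⟨P1532, 1, [.a11], [.a11]⟩,
  ⟨P1531, 0, [.a11], [.a11]⟩,
  ⟨P1533, 2, [], []⟩,
  ⟨P1534, 0, [], []⟩,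
  ⟨P1533, 1, [.a11], [.a11]⟩,
  ⟨P1534, 0, [.a11], [.a11]⟩,
  ⟨P1532, 3, [.a10, .a11], [.a10]⟩,
  ⟨P1531, 0, [.a10, .a11], [.a10]⟩,
  ⟨P1532, 1, [.a10], [.a10, .a11]⟩,
  ⟨P1531, 0, [.a10], [.a10, .a11]⟩,
  ⟨P1533, 2, [.a10], [.a10, .a11]⟩,
  ⟨P1534, 0, [.a10], [.a10, .a11]⟩,
  ⟨P1534, 1, [.a10, .a11], [.a10]⟩,
  ⟨P1533, 0, [.a10, .a11], [.a10]⟩]
theorem bad1548 (c : CtxF Goal γ) : Bad Goal γ [] P1548 :=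
  c.toCtx.good (B := B1548) (D := D1548) (I := [5, 6, 4, 3, 7, 2, 1, 8, 0, 9]) (r := 5) (C := C1548) (by decide +kernel) (by decide +kernel) (by decide +kernel) c.gA
    (allB_cons (bad1503 c) (allB_cons (bad1521 c) (allB_cons (bad1521 c) (allB_cons (bad1529 c) (allB_cons (bad1529 c) (allB_cons (bad1529 c) (allB_cons (bad1529 c) (allB_cons (bad1530 c) (allB_cons (bad1530 c) (allB_cons (bad1530 c) (allB_cons (bad1530 c) (allB_cons (bad1525 c) (allB_cons (bad1525 c) (allB_cons (bad1508 c) (allB_cons (bad1513 c) (allB_cons (bad1531 c) (allB_cons (bad1532 c) (allB_cons (bad1532 c) (allB_cons (bad1531 c) (allB_cons (bad1533 c) (allB_cons (bad1534 c) (allB_cons (bad1533 c) (allB_cons (bad1534 c) (allB_cons (bad1532 c) (allB_cons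 (bad1531 c) (allB_cons (bad1532 c) (allB_cons (bad1531 c) (allB_cons (bad1533 c) (allB_cons (bad1534 c) (allB_cons (bad1534 c) (allB_cons (bad1533 c) (allB_nil))))))))))))))))))))))))))))))))

def P1549 : List Ent := [⟨1, [.a0, .a11], [.a0, .a2, .a3, .a4, .a5, .a6, .a7, .a9, .a11]⟩,
  ⟨2, [.a1], [.a1, .a2]⟩,
  ⟨4, [.a2], [.a2]⟩,
  ⟨8, [.a3], [.a3]⟩,
  ⟨16, [.a4], [.a4, .a5]⟩,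
  ⟨32, [.a5], [.a5]⟩,
  ⟨64, [.a6], [.a6]⟩,
  ⟨128, [.a7], [.a7, .a8]⟩,
  ⟨256, [.a8], [.a8]⟩,
  ⟨512, [.a9], [.a9]⟩]
def B1549 : List Gv := [⟨[.a0, .a11], [.a0, .a2, .a3, .a4, .a5, .a6, .a7, .a9, .a11]⟩, ⟨[.a1], [.a1, .a2]⟩, ⟨[.a4], [.a4, .a5]⟩]
def D1549 : List Dv := [⟨[.a2, .a3, .a4, .a5, .a6, .a7, .a9], [0, 0], []⟩,
  ⟨[.a3, .a5, .a9], [2, 1], [1, 2]⟩,
  ⟨[.a6, .a7, .a8], [4, 0, 1, 3, 3], []⟩,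
  ⟨[.a8], [0, 5, 1, 2, 5, 3], [3, 5]⟩,
  ⟨[.a5, .a9], [2, 6, 5], [5, 6]⟩,
  ⟨[.a9], [0, 7, 7], []⟩,
  ⟨[.a7, .a9], [3, 4, 5, 7], [7, 5]⟩,
  ⟨[.a7], [0], [1]⟩,
  ⟨[.a6], [5], [0, 4]⟩,
  ⟨[.a5], [4], [3]⟩,
  ⟨[.a3], [8], [0, 4]⟩,
  ⟨[.a2], [10], [0, 13, 1, 2, 3, 5]⟩]
def C1549 : List Ch := [⟨P1503, 0, [], []⟩,
  ⟨P1522, 1, [], []⟩,
  ⟨P1522, 0, [.a10], [.a10, .a11]⟩,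
  ⟨P1526, 2, [], []⟩,
  ⟨P1526, 0, [.a10], [.a10, .a11]⟩,
  ⟨P1509, 1, [], []⟩,
  ⟨P1514, 0, [], []⟩]
def N1549 : List Ent := [⟨1, [.a0, .a11], [.a0, .a2, .a3, .a4, .a5, .a6, .a7, .a9, .a11]⟩,
  ⟨2, [.a1], [.a1, .a2]⟩,
  ⟨4, [.a2], [.a2]⟩,
  ⟨8, [.a3], [.a3]⟩,
  ⟨16, [.a4], [.a4, .a5]⟩,
  ⟨32, [.a5], [.a5]⟩,
  ⟨64, [.a6], [.a6]⟩,
  ⟨128, [.a7], [.a7, .a8]⟩,
  ⟨256, [.a8], [.a8]⟩,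
  ⟨512, [.a9], [.a9]⟩,
  ⟨1024, [.a10], [.a10, .a11]⟩,
  ⟨2048, [.a11], [.a11]⟩]
theorem bad1549 (c : CtxF Goal γ) : Bad Goal γ [] P1549 :=
  c.toCtx.bnd (B := B1549) (D := D1549) (I := [12, 13, 0, 1, 14, 2, 3, 4, 8, 6]) (r := 3) (C := C1549) (N := N1549) (by decide +kernel) (by decide +kernel) (by decide +kernel) (by decide +kernel)
    (allB_cons (bad1503 c) (allB_cons (bad1522 c) (allB_cons (bad1522 c) (allB_cons (bad1526 c) (allB_cons (bad1526 c) (allB_cons (bad1509 c) (allB_cons (bad1514 c) (allB_nil))))))))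

def P1550 : List Ent := [⟨1, [.a0], [.a0]⟩,
  ⟨2, [.a1, .a11], [.a1, .a2, .a5, .a6, .a9, .a11]⟩,
  ⟨4, [.a2], [.a2]⟩,
  ⟨8, [.a3], [.a3]⟩,
  ⟨16, [.a4], [.a4, .a5]⟩,
  ⟨32, [.a5], [.a5]⟩,
  ⟨64, [.a6], [.a6]⟩,
  ⟨128, [.a7], [.a7, .a8]⟩,
  ⟨256, [.a8], [.a8]⟩,
  ⟨512, [.a9], [.a9]⟩]
def B1550 : List Gv := [⟨[.a0], [.a0]⟩, ⟨[.a1, .a11], [.a1, .a2, .a5, .a6, .a9, .a11]⟩, ⟨[.a4], [.a4, .a5]⟩]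
def D1550 : List Dv := [⟨[.a2, .a4, .a6, .a7, .a8, .a9], [1, 0], [0, 1]⟩,
  ⟨[.a5, .a6, .a7], [3, 0, 2, 2], []⟩,
  ⟨[.a6, .a7, .a8, .a9], [4, 1, 4, 2], [2, 4]⟩,
  ⟨[.a3], [5, 4], [4, 5]⟩,
  ⟨[.a9], [1, 2, 6, 6], []⟩,
  ⟨[.a7, .a8, .a9], [2, 4, 5], [5, 4]⟩,
  ⟨[.a8], [0, 3, 5, 5], []⟩,
  ⟨[.a7], [1], [0, 2]⟩,
  ⟨[.a6], [5], [0, 1, 3]⟩,
  ⟨[.a5], [7], [0, 1]⟩,
  ⟨[.a2], [9], [12, 1, 2, 3, 5]⟩]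
def C1550 : List Ch := [⟨P1504, 0, [], []⟩,
  ⟨P1521, 1, [], []⟩,
  ⟨P1522, 0, [.a10], [.a10, .a11]⟩,
  ⟨P1527, 2, [], []⟩,
  ⟨P1528, 0, [.a10], [.a10, .a11]⟩,
  ⟨P1510, 1, [], []⟩,
  ⟨P1515, 0, [], []⟩]
def S1550 : List St := [.cent 1 1 0 [⟨32, [.a5], [.a5]⟩],
  .phi 2 [⟨4, [.a2], [.a2]⟩,
  ⟨8, [.a3], [.a3]⟩,
  ⟨16, [.a4, .a7], [.a4, .a5, .a6, .a7, .a8]⟩,
  ⟨32, [.a5], [.a5]⟩,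
  ⟨64, [.a6], [.a6]⟩,
  ⟨256, [.a8], [.a8]⟩,
  ⟨512, [.a9], [.a9]⟩] [[[.a0, .a4, .a8]], [[.a2, .a4, .a7, .a9], [.a0, .a9]], [[.a0, .a1, .a11]], [[.a4]], [[.a2, .a4, .a7, .a9]], [[.a7]], [[.a0, .a4, .a8], [.a1, .a3, .a6, .a11]]],
  .cent 3 3 1 [⟨32, [.a5], [.a5]⟩,
  ⟨64, [.a6], [.a6]⟩,
  ⟨256, [.a8], [.a8]⟩]]
theorem bad1550 (c : CtxF Goal γ) : Bad Goal γ [] P1550 :=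
  c.toCtx.chn (B := B1550) (D := D1550) (I := [11, 12, 0, 7, 13, 1, 2, 3, 4, 6]) (r := 3) (C := C1550) (l := S1550) (x := ⟨[.a11], [.a11]⟩) (ix := [1, 0]) (by decide +kernel) (by decide +kernel) (by decide +kernel) (by decide +kernel)
    (allB_cons (bad1504 c) (allB_cons (bad1521 c) (allB_cons (bad1522 c) (allB_cons (bad1527 c) (allB_cons (bad1528 c) (allB_cons (bad1510 c) (allB_cons (bad1515 c) (allB_nil))))))))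

def P1551 : List Ent := [⟨1, [.a0], [.a0]⟩,
  ⟨2, [.a1], [.a1, .a2]⟩,
  ⟨4, [.a2], [.a2]⟩,
  ⟨8, [.a3], [.a3]⟩,
  ⟨16, [.a4, .a11], [.a4, .a5, .a11]⟩,
  ⟨32, [.a5], [.a5]⟩,
  ⟨64, [.a6], [.a6]⟩,
  ⟨128, [.a7, .a11], [.a7, .a8, .a11]⟩,
  ⟨256, [.a8], [.a8]⟩,
  ⟨512, [.a9], [.a9]⟩]
def B1551 : List Gv := [⟨[.a0], [.a0]⟩, ⟨[.a1], [.a1, .a2]⟩, ⟨[.a4, .a11], [.a4, .a5, .a11]⟩]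
def D1551 : List Dv := [⟨[.a2], [1, 1], []⟩,
  ⟨[.a3, .a4, .a5, .a6, .a7, .a8, .a9], [3, 1], [1, 3]⟩,
  ⟨[.a7, .a11], [4, 0, 4, 3], [3, 4]⟩,
  ⟨[.a5], [5, 5], []⟩,
  ⟨[.a6, .a8], [0, 3, 6], [6, 3]⟩,
  ⟨[.a8], [0, 3, 5], [5, 3]⟩,
  ⟨[.a9], [0, 3, 8, 4, 4, 7], [7, 4]⟩,
  ⟨[.a6], [2], [1]⟩,
  ⟨[.a3], [6], [10, 4, 0, 5, 2, 1]⟩]
def C1551 : List Ch := [⟨P1505, 0, [], []⟩,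
  ⟨P1523, 1, [], []⟩,
  ⟨P1524, 0, [.a10], [.a10, .a11]⟩,
  ⟨P1525, 2, [], []⟩,
  ⟨P1526, 0, [.a10], [.a10, .a11]⟩,
  ⟨P1510, 1, [], []⟩,
  ⟨P1515, 0, [.a10], [.a10, .a11]⟩]
def S1551 : List St := [.cent 1 1 0 [⟨32, [.a5], [.a5]⟩],
  .phi 2 [⟨4, [.a2], [.a2]⟩,
  ⟨8, [.a3], [.a3]⟩,
  ⟨16, [.a4, .a7], [.a4, .a5, .a6, .a7, .a8]⟩,
  ⟨32, [.a5], [.a5]⟩,
  ⟨64, [.a6], [.a6]⟩,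
  ⟨256, [.a8], [.a8]⟩,
  ⟨512, [.a9], [.a9]⟩] [[[.a1]], [[.a2, .a4, .a7, .a9], [.a0, .a9]], [[.a1], [.a0, .a1, .a2, .a4, .a9, .a11]], [[.a0, .a8]], [[.a2, .a4, .a7, .a9]], [[.a7, .a11]], [[.a1], [.a1, .a6, .a7, .a11]]],
  .cent 3 3 1 [⟨32, [.a5], [.a5]⟩,
  ⟨64, [.a6], [.a6]⟩,
  ⟨256, [.a8], [.a8]⟩]]
theorem bad1551 (c : CtxF Goal γ) : Bad Goal γ [] P1551 :=
  c.toCtx.chn (B := B1551) (D := D1551) (I := [9, 10, 8, 0, 11, 5, 1, 6, 3, 2]) (r := 3) (C := C1551) (l := S1551) (x := ⟨[.a11], [.a11]⟩) (ix := [1, 0]) (by decide +kernel) (by decide +kernel) (by decide +kernel) (by decide +kernel)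
    (allB_cons (bad1505 c) (allB_cons (bad1523 c) (allB_cons (bad1524 c) (allB_cons (bad1525 c) (allB_cons (bad1526 c) (allB_cons (bad1510 c) (allB_cons (bad1515 c) (allB_nil))))))))

def P1552 : List Ent := [⟨1, [.a0], [.a0]⟩,
  ⟨2, [.a1, .a11], [.a1, .a2, .a5, .a6, .a9, .a11]⟩,
  ⟨4, [.a2], [.a2]⟩,
  ⟨8, [.a3], [.a3]⟩,
  ⟨16, [.a4, .a11], [.a4, .a5, .a11]⟩,
  ⟨32, [.a5], [.a5]⟩,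
  ⟨64, [.a6], [.a6]⟩,
  ⟨128, [.a7, .a11], [.a7, .a8, .a11]⟩,
  ⟨256, [.a8], [.a8]⟩,
  ⟨512, [.a9], [.a9]⟩]
def B1552 : List Gv := [⟨[.a0], [.a0]⟩, ⟨[.a1, .a11], [.a1, .a2, .a5, .a6, .a9, .a11]⟩, ⟨[.a4, .a11], [.a4, .a5, .a11]⟩]
def D1552 : List Dv := [⟨[.a2, .a4, .a6, .a7, .a8, .a9], [1, 0], [0, 1]⟩,
  ⟨[.a5, .a6, .a7, .a11], [3, 0, 2, 2], []⟩,
  ⟨[.a3, .a4, .a5, .a6, .a7, .a8, .a9], [4, 2], [2, 4]⟩,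
  ⟨[.a7, .a11], [5, 0, 5, 4], [4, 5]⟩,
  ⟨[.a6, .a7, .a11], [2, 6, 6], []⟩,
  ⟨[.a8], [1, 0, 4, 5], [5, 4]⟩,
  ⟨[.a9], [1, 8, 3, 5, 7], [7, 5]⟩,
  ⟨[.a6], [2], [3]⟩,
  ⟨[.a5], [6], [0, 4]⟩,
  ⟨[.a3], [6], [11, 0, 1, 5, 3, 2]⟩,
  ⟨[.a2], [9], [12, 2, 6, 4, 3]⟩]
def C1552 : List Ch := [⟨P1506, 0, [], []⟩,
  ⟨P1523, 1, [], []⟩,
  ⟨P1523, 0, [.a10], [.a10, .a11]⟩,
  ⟨P1527, 2, [], []⟩,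
  ⟨P1527, 0, [.a10], [.a10, .a11]⟩,
  ⟨P1508, 1, [], []⟩,
  ⟨P1514, 0, [], []⟩]
def N1552 : List Ent := [⟨1, [.a0], [.a0]⟩,
  ⟨2, [.a1, .a11], [.a1, .a2, .a5, .a6, .a9, .a11]⟩,
  ⟨4, [.a2], [.a2]⟩,
  ⟨8, [.a3], [.a3]⟩,
  ⟨16, [.a4, .a11], [.a4, .a5, .a11]⟩,
  ⟨32, [.a5], [.a5]⟩,
  ⟨64, [.a6], [.a6]⟩,
  ⟨128, [.a7, .a11], [.a7, .a8, .a11]⟩,
  ⟨256, [.a8], [.a8]⟩,
  ⟨512, [.a9], [.a9]⟩,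
  ⟨1024, [.a10], [.a10, .a11]⟩,
  ⟨2048, [.a11], [.a11]⟩]
theorem bad1552 (c : CtxF Goal γ) : Bad Goal γ [] P1552 :=
  c.toCtx.bnd (B := B1552) (D := D1552) (I := [11, 12, 0, 1, 13, 2, 3, 7, 5, 4]) (r := 3) (C := C1552) (N := N1552) (by decide +kernel) (by decide +kernel) (by decide +kernel) (by decide +kernel)
    (allB_cons (bad1506 c) (allB_cons (bad1523 c) (allB_cons (bad1523 c) (allB_cons (bad1527 c) (allB_cons (bad1527 c) (allB_cons (bad1508 c) (allB_cons (bad1514 c) (allB_nil))))))))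

def P1553 : List Ent := [⟨1, [.a0, .a11], [.a0, .a2, .a3, .a4, .a5, .a6, .a7, .a9, .a11]⟩,
  ⟨2, [.a1, .a11], [.a1, .a2, .a5, .a6, .a9, .a11]⟩,
  ⟨4, [.a2], [.a2]⟩,
  ⟨8, [.a3], [.a3]⟩,
  ⟨16, [.a4, .a11], [.a4, .a5, .a11]⟩,
  ⟨32, [.a5], [.a5]⟩,
  ⟨64, [.a6], [.a6]⟩,
  ⟨128, [.a7, .a11], [.a7, .a8, .a11]⟩,
  ⟨256, [.a8], [.a8]⟩,
  ⟨512, [.a9], [.a9]⟩]
def B1553 : List Gv := [⟨[.a0, .a11], [.a0, .a2, .a3, .a4, .a5, .a6, .a7, .a9, .a11]⟩, ⟨[.a1, .a11], [.a1, .a2, .a5, .a6, .a9, .a11]⟩, ⟨[.a4, .a11], [.a4, .a5, .a11]⟩]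
def D1553 : List Dv := [⟨[.a2, .a3, .a4, .a5, .a6, .a7, .a9], [0, 0], []⟩,
  ⟨[.a6, .a8, .a9], [0, 2, 1], [1, 2]⟩,
  ⟨[.a3, .a4, .a5, .a6, .a7, .a8], [1, 3, 3], []⟩,
  ⟨[.a7, .a9, .a11], [5, 0, 5, 4], [4, 5]⟩,
  ⟨[.a5], [6, 6], []⟩,
  ⟨[.a8], [0, 4, 7], [7, 4]⟩,
  ⟨[.a9], [0, 4, 1, 5, 5], []⟩,
  ⟨[.a7, .a11], [3], [0]⟩,
  ⟨[.a6], [6], [2, 1]⟩,
  ⟨[.a3], [6], [11, 4, 0, 1, 3]⟩,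
  ⟨[.a2], [9], [0, 12, 5, 1, 2, 3]⟩]
def C1553 : List Ch := [⟨P1506, 0, [], []⟩,
  ⟨P1524, 1, [], []⟩,
  ⟨P1524, 0, [.a10], [.a10, .a11]⟩,
  ⟨P1528, 2, [], []⟩,
  ⟨P1528, 0, [.a10], [.a10, .a11]⟩,
  ⟨P1509, 1, [], []⟩,
  ⟨P1513, 0, [], []⟩]
def N1553 : List Ent := [⟨1, [.a0, .a11], [.a0, .a2, .a3, .a4, .a5, .a6, .a7, .a9, .a11]⟩,
  ⟨2, [.a1, .a11], [.a1, .a2, .a5, .a6, .a9, .a11]⟩,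
  ⟨4, [.a2], [.a2]⟩,
  ⟨8, [.a3], [.a3]⟩,
  ⟨16, [.a4, .a11], [.a4, .a5, .a11]⟩,
  ⟨32, [.a5], [.a5]⟩,
  ⟨64, [.a6], [.a6]⟩,
  ⟨128, [.a7, .a11], [.a7, .a8, .a11]⟩,
  ⟨256, [.a8], [.a8]⟩,
  ⟨512, [.a9], [.a9]⟩,
  ⟨1024, [.a10], [.a10, .a11]⟩,
  ⟨2048, [.a11], [.a11]⟩]
theorem bad1553 (c : CtxF Goal γ) : Bad Goal γ [] P1553 :=
  c.toCtx.bnd (B := B1553) (D := D1553) (I := [11, 12, 0, 1, 13, 6, 2, 3, 5, 4]) (r := 3) (C := C1553) (N := N1553) (by decide +kernel) (by decide +kernel) (by decide +kernel) (by decide +kernel)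
    (allB_cons (bad1506 c) (allB_cons (bad1524 c) (allB_cons (bad1524 c) (allB_cons (bad1528 c) (allB_cons (bad1528 c) (allB_cons (bad1509 c) (allB_cons (bad1513 c) (allB_nil))))))))

def P1554 : List Ent := [⟨1, [.a0, .a10], [.a0, .a1, .a2, .a3, .a4, .a6, .a8, .a9, .a10, .a11]⟩,
  ⟨2, [.a1, .a11], [.a1, .a2, .a5, .a6, .a9, .a11]⟩,
  ⟨4, [.a2], [.a2]⟩,
  ⟨8, [.a3], [.a3]⟩,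
  ⟨16, [.a4], [.a4, .a5]⟩,
  ⟨32, [.a5], [.a5]⟩,
  ⟨64, [.a6], [.a6]⟩,
  ⟨128, [.a7], [.a7, .a8]⟩,
  ⟨256, [.a8], [.a8]⟩,
  ⟨512, [.a9], [.a9]⟩]
def B1554 : List Gv := [⟨[.a0, .a10], [.a0, .a1, .a2, .a3, .a4, .a6, .a8, .a9, .a10, .a11]⟩, ⟨[.a1, .a11], [.a1, .a2, .a5, .a6, .a9, .a11]⟩, ⟨[.a4], [.a4, .a5]⟩]
def D1554 : List Dv := [⟨[.a2, .a3, .a6, .a7, .a8], [1, 0, 0], []⟩,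
  ⟨[.a7, .a8, .a9], [0, 2, 1], [1, 2]⟩,
  ⟨[.a3, .a5, .a6, .a7, .a9], [1, 3, 3], []⟩,
  ⟨[.a9], [0, 2, 5, 3], [3, 5]⟩,
  ⟨[.a6, .a7, .a9], [1, 6, 5], [5, 6]⟩,
  ⟨[.a5], [7, 7], []⟩,
  ⟨[.a8], [4, 5, 5, 6], [6, 5]⟩,
  ⟨[.a7], [5], [0, 3]⟩,
  ⟨[.a6], [3], [0, 4]⟩,
  ⟨[.a3], [6], [3, 0, 1, 5]⟩,
  ⟨[.a2], [9], [0, 1, 2, 3]⟩]
def C1554 : List Ch := [⟨P1504, 0, [], []⟩,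
  ⟨P1535, 1, [], []⟩,
  ⟨P1535, 0, [.a1], [.a1, .a2]⟩,
  ⟨P1536, 2, [], []⟩,
  ⟨P1536, 0, [.a1], [.a1, .a2]⟩,
  ⟨P1511, 1, [], []⟩,
  ⟨P1516, 0, [], []⟩]
def S1554 : List St := [.phi 1 [⟨2, [.a1, .a7, .a11], [.a1, .a2, .a5, .a6, .a7, .a8, .a9, .a11]⟩,
  ⟨4, [.a2], [.a2]⟩,
  ⟨8, [.a3], [.a3]⟩,
  ⟨32, [.a5], [.a5]⟩,
  ⟨64, [.a6], [.a6]⟩,
  ⟨256, [.a8], [.a8]⟩,
  ⟨512, [.a9], [.a9]⟩] [[[.a0, .a2, .a4, .a7, .a10]], [[.a0, .a2, .a4, .a7, .a10], [.a0, .a2, .a10]], [[.a1, .a3, .a6, .a11], [.a1, .a4, .a6, .a11]], [[.a4]], [[.a2, .a4, .a7, .a9]], [[.a7]], [[.a0, .a2, .a4, .a7, .a10], [.a0, .a6, .a7, .a10]]],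
  .comm 0 0 [⟨32, [.a5], [.a5]⟩,
  ⟨64, [.a6, .a8], [.a6, .a8]⟩,
  ⟨256, [.a8], [.a8]⟩] [⟨[.a2], [.a9]⟩, ⟨[.a2], [.a1, .a7, .a11]⟩, ⟨[.a3, .a6], [.a1, .a7, .a11]⟩],
  .cent 3 0 2 [⟨4, [.a2], [.a2]⟩,
  ⟨8, [.a3], [.a3]⟩,
  ⟨16, [.a4], [.a4, .a5]⟩,
  ⟨32, [.a5], [.a5]⟩,
  ⟨64, [.a6], [.a6]⟩,
  ⟨128, [.a7], [.a7, .a8]⟩,
  ⟨256, [.a8], [.a8]⟩,
  ⟨512, [.a9], [.a9]⟩]]
theorem bad1554 (c : CtxF Goal γ) : Bad Goal γ [] P1554 :=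
  c.toCtx.chn (B := B1554) (D := D1554) (I := [11, 12, 0, 1, 13, 5, 2, 3, 4, 7]) (r := 3) (C := C1554) (l := S1554) (x := ⟨[.a11], [.a11]⟩) (ix := [0, 1]) (by decide +kernel) (by decide +kernel) (by decide +kernel) (by decide +kernel)
    (allB_cons (bad1504 c) (allB_cons (bad1535 c) (allB_cons (bad1535 c) (allB_cons (bad1536 c) (allB_cons (bad1536 c) (allB_cons (bad1511 c) (allB_cons (bad1516 c) (allB_nil))))))))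

def P1555 : List Ent := [⟨1, [.a0, .a10], [.a0, .a1, .a2, .a3, .a4, .a6, .a8, .a9, .a10, .a11]⟩,
  ⟨2, [.a1], [.a1, .a2]⟩,
  ⟨4, [.a2], [.a2]⟩,
  ⟨8, [.a3], [.a3]⟩,
  ⟨16, [.a4, .a11], [.a4, .a5, .a11]⟩,
  ⟨32, [.a5], [.a5]⟩,
  ⟨64, [.a6], [.a6]⟩,
  ⟨128, [.a7, .a11], [.a7, .a8, .a11]⟩,
  ⟨256, [.a8], [.a8]⟩,
  ⟨512, [.a9], [.a9]⟩]
def B1555 : List Gv := [⟨[.a0, .a10], [.a0, .a1, .a2, .a3, .a4, .a6, .a8, .a9, .a10, .a11]⟩, ⟨[.a1], [.a1, .a2]⟩]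
def D1555 : List Dv := [⟨[.a2, .a3, .a5, .a6, .a7, .a8, .a9, .a11], [1, 0, 0], []⟩,
  ⟨[.a3, .a4, .a5, .a6, .a7, .a8], [2, 1], [1, 2]⟩,
  ⟨[.a4, .a5, .a6, .a9, .a11], [0, 1, 3, 3], []⟩,
  ⟨[.a6, .a8], [1, 2, 3], [3, 2]⟩,
  ⟨[.a5, .a8, .a9], [3, 5], [5, 3]⟩,
  ⟨[.a8, .a9], [1, 0, 4, 4], []⟩,
  ⟨[.a9], [4, 6], [6, 4]⟩,
  ⟨[.a7, .a8, .a11], [2, 4, 5, 5, 8], [8, 5]⟩,
  ⟨[.a8], [2], [1]⟩,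
  ⟨[.a7, .a11], [1], [0]⟩,
  ⟨[.a6], [6], [1]⟩,
  ⟨[.a5], [6], [2, 4]⟩,
  ⟨[.a4, .a11], [9], [0, 1, 5]⟩,
  ⟨[.a3], [11], [0, 1, 2, 3, 4]⟩,
  ⟨[.a2], [13], [0, 2, 3, 4, 5, 7]⟩]
def C1555 : List Ch := [⟨P1505, 0, [], []⟩,
  ⟨P1511, 1, [], []⟩,
  ⟨P1516, 0, [.a0], [.a0]⟩]
def S1555 : List St := [.cent 1 1 0 [⟨32, [.a5], [.a5]⟩],
  .phi 2 [⟨2, [.a1, .a7, .a11], [.a1, .a2, .a5, .a6, .a7, .a8, .a9, .a11]⟩,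
  ⟨4, [.a2], [.a2]⟩,
  ⟨8, [.a3], [.a3]⟩,
  ⟨16, [.a4, .a7], [.a4, .a5, .a6, .a7, .a8]⟩,
  ⟨32, [.a5], [.a5]⟩,
  ⟨64, [.a6], [.a6]⟩,
  ⟨256, [.a8], [.a8]⟩,
  ⟨512, [.a9], [.a9]⟩] [[[.a0, .a2, .a4, .a7, .a10]], [[.a1]], [[.a1, .a2, .a9], [.a1, .a3, .a4, .a7]], [[.a0, .a7, .a8, .a10, .a11], [.a0, .a1, .a7, .a9, .a10, .a11]], [[.a2, .a9]], [[.a2, .a4, .a7, .a9]], [[.a7, .a11]], [[.a1], [.a1, .a6, .a7, .a11]]],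
  .cent 3 3 1 [⟨32, [.a5], [.a5]⟩,
  ⟨256, [.a8], [.a8]⟩],
  .comm 1 4 [⟨8, [.a3], [.a3]⟩,
  ⟨32, [.a5], [.a5]⟩,
  ⟨64, [.a6, .a8], [.a6, .a8]⟩,
  ⟨256, [.a8], [.a8]⟩,
  ⟨512, [.a9], [.a9]⟩] [⟨[.a4, .a7], [.a1]⟩, ⟨[.a6], [.a1]⟩, ⟨[.a9], [.a1]⟩, ⟨[.a4, .a7], [.a9]⟩, ⟨[.a1, .a4, .a11], [.a7, .a11]⟩]]
theorem bad1555 (c : CtxF Goal γ) : Bad Goal γ [] P1555 :=
  c.toCtx.chn (B := B1555) (D := D1555) (I := [15, 16, 0, 1, 2, 3, 4, 5, 6, 8]) (r := 2) (C := C1555) (l := S1555) (x := ⟨[.a11], [.a11]⟩) (ix := [2, 0, 1]) (by decide +kernel) (by decide +kernel) (by decide +kernel) (by decide +kernel)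
    (allB_cons (bad1505 c) (allB_cons (bad1511 c) (allB_cons (bad1516 c) (allB_nil))))

def P1556 : List Ent := [⟨2, [.a1], [.a1, .a2]⟩,
  ⟨4, [.a2], [.a2]⟩,
  ⟨8, [.a3], [.a3]⟩,
  ⟨16, [.a4], [.a4, .a5]⟩,
  ⟨32, [.a5], [.a5]⟩,
  ⟨64, [.a6], [.a6]⟩,
  ⟨128, [.a7], [.a7, .a8]⟩,
  ⟨256, [.a8], [.a8]⟩,
  ⟨512, [.a9], [.a9]⟩,
  ⟨1024, [.a10], [.a10, .a11]⟩,
  ⟨2048, [.a11], [.a11]⟩]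
def B1556 : List Gv := [⟨[.a1], [.a1, .a2]⟩, ⟨[.a4], [.a4, .a5]⟩, ⟨[.a10], [.a10, .a11]⟩]
def D1556 : List Dv := [⟨[.a2], [0, 0], []⟩,
  ⟨[.a3], [2, 1], [1, 2]⟩,
  ⟨[.a5], [3, 3], []⟩,
  ⟨[.a7], [4, 5, 3], [3, 5]⟩,
  ⟨[.a11], [6, 6], []⟩,
  ⟨[.a6, .a8], [3, 4, 7], [7, 4]⟩,
  ⟨[.a8], [0, 3, 4, 8], [8, 4]⟩,
  ⟨[.a9], [3, 9], [9, 3]⟩,
  ⟨[.a6], [2], [1]⟩]
def C1556 : List Ch := [⟨P1537, 0, [], []⟩,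
  ⟨P1538, 1, [], []⟩,
  ⟨P1539, 0, [], []⟩,
  ⟨P1540, 2, [], []⟩,
  ⟨P1537, 0, [.a0], [.a0]⟩,
  ⟨P1538, 1, [.a0], [.a0]⟩,
  ⟨P1541, 0, [], []⟩]
theorem bad1556 (c : CtxF Goal γ) : Bad Goal γ [] P1556 :=
  c.toCtx.good (B := B1556) (D := D1556) (I := [9, 8, 7, 10, 6, 0, 5, 2, 1, 11, 4]) (r := 3) (C := C1556) (by decide +kernel) (by decide +kernel) (by decide +kernel) c.gB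
    (allB_cons (bad1537 c) (allB_cons (bad1538 c) (allB_cons (bad1539 c) (allB_cons (bad1540 c) (allB_cons (bad1537 c) (allB_cons (bad1538 c) (allB_cons (bad1541 c) (allB_nil))))))))

def P1557 : List Ent := [⟨1, [.a0], [.a0]⟩,
  ⟨2, [.a1, .a7], [.a1, .a2, .a7, .a8]⟩,
  ⟨4, [.a2], [.a2]⟩,
  ⟨8, [.a3], [.a3]⟩,
  ⟨16, [.a4, .a7], [.a4, .a5, .a6, .a7, .a8]⟩,
  ⟨32, [.a5], [.a5]⟩,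
  ⟨64, [.a6], [.a6]⟩,
  ⟨256, [.a8], [.a8]⟩,
  ⟨512, [.a9], [.a9]⟩,
  ⟨1024, [.a10], [.a10, .a11]⟩,
  ⟨2048, [.a11], [.a11]⟩]
def B1557 : List Gv := [⟨[.a0], [.a0]⟩, ⟨[.a10], [.a10, .a11]⟩]
def D1557 : List Dv := [⟨[.a1, .a2, .a3, .a5, .a7, .a8, .a9], [1, 0], [0, 1]⟩,
  ⟨[.a11], [2, 2], []⟩,
  ⟨[.a2, .a5, .a6], [1, 2], [2, 1]⟩,
  ⟨[.a3, .a4, .a7, .a9], [2, 4], [4, 2]⟩,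
  ⟨[.a5], [0, 1, 2, 4], [4, 2]⟩,
  ⟨[.a9], [0, 3, 4], [4, 3]⟩,
  ⟨[.a4, .a5, .a6, .a7, .a9], [2, 3, 7], [7, 3]⟩,
  ⟨[.a6, .a8], [2, 4, 5], [5, 4]⟩,
  ⟨[.a8], [0, 3, 4, 8], [8, 4]⟩,
  ⟨[.a6], [1], [0]⟩,
  ⟨[.a4, .a7], [3], [5, 0, 4]⟩,
  ⟨[.a3], [7], [0, 5]⟩,
  ⟨[.a2], [9], [7, 2]⟩,
  ⟨[.a1, .a7], [12], [0, 1, 4, 7]⟩]
def C1557 : List Ch := [⟨P1539, 0, [], []⟩,
  ⟨P1542, 1, [], []⟩,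
  ⟨P1543, 0, [], []⟩]
def S1557 : List St := [.cent 1 1 0 [⟨32, [.a5], [.a5]⟩],
  .phi 2 [⟨2, [.a1, .a7], [.a1, .a2, .a7, .a8]⟩,
  ⟨4, [.a2], [.a2]⟩,
  ⟨8, [.a3], [.a3]⟩,
  ⟨16, [.a4, .a7], [.a4, .a5, .a6, .a7, .a8]⟩,
  ⟨32, [.a5], [.a5]⟩,
  ⟨64, [.a6], [.a6]⟩,
  ⟨256, [.a8], [.a8]⟩,
  ⟨512, [.a9], [.a9]⟩,
  ⟨2048, [.a11], [.a11]⟩] [[[.a10], [.a0, .a2, .a6, .a8, .a10]], [[.a0, .a1, .a4, .a6], [.a1, .a4, .a6]], [[.a0, .a1, .a4, .a6]], [[.a1, .a4, .a6], [.a0, .a1, .a2, .a6, .a7, .a11]], [[.a0, .a8]], [[.a2, .a4, .a7, .a9]], [[.a3, .a11]], [[.a1, .a4, .a6], [.a1, .a4, .a11]], [[.a10]]],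
  .phi 0 [⟨4, [.a2], [.a2]⟩,
  ⟨8, [.a3], [.a3]⟩,
  ⟨32, [.a5], [.a5]⟩,
  ⟨64, [.a6], [.a6]⟩,
  ⟨256, [.a8], [.a8]⟩,
  ⟨512, [.a9], [.a9]⟩] [[[.a2, .a4, .a7, .a9], [.a1, .a2, .a7, .a9]], [[.a1, .a2, .a7, .a9], [.a1, .a4, .a9]], [[.a2, .a9]], [[.a2, .a4, .a7, .a9]], [[.a3, .a11]], [[.a1, .a4, .a6], [.a1, .a4, .a11]]]]
theorem bad1557 (c : CtxF Goal γ) : Bad Goal γ [] P1557 :=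
  c.toCtx.chn (B := B1557) (D := D1557) (I := [14, 0, 1, 2, 3, 9, 4, 5, 8, 15, 12]) (r := 2) (C := C1557) (l := S1557) (x := ⟨[.a7], [.a7, .a8]⟩) (ix := [0, 2]) (by decide +kernel) (by decide +kernel) (by decide +kernel) (by decide +kernel)
    (allB_cons (bad1539 c) (allB_cons (bad1542 c) (allB_cons (bad1543 c) (allB_nil))))

def P1558 : List Ent := [⟨1, [.a0, .a7], [.a0, .a2, .a3, .a5, .a7, .a8]⟩,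
  ⟨2, [.a1, .a7], [.a1, .a2, .a7, .a8]⟩,
  ⟨4, [.a2], [.a2]⟩,
  ⟨8, [.a3], [.a3]⟩,
  ⟨16, [.a4, .a7], [.a4, .a5, .a6, .a7, .a8]⟩,
  ⟨32, [.a5], [.a5]⟩,
  ⟨64, [.a6], [.a6]⟩,
  ⟨256, [.a8], [.a8]⟩,
  ⟨512, [.a9], [.a9]⟩,
  ⟨1024, [.a10], [.a10, .a11]⟩,
  ⟨2048, [.a11], [.a11]⟩]
def B1558 : List Gv := [⟨[.a0, .a7], [.a0, .a2, .a3, .a5, .a7, .a8]⟩, ⟨[.a10], [.a10, .a11]⟩]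
def D1558 : List Dv := [⟨[.a2, .a3, .a8], [0, 0], []⟩,
  ⟨[.a1, .a2, .a6, .a7, .a8], [2, 1], [1, 2]⟩,
  ⟨[.a11], [3, 3], []⟩,
  ⟨[.a3, .a5, .a8], [2, 4], [4, 2]⟩,
  ⟨[.a5, .a8], [3, 2, 4], [4, 2]⟩,
  ⟨[.a4, .a5, .a6, .a7, .a9], [1, 3, 6], [6, 3]⟩,
  ⟨[.a8], [1, 4, 5], [5, 4]⟩,
  ⟨[.a6, .a8], [2, 4, 6], [6, 4]⟩,
  ⟨[.a9], [3, 5, 6], [6, 5]⟩,
  ⟨[.a6], [1], [2]⟩,
  ⟨[.a5], [5], [3]⟩,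
  ⟨[.a4, .a7], [5], [0, 1, 2]⟩,
  ⟨[.a3], [8], [1, 5]⟩,
  ⟨[.a2], [12], [0, 6]⟩,
  ⟨[.a1, .a7], [12], [0, 4, 7]⟩]
def C1558 : List Ch := [⟨P1539, 0, [], []⟩,
  ⟨P1544, 1, [], []⟩,
  ⟨P1545, 0, [], []⟩]
def S1558 : List St := [.cent 1 1 0 [⟨32, [.a5], [.a5]⟩],
  .phi 2 [⟨2, [.a1, .a7], [.a1, .a2, .a7, .a8]⟩,
  ⟨4, [.a2], [.a2]⟩,
  ⟨8, [.a3], [.a3]⟩,
  ⟨16, [.a4, .a7], [.a4, .a5, .a6, .a7, .a8]⟩,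
  ⟨32, [.a5], [.a5]⟩,
  ⟨64, [.a6], [.a6]⟩,
  ⟨256, [.a8], [.a8]⟩,
  ⟨512, [.a9], [.a9]⟩,
  ⟨2048, [.a11], [.a11]⟩] [[[.a10], [.a0, .a1, .a4, .a7, .a10, .a11]], [[.a0, .a1]], [[.a0, .a1], [.a1, .a4, .a6]], [[.a0, .a1, .a11]], [[.a2, .a9]], [[.a2, .a4, .a7, .a9]], [[.a3, .a11]], [[.a0, .a1], [.a1, .a6, .a7, .a11]], [[.a10]]],
  .phi 0 [⟨4, [.a2], [.a2]⟩,
  ⟨8, [.a3], [.a3]⟩,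
  ⟨32, [.a5], [.a5]⟩,
  ⟨64, [.a6], [.a6]⟩,
  ⟨256, [.a8], [.a8]⟩,
  ⟨512, [.a9], [.a9]⟩] [[[.a2, .a4, .a7, .a9], [.a1, .a2, .a7, .a9]], [[.a1, .a2, .a7, .a9], [.a1, .a4, .a9]], [[.a2, .a9]], [[.a2, .a4, .a7, .a9]], [[.a3, .a11]], [[.a1, .a4, .a6], [.a1, .a4, .a11]]]]
theorem bad1558 (c : CtxF Goal γ) : Bad Goal γ [] P1558 :=
  c.toCtx.chn (B := B1558) (D := D1558) (I := [15, 0, 1, 2, 3, 4, 5, 8, 6, 16, 12]) (r := 2) (C := C1558) (l := S1558) (x := ⟨[.a7], [.a7, .a8]⟩) (ix := [0, 2]) (by decide +kernel) (by decide +kernel) (by decide +kernel) (by decide +kernel)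
    (allB_cons (bad1539 c) (allB_cons (bad1544 c) (allB_cons (bad1545 c) (allB_nil))))

def P1559 : List Ent := [⟨1, [.a0], [.a0]⟩,
  ⟨2, [.a1], [.a1, .a2]⟩,
  ⟨4, [.a2], [.a2]⟩,
  ⟨8, [.a3], [.a3]⟩,
  ⟨16, [.a4], [.a4, .a5]⟩,
  ⟨32, [.a5], [.a5]⟩,
  ⟨64, [.a6], [.a6]⟩,
  ⟨128, [.a7], [.a7, .a8]⟩,
  ⟨256, [.a8], [.a8]⟩,
  ⟨512, [.a9], [.a9]⟩,
  ⟨2048, [.a11], [.a11]⟩]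
def B1559 : List Gv := [⟨[.a0], [.a0]⟩, ⟨[.a1], [.a1, .a2]⟩, ⟨[.a4], [.a4, .a5]⟩, ⟨[.a11], [.a11]⟩]
def D1559 : List Dv := [⟨[.a2], [1, 1], []⟩,
  ⟨[.a3], [3, 2], [2, 3]⟩,
  ⟨[.a5], [4, 4], []⟩,
  ⟨[.a7, .a9], [0, 5, 1, 2, 6, 3], [3, 6]⟩,
  ⟨[.a6, .a9], [1, 7, 5], [5, 7]⟩,
  ⟨[.a8, .a9], [0, 2, 4, 8], [8, 4]⟩,
  ⟨[.a9], [0, 4, 9], [9, 4]⟩,
  ⟨[.a8], [1], [0]⟩,
  ⟨[.a7], [4], [1]⟩,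
  ⟨[.a6], [4], [2]⟩]
def C1559 : List Ch := [⟨P1540, 0, [], []⟩,
  ⟨P1546, 1, [], []⟩,
  ⟨P1546, 0, [.a10], [.a10, .a11]⟩,
  ⟨P1547, 2, [], []⟩,
  ⟨P1547, 0, [.a10], [.a10, .a11]⟩,
  ⟨P1542, 1, [], []⟩,
  ⟨P1544, 0, [], []⟩,
  ⟨P1548, 3, [], []⟩,
  ⟨P1549, 0, [], []⟩,
  ⟨P1550, 1, [], []⟩,
  ⟨P1550, 0, [.a10], [.a10, .a11]⟩,
  ⟨P1551, 2, [], []⟩,
  ⟨P1551, 0, [.a10], [.a10, .a11]⟩,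
  ⟨P1552, 1, [], []⟩,
  ⟨P1553, 0, [], []⟩]
def S1559 : List St := [.cent 1 1 0 [⟨32, [.a5], [.a5]⟩],
  .phi 2 [⟨4, [.a2], [.a2]⟩,
  ⟨8, [.a3], [.a3]⟩,
  ⟨16, [.a4, .a7], [.a4, .a5, .a6, .a7, .a8]⟩,
  ⟨32, [.a5], [.a5]⟩,
  ⟨64, [.a6], [.a6]⟩,
  ⟨256, [.a8], [.a8]⟩,
  ⟨512, [.a9], [.a9]⟩] [[[.a1]], [[.a0, .a1, .a4, .a6]], [[.a0, .a1, .a11]], [[.a4]], [[.a2, .a4, .a7, .a9]], [[.a7]], [[.a1], [.a1, .a3, .a6, .a11]]],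
  .cent 3 3 1 [⟨32, [.a5], [.a5]⟩,
  ⟨64, [.a6], [.a6]⟩,
  ⟨256, [.a8], [.a8]⟩],
  .comm 1 1 [⟨32, [.a5], [.a5]⟩,
  ⟨256, [.a8], [.a8]⟩] [⟨[.a2], [.a9]⟩, ⟨[.a9], [.a4, .a7]⟩],
  .comm 2 5 [⟨8, [.a3, .a6], [.a3, .a6]⟩,
  ⟨32, [.a5], [.a5]⟩,
  ⟨64, [.a6, .a8], [.a6, .a8]⟩,
  ⟨256, [.a8], [.a8]⟩] [⟨[.a9], [.a0]⟩, ⟨[.a6], [.a1]⟩, ⟨[.a9], [.a1]⟩, ⟨[.a9], [.a4]⟩],
  .om 3 [⟨4, [.a2], [.a2]⟩,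
  ⟨8, [.a3], [.a3]⟩,
  ⟨32, [.a5], [.a5]⟩,
  ⟨64, [.a6], [.a6]⟩,
  ⟨256, [.a8], [.a8]⟩,
  ⟨512, [.a9], [.a9]⟩] [[[.a2]], [[.a3]], [[.a5]], [[.a6]], [[.a8]], [[.a9]]],
  .cent 7 7 0 [⟨2, [.a1], [.a1, .a2]⟩,
  ⟨4, [.a2], [.a2]⟩,
  ⟨8, [.a3], [.a3]⟩,
  ⟨16, [.a4], [.a4, .a5]⟩,
  ⟨32, [.a5], [.a5]⟩,
  ⟨64, [.a6], [.a6]⟩,
  ⟨128, [.a7], [.a7, .a8]⟩,
  ⟨256, [.a8], [.a8]⟩,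
  ⟨512, [.a9], [.a9]⟩]]
theorem bad1559 (c : CtxF Goal γ) : Bad Goal γ [] P1559 :=
  c.toCtx.chn (B := B1559) (D := D1559) (I := [10, 11, 9, 8, 12, 7, 0, 1, 2, 3, 13]) (r := 4) (C := C1559) (l := S1559) (x := ⟨[.a10], [.a10, .a11]⟩) (ix := [0, 5, 1, 2, 4, 3]) (by decide +kernel) (by decide +kernel) (by decide +kernel) (by decide +kernel)
    (allB_cons (bad1540 c) (allB_cons (bad1546 c) (allB_cons (bad1546 c) (allB_cons (bad1547 c) (allB_cons (bad1547 c) (allB_cons (bad1542 c) (allB_cons (bad1544 c) (allB_cons (bad1548 c) (allB_cons (bad1549 c) (allB_cons (bad1550 c) (allB_cons (bad1550 c) (allB_cons (bad1551 c) (allB_cons (bad1551 c) (allB_cons (bad1552 c) (allB_cons (bad1553 c) (allB_nil))))))))))))))))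

def P1560 : List Ent := [⟨1, [.a0, .a10], [.a0, .a1, .a2, .a3, .a4, .a6, .a8, .a9, .a10, .a11]⟩,
  ⟨2, [.a1], [.a1, .a2]⟩,
  ⟨4, [.a2], [.a2]⟩,
  ⟨8, [.a3], [.a3]⟩,
  ⟨16, [.a4], [.a4, .a5]⟩,
  ⟨32, [.a5], [.a5]⟩,
  ⟨64, [.a6], [.a6]⟩,
  ⟨128, [.a7], [.a7, .a8]⟩,
  ⟨256, [.a8], [.a8]⟩,
  ⟨512, [.a9], [.a9]⟩,
  ⟨2048, [.a11], [.a11]⟩]
def B1560 : List Gv := [⟨[.a0, .a10], [.a0, .a1, .a2, .a3, .a4, .a6, .a8, .a9, .a10, .a11]⟩, ⟨[.a1], [.a1, .a2]⟩, ⟨[.a4], [.a4, .a5]⟩]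
def D1560 : List Dv := [⟨[.a2, .a3, .a5, .a6, .a7, .a8, .a9, .a11], [1, 0, 0], []⟩,
  ⟨[.a3, .a4, .a5, .a6, .a7, .a8], [2, 1], [1, 2]⟩,
  ⟨[.a6, .a9, .a11], [4, 0, 1, 3, 3], []⟩,
  ⟨[.a5, .a6, .a7, .a8], [5, 1, 5, 4], [4, 5]⟩,
  ⟨[.a7, .a8, .a9, .a11], [1, 0, 6, 6], []⟩,
  ⟨[.a8, .a9, .a11], [2, 3, 4, 5], [5, 4]⟩,
  ⟨[.a9], [1, 3, 2, 5, 7], [7, 5]⟩,
  ⟨[.a11], [0, 2, 3, 6, 6], []⟩,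
  ⟨[.a8], [2], [1, 0]⟩,
  ⟨[.a7], [4], [0, 2, 1]⟩,
  ⟨[.a6], [7], [3, 2]⟩,
  ⟨[.a5], [7], [0, 1, 2]⟩,
  ⟨[.a3], [10], [14, 0, 1, 2, 3]⟩,
  ⟨[.a2], [12], [0, 1, 2, 3, 4, 6, 5]⟩]
def C1560 : List Ch := [⟨P1540, 0, [], []⟩,
  ⟨P1554, 1, [], []⟩,
  ⟨P1554, 0, [.a0], [.a0]⟩,
  ⟨P1555, 2, [], []⟩,
  ⟨P1555, 0, [.a0], [.a0]⟩,
  ⟨P1543, 1, [], []⟩,
  ⟨P1545, 0, [], []⟩]
def S1560 : List St := [.cent 1 1 0 [⟨32, [.a5], [.a5]⟩],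
  .phi 2 [⟨2, [.a1, .a7, .a11], [.a1, .a2, .a5, .a6, .a7, .a8, .a9, .a11]⟩,
  ⟨4, [.a2], [.a2]⟩,
  ⟨8, [.a3], [.a3]⟩,
  ⟨16, [.a4, .a7], [.a4, .a5, .a6, .a7, .a8]⟩,
  ⟨32, [.a5], [.a5]⟩,
  ⟨64, [.a6], [.a6]⟩,
  ⟨256, [.a8], [.a8]⟩,
  ⟨512, [.a9], [.a9]⟩] [[[.a0, .a2, .a4, .a7, .a10]], [[.a1]], [[.a1], [.a1, .a4, .a6]], [[.a0, .a7, .a8, .a10, .a11], [.a0, .a2, .a4, .a8, .a10]], [[.a4]], [[.a2, .a4, .a7, .a9]], [[.a7]], [[.a1], [.a1, .a3, .a6, .a11]]],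
  .comm 3 3 [⟨4, [.a2], [.a2]⟩,
  ⟨8, [.a3], [.a3]⟩,
  ⟨16, [.a4, .a5, .a7], [.a4, .a6, .a7, .a8]⟩,
  ⟨32, [.a5], [.a5]⟩,
  ⟨64, [.a6, .a8], [.a6, .a8]⟩,
  ⟨256, [.a8], [.a8]⟩,
  ⟨512, [.a9], [.a9]⟩] [⟨[.a4], [.a0, .a10]⟩, ⟨[.a1], [.a4]⟩, ⟨[.a1, .a2], [.a0, .a10]⟩, ⟨[.a1], [.a6]⟩, ⟨[.a1], [.a9]⟩, ⟨[.a3], [.a11]⟩, ⟨[.a1, .a3], [.a1, .a11]⟩],
  .om 4 [⟨4, [.a2], [.a2]⟩,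
  ⟨8, [.a3], [.a3]⟩,
  ⟨16, [.a4, .a7], [.a4, .a5, .a6, .a7, .a8]⟩,
  ⟨32, [.a5], [.a5]⟩,
  ⟨64, [.a6], [.a6]⟩,
  ⟨256, [.a8], [.a8]⟩,
  ⟨512, [.a9], [.a9]⟩,
  ⟨2048, [.a11], [.a11]⟩] [[[.a2]], [[.a3]], [[.a2], [.a11], [.a2, .a4, .a5, .a6, .a7, .a8, .a11]], [[.a5]], [[.a6]], [[.a8]], [[.a9]], [[.a11]]],
  .cent 5 5 3 [⟨32, [.a5], [.a5]⟩,
  ⟨256, [.a8], [.a8]⟩],
  .comm 3 6 [⟨8, [.a3], [.a3]⟩,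
  ⟨32, [.a5], [.a5]⟩,
  ⟨64, [.a6, .a8], [.a6, .a8]⟩,
  ⟨256, [.a8], [.a8]⟩,
  ⟨512, [.a9], [.a9]⟩] [⟨[.a4, .a7], [.a1]⟩, ⟨[.a6], [.a1]⟩, ⟨[.a9], [.a1]⟩, ⟨[.a9], [.a4]⟩, ⟨[.a1, .a4, .a11], [.a1, .a4]⟩],
  .cent 7 3 6 [⟨32, [.a5], [.a5]⟩,
  ⟨64, [.a6], [.a6]⟩,
  ⟨256, [.a8], [.a8]⟩],
  .comm 3 8 [⟨4, [.a2, .a3, .a4, .a7, .a9], [.a2, .a3, .a4, .a5, .a6, .a7, .a9]⟩,
  ⟨8, [.a3], [.a3]⟩,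
  ⟨32, [.a5], [.a5]⟩,
  ⟨64, [.a6, .a8], [.a6, .a8]⟩,
  ⟨256, [.a8], [.a8]⟩,
  ⟨512, [.a9], [.a9]⟩] [⟨[.a11], [.a0, .a10]⟩, ⟨[.a4, .a7], [.a1]⟩, ⟨[.a6], [.a1]⟩, ⟨[.a9], [.a1]⟩, ⟨[.a9], [.a4]⟩, ⟨[.a2, .a9, .a11], [.a1, .a3]⟩],
  .cent 9 9 0 [⟨2, [.a1, .a7], [.a1, .a2, .a7, .a8]⟩,
  ⟨4, [.a2], [.a2]⟩,
  ⟨8, [.a3], [.a3]⟩,
  ⟨16, [.a4, .a7], [.a4, .a5, .a6, .a7, .a8]⟩,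
  ⟨32, [.a5], [.a5]⟩,
  ⟨64, [.a6], [.a6]⟩,
  ⟨256, [.a8], [.a8]⟩,
  ⟨512, [.a9], [.a9]⟩,
  ⟨2048, [.a11], [.a11]⟩]]
theorem bad1560 (c : CtxF Goal γ) : Bad Goal γ [] P1560 :=
  c.toCtx.chn (B := B1560) (D := D1560) (I := [14, 15, 0, 1, 16, 2, 3, 4, 5, 7, 6]) (r := 3) (C := C1560) (l := S1560) (x := ⟨[.a10], [.a10, .a11]⟩) (ix := [0, 6, 3, 2, 4]) (by decide +kernel) (by decide +kernel) (by decide +kernel) (by decide +kernel)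
    (allB_cons (bad1540 c) (allB_cons (bad1554 c) (allB_cons (bad1554 c) (allB_cons (bad1555 c) (allB_cons (bad1555 c) (allB_cons (bad1543 c) (allB_cons (bad1545 c) (allB_nil))))))))

def P1561 : List Ent := [⟨1, [.a0], [.a0]⟩,
  ⟨2, [.a1, .a10], [.a1, .a2, .a4, .a5, .a7, .a9, .a10, .a11]⟩,
  ⟨4, [.a2], [.a2]⟩,
  ⟨8, [.a3], [.a3]⟩,
  ⟨16, [.a4, .a10], [.a4, .a5, .a10, .a11]⟩,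
  ⟨32, [.a5], [.a5]⟩,
  ⟨64, [.a6], [.a6]⟩,
  ⟨128, [.a7, .a10], [.a7, .a8, .a9, .a10, .a11]⟩,
  ⟨256, [.a8], [.a8]⟩,
  ⟨512, [.a9], [.a9]⟩,
  ⟨2048, [.a11], [.a11]⟩]
def B1561 : List Gv := [⟨[.a0], [.a0]⟩, ⟨[.a1, .a10], [.a1, .a2, .a4, .a5, .a7, .a9, .a10, .a11]⟩]
def D1561 : List Dv := [⟨[.a3, .a4, .a5, .a6, .a8, .a10], [1, 1, 0], [0, 1]⟩,
  ⟨[.a2, .a3, .a4, .a5, .a7, .a11], [2, 2], []⟩,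
  ⟨[.a6, .a7, .a10, .a11], [0, 3, 1, 2], [2, 1]⟩,
  ⟨[.a5, .a7, .a9, .a10], [2, 2, 4], [4, 2]⟩,
  ⟨[.a7, .a10], [1, 3, 3], []⟩,
  ⟨[.a4, .a5, .a9, .a10, .a11], [4, 3, 3, 5], [5, 3]⟩,
  ⟨[.a8], [3, 2, 0, 5, 4, 5], [5, 4]⟩,
  ⟨[.a11], [2, 3, 5, 5], []⟩,
  ⟨[.a9, .a11], [3, 2, 7, 9, 5, 8], [8, 5]⟩,
  ⟨[.a9], [0], [1]⟩,
  ⟨[.a6], [7], [5, 2]⟩,
  ⟨[.a5], [7], [6, 1]⟩,
  ⟨[.a4, .a10], [6], [0, 2, 4]⟩,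
  ⟨[.a3], [12], [0, 1, 2]⟩,
  ⟨[.a2], [12], [0, 1, 2, 9, 4]⟩]
def C1561 : List Ch := [⟨P1541, 0, [], []⟩,
  ⟨P1542, 1, [], []⟩,
  ⟨P1545, 0, [], []⟩]
def S1561 : List St := [.cent 1 1 0 [⟨32, [.a5], [.a5]⟩],
  .phi 2 [⟨2, [.a1, .a7], [.a1, .a2, .a7, .a8]⟩,
  ⟨4, [.a2], [.a2]⟩,
  ⟨8, [.a3], [.a3]⟩,
  ⟨16, [.a4, .a7], [.a4, .a5, .a6, .a7, .a8]⟩,
  ⟨32, [.a5], [.a5]⟩,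
  ⟨64, [.a6], [.a6]⟩,
  ⟨256, [.a8], [.a8]⟩,
  ⟨512, [.a9], [.a9]⟩,
  ⟨2048, [.a11], [.a11]⟩] [[[.a2, .a3, .a4, .a6, .a10], [.a0, .a1, .a2, .a4, .a7, .a8, .a10, .a11]], [[.a0, .a1, .a4, .a6], [.a1, .a4, .a6]], [[.a0, .a1, .a4, .a6]], [[.a1, .a4, .a6], [.a0, .a1, .a2, .a6, .a7, .a11]], [[.a0, .a8]], [[.a2, .a4, .a7, .a9]], [[.a3, .a11]], [[.a1, .a4, .a6], [.a1, .a4, .a11]], [[.a0, .a1, .a4, .a6], [.a2, .a3, .a4, .a6, .a10]]],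
  .comm 3 3 [⟨2, [.a1, .a3, .a7, .a9], [.a1, .a2, .a3, .a5, .a6, .a7, .a9]⟩,
  ⟨4, [.a2, .a3, .a4, .a5, .a6, .a7, .a9], [.a2, .a3, .a4, .a7, .a9]⟩,
  ⟨8, [.a3, .a6], [.a3, .a6]⟩,
  ⟨16, [.a4, .a5, .a6, .a7, .a8], [.a4, .a7]⟩,
  ⟨32, [.a5], [.a5]⟩,
  ⟨64, [.a6], [.a6]⟩,
  ⟨256, [.a8], [.a8]⟩,
  ⟨512, [.a9], [.a9]⟩] [⟨[.a0], [.a1, .a10]⟩, ⟨[.a0], [.a11]⟩, ⟨[.a0], [.a9]⟩, ⟨[.a1, .a4], [.a1, .a10]⟩, ⟨[.a0], [.a8]⟩, ⟨[.a9], [.a1, .a4]⟩, ⟨[.a3], [.a11]⟩, ⟨[.a4, .a7], [.a0, .a4, .a10]⟩],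
  .cent 4 4 2 [⟨32, [.a5], [.a5]⟩,
  ⟨256, [.a8], [.a8]⟩],
  .comm 2 2 [⟨8, [.a3, .a6], [.a3, .a6]⟩,
  ⟨32, [.a5], [.a5]⟩,
  ⟨64, [.a6], [.a6]⟩,
  ⟨256, [.a8], [.a8]⟩,
  ⟨512, [.a9], [.a9]⟩] [⟨[.a1, .a4], [.a1, .a7]⟩, ⟨[.a2], [.a9]⟩, ⟨[.a9], [.a1, .a4]⟩, ⟨[.a3], [.a11]⟩, ⟨[.a1, .a4], [.a1, .a4, .a11]⟩],
  .comm 3 6 [⟨4, [.a2, .a3, .a4, .a7, .a9], [.a2, .a3, .a4, .a5, .a6, .a7, .a9]⟩,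
  ⟨8, [.a3, .a6], [.a3, .a6]⟩,
  ⟨16, [.a4, .a5, .a6, .a7, .a8], [.a4, .a7]⟩,
  ⟨32, [.a5], [.a5]⟩,
  ⟨64, [.a6], [.a6]⟩,
  ⟨256, [.a8], [.a8]⟩,
  ⟨512, [.a9], [.a9]⟩] [⟨[.a11], [.a0]⟩, ⟨[.a9], [.a0]⟩, ⟨[.a1, .a4], [.a1, .a10]⟩, ⟨[.a8], [.a0]⟩, ⟨[.a1, .a4], [.a9]⟩, ⟨[.a3], [.a11]⟩, ⟨[.a1, .a4, .a11], [.a1, .a4]⟩],
  .cent 7 7 2 [⟨32, [.a5], [.a5]⟩,
  ⟨64, [.a6], [.a6]⟩,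
  ⟨256, [.a8], [.a8]⟩]]
theorem bad1561 (c : CtxF Goal γ) : Bad Goal γ [] P1561 :=
  c.toCtx.chn (B := B1561) (D := D1561) (I := [15, 16, 0, 1, 2, 3, 4, 10, 8, 5, 7]) (r := 2) (C := C1561) (l := S1561) (x := ⟨[.a10], [.a10, .a11]⟩) (ix := [4, 1, 2, 0, 3]) (by decide +kernel) (by decide +kernel) (by decide +kernel) (by decide +kernel)
    (allB_cons (bad1541 c) (allB_cons (bad1542 c) (allB_cons (bad1545 c) (allB_nil))))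

def P1562 : List Ent := [⟨1, [.a0, .a10], [.a0, .a1, .a2, .a3, .a4, .a6, .a8, .a9, .a10, .a11]⟩,
  ⟨2, [.a1, .a10], [.a1, .a2, .a4, .a5, .a7, .a9, .a10, .a11]⟩,
  ⟨4, [.a2], [.a2]⟩,
  ⟨8, [.a3], [.a3]⟩,
  ⟨16, [.a4, .a10], [.a4, .a5, .a10, .a11]⟩,
  ⟨32, [.a5], [.a5]⟩,
  ⟨64, [.a6], [.a6]⟩,
  ⟨128, [.a7, .a10], [.a7, .a8, .a9, .a10, .a11]⟩,
  ⟨256, [.a8], [.a8]⟩,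
  ⟨512, [.a9], [.a9]⟩,
  ⟨2048, [.a11], [.a11]⟩]
def B1562 : List Gv := [⟨[.a0, .a10], [.a0, .a1, .a2, .a3, .a4, .a6, .a8, .a9, .a10, .a11]⟩, ⟨[.a1, .a10], [.a1, .a2, .a4, .a5, .a7, .a9, .a10, .a11]⟩]
def D1562 : List Dv := [⟨[.a2, .a4, .a8, .a10, .a11], [1, 0, 0], []⟩,
  ⟨[.a6, .a7, .a8, .a9, .a10], [2, 2, 1], [1, 2]⟩,
  ⟨[.a9, .a11], [0, 1, 3, 3], []⟩,
  ⟨[.a4, .a6, .a7, .a9], [2, 4], [4, 2]⟩,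
  ⟨[.a3, .a8, .a11], [3, 3], []⟩,
  ⟨[.a8, .a9], [4, 6, 3, 5], [5, 3]⟩,
  ⟨[.a5, .a6], [2, 4, 7], [7, 4]⟩,
  ⟨[.a7, .a10, .a11], [5, 0, 2, 5, 6], [6, 5]⟩,
  ⟨[.a11], [5, 0, 6, 1, 5, 9], [9, 5]⟩,
  ⟨[.a9], [6], [0]⟩,
  ⟨[.a8], [4], [0]⟩,
  ⟨[.a7, .a10], [3], [2]⟩,
  ⟨[.a6], [10], [0, 1, 2]⟩,
  ⟨[.a5], [6], [0]⟩,
  ⟨[.a4, .a10], [10], [1, 2, 3, 5]⟩,
  ⟨[.a3], [10], [4, 6]⟩,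
  ⟨[.a2], [15], [1, 5, 7]⟩]
def C1562 : List Ch := [⟨P1541, 0, [], []⟩,
  ⟨P1543, 1, [], []⟩,
  ⟨P1544, 0, [], []⟩]
def S1562 : List St := [.cent 1 1 0 [⟨32, [.a5], [.a5]⟩],
  .phi 2 [⟨2, [.a1, .a7], [.a1, .a2, .a7, .a8]⟩,
  ⟨4, [.a2], [.a2]⟩,
  ⟨8, [.a3], [.a3]⟩,
  ⟨16, [.a4, .a7], [.a4, .a5, .a6, .a7, .a8]⟩,
  ⟨32, [.a5], [.a5]⟩,
  ⟨64, [.a6], [.a6]⟩,
  ⟨256, [.a8], [.a8]⟩,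
  ⟨512, [.a9], [.a9]⟩,
  ⟨2048, [.a11], [.a11]⟩] [[[.a2, .a3, .a4, .a6, .a10], [.a0, .a3, .a6, .a8, .a10]], [[.a0, .a1]], [[.a0, .a1], [.a1, .a4, .a6]], [[.a0, .a1, .a11]], [[.a2, .a9]], [[.a2, .a4, .a7, .a9]], [[.a3, .a11]], [[.a0, .a1], [.a1, .a6, .a7, .a11]], [[.a2, .a9], [.a4, .a10]]],
  .comm 3 3 [⟨2, [.a1, .a2, .a4, .a5, .a6, .a8, .a9], [.a1, .a3, .a4, .a8, .a9]⟩,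
  ⟨4, [.a2, .a4, .a7], [.a2, .a4, .a5, .a6, .a7, .a8]⟩,
  ⟨8, [.a3, .a5, .a8], [.a3, .a5, .a8]⟩,
  ⟨16, [.a4, .a5, .a6, .a7, .a8], [.a4, .a7]⟩,
  ⟨32, [.a5], [.a5]⟩,
  ⟨64, [.a6], [.a6]⟩,
  ⟨256, [.a8], [.a8]⟩,
  ⟨512, [.a9], [.a9]⟩] [⟨[.a0, .a1], [.a0, .a10]⟩, ⟨[.a11], [.a0, .a1]⟩, ⟨[.a9], [.a0, .a1]⟩, ⟨[.a1, .a4], [.a1, .a10]⟩, ⟨[.a2], [.a9]⟩, ⟨[.a9], [.a1, .a4]⟩, ⟨[.a3], [.a11]⟩, ⟨[.a6, .a11], [.a1, .a2, .a10]⟩],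
  .om 4 [⟨4, [.a2], [.a2]⟩,
  ⟨8, [.a3], [.a3]⟩,
  ⟨16, [.a4, .a7], [.a4, .a5, .a6, .a7, .a8]⟩,
  ⟨32, [.a5], [.a5]⟩,
  ⟨64, [.a6], [.a6]⟩,
  ⟨256, [.a8], [.a8]⟩,
  ⟨512, [.a9], [.a9]⟩,
  ⟨2048, [.a11], [.a11]⟩] [[[.a2]], [[.a3]], [[.a2], [.a11], [.a2, .a4, .a5, .a6, .a7, .a8, .a11]], [[.a5]], [[.a6]], [[.a8]], [[.a9]], [[.a11]]],
  .cent 5 5 3 [⟨32, [.a5], [.a5]⟩,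
  ⟨256, [.a8], [.a8]⟩],
  .comm 3 3 [⟨8, [.a3, .a6], [.a3, .a6]⟩,
  ⟨32, [.a5], [.a5]⟩,
  ⟨64, [.a6], [.a6]⟩,
  ⟨256, [.a8], [.a8]⟩,
  ⟨512, [.a9], [.a9]⟩] [⟨[.a1, .a4], [.a1, .a7]⟩, ⟨[.a2], [.a9]⟩, ⟨[.a9], [.a1, .a4]⟩, ⟨[.a3], [.a11]⟩, ⟨[.a1, .a4], [.a1, .a4, .a11]⟩],
  .comm 4 7 [⟨4, [.a2, .a4, .a7], [.a2, .a4, .a5, .a6, .a7, .a8]⟩,
  ⟨8, [.a3, .a5, .a8], [.a3, .a5, .a8]⟩,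
  ⟨16, [.a4, .a5, .a6, .a7, .a8], [.a4, .a7]⟩,
  ⟨32, [.a5], [.a5]⟩,
  ⟨64, [.a6], [.a6]⟩,
  ⟨256, [.a8], [.a8]⟩,
  ⟨512, [.a9], [.a9]⟩] [⟨[.a11], [.a0, .a1]⟩, ⟨[.a9], [.a0, .a1]⟩, ⟨[.a1, .a4], [.a1, .a10]⟩, ⟨[.a2], [.a9]⟩, ⟨[.a1, .a4], [.a9]⟩, ⟨[.a3], [.a11]⟩, ⟨[.a1, .a4, .a11], [.a1, .a4]⟩],
  .cent 8 3 7 [⟨32, [.a5], [.a5]⟩,
  ⟨64, [.a6], [.a6]⟩,
  ⟨256, [.a8], [.a8]⟩]]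
theorem bad1562 (c : CtxF Goal γ) : Bad Goal γ [] P1562 :=
  c.toCtx.chn (B := B1562) (D := D1562) (I := [17, 18, 0, 1, 2, 3, 4, 5, 6, 7, 8]) (r := 2) (C := C1562) (l := S1562) (x := ⟨[.a10], [.a10, .a11]⟩) (ix := [5, 1, 2, 0, 3]) (by decide +kernel) (by decide +kernel) (by decide +kernel) (by decide +kernel)
    (allB_cons (bad1541 c) (allB_cons (bad1543 c) (allB_cons (bad1544 c) (allB_nil))))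

def P1563 : List Ent := [⟨1, [.a0], [.a0]⟩,
  ⟨2, [.a1], [.a1, .a2]⟩,
  ⟨4, [.a2], [.a2]⟩,
  ⟨8, [.a3], [.a3]⟩,
  ⟨16, [.a4], [.a4, .a5]⟩,
  ⟨32, [.a5], [.a5]⟩,
  ⟨64, [.a6], [.a6]⟩,
  ⟨128, [.a7], [.a7, .a8]⟩,
  ⟨256, [.a8], [.a8]⟩,
  ⟨512, [.a9], [.a9]⟩,
  ⟨1024, [.a10], [.a10, .a11]⟩,
  ⟨2048, [.a11], [.a11]⟩]
def B1563 : List Gv := [⟨[.a0], [.a0]⟩, ⟨[.a1], [.a1, .a2]⟩, ⟨[.a10], [.a10, .a11]⟩]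
def D1563 : List Dv := [⟨[.a2], [1, 1], []⟩,
  ⟨[.a3, .a5, .a7, .a8, .a9], [2, 3, 1], [1, 3]⟩,
  ⟨[.a4, .a5, .a7], [4, 3], [3, 4]⟩,
  ⟨[.a11], [5, 5], []⟩,
  ⟨[.a6, .a7, .a9], [2, 3, 6], [6, 3]⟩,
  ⟨[.a7, .a9], [0, 4, 3, 5], [5, 3]⟩,
  ⟨[.a5, .a6, .a9], [4, 8], [8, 4]⟩,
  ⟨[.a8, .a9], [1, 2, 0, 5, 6], [6, 5]⟩,
  ⟨[.a9], [2, 3, 1, 6, 6], []⟩,
  ⟨[.a8], [1], [0]⟩,
  ⟨[.a7], [4], [1]⟩,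
  ⟨[.a6], [6], [0, 2]⟩,
  ⟨[.a5], [5], [0, 3]⟩,
  ⟨[.a4], [10], [0, 2]⟩,
  ⟨[.a3], [12], [1, 3, 4, 5]⟩]
def C1563 : List Ch := [⟨P1556, 0, [], []⟩,
  ⟨P1557, 1, [], []⟩,
  ⟨P1558, 0, [], []⟩,
  ⟨P1559, 2, [], []⟩,
  ⟨P1560, 0, [], []⟩,
  ⟨P1561, 1, [], []⟩,
  ⟨P1562, 0, [], []⟩]
theorem bad1563 (c : CtxF Goal γ) : Bad Goal γ [] P1563 :=
  c.toCtx.node (B := B1563) (D := D1563) (I := [15, 16, 14, 0, 1, 2, 3, 4, 5, 6, 17, 11]) (r := 3) (C := C1563) (by decide +kernel) (by decide +kernel) (by decide +kernel) (killed_top (by decide +kernel))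
    (allB_cons (bad1556 c) (allB_cons (bad1557 c) (allB_cons (bad1558 c) (allB_cons (bad1559 c) (allB_cons (bad1560 c) (allB_cons (bad1561 c) (allB_cons (bad1562 c) (allB_nil))))))))

end Cfsg.Agent.H782.TF.Full
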