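import Cfsg.Agent.H732.PU.Chain

import Cfsg.Agent.Lib.FrattiniPGroup

/-!
# S5262, q = 2: general lemmas for the subgroup tree (helper782)
-/

set_option autoImplicit false

namespace Cfsg.Agent.H782.TF

open Cfsg Cfsg.FusionSystem Cfsg.Agent.H756.PU Cfsg.Agent.H732.PU
open scoped commutatorElement

universe u

section conj
variable {Ω : Type u} [Group Ω]

/-- transport of automorphisms along the conjugation `E → E^g` -/
noncomputable def cj (g : Ω) (E : Subgroup Ω) : E ≃* (E.map (MulAut.conj g).toMonoidHom : Subgroup Ω) :=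
  (MulAut.conj g).subgroupMap E

theorem cj_apply (g : Ω) (E : Subgroup Ω) (e : E) : ((cj g E e : _) : Ω) = g * e * g⁻¹ := rfl

theorem cj_symm (g : Ω) (E : Subgroup Ω) (e : (E.map (MulAut.conj g).toMonoidHom : Subgroup Ω)) :
    (((cj g E).symm e : E) : Ω) = g⁻¹ * e * g := by
  have h := cj_apply g E ((cj g E).symm e)
  rw [MulEquiv.apply_symm_apply] at h
  rw [h]
  group

theorem autInducedBy_conj {S : Subgroup Ω} {g : Ω} (hg : g ∈ S) (E : Subgroup Ω) :
    autInducedBy S (E.map (MulAut.conj g).toMonoidHom) =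
      (autInducedBy S E).map (MulAut.congr (cj g E)).toMonoidHom := by
  apply le_antisymm
  · rw [autInducedBy, Subgroup.closure_le]
    rintro α ⟨x, hx, hα⟩
    refine ⟨(MulAut.congr (cj g E)).symm α, Subgroup.subset_closure ⟨g⁻¹ * x * g, S.mul_mem (S.mul_mem (S.inv_mem hg) hx) hg, ?_⟩,
      MulEquiv.apply_symm_apply _ _⟩
    intro e
    have h1 : (MulAut.congr (cj g E)).symm α e = (cj g E).symm (α (cj g E e)) := rfl
    rw [h1, cj_symm, hα, cj_apply]
    group
  · rw [autInducedBy, MonoidHom.map_closure, Subgroup.closure_le]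
    rintro _ ⟨α, ⟨x, hx, hα⟩, rfl⟩
    refine Subgroup.subset_closure ⟨g * x * g⁻¹, S.mul_mem (S.mul_mem hg hx) (S.inv_mem hg), ?_⟩
    intro e
    have h1 : ((MulAut.congr (cj g E)).toMonoidHom α) e = cj g E (α ((cj g E).symm e)) := rfl
    rw [h1, cj_apply, hα, cj_symm]
    group

theorem inn_conj (g : Ω) (E : Subgroup Ω) :
    Inn (E.map (MulAut.conj g).toMonoidHom : Subgroup Ω) = (Inn E).map (MulAut.congr (cj g E)).toMonoidHom := by
  apply le_antisymm
  · rintro _ ⟨x, rfl⟩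
    refine ⟨MulAut.conj ((cj g E).symm x), ⟨_, rfl⟩, ?_⟩
    ext e
    have h1 : ((MulAut.congr (cj g E)).toMonoidHom (MulAut.conj ((cj g E).symm x))) e =
      cj g E (MulAut.conj ((cj g E).symm x) ((cj g E).symm e)) := rfl
    rw [h1, MulAut.conj_apply, ← map_mul, ← map_inv, ← map_mul, MulEquiv.apply_symm_apply, MulAut.conj_apply]
  · rintro _ ⟨_, ⟨x, rfl⟩, rfl⟩
    refine ⟨cj g E x, ?_⟩
    ext e
    have h1 : ((MulAut.congr (cj g E)).toMonoidHom (MulAut.conj x)) e =
      cj g E (MulAut.conj x ((cj g E).symm e)) := rfl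
    rw [h1, MulAut.conj_apply, MulAut.conj_apply, map_mul, map_mul, map_inv, MulEquiv.apply_symm_apply]

/-- `Ess` is invariant under conjugation in `S` -/
theorem ess_conj {S E : Subgroup Ω} {p : ℕ} {Γ : Subgroup (MulAut E)} (h : Ess S E p Γ) {g : Ω} (hg : g ∈ S) :
    Ess S (E.map (MulAut.conj g).toMonoidHom) p (Γ.map (MulAut.congr (cj g E)).toMonoidHom) := by
  set φ := MulAut.congr (cj g E) with hφ
  have hA := autInducedBy_conj hg E
  have hI := inn_conj g E
  have inj : Function.Injective φ.toMonoidHom := φ.injective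
  refine ⟨h.pp, h.fin, h.pgr, ?_, ?_, ?_, ?_, ?_⟩
  · rintro _ ⟨x, hx, rfl⟩
    exact S.mul_mem (S.mul_mem hg (h.E_le hx)) (S.inv_mem hg)
  · intro x hx hc
    refine ⟨g⁻¹ * x * g, h.cent _ (S.mul_mem (S.mul_mem (S.inv_mem hg) hx) hg) ?_, by
      change g * (g⁻¹ * x * g) * g⁻¹ = x
      group⟩
    intro e he
    have h1 := hc (g * e * g⁻¹) ⟨e, he, rfl⟩
    calc g⁻¹ * x * g * e = g⁻¹ * (x * (g * e * g⁻¹)) * g := by group
      _ = g⁻¹ * (g * e * g⁻¹ * x) * g := by rw [h1]
      _ = e * (g⁻¹ * x * g) := by group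
  · rw [hA]
    exact Subgroup.map_mono h.indu
  · intro P hP hp
    obtain ⟨y, hy, hs⟩ := h.syl (P.comap φ.toMonoidHom) (by
      intro x hx
      obtain ⟨z, hz, hzx⟩ := hP hx
      rwa [inj hzx] at hz) (hp.comap_of_injective _ inj)
    refine ⟨φ y, ⟨y, hy, rfl⟩, fun x hx => ?_⟩
    obtain ⟨z, rfl⟩ := φ.surjective x
    rw [hA, ← map_mul, ← map_inv, ← map_mul]
    exact ⟨_, hs z hx, rfl⟩
  · obtain ⟨H, hH, hne, hSH, hnot, hemb⟩ := h.spe
    refine ⟨H.map φ.toMonoidHom, Subgroup.map_mono hH, fun he => hne (Subgroup.map_injective inj he), ?_, ?_, ?_⟩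
    · rw [hA]; exact Subgroup.map_mono hSH
    · rw [hA, hI]
      intro hle
      exact hnot ((Subgroup.map_le_map_iff_of_injective inj).1 hle)
    · rintro _ ⟨y, hy, rfl⟩ hyH _ ⟨x, hx, rfl⟩ hconj ⟨k, hk⟩
      rw [hI]
      refine ⟨x, hemb y hy (fun hh => hyH ⟨y, hh, rfl⟩) x hx ?_ ⟨k, inj (by rw [map_pow, hk, map_one])⟩, rfl⟩
      obtain ⟨z, hz, hzx⟩ := hconj
      have : z = y * x * y⁻¹ := inj (by rw [hzx, map_mul, map_mul, map_inv])
      rwa [this] at hz

end conj

section chain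
variable {Ω : Type u} [Group Ω]

/-- `x` stabilizes the chain `A ≥ L₀ ≥ L₁ ≥ … ≥ 1` of invariant subgroups -/
def Stab {E : Subgroup Ω} (Γ : Subgroup (MulAut E)) (x : Ω) : Subgroup Ω → List (Subgroup Ω) → Prop
  | A, [] => ∀ a ∈ A, x * a * x⁻¹ * a⁻¹ = 1
  | A, B :: L => B ≤ A ∧ Inv Γ B ∧ (∀ a ∈ A, x * a * x⁻¹ * a⁻¹ ∈ B) ∧ Stab Γ x B L

/-- `γ` stabilizes the chain -/
def TC {E : Subgroup Ω} (γ : MulAut E) : Subgroup Ω → List (Subgroup Ω) → Prop
  | A, [] => Triv A ⊥ γ
  | A, B :: L => Triv A B γ ∧ TC γ B L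

/-- the chain is a descending chain of invariant subgroups -/
def Dsc {E : Subgroup Ω} (Γ : Subgroup (MulAut E)) : Subgroup Ω → List (Subgroup Ω) → Prop
  | A, [] => Inv Γ A
  | A, B :: L => Inv Γ A ∧ B ≤ A ∧ Dsc Γ B L

theorem Dsc.inv {E : Subgroup Ω} {Γ : Subgroup (MulAut E)} {A : Subgroup Ω} {L : List (Subgroup Ω)}
    (h : Dsc Γ A L) : Inv Γ A := by
  cases L with
  | nil => exact h
  | cons B L => exact h.1

theorem dsc_of_stab {E : Subgroup Ω} {Γ : Subgroup (MulAut E)} {x : Ω} {A : Subgroup Ω} {L : List (Subgroup Ω)}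
    (hA : Inv Γ A) (h : Stab Γ x A L) : Dsc Γ A L := by
  induction L generalizing A with
  | nil => exact hA
  | cons B L ih => exact ⟨hA, h.1, ih h.2.1 h.2.2.2⟩

theorem tc_one {E : Subgroup Ω} (A : Subgroup Ω) (L : List (Subgroup Ω)) : TC (1 : MulAut E) A L := by
  induction L generalizing A with
  | nil => exact triv_one _ _
  | cons B L ih => exact ⟨triv_one _ _, ih B⟩

theorem TC.mul {E : Subgroup Ω} {Γ : Subgroup (MulAut E)} {A : Subgroup Ω} {L : List (Subgroup Ω)} (hd : Dsc Γ A L)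
    {γ δ : MulAut E} (h1 : TC γ A L) (h2 : TC δ A L) : TC (γ * δ) A L := by
  induction L generalizing A with
  | nil => exact Triv.mul bot_le h1 h2
  | cons B L ih => exact ⟨h1.1.mul hd.2.1 h2.1, ih hd.2.2 h1.2 h2.2⟩

theorem TC.inv {E : Subgroup Ω} {Γ : Subgroup (MulAut E)} {A : Subgroup Ω} {L : List (Subgroup Ω)} (hd : Dsc Γ A L)
    {γ : MulAut E} (hg : γ ∈ Γ) (h1 : TC γ A L) : TC γ⁻¹ A L := by
  induction L generalizing A with
  | nil => exact Triv.inv hd hg h1
  | cons B L ih => exact ⟨h1.1.inv hd.1 hg, ih hd.2.2 h1.2⟩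

theorem inv_bot {E : Subgroup Ω} (Γ : Subgroup (MulAut E)) : Inv Γ (⊥ : Subgroup Ω) := ⟨bot_le, fun γ _ e he => by
  have h1 : e = 1 := Subtype.ext (Subgroup.mem_bot.1 he)
  rw [h1, map_one]
  exact (⊥ : Subgroup Ω).one_mem⟩

theorem inv_self {E : Subgroup Ω} (Γ : Subgroup (MulAut E)) : Inv Γ E := ⟨le_rfl, fun γ _ e _ => (γ e).2⟩

theorem TC.conj {E : Subgroup Ω} {Γ : Subgroup (MulAut E)} {A : Subgroup Ω} {L : List (Subgroup Ω)} (hd : Dsc Γ A L)
    {γ g : MulAut E} (hg : g ∈ Γ) (h1 : TC γ A L) : TC (g * γ * g⁻¹) A L := by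
  induction L generalizing A with
  | nil => exact Triv.conj hd (inv_bot Γ) hg h1
  | cons B L ih => exact ⟨h1.1.conj hd.1 hd.2.2.inv hg, ih hd.2.2 h1.2⟩

theorem TC.pow_mem {E : Subgroup Ω} {Γ : Subgroup (MulAut E)} {A : Subgroup Ω} {L : List (Subgroup Ω)}
    (hd : Dsc Γ A L) {γ : MulAut E} (h1 : TC γ A L) (n : ℕ) : TC (γ ^ n) A L := by
  induction n with
  | zero => rw [pow_zero]; exact tc_one A L
  | succ n ih => rw [pow_succ]; exact ih.mul hd h1

theorem TC.exists_pow {E : Subgroup Ω} {Γ : Subgroup (MulAut E)} {p : ℕ}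
    (hpow : ∀ {M : Subgroup Ω}, M ≤ E → ∃ k, Nat.card M = p ^ k) {A : Subgroup Ω}
    {L : List (Subgroup Ω)} (hd : Dsc Γ A L) {γ : MulAut E} (h1 : TC γ A L) : ∃ k, Fx A (γ ^ p ^ k) := by
  induction L generalizing A γ with
  | nil =>
    refine ⟨0, ?_⟩
    rw [pow_zero, pow_one]
    intro e he
    have := Subgroup.mem_bot.1 (h1 e he)
    exact Subtype.ext (mul_inv_eq_one.1 this)
  | cons B L ih =>
    obtain ⟨k, hk⟩ := ih hd.2.2 h1.2
    obtain ⟨j, hj⟩ := hpow hd.2.2.inv.1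
    have h2 : TC (γ ^ p ^ k) A (B :: L) := h1.pow_mem hd _
    have h3 := fx_step hk h2.1
    rw [← pow_mul, hj, ← pow_add] at h3
    exact ⟨_, h3⟩

/-- **(G1) for chains of arbitrary length** -/
theorem mem_of_stab {S E : Subgroup Ω} {p : ℕ} {Γ : Subgroup (MulAut E)} (h : Ess S E p Γ) {x : Ω} (hx : x ∈ S)
    (L : List (Subgroup Ω)) (hL : Stab Γ x E L) : x ∈ E := by
  have := h.fin
  have : Fact p.Prime := ⟨h.pp⟩
  have hd := dsc_of_stab (inv_self Γ) hL
  let K : Subgroup (MulAut E) :=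
    { carrier := {γ | γ ∈ Γ ∧ TC γ E L}
      one_mem' := ⟨Γ.one_mem, tc_one _ _⟩
      mul_mem' := fun {a b} ha hb => ⟨Γ.mul_mem ha.1 hb.1, ha.2.mul hd hb.2⟩
      inv_mem' := fun {a} ha => ⟨Γ.inv_mem ha.1, ha.2.inv hd ha.1⟩ }
  have hKΓ : K ≤ Γ := fun _ hγ => hγ.1
  have hKn : ∀ g ∈ Γ, ∀ γ ∈ K, g * γ * g⁻¹ ∈ K := fun g hg γ hγ =>
    ⟨Γ.mul_mem (Γ.mul_mem hg hγ.1) (Γ.inv_mem hg), hγ.2.conj hd hg⟩
  have hpow : ∀ {M : Subgroup Ω}, M ≤ E → ∃ k, Nat.card M = p ^ k := by
    intro M hM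
    have hMS : M ≤ S := hM.trans h.E_le
    have hfin : Finite M := Finite.of_injective _ (Subgroup.inclusion_injective hMS)
    exact (h.pgr.of_injective _ (Subgroup.inclusion_injective hMS)).exists_card_eq
  have hKp : IsPGroup p K := by
    rintro ⟨γ, hγ⟩
    obtain ⟨k, hk⟩ := hγ.2.exists_pow hpow hd
    exact ⟨k, Subtype.ext (MulEquiv.ext fun e => hk e e.2)⟩
  have hKS : K ≤ autInducedBy S E := by
    obtain ⟨g, hg, hs⟩ := h.syl K hKΓ hKp
    intro γ hγ
    have h1 := hKn _ (Γ.inv_mem hg) γ hγ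
    have h2 := hs _ h1
    have h3 : g * (g⁻¹ * γ * g⁻¹⁻¹) * g⁻¹ = γ := by group
    rwa [h3] at h2
  have hKI : K ≤ Inn E := by
    obtain ⟨H, hH, hne, hSH, -, hemb⟩ := h.spe
    obtain ⟨g, hgΓ, hgH⟩ := SetLike.exists_of_lt (lt_of_le_of_ne hH hne)
    intro γ hγ
    refine hemb g hgΓ hgH γ (hSH (hKS hγ)) (hSH (hKS (hKn g hgΓ γ hγ))) ?_
    obtain ⟨k, hk⟩ := hKp ⟨γ, hγ⟩
    exact ⟨k, congrArg Subtype.val hk⟩
  have hst : ∀ (A : Subgroup Ω) (L : List (Subgroup Ω)), Stab Γ x A L → ∀ a ∈ A, x * a * x⁻¹ ∈ A := by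
    intro A L hL a ha
    cases L with
    | nil =>
      have h1 := hL a ha
      rw [mul_inv_eq_one] at h1
      rwa [h1]
    | cons B L =>
      have h1 := A.mul_mem (hL.1 (hL.2.2.1 a ha)) ha
      rwa [inv_mul_cancel_right] at h1
  have hxE := hst E L hL
  have hxE' : ∀ a ∈ E, x⁻¹ * a * x ∈ E := by
    have : Finite E := Finite.of_injective _ (Subgroup.inclusion_injective h.E_le)
    intro a ha
    have hinj : Function.Injective (fun e : E => (⟨x * e * x⁻¹, hxE e e.2⟩ : E)) := by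
      intro e f hef
      have := congrArg Subtype.val hef
      exact Subtype.ext (mul_left_cancel (mul_right_cancel this))
    obtain ⟨e, he⟩ := (Finite.injective_iff_surjective.1 hinj) ⟨a, ha⟩
    have h1 : x * e * x⁻¹ = a := congrArg Subtype.val he
    rw [← h1, show x⁻¹ * (x * (e : Ω) * x⁻¹) * x = e by group]
    exact e.2
  let cx : MulAut E :=
    { toFun := fun e => ⟨x * e * x⁻¹, hxE e e.2⟩
      invFun := fun e => ⟨x⁻¹ * e * x, hxE' e e.2⟩
      left_inv := fun e => Subtype.ext (by simp [mul_assoc])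
      right_inv := fun e => Subtype.ext (by simp [mul_assoc])
      map_mul' := fun a b => Subtype.ext (by simp [mul_assoc]) }
  have hcx : ∀ e : E, ((cx e : E) : Ω) = x * e * x⁻¹ := fun e => rfl
  have htc : ∀ (A : Subgroup Ω) (L : List (Subgroup Ω)), Stab Γ x A L → TC cx A L := by
    intro A L
    induction L generalizing A with
    | nil =>
      intro hL e he
      have h1 := hL e he
      rw [hcx, h1]
      exact Subgroup.one_mem _
    | cons B L ih =>
      intro hL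
      exact ⟨fun e he => hL.2.2.1 e he, ih B hL.2.2.2⟩
  have hcxK : cx ∈ K := ⟨h.indu (Subgroup.subset_closure ⟨x, hx, hcx⟩), htc E L hL⟩
  obtain ⟨a, ha⟩ := hKI hcxK
  have h1 : (a : Ω)⁻¹ * x ∈ E := by
    refine h.cent _ (S.mul_mem (S.inv_mem (h.E_le a.2)) hx) fun e he => ?_
    have h2 := congrArg (fun γ : MulAut E => ((γ ⟨e, he⟩ : E) : Ω)) ha
    have h3 : (a : Ω) * e * (a : Ω)⁻¹ = x * e * x⁻¹ := h2
    have h4 : x * e = (a : Ω) * e * (a : Ω)⁻¹ * x := by rw [h3, inv_mul_cancel_right]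
    rw [mul_assoc, h4]
    group
  have h2 := E.mul_mem a.2 h1
  rwa [mul_inv_cancel_left] at h2

end chain

section child
variable {G : Type*} [Group G]

/-- Schreier generators of a subgroup with the index two parity rule -/
theorem schreier {H K C : Subgroup G} {T : Set G} (hH : H = Subgroup.closure T) (hK1 : K ≤ H)
    (hpar : ∀ x ∈ H, ∀ y ∈ H, (x * y ∈ K ↔ (x ∈ K ↔ y ∈ K))) {p : G}
    (hT : ∀ t ∈ T, (t ∈ K → t ∈ C ∧ p * t * p⁻¹ ∈ C) ∧ (t ∉ K → t * p⁻¹ ∈ C ∧ p * t ∈ C)) : K ≤ C := by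
  have key : ∀ x ∈ H, (x ∈ K → x ∈ C ∧ p * x * p⁻¹ ∈ C) ∧ (x ∉ K → x * p⁻¹ ∈ C ∧ p * x ∈ C) := by
    intro x hx
    rw [hH] at hx
    have hle : ∀ y, y ∈ Subgroup.closure T → y ∈ H := fun y hy => by rwa [hH]
    induction hx using Subgroup.closure_induction with
    | mem x hx => exact hT x hx
    | one =>
      refine ⟨fun _ => ⟨C.one_mem, by simp⟩, fun h => absurd K.one_mem h⟩
    | mul x y hx hy ix iy =>
      have hpxy := hpar x (hle x hx) y (hle y hy)
      by_cases h1 : x ∈ K <;> by_cases h2 : y ∈ K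
      · have h3 := ix.1 h1
        have h4 := iy.1 h2
        refine ⟨fun _ => ⟨C.mul_mem h3.1 h4.1, ?_⟩, fun h => absurd (K.mul_mem h1 h2) h⟩
        have := C.mul_mem h3.2 h4.2
        rwa [show p * x * p⁻¹ * (p * y * p⁻¹) = p * (x * y) * p⁻¹ by group] at this
      · have h3 := ix.1 h1
        have h4 := iy.2 h2
        refine ⟨fun h => absurd ((hpxy.1 h).1 h1) h2, fun _ => ⟨?_, ?_⟩⟩
        · rw [mul_assoc]; exact C.mul_mem h3.1 h4.1
        · have := C.mul_mem h3.2 h4.2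
          rwa [show p * x * p⁻¹ * (p * y) = p * (x * y) by group] at this
      · have h3 := ix.2 h1
        have h4 := iy.1 h2
        refine ⟨fun h => absurd ((hpxy.1 h).2 h2) h1, fun _ => ⟨?_, ?_⟩⟩
        · have := C.mul_mem h3.1 h4.2
          rwa [show x * p⁻¹ * (p * y * p⁻¹) = x * y * p⁻¹ by group] at this
        · rw [← mul_assoc]; exact C.mul_mem h3.2 h4.1
      · have h3 := ix.2 h1
        have h4 := iy.2 h2
        refine ⟨fun _ => ⟨?_, ?_⟩, fun h => absurd (hpxy.2 (iff_of_false h1 h2)) h⟩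
        · have := C.mul_mem h3.1 h4.2
          rwa [show x * p⁻¹ * (p * y) = x * y by group] at this
        · have := C.mul_mem h3.2 h4.1
          rwa [show p * x * (y * p⁻¹) = p * (x * y) * p⁻¹ by group] at this
    | inv x hx ix =>
      by_cases h1 : x ∈ K
      · have h3 := ix.1 h1
        refine ⟨fun _ => ⟨C.inv_mem h3.1, ?_⟩, fun h => absurd (K.inv_mem h1) h⟩
        have := C.inv_mem h3.2
        rwa [show (p * x * p⁻¹)⁻¹ = p * x⁻¹ * p⁻¹ by group] at this
      · have h3 := ix.2 h1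
        refine ⟨fun h => absurd (K.inv_mem_iff.1 h) h1, fun _ => ⟨?_, ?_⟩⟩
        · have := C.inv_mem h3.2
          rwa [mul_inv_rev] at this
        · have := C.inv_mem h3.1
          rwa [mul_inv_rev, inv_inv] at this
  exact fun x hx => ((key x (hK1 hx)).1 hx).1

/-- a proper subgroup of a finite `2`-group lies in a subgroup of index two -/
theorem exists_parity [Finite G] (hG : IsPGroup 2 G) {E H : Subgroup G} (hEH : E ≤ H) (hne : E ≠ H) :
    ∃ K : Subgroup G, E ≤ K ∧ K ≤ H ∧ K ≠ H ∧ ∀ x ∈ H, ∀ y ∈ H, (x * y ∈ K ↔ (x ∈ K ↔ y ∈ K)) := by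
  have : Fact (Nat.Prime 2) := ⟨Nat.prime_two⟩
  have hlt : E.subgroupOf H ≠ ⊤ := by
    intro h
    rw [Subgroup.subgroupOf_eq_top] at h
    exact hne (le_antisymm hEH h)
  obtain ⟨M, hM, hle⟩ := (eq_top_or_exists_le_coatom (E.subgroupOf H)).resolve_left hlt
  have hidx := Lib.FrattiniPGroup.index_of_coatom (hG.to_subgroup H) hM
  refine ⟨M.map H.subtype, ?_, ?_, ?_, ?_⟩
  · intro x hx
    exact ⟨⟨x, hEH hx⟩, hle (Subgroup.mem_subgroupOf.2 hx), rfl⟩
  · rintro _ ⟨x, -, rfl⟩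
    exact x.2
  · intro h
    apply hM.1
    rw [eq_top_iff]
    rintro x -
    have : (x : G) ∈ M.map H.subtype := by rw [h]; exact x.2
    obtain ⟨y, hy, hyx⟩ := this
    rwa [← Subtype.ext hyx]
  · intro x hx y hy
    have hm : ∀ z (hz : z ∈ H), z ∈ M.map H.subtype ↔ (⟨z, hz⟩ : H) ∈ M := by
      intro z hz
      constructor
      · rintro ⟨w, hw, hwz⟩
        have : w = ⟨z, hz⟩ := Subtype.ext hwz
        rwa [← this]
      · intro h
        exact ⟨_, h, rfl⟩
    rw [hm _ (H.mul_mem hx hy), hm _ hx, hm _ hy]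
    exact Subgroup.mul_mem_iff_of_index_two hidx (a := ⟨x, hx⟩) (b := ⟨y, hy⟩)

end child

section frat

theorem card_closure_comm {Q : Type*} [CommGroup Q] [Finite Q] (hsq : ∀ x : Q, x * x = 1) (l : List Q) :
    Nat.card (Subgroup.closure {x | x ∈ l}) ≤ 2 ^ l.length := by
  induction l with
  | nil =>
    have : {x : Q | x ∈ ([] : List Q)} = ∅ := by ext; simp
    rw [this, Subgroup.closure_empty]
    simp
  | cons a l ih =>
    have hle : Subgroup.closure {x | x ∈ l} ≤ Subgroup.closure {x | x ∈ a :: l} :=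
      Subgroup.closure_mono fun x hx => List.mem_cons_of_mem _ hx
    have ha : a ∈ Subgroup.closure {x | x ∈ a :: l} := Subgroup.subset_closure List.mem_cons_self
    have hcase : ∀ x ∈ Subgroup.closure {x | x ∈ a :: l},
        x ∈ Subgroup.closure {x | x ∈ l} ∨ a * x ∈ Subgroup.closure {x | x ∈ l} := by
      intro x hx
      induction hx using Subgroup.closure_induction with
      | mem x hx =>
        rcases List.mem_cons.1 hx with rfl | hx
        · right; rw [hsq]; exact Subgroup.one_mem _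
        · left; exact Subgroup.subset_closure hx
      | one => left; exact Subgroup.one_mem _
      | mul x y _ _ ix iy =>
        rcases ix with ix | ix <;> rcases iy with iy | iy
        · left; exact Subgroup.mul_mem _ ix iy
        · right; rw [mul_left_comm]; exact Subgroup.mul_mem _ ix iy
        · right; rw [← mul_assoc]; exact Subgroup.mul_mem _ ix iy
        · left
          have := Subgroup.mul_mem _ ix iy
          rwa [show a * x * (a * y) = (a * a) * (x * y) by rw [mul_mul_mul_comm], hsq, one_mul] at this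
      | inv x _ ix =>
        rcases ix with ix | ix
        · left; exact Subgroup.inv_mem _ ix
        · right
          have := Subgroup.inv_mem _ ix
          rwa [mul_inv, inv_eq_of_mul_eq_one_right (hsq a)] at this
    let f : (Subgroup.closure {x | x ∈ l}) × Bool → Subgroup.closure {x | x ∈ a :: l} := fun z =>
      ⟨(if z.2 then a else 1) * z.1, Subgroup.mul_mem _ (by split_ifs; exacts [ha, Subgroup.one_mem _]) (hle z.1.2)⟩
    have hf : Function.Surjective f := by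
      rintro ⟨x, hx⟩
      rcases hcase x hx with h | h
      · exact ⟨(⟨x, h⟩, false), Subtype.ext (by simp [f])⟩
      · refine ⟨(⟨a * x, h⟩, true), Subtype.ext ?_⟩
        simp only [f, if_true]
        rw [← mul_assoc, hsq, one_mul]
    have h1 := Nat.card_le_card_of_surjective f hf
    rw [Nat.card_prod, Nat.card_eq_fintype_card (α := Bool), Fintype.card_bool] at h1
    rw [List.length_cons, pow_succ]
    exact h1.trans (Nat.mul_le_mul_right 2 ih)

/-- a finite `2`-group generated by `r` elements has `|G : Φ(G)| ≤ 2^r` -/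
theorem frattini_index_le {G : Type*} [Group G] [Finite G] (hG : IsPGroup 2 G) (l : List G)
    (hl : Subgroup.closure {x | x ∈ l} = ⊤) : (frattini G).index ≤ 2 ^ l.length := by
  have : Fact (Nat.Prime 2) := ⟨Nat.prime_two⟩
  have hcomm : ∀ a b : G ⧸ frattini G, a * b = b * a := by
    intro a b
    obtain ⟨a, rfl⟩ := QuotientGroup.mk_surjective a
    obtain ⟨b, rfl⟩ := QuotientGroup.mk_surjective b
    have h1 := Lib.FrattiniPGroup.commutator_mem_frattini hG a⁻¹ b⁻¹
    rw [← QuotientGroup.mk_mul, ← QuotientGroup.mk_mul, eq_comm, QuotientGroup.eq]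
    have h2 : (b * a)⁻¹ * (a * b) = ⁅a⁻¹, b⁻¹⁆ := by
      rw [commutatorElement_def]; group
    rw [h2]
    exact h1
  let _ : CommGroup (G ⧸ frattini G) := { (inferInstance : Group (G ⧸ frattini G)) with mul_comm := hcomm }
  have hsq : ∀ x : G ⧸ frattini G, x * x = 1 := by
    intro x
    obtain ⟨x, rfl⟩ := QuotientGroup.mk_surjective x
    rw [← QuotientGroup.mk_mul, QuotientGroup.eq_one_iff, ← pow_two]
    exact Lib.FrattiniPGroup.pow_mem_frattini hG x
  have h1 := card_closure_comm hsq (l.map (QuotientGroup.mk (s := frattini G)))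
  have h2 : Subgroup.closure {x | x ∈ l.map (QuotientGroup.mk (s := frattini G))} = ⊤ := by
    have h3 : {x | x ∈ l.map (QuotientGroup.mk (s := frattini G))} =
        (QuotientGroup.mk' (frattini G)) '' {x | x ∈ l} := by
      ext x
      simp
    rw [h3, ← MonoidHom.map_closure, hl, ← MonoidHom.range_eq_map]
    exact MonoidHom.range_eq_top.2 (QuotientGroup.mk'_surjective _)
  rw [h2, Subgroup.card_top, List.length_map] at h1
  exact h1

end frat

end Cfsg.Agent.H782.TF
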