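import Cfsg.Agent.H782.TF.Node

/-!
# S5262, q = 2: kills by chains of characteristic subgroups are sound (helper782)
-/

set_option autoImplicit false

namespace Cfsg.Agent.H782.TF

open Cfsg Cfsg.FusionSystem Cfsg.Agent.H756.PU

universe u

variable {U : Type u} [Group U] {γ : ℕ → U}

/-! ### multiplication of codes, enumeration -/

theorem mulc_aux (h : Cod γ) (y : ℕ) : ∀ (l : List Gn) {x : ℕ}, x < 4096 →
    @List.rec Gn (fun _ => ℕ → ℕ) (fun x => x)
      (fun g _ ih x => ih (cond (Nat.beq (Nat.land y (mk g)) 0) x (rm g x))) l x < 4096 ∧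
    val γ (@List.rec Gn (fun _ => ℕ → ℕ) (fun x => x)
      (fun g _ ih x => ih (cond (Nat.beq (Nat.land y (mk g)) 0) x (rm g x))) l x) =
      val γ x * (l.map fun g => if y.testBit (gi g) then γ (gi g) else 1).prod
  | [], x, hx => ⟨hx, by simp⟩
  | g :: l, x, hx => by
    by_cases hb : y &&& 2 ^ gi g = 0
    · have h0 : cond (Nat.beq (Nat.land y (mk g)) 0) x (rm g x) = x := by
        rw [mk_eq, show Nat.beq (Nat.land y (2 ^ gi g)) 0 = true from beq_iff.2 hb]; rfl
      have h1 := mulc_aux h y l hx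
      have h2 : y.testBit (gi g) = false := land_pow_eq_zero.1 hb
      simp only [h0, List.map_cons, List.prod_cons, h2, Bool.false_eq_true, if_false, one_mul]
      exact h1
    · have h0 : cond (Nat.beq (Nat.land y (mk g)) 0) x (rm g x) = rm g x := by
        rw [mk_eq, show Nat.beq (Nat.land y (2 ^ gi g)) 0 = false from beq_false_iff.2 hb]; rfl
      have h1 := mulc_aux h y l (rm_lt g x)
      have h2 : y.testBit (gi g) = true := by
        by_contra h3
        rw [Bool.not_eq_true] at h3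
        exact hb (land_pow_eq_zero.2 h3)
      simp only [h0, List.map_cons, List.prod_cons, h2, if_true]
      refine ⟨h1.1, ?_⟩
      rw [h1.2, val_rm h.toRel g x hx, mul_assoc]

theorem mulc_val (h : Cod γ) {x : ℕ} (hx : x < 4096) (y : ℕ) :
    mulc x y < 4096 ∧ val γ (mulc x y) = val γ x * val γ y := by
  have h1 := mulc_aux h y [.a0, .a1, .a2, .a3, .a4, .a5, .a6, .a7, .a8, .a9, .a10, .a11] hx
  refine ⟨h1.1, h1.2.trans ?_⟩
  congr 1
  simp only [List.map_cons, List.map_nil, List.prod_cons, List.prod_nil, val, vc, one_mul, mul_one, mul_assoc]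
  rfl

theorem enum_sound (h : Cod γ) {A : List Ent} (hv : valid A = true) {k : ℕ → Bool} {x : ℕ} (hx : x < 4096)
    (he : enum A k x = true) {y : U} (hy : y ∈ W γ A) : ∃ z < 4096, val γ z = val γ x * y ∧ k z = true := by
  induction A generalizing x y with
  | nil =>
    rw [W_nil, Subgroup.mem_bot] at hy
    exact ⟨x, hx, by rw [hy, mul_one], he⟩
  | cons e A ih =>
    change cond (enum A k x) (enum A k (ap e.w x)) false = true at he
    rw [cond_false_eq_true] at he
    obtain ⟨-, -, -, -, -, h6⟩ := valid_cons.1 hv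
    rcases W_cons_cases (top_of_valid h hv) hy with h1 | ⟨b, hb, rfl⟩
    · exact ih h6 hx he.1 h1
    · obtain ⟨z, hz, h2, h3⟩ := ih h6 (ap_lt e.w hx) he.2 hb
      exact ⟨z, hz, by rw [h2, h.ap _ hx, mul_assoc], h3⟩

/-! ### commuting modulo a subgroup -/

/-- `x` and `y` commute modulo `N` -/
def Cm (N : Subgroup U) (x y : U) : Prop := x⁻¹ * y⁻¹ * x * y ∈ N

/-- `E` normalizes `N` -/
def Nm (E N : Subgroup U) : Prop := ∀ e ∈ E, ∀ n ∈ N, e * n * e⁻¹ ∈ N

theorem Nm.conj' {E N : Subgroup U} (h : Nm E N) {e n : U} (he : e ∈ E) (hn : n ∈ N) : e⁻¹ * n * e ∈ N := by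
  have := h e⁻¹ (E.inv_mem he) n hn
  rwa [inv_inv] at this

theorem cm_closure {E N : Subgroup U} (hN : Nm E N) {X Y : Set U} (hX : X ⊆ E) (hY : Y ⊆ E)
    (h : ∀ x ∈ X, ∀ y ∈ Y, Cm N x y) : ∀ x ∈ Subgroup.closure X, ∀ y ∈ Subgroup.closure Y, Cm N x y := by
  have hXE : Subgroup.closure X ≤ E := (Subgroup.closure_le _).2 hX
  have hYE : Subgroup.closure Y ≤ E := (Subgroup.closure_le _).2 hY
  have h1 : ∀ y ∈ Y, ∀ x ∈ Subgroup.closure X, Cm N x y := by
    intro y hy x hx
    induction hx using Subgroup.closure_induction with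
    | mem x hx => exact h x hx y hy
    | one => simp [Cm]
    | mul a b ha hb ia ib =>
      have h2 := N.mul_mem (hN.conj' (hXE hb) ia) ib
      unfold Cm
      rwa [show b⁻¹ * (a⁻¹ * y⁻¹ * a * y) * b * (b⁻¹ * y⁻¹ * b * y) = (a * b)⁻¹ * y⁻¹ * (a * b) * y by group] at h2
    | inv a ha ia =>
      have h2 := hN a (hXE ha) _ (N.inv_mem ia)
      unfold Cm
      rwa [show a * (a⁻¹ * y⁻¹ * a * y)⁻¹ * a⁻¹ = a⁻¹⁻¹ * y⁻¹ * a⁻¹ * y by group] at h2
  intro x hx y hy
  induction hy using Subgroup.closure_induction with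
  | mem y hy => exact h1 y hy x hx
  | one => simp [Cm]
  | mul a b ha hb ia ib =>
    have h2 := N.mul_mem ib (hN.conj' (hYE hb) ia)
    unfold Cm
    rwa [show x⁻¹ * b⁻¹ * x * b * (b⁻¹ * (x⁻¹ * a⁻¹ * x * a) * b) = x⁻¹ * (a * b)⁻¹ * x * (a * b) by group] at h2
  | inv a ha ia =>
    have h2 := hN a (hYE ha) _ (N.inv_mem ia)
    unfold Cm
    rwa [show a * (x⁻¹ * a⁻¹ * x * a)⁻¹ * a⁻¹ = x⁻¹ * a⁻¹⁻¹ * x * a⁻¹ by group] at h2

/-- the generators of `W(P)` -/
def gs (γ : ℕ → U) (P : List Ent) : Set U := {x | ∃ e ∈ P, x = wv γ e.w}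

theorem cmm_sound (h : Cod γ) {E : Subgroup U} {A B R : List Ent} (hA : W γ A ≤ E) (hB : W γ B ≤ E)
    (hN : Nm E (W γ R)) (hv : valid R = true) (hc : cmm A B R = true) :
    ∀ x ∈ W γ A, ∀ y ∈ W γ B, Cm (W γ R) x y := by
  change allL _ A = true at hc
  rw [allL_iff] at hc
  refine cm_closure hN (X := gs γ A) (Y := gs γ B) ((Subgroup.closure_le _).1 hA) ((Subgroup.closure_le _).1 hB) ?_
  rintro _ ⟨e, he, rfl⟩ _ ⟨f, hf, rfl⟩
  have h1 := hc e he
  rw [allL_iff] at h1
  have h2 := beq_iff.1 (h1 f hf)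
  have l1 : ap e.w 0 < 4096 := ap_lt _ (by norm_num)
  have l2 : ap f.w 0 < 4096 := ap_lt _ (by norm_num)
  have h3 := (coset_iff h hv (ap_lt e.w l2) (ap_lt f.w l1)).2 h2.symm
  rw [h.ap _ l1, h.ap _ l2, h.ap0, h.ap0] at h3
  unfold Cm
  rwa [show (wv γ f.w * wv γ e.w)⁻¹ * (wv γ e.w * wv γ f.w) =
    (wv γ e.w)⁻¹ * (wv γ f.w)⁻¹ * wv γ e.w * wv γ f.w by group] at h3

theorem valid_inv {P : List Ent} (hv : valid P = true) : ∀ e ∈ P, invok e.w e.v = true := by
  induction P with
  | nil => intro e he; simp at he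
  | cons e P ih =>
    obtain ⟨h1, h2, h3, h4, h5, h6⟩ := valid_cons.1 hv
    intro e' he'
    rcases List.mem_cons.1 he' with rfl | he'
    · exact h2
    · exact ih h6 e' he'

theorem nrm_sound (h : Cod γ) {P R : List Ent} (hP : valid P = true) (hc : nrm P R = true) :
    Nm (W γ P) (W γ R) := by
  have := h.finite
  change allL _ P = true at hc
  rw [allL_iff] at hc
  have h1 : ∀ e ∈ P, ∀ n ∈ W γ R, wv γ e.w * n * (wv γ e.w)⁻¹ ∈ W γ R := by
    intro e he n hn
    have h1 := hc e he
    rw [allL_iff] at h1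
    rw [W] at hn
    induction hn using Subgroup.closure_induction with
    | mem x hx =>
      obtain ⟨r, hr, rfl⟩ := hx
      have h2 := mem_of_sift h (ap_lt _ (ap_lt _ (ap_lt _ (by norm_num)))) (beq_iff.1 (h1 r hr))
      rwa [h.ap _ (ap_lt _ (ap_lt _ (by norm_num))), h.ap _ (ap_lt _ (by norm_num)), h.ap0,
        h.inv (valid_inv hP e he)] at h2
    | one => simp
    | mul x y _ _ ix iy =>
      have := Subgroup.mul_mem _ ix iy
      rwa [show wv γ e.w * x * (wv γ e.w)⁻¹ * (wv γ e.w * y * (wv γ e.w)⁻¹) = wv γ e.w * (x * y) * (wv γ e.w)⁻¹ by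
        group] at this
    | inv x _ ix =>
      have := Subgroup.inv_mem _ ix
      rwa [show (wv γ e.w * x * (wv γ e.w)⁻¹)⁻¹ = wv γ e.w * x⁻¹ * (wv γ e.w)⁻¹ by group] at this
  have h2 : W γ P ≤ Subgroup.normalizer (W γ R : Set U) := by
    rw [W, Subgroup.closure_le]
    rintro _ ⟨e, he, rfl⟩
    exact mem_normalizer_of_maps (h1 e he)
  intro e he n hn
  exact (Subgroup.mem_normalizer_iff.1 (h2 he) n).1 hn

/-! ### invariant subgroups -/

theorem nm_of_inv {E M : Subgroup U} {Γ : Subgroup (MulAut E)} {S : Subgroup U} {p : ℕ} (he : Ess S E p Γ)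
    (hM : Inv Γ M) : Nm E M := by
  intro e heE n hn
  have h1 : MulAut.conj (⟨e, heE⟩ : E) ∈ Γ :=
    he.indu (Subgroup.subset_closure ⟨e, he.E_le heE, fun x => rfl⟩)
  exact hM.2 _ h1 ⟨n, hM.1 hn⟩ hn

theorem inv_closure {E : Subgroup U} {Γ : Subgroup (MulAut E)} {T : Set U} (hT : T ⊆ E)
    (hinv : ∀ γ ∈ Γ, ∀ e : E, (e : U) ∈ T → ((γ e : E) : U) ∈ T) : Inv Γ (Subgroup.closure T) := by
  refine ⟨(Subgroup.closure_le _).2 hT, fun δ hδ e he => ?_⟩
  have key : ∀ y (_ : y ∈ Subgroup.closure T) (hy : y ∈ E), ((δ ⟨y, hy⟩ : E) : U) ∈ Subgroup.closure T := by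
    intro y hy0
    induction hy0 using Subgroup.closure_induction with
    | mem y hy => intro hyE; exact Subgroup.subset_closure (hinv δ hδ ⟨y, hyE⟩ hy)
    | one =>
      intro hy
      rw [show (⟨1, hy⟩ : E) = 1 from rfl, map_one]
      exact Subgroup.one_mem _
    | mul y z hy hz iy iz =>
      intro hyz
      have hy' : y ∈ E := (Subgroup.closure_le _).2 hT hy
      have hz' : z ∈ E := (Subgroup.closure_le _).2 hT hz
      rw [show (⟨y * z, hyz⟩ : E) = ⟨y, hy'⟩ * ⟨z, hz'⟩ from rfl, map_mul]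
      exact Subgroup.mul_mem _ (iy hy') (iz hz')
    | inv y hy iy =>
      intro hyz
      have hy' : y ∈ E := (Subgroup.closure_le _).2 hT hy
      rw [show (⟨y⁻¹, hyz⟩ : E) = ⟨y, hy'⟩⁻¹ from rfl, map_inv]
      exact Subgroup.inv_mem _ (iy hy')
  exact key e he e.2

/-- a verified invariant subgroup -/
def Ok {E : Subgroup U} (Γ : Subgroup (MulAut E)) (γ : ℕ → U) (R : List Ent) : Prop :=
  valid R = true ∧ Inv Γ (W γ R)

theorem leq_sound (h : Cod γ) {R A : List Ent} (hl : leq R A = true) : W γ R ≤ W γ A := by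
  change allL _ R = true at hl
  rw [allL_iff] at hl
  rw [W, Subgroup.closure_le]
  rintro _ ⟨e, he, rfl⟩
  exact wv_mem_of_sift h (beq_iff.1 (hl e he))

theorem cent_sound (h : Cod γ) {E : Subgroup U} {Γ : Subgroup (MulAut E)} (he : Ess (⊤ : Subgroup U) E 2 Γ)
    {A0 A B R : List Ent} (h0 : Ok Γ γ A0) (hA : Ok Γ γ A) (hB : Ok Γ γ B) (hc : centok A0 A B R = true) :
    Ok Γ γ R := by
  change cond _ (cond _ (cond _ _ false) false) false = true at hc
  rw [cond_false_eq_true, cond_false_eq_true, cond_false_eq_true] at hc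
  obtain ⟨hv, hl, hcm, hen⟩ := hc
  have hNB := nm_of_inv he hB.2
  have hR0 := leq_sound h hl
  have key : ∀ x : U, x ∈ W γ R ↔ x ∈ W γ A0 ∧ ∀ f ∈ W γ A, Cm (W γ B) x f := by
    intro x
    constructor
    · intro hx
      exact ⟨hR0 hx, cmm_sound h (hR0.trans h0.2.1) hA.2.1 hNB hB.1 hcm x hx⟩
    · rintro ⟨hx, hx2⟩
      obtain ⟨z, hz, hz1, hz2⟩ := enum_sound h h0.1 (x := 0) (by norm_num) hen hx
      rw [val_zero, one_mul] at hz1
      cases hs : Nat.beq (sift R z) 0 with
      | true =>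
        rw [← hz1]
        exact mem_of_sift h hz (beq_iff.1 hs)
      | false =>
        rw [hs] at hz2
        change anyL _ A = true at hz2
        rw [anyL_iff] at hz2
        obtain ⟨f, hf, hf2⟩ := hz2
        exfalso
        have h3 := hx2 _ (mem_W hf)
        have lf : ap f.w 0 < 4096 := ap_lt _ (by norm_num)
        have h4 := mulc_val h lf z
        have h5 := (coset_iff h hB.1 h4.1 (ap_lt f.w hz)).1 (by
          rw [h4.2, h.ap _ hz, h.ap0, hz1]
          unfold Cm at h3
          rwa [show (wv γ f.w * x)⁻¹ * (x * wv γ f.w) = x⁻¹ * (wv γ f.w)⁻¹ * x * wv γ f.w by group])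
        rw [show Nat.beq (sift B (ap f.w z)) (sift B (mulc (ap f.w 0) z)) = true from beq_iff.2 h5.symm] at hf2
        exact absurd hf2 (by simp)
  refine ⟨hv, hR0.trans h0.2.1, fun δ hδ e heR => ?_⟩
  rw [key] at heR ⊢
  refine ⟨h0.2.2 δ hδ e heR.1, fun f hf => ?_⟩
  have hfE := hA.2.1 hf
  have h1 := hA.2.2 δ⁻¹ (Γ.inv_mem hδ) ⟨f, hfE⟩ hf
  have h2 := heR.2 _ h1
  have h3 := hB.2.2 δ hδ (e⁻¹ * (δ⁻¹ ⟨f, hfE⟩)⁻¹ * e * (δ⁻¹ ⟨f, hfE⟩)) h2
  rw [map_mul, map_mul, map_mul, map_inv, map_inv, MulAut.apply_inv_self] at h3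
  exact h3

theorem comm_sound (h : Cod γ) {P : List Ent} (hP : valid P = true) {Γ : Subgroup (MulAut (W γ P))}
    {A B R : List Ent} {L : List Gv} (hA : Ok Γ γ A) (hB : Ok Γ γ B) (hc : commok P A B R L = true) :
    Ok Γ γ R := by
  change cond _ (cond _ (cond _ _ false) false) false = true at hc
  rw [cond_false_eq_true, cond_false_eq_true, cond_false_eq_true] at hc
  obtain ⟨hv, hn, hcm, hL⟩ := hc
  have hN := nrm_sound h hP hn
  have hcc := cmm_sound h hA.2.1 hB.2.1 hN hv hcm
  let T : Set U := {z | ∃ x ∈ W γ A, ∃ y ∈ W γ B, z = x * y * x⁻¹ * y⁻¹}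
  have hRT : W γ R = Subgroup.closure T := by
    apply le_antisymm
    · have h1 : ∀ (R : List Ent) (L : List Gv), comL A B R L = true → ∀ r ∈ R, wv γ r.w ∈ T := by
        intro R
        induction R with
        | nil => intro L _ r hr; simp at hr
        | cons r R ih =>
          intro L hL
          cases L with
          | nil => exact absurd hL (by simp [comL])
          | cons q L =>
            change cond _ (cond _ (cond _ (comL A B R L) false) false) false = true at hL
            rw [cond_false_eq_true, cond_false_eq_true, cond_false_eq_true, beq_iff, beq_iff, beq_iff] at hL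
            obtain ⟨h1, h2, h3, h4⟩ := hL
            intro r' hr'
            rcases List.mem_cons.1 hr' with rfl | hr'
            · refine ⟨_, wv_mem_of_sift h h1, _, wv_mem_of_sift h h2, ?_⟩
              have h5 := congrArg (val γ) h3
              rw [h.ap _ (ap_lt _ (ap_lt _ (by norm_num))), h.ap _ (ap_lt _ (by norm_num)), h.ap0,
                h.ap _ (ap_lt _ (by norm_num)), h.ap0] at h5
              rw [← h5]
              group
            · exact ih L h4 r' hr'
      rw [W, Subgroup.closure_le]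
      rintro _ ⟨r, hr, rfl⟩
      exact Subgroup.subset_closure (h1 R L hL r hr)
    · rw [Subgroup.closure_le]
      rintro _ ⟨x, hx, y, hy, rfl⟩
      have h1 := hcc x⁻¹ (Subgroup.inv_mem _ hx) y⁻¹ (Subgroup.inv_mem _ hy)
      unfold Cm at h1
      rwa [inv_inv, inv_inv] at h1
  refine ⟨hv, ?_⟩
  rw [hRT]
  refine inv_closure ?_ ?_
  · rintro _ ⟨x, hx, y, hy, rfl⟩
    have hx' := hA.2.1 hx
    have hy' := hB.2.1 hy
    exact Subgroup.mul_mem _ (Subgroup.mul_mem _ (Subgroup.mul_mem _ hx' hy') (Subgroup.inv_mem _ hx'))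
      (Subgroup.inv_mem _ hy')
  · rintro δ hδ e ⟨x, hx, y, hy, hxy⟩
    have hx' := hA.2.1 hx
    have hy' := hB.2.1 hy
    refine ⟨_, hA.2.2 δ hδ ⟨x, hx'⟩ hx, _, hB.2.2 δ hδ ⟨y, hy'⟩ hy, ?_⟩
    have h1 : e = ⟨x, hx'⟩ * ⟨y, hy'⟩ * ⟨x, hx'⟩⁻¹ * ⟨y, hy'⟩⁻¹ := Subtype.ext hxy
    rw [h1, map_mul, map_mul, map_mul, map_inv, map_inv]
    rfl

theorem sqs_val (h : Cod γ) {A : List Ent} (q : List (List Gn))
    (hq : ∀ w ∈ q, sift A (ap w 0) = 0) {x : ℕ} (hx : x < 4096) :
    ∃ b ∈ Subgroup.closure {z | ∃ x ∈ W γ A, z = x * x}, val γ (sqs q x) = val γ x * b := by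
  induction q generalizing x with
  | nil => exact ⟨1, Subgroup.one_mem _, by rw [mul_one]; rfl⟩
  | cons w q ih =>
    obtain ⟨b, hb, h1⟩ := ih (fun w hw => hq w (List.mem_cons_of_mem _ hw)) (ap_lt w (ap_lt w hx))
    refine ⟨wv γ w * wv γ w * b, Subgroup.mul_mem _ (Subgroup.subset_closure
      ⟨_, wv_mem_of_sift h (hq w List.mem_cons_self), rfl⟩) hb, ?_⟩
    rw [show sqs (w :: q) x = sqs q (ap w (ap w x)) from rfl, h1, h.ap _ (ap_lt _ hx), h.ap _ hx]
    simp only [mul_assoc]

theorem phi_sound (h : Cod γ) {P : List Ent} (hP : valid P = true) {Γ : Subgroup (MulAut (W γ P))}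
    {A R : List Ent} {L : List (List (List Gn))} (hA : Ok Γ γ A) (hc : phiok P A R L = true) : Ok Γ γ R := by
  change cond _ (cond _ (cond _ (cond _ _ false) false) false) false = true at hc
  rw [cond_false_eq_true, cond_false_eq_true, cond_false_eq_true, cond_false_eq_true, allL_iff] at hc
  obtain ⟨hv, hn, hcm, hsq, hL⟩ := hc
  have hN := nrm_sound h hP hn
  have hcc := cmm_sound h hA.2.1 hA.2.1 hN hv hcm
  let T : Set U := {z | ∃ x ∈ W γ A, z = x * x}
  have hRT : W γ R = Subgroup.closure T := by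
    apply le_antisymm
    · have h1 : ∀ (R : List Ent) (L : List (List (List Gn))), sqL A R L = true →
          ∀ r ∈ R, wv γ r.w ∈ Subgroup.closure T := by
        intro R
        induction R with
        | nil => intro L _ r hr; simp at hr
        | cons r R ih =>
          intro L hL
          cases L with
          | nil => exact absurd hL (by simp [sqL])
          | cons q L =>
            change cond _ (cond _ (sqL A R L) false) false = true at hL
            rw [cond_false_eq_true, cond_false_eq_true, allL_iff, beq_iff] at hL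
            obtain ⟨h1, h2, h3⟩ := hL
            intro r' hr'
            rcases List.mem_cons.1 hr' with rfl | hr'
            · obtain ⟨b, hb, h5⟩ := sqs_val h q (fun w hw => beq_iff.1 (h1 w hw)) (x := 0) (by norm_num)
              rw [h2, val_zero, one_mul, h.ap0] at h5
              rw [h5]
              exact hb
            · exact ih L h3 r' hr'
      rw [W, Subgroup.closure_le]
      rintro _ ⟨r, hr, rfl⟩
      exact h1 R L hL r hr
    · rw [Subgroup.closure_le]
      rintro _ ⟨x, hx, rfl⟩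
      have hAP : W γ A ≤ W γ P := hA.2.1
      have hle : ∀ y, y ∈ Subgroup.closure (gs γ A) → y ∈ W γ A := fun y hy => hy
      change x ∈ Subgroup.closure (gs γ A) at hx
      change x * x ∈ W γ R
      induction hx using Subgroup.closure_induction with
      | mem x hx =>
        obtain ⟨e, he, rfl⟩ := hx
        have h2 := mem_of_sift h (ap_lt _ (ap_lt _ (by norm_num))) (beq_iff.1 (hsq e he))
        rwa [h.ap _ (ap_lt _ (by norm_num)), h.ap0] at h2
      | one => rw [mul_one]; exact Subgroup.one_mem _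
      | mul x y hx hy ix iy =>
        have h1 := hcc x (hle x hx) y⁻¹ (Subgroup.inv_mem _ (hle y hy))
        unfold Cm at h1
        rw [show x * y * (x * y) = x * x * (x⁻¹ * y⁻¹⁻¹ * x * y⁻¹) * (y * y) by group]
        exact Subgroup.mul_mem _ (Subgroup.mul_mem _ ix h1) iy
      | inv x hx ix =>
        have := Subgroup.inv_mem _ ix
        rwa [mul_inv_rev] at this
  refine ⟨hv, ?_⟩
  rw [hRT]
  refine inv_closure ?_ ?_
  · rintro _ ⟨x, hx, rfl⟩
    have hx' := hA.2.1 hx
    exact Subgroup.mul_mem _ hx' hx'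
  · rintro δ hδ e ⟨x, hx, hxy⟩
    have hx' := hA.2.1 hx
    refine ⟨_, hA.2.2 δ hδ ⟨x, hx'⟩ hx, ?_⟩
    have h1 : e = ⟨x, hx'⟩ * ⟨x, hx'⟩ := Subtype.ext hxy
    rw [h1, map_mul]
    rfl

theorem aps_om (h : Cod γ) {A : List Ent} (q : List (List Gn))
    (hq : ∀ w ∈ q, sift A (ap w 0) = 0 ∧ ap w (ap w 0) = 0) {x : ℕ} (hx : x < 4096) :
    ∃ b ∈ Subgroup.closure {x | x ∈ W γ A ∧ x * x = 1}, val γ (aps q x) = val γ x * b := by
  induction q generalizing x with
  | nil => exact ⟨1, Subgroup.one_mem _, by rw [mul_one]; rfl⟩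
  | cons w q ih =>
    obtain ⟨b, hb, h1⟩ := ih (fun w hw => hq w (List.mem_cons_of_mem _ hw)) (ap_lt w hx)
    obtain ⟨h2, h3⟩ := hq w List.mem_cons_self
    have h4 := congrArg (val γ) h3
    rw [h.ap _ (ap_lt _ (by norm_num)), h.ap0, val_zero] at h4
    refine ⟨wv γ w * b, Subgroup.mul_mem _ (Subgroup.subset_closure ⟨wv_mem_of_sift h h2, h4⟩) hb, ?_⟩
    rw [show aps (w :: q) x = aps q (ap w x) from rfl, h1, h.ap _ hx, mul_assoc]

theorem om_sound (h : Cod γ) {E : Subgroup U} {Γ : Subgroup (MulAut E)}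
    {A R : List Ent} {L : List (List (List Gn))} (hA : Ok Γ γ A) (hc : omok A R L = true) : Ok Γ γ R := by
  change cond _ (cond _ _ false) false = true at hc
  rw [cond_false_eq_true, cond_false_eq_true] at hc
  obtain ⟨hv, hl, hen⟩ := hc
  let T : Set U := {x | x ∈ W γ A ∧ x * x = 1}
  have hRT : W γ R = Subgroup.closure T := by
    apply le_antisymm
    · have h1 : ∀ (R : List Ent) (L : List (List (List Gn))), omL A R L = true →
          ∀ r ∈ R, wv γ r.w ∈ Subgroup.closure T := by
        intro R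
        induction R with
        | nil => intro L _ r hr; simp at hr
        | cons r R ih =>
          intro L hL
          cases L with
          | nil => exact absurd hL (by simp [omL])
          | cons q L =>
            change cond _ (cond _ (omL A R L) false) false = true at hL
            rw [cond_false_eq_true, cond_false_eq_true, allL_iff, beq_iff] at hL
            obtain ⟨h1, h2, h3⟩ := hL
            intro r' hr'
            rcases List.mem_cons.1 hr' with rfl | hr'
            · obtain ⟨b, hb, h5⟩ := aps_om h q (A := A) (fun w hw => by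
                have := h1 w hw
                rwa [cond_false_eq_true, beq_iff, beq_iff] at this) (x := 0) (by norm_num)
              rw [h2, val_zero, one_mul, h.ap0] at h5
              rw [h5]
              exact hb
            · exact ih L h3 r' hr'
      rw [W, Subgroup.closure_le]
      rintro _ ⟨r, hr, rfl⟩
      exact h1 R L hl r hr
    · rw [Subgroup.closure_le]
      rintro x ⟨hx, hx2⟩
      obtain ⟨z, hz, hz1, hz2⟩ := enum_sound h hA.1 (x := 0) (by norm_num) hen hx
      rw [val_zero, one_mul] at hz1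
      cases hs : Nat.beq (sift R z) 0 with
      | true =>
        rw [← hz1]
        exact mem_of_sift h hz (beq_iff.1 hs)
      | false =>
        rw [hs] at hz2
        have h4 := mulc_val h hz z
        rw [hz1, hx2, ← val_zero γ] at h4
        rw [h.inj _ h4.1 0 (by norm_num) h4.2] at hz2
        exact absurd hz2 (by simp)
  refine ⟨hv, ?_⟩
  rw [hRT]
  refine inv_closure (fun x hx => hA.2.1 hx.1) ?_
  rintro δ hδ e ⟨he, he2⟩
  refine ⟨hA.2.2 δ hδ e he, ?_⟩
  have h1 : e * e = 1 := Subtype.ext he2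
  have h2 := congrArg δ h1
  rw [map_mul, map_one] at h2
  exact congrArg Subtype.val h2

theorem nthP_ok {E : Subgroup U} {Γ : Subgroup (MulAut E)} {env : List (List Ent)} (hE : ∀ R ∈ env, Ok Γ γ R) (n : ℕ) :
    Ok Γ γ (nthP env n) := by
  induction env generalizing n with
  | nil =>
    refine ⟨rfl, ?_⟩
    change Inv Γ (W γ [])
    rw [W_nil]
    exact inv_bot Γ
  | cons a l ih =>
    cases n with
    | zero => exact hE a List.mem_cons_self
    | succ n => exact ih (fun R hR => hE R (List.mem_cons_of_mem _ hR)) n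

theorem steps_sound (h : Cod γ) {P : List Ent} (hP : valid P = true) {Γ : Subgroup (MulAut (W γ P))}
    (he : Ess (⊤ : Subgroup U) (W γ P) 2 Γ) (l : List St) {k : List (List Ent) → Bool} {env : List (List Ent)}
    (hE : ∀ R ∈ env, Ok Γ γ R) (hs : steps P l k env = true) :
    ∃ env' : List (List Ent), (∀ R ∈ env', Ok Γ γ R) ∧ k env' = true := by
  induction l generalizing env with
  | nil => exact ⟨env, hE, hs⟩
  | cons s l ih =>
    have hcons : ∀ R, Ok Γ γ R → ∀ R' ∈ R :: env, Ok Γ γ R' := by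
      intro R hR R' hR'
      rcases List.mem_cons.1 hR' with rfl | hR'
      · exact hR
      · exact hE R' hR'
    cases s with
    | cent a b c R =>
      change cond _ (steps P l k (R :: env)) false = true at hs
      rw [cond_false_eq_true] at hs
      exact ih (hcons R (cent_sound h he (nthP_ok hE a) (nthP_ok hE b) (nthP_ok hE c) hs.1)) hs.2
    | comm a b R L =>
      change cond _ (steps P l k (R :: env)) false = true at hs
      rw [cond_false_eq_true] at hs
      exact ih (hcons R (comm_sound h hP (nthP_ok hE a) (nthP_ok hE b) hs.1)) hs.2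
    | phi a R L =>
      change cond _ (steps P l k (R :: env)) false = true at hs
      rw [cond_false_eq_true] at hs
      exact ih (hcons R (phi_sound h hP (nthP_ok hE a) hs.1)) hs.2
    | om a R L =>
      change cond _ (steps P l k (R :: env)) false = true at hs
      rw [cond_false_eq_true] at hs
      exact ih (hcons R (om_sound h (nthP_ok hE a) hs.1)) hs.2

/-! ### the chain -/

theorem com_closure {E M : Subgroup U} (hN : Nm E M) {X : Set U} (hX : X ⊆ E) {x : U}
    (h : ∀ m ∈ X, x * m * x⁻¹ * m⁻¹ ∈ M) : ∀ m ∈ Subgroup.closure X, x * m * x⁻¹ * m⁻¹ ∈ M := by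
  have hXE : Subgroup.closure X ≤ E := (Subgroup.closure_le _).2 hX
  intro m hm
  induction hm using Subgroup.closure_induction with
  | mem m hm => exact h m hm
  | one => simp
  | mul a b ha hb ia ib =>
    have h2 := M.mul_mem ia (hN a (hXE ha) _ ib)
    rwa [show x * a * x⁻¹ * a⁻¹ * (a * (x * b * x⁻¹ * b⁻¹) * a⁻¹) = x * (a * b) * x⁻¹ * (a * b)⁻¹ by group] at h2
  | inv a ha ia =>
    have h2 := hN.conj' (hXE ha) (M.inv_mem ia)
    rwa [show a⁻¹ * (x * a * x⁻¹ * a⁻¹)⁻¹ * a = x * a⁻¹ * x⁻¹ * a⁻¹⁻¹ by group] at h2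

theorem com_val (h : Cod γ) {x : Gv} (hx : invok x.w x.v = true) {e : Ent} (he : invok e.w e.v = true) :
    val γ (ap e.v (ap x.v (ap e.w (ap x.w 0)))) = wv γ x.w * wv γ e.w * (wv γ x.w)⁻¹ * (wv γ e.w)⁻¹ := by
  rw [h.ap _ (ap_lt _ (ap_lt _ (ap_lt _ (by norm_num)))), h.ap _ (ap_lt _ (ap_lt _ (by norm_num))),
    h.ap _ (ap_lt _ (by norm_num)), h.ap0, h.inv hx, h.inv he]

theorem chn_sound (h : Cod γ) {E : Subgroup U} {Γ : Subgroup (MulAut E)} (hess : Ess (⊤ : Subgroup U) E 2 Γ)
    {x : Gv} (hx : invok x.w x.v = true) {env : List (List Ent)} (hE : ∀ R ∈ env, Ok Γ γ R) (l : List ℕ)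
    {cur : List Ent} (hcur : Ok Γ γ cur) (hc : chn x env l cur = true) :
    Stab Γ (wv γ x.w) (W γ cur) (l.map fun i => W γ (nthP env i)) := by
  induction l generalizing cur with
  | nil =>
    change allL _ cur = true at hc
    rw [allL_iff] at hc
    have h1 := com_closure (M := (⊥ : Subgroup U)) (E := E) (nm_of_inv hess (inv_bot Γ)) (X := gs γ cur) (x := wv γ x.w)
      ((Subgroup.closure_le _).1 hcur.2.1) (by
        rintro _ ⟨e, he, rfl⟩
        have h2 := congrArg (val γ) (beq_iff.1 (hc e he))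
        rw [com_val h hx (valid_inv hcur.1 e he), val_zero] at h2
        rw [h2]
        exact Subgroup.one_mem _)
    intro a ha
    exact Subgroup.mem_bot.1 (h1 a ha)
  | cons i l ih =>
    change cond _ (cond _ (chn x env l (nthP env i)) false) false = true at hc
    rw [cond_false_eq_true, cond_false_eq_true, allL_iff] at hc
    obtain ⟨h1, h2, h3⟩ := hc
    have hi := nthP_ok hE i
    refine ⟨leq_sound h h1, hi.2, ?_, ih hi h3⟩
    refine com_closure (E := E) (nm_of_inv hess hi.2) (X := gs γ cur) ((Subgroup.closure_le _).1 hcur.2.1) ?_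
    rintro _ ⟨e, he, rfl⟩
    have h4 := mem_of_sift h (ap_lt _ (ap_lt _ (ap_lt _ (ap_lt _ (by norm_num))))) (beq_iff.1 (h2 e he))
    rwa [com_val h hx (valid_inv hcur.1 e he)] at h4

/-- **the chain kill** -/
theorem killed_chn (h : Cod γ) {P : List Ent} (hP : valid P = true) {l : List St} {x : Gv} {ix : List ℕ}
    (hc : chnchk P l x ix = true) : Killed γ P := by
  intro Γ hess
  change cond _ (cond (Nat.beq (sift P (ap x.w 0)) 0) false _) false = true at hc
  rw [cond_false_eq_true] at hc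
  obtain ⟨hx, hc⟩ := hc
  cases h0 : Nat.beq (sift P (ap x.w 0)) 0 with
  | true => rw [h0] at hc; exact absurd hc (by simp)
  | false =>
    rw [h0] at hc
    change cond _ (steps P l _ _) false = true at hc
    rw [cond_false_eq_true] at hc
    have hP' : Ok Γ γ P := ⟨hP, inv_self Γ⟩
    obtain ⟨env, hE, hch⟩ := steps_sound h hP hess l (env := [[], P]) (by
      intro R hR
      rcases List.mem_cons.1 hR with rfl | hR
      · refine ⟨rfl, ?_⟩
        rw [W_nil]
        exact inv_bot Γ
      · rw [List.mem_singleton] at hR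
        rw [hR]
        exact hP') hc.2
    have h1 := mem_of_stab hess (Subgroup.mem_top _) _ (chn_sound h hess hx hE ix hP' hch)
    rw [wv_mem_iff h hP] at h1
    exact beq_false_iff.1 h0 h1

end Cfsg.Agent.H782.TF
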