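import Cfsg.Agent.H782.TF.Ctx

/-!
# S5262, q = 2: certificate of the subgroup tree, part 1 (generated; helper782)
-/

set_option autoImplicit false
set_option maxRecDepth 100000

namespace Cfsg.Agent.H782.TF.Mix

open Cfsg.Agent.H782.TF

universe u

variable {U : Type u} [Group U] {Goal : Subgroup U → Prop} {γ : ℕ → U}

def P0 : List Ent := [⟨1, [.a0, .a11], [.a0, .a2, .a3, .a4, .a5, .a6, .a7, .a9, .a11]⟩,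
  ⟨4, [.a2, .a4, .a7, .a9], [.a2, .a4, .a6, .a7, .a9]⟩,
  ⟨8, [.a3], [.a3]⟩,
  ⟨32, [.a5], [.a5]⟩,
  ⟨64, [.a6], [.a6]⟩,
  ⟨256, [.a8], [.a8]⟩]
def B0 : List Gv := [⟨[.a0, .a11], [.a0, .a2, .a3, .a4, .a5, .a6, .a7, .a9, .a11]⟩, ⟨[.a3], [.a3]⟩]
def D0 : List Dv := [⟨[.a2, .a3, .a4, .a5, .a6, .a7, .a9], [0, 0], []⟩,
  ⟨[.a5, .a8], [2, 1], [1, 2]⟩,
  ⟨[.a8], [0, 1, 3], [3, 1]⟩,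
  ⟨[.a6, .a8], [1, 2, 2], []⟩,
  ⟨[.a6], [0], [1]⟩,
  ⟨[.a5], [3], [2]⟩,
  ⟨[.a2, .a4, .a7, .a9], [5], [7, 1]⟩]
def C0 : List Ch := [⟨PA, 0, [], []⟩]
def N0 : List Ent := [⟨1, [.a0, .a11], [.a0, .a2, .a3, .a4, .a5, .a6, .a7, .a9, .a11]⟩,
  ⟨4, [.a2, .a4, .a7, .a9], [.a2, .a4, .a6, .a7, .a9]⟩,
  ⟨8, [.a3], [.a3]⟩,
  ⟨16, [.a4, .a7], [.a4, .a5, .a6, .a7, .a8]⟩,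
  ⟨32, [.a5], [.a5]⟩,
  ⟨64, [.a6], [.a6]⟩,
  ⟨256, [.a8], [.a8]⟩,
  ⟨512, [.a9], [.a9]⟩,
  ⟨2048, [.a11], [.a11]⟩]
theorem bad0 (c : CtxM Goal γ) : Bad Goal γ PZ P0 :=
  c.toCtx.bnd (B := B0) (D := D0) (I := [7, 0, 8, 1, 2, 4]) (r := 1) (C := C0) (N := N0) (by decide +kernel) (by decide +kernel) (by decide +kernel) (by decide +kernel)
    (allB_cons (c.badA) (allB_nil))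

def P1 : List Ent := [⟨1, [.a0, .a7, .a11], [.a0, .a4, .a5, .a9, .a11]⟩,
  ⟨8, [.a3], [.a3]⟩,
  ⟨16, [.a4, .a7, .a9], [.a4, .a5, .a6, .a7, .a9]⟩,
  ⟨32, [.a5], [.a5]⟩,
  ⟨64, [.a6], [.a6]⟩,
  ⟨256, [.a8], [.a8]⟩]
def B1 : List Gv := [⟨[.a0, .a7, .a11], [.a0, .a4, .a5, .a9, .a11]⟩, ⟨[.a3], [.a3]⟩]
def D1 : List Dv := [⟨[.a4, .a7, .a8, .a9], [0, 0], []⟩,
  ⟨[.a8], [2, 1], [1, 2]⟩,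
  ⟨[.a5], [1, 3], [3, 1]⟩,
  ⟨[.a6], [0, 2, 2], []⟩,
  ⟨[.a4, .a7, .a9], [3], [2]⟩]
def C1 : List Ch := [⟨PA, 0, [], []⟩]
def N1 : List Ent := [⟨1, [.a0, .a7, .a11], [.a0, .a4, .a5, .a9, .a11]⟩,
  ⟨4, [.a2], [.a2]⟩,
  ⟨8, [.a3], [.a3]⟩,
  ⟨16, [.a4, .a7, .a9], [.a4, .a5, .a6, .a7, .a9]⟩,
  ⟨32, [.a5], [.a5]⟩,
  ⟨64, [.a6], [.a6]⟩,
  ⟨128, [.a7, .a11], [.a7, .a8, .a11]⟩,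
  ⟨256, [.a8], [.a8]⟩,
  ⟨512, [.a9], [.a9]⟩]
theorem bad1 (c : CtxM Goal γ) : Bad Goal γ PZ P1 :=
  c.toCtx.bnd (B := B1) (D := D1) (I := [5, 6, 0, 2, 1, 3]) (r := 1) (C := C1) (N := N1) (by decide +kernel) (by decide +kernel) (by decide +kernel) (by decide +kernel)
    (allB_cons (c.badA) (allB_nil))

def P2 : List Ent := [⟨1, [.a0], [.a0]⟩,
  ⟨4, [.a2, .a4, .a7, .a9], [.a2, .a4, .a6, .a7, .a9]⟩,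
  ⟨8, [.a3], [.a3]⟩,
  ⟨32, [.a5], [.a5]⟩,
  ⟨64, [.a6], [.a6]⟩,
  ⟨256, [.a8], [.a8]⟩,
  ⟨2048, [.a11], [.a11]⟩]
def B2 : List Gv := [⟨[.a0], [.a0]⟩, ⟨[.a11], [.a11]⟩, ⟨[.a3], [.a3]⟩]
def D2 : List Dv := [⟨[.a2, .a3, .a4, .a7, .a9], [1, 0], [0, 1]⟩,
  ⟨[.a8], [3, 2], [2, 3]⟩,
  ⟨[.a5, .a6], [1, 2], [2, 1]⟩,
  ⟨[.a6], [0, 2, 5], [5, 2]⟩,
  ⟨[.a5], [1], [0]⟩,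
  ⟨[.a2, .a4, .a7, .a9], [4], [7, 0]⟩]
def C2 : List Ch := [⟨PB, 0, [], []⟩,
  ⟨PA, 1, [], []⟩,
  ⟨P0, 0, [], []⟩]
def N2 : List Ent := [⟨1, [.a0], [.a0]⟩,
  ⟨4, [.a2, .a4, .a7, .a9], [.a2, .a4, .a6, .a7, .a9]⟩,
  ⟨8, [.a3], [.a3]⟩,
  ⟨16, [.a4, .a7], [.a4, .a5, .a6, .a7, .a8]⟩,
  ⟨32, [.a5], [.a5]⟩,
  ⟨64, [.a6], [.a6]⟩,
  ⟨256, [.a8], [.a8]⟩,
  ⟨512, [.a9], [.a9]⟩,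
  ⟨2048, [.a11], [.a11]⟩]
theorem bad2 (c : CtxM Goal γ) : Bad Goal γ PZ P2 :=
  c.toCtx.bnd (B := B2) (D := D2) (I := [6, 0, 8, 1, 2, 4, 7]) (r := 2) (C := C2) (N := N2) (by decide +kernel) (by decide +kernel) (by decide +kernel) (by decide +kernel)
    (allB_cons (c.badB) (allB_cons (c.badA) (allB_cons (bad0 c) (allB_nil))))

def P3 : List Ent := [⟨1, [.a0, .a4, .a7], [.a0, .a3, .a4, .a6, .a7, .a8]⟩,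
  ⟨4, [.a2, .a4, .a7, .a9], [.a2, .a4, .a6, .a7, .a9]⟩,
  ⟨8, [.a3], [.a3]⟩,
  ⟨32, [.a5], [.a5]⟩,
  ⟨64, [.a6], [.a6]⟩,
  ⟨256, [.a8], [.a8]⟩,
  ⟨2048, [.a11], [.a11]⟩]
def B3 : List Gv := [⟨[.a0, .a4, .a7], [.a0, .a3, .a4, .a6, .a7, .a8]⟩, ⟨[.a11], [.a11]⟩]
def D3 : List Dv := [⟨[.a3, .a5, .a6, .a8], [0, 0], []⟩,
  ⟨[.a2, .a3, .a4, .a7, .a9], [2, 1], [1, 2]⟩,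
  ⟨[.a8], [1, 3], [3, 1]⟩,
  ⟨[.a5, .a6, .a8], [1, 3], [3, 1]⟩,
  ⟨[.a6, .a8], [0, 2, 3], [3, 2]⟩,
  ⟨[.a6], [0], [2]⟩,
  ⟨[.a5], [2], [0, 3]⟩,
  ⟨[.a3], [6], [0, 1, 4]⟩,
  ⟨[.a2, .a4, .a7, .a9], [6], [0, 1]⟩]
def C3 : List Ch := [⟨PB, 0, [], []⟩,
  ⟨PA, 1, [], []⟩,
  ⟨P0, 0, [.a1, .a3, .a4], [.a1, .a2, .a4, .a5]⟩]
def N3 : List Ent := [⟨1, [.a0, .a4, .a7], [.a0, .a3, .a4, .a6, .a7, .a8]⟩,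
  ⟨4, [.a2, .a4, .a7, .a9], [.a2, .a4, .a6, .a7, .a9]⟩,
  ⟨8, [.a3], [.a3]⟩,
  ⟨16, [.a4, .a7], [.a4, .a5, .a6, .a7, .a8]⟩,
  ⟨32, [.a5], [.a5]⟩,
  ⟨64, [.a6], [.a6]⟩,
  ⟨256, [.a8], [.a8]⟩,
  ⟨512, [.a9], [.a9]⟩,
  ⟨2048, [.a11], [.a11]⟩]
theorem bad3 (c : CtxM Goal γ) : Bad Goal γ PZ P3 :=
  c.toCtx.bnd (B := B3) (D := D3) (I := [9, 0, 1, 2, 3, 6, 10]) (r := 2) (C := C3) (N := N3) (by decide +kernel) (by decide +kernel) (by decide +kernel) (by decide +kernel)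
    (allB_cons (c.badB) (allB_cons (c.badA) (allB_cons (bad0 c) (allB_nil))))

def P4 : List Ent := [⟨1, [.a0, .a11], [.a0, .a2, .a3, .a4, .a5, .a6, .a7, .a9, .a11]⟩,
  ⟨4, [.a2, .a9], [.a2, .a5, .a9]⟩,
  ⟨8, [.a3], [.a3]⟩,
  ⟨16, [.a4, .a7], [.a4, .a5, .a6, .a7, .a8]⟩,
  ⟨32, [.a5], [.a5]⟩,
  ⟨64, [.a6], [.a6]⟩,
  ⟨256, [.a8], [.a8]⟩]
def B4 : List Gv := [⟨[.a0, .a11], [.a0, .a2, .a3, .a4, .a5, .a6, .a7, .a9, .a11]⟩, ⟨[.a2, .a9], [.a2, .a5, .a9]⟩]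
def D4 : List Dv := [⟨[.a3, .a4, .a6, .a7, .a8], [1, 0, 0], []⟩,
  ⟨[.a4, .a5, .a6, .a7], [0, 2, 1], [1, 2]⟩,
  ⟨[.a5], [3, 3], []⟩,
  ⟨[.a6, .a8], [0, 1, 2, 2, 3], [3, 2]⟩,
  ⟨[.a8], [3, 5], [5, 3]⟩,
  ⟨[.a6], [1], [0]⟩,
  ⟨[.a4, .a7], [4], [3, 0]⟩,
  ⟨[.a3], [6], [0, 1, 2]⟩]
def C4 : List Ch := [⟨PA, 0, [], []⟩,
  ⟨P0, 1, [], []⟩,
  ⟨P0, 0, [.a1, .a3, .a4], [.a1, .a2, .a4, .a5]⟩]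
def N4 : List Ent := [⟨1, [.a0, .a11], [.a0, .a2, .a3, .a4, .a5, .a6, .a7, .a9, .a11]⟩,
  ⟨2, [.a1, .a7], [.a1, .a2, .a7, .a8]⟩,
  ⟨4, [.a2, .a9], [.a2, .a5, .a9]⟩,
  ⟨8, [.a3], [.a3]⟩,
  ⟨16, [.a4, .a7], [.a4, .a5, .a6, .a7, .a8]⟩,
  ⟨32, [.a5], [.a5]⟩,
  ⟨64, [.a6], [.a6]⟩,
  ⟨256, [.a8], [.a8]⟩,
  ⟨512, [.a9], [.a9]⟩,
  ⟨2048, [.a11], [.a11]⟩]
theorem bad4 (c : CtxM Goal γ) : Bad Goal γ PZ P4 :=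
  c.toCtx.bnd (B := B4) (D := D4) (I := [8, 9, 0, 1, 5, 2, 3]) (r := 2) (C := C4) (N := N4) (by decide +kernel) (by decide +kernel) (by decide +kernel) (by decide +kernel)
    (allB_cons (c.badA) (allB_cons (bad0 c) (allB_cons (bad0 c) (allB_nil))))

def P5 : List Ent := [⟨1, [.a0], [.a0]⟩,
  ⟨4, [.a2, .a9, .a11], [.a2, .a6, .a8, .a9, .a11]⟩,
  ⟨8, [.a3], [.a3]⟩,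
  ⟨16, [.a4, .a7, .a11], [.a4, .a5, .a6, .a7, .a8, .a11]⟩,
  ⟨32, [.a5], [.a5]⟩,
  ⟨64, [.a6], [.a6]⟩,
  ⟨256, [.a8], [.a8]⟩]
def B5 : List Gv := [⟨[.a0], [.a0]⟩, ⟨[.a2, .a9, .a11], [.a2, .a6, .a8, .a9, .a11]⟩, ⟨[.a3], [.a3]⟩]
def D5 : List Dv := [⟨[.a4, .a5, .a7, .a8, .a11], [1, 1, 0], [0, 1]⟩,
  ⟨[.a6, .a8], [2, 2], []⟩,
  ⟨[.a8], [4, 3], [3, 4]⟩,
  ⟨[.a5, .a8], [2, 4, 2, 3], [3, 2]⟩,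
  ⟨[.a6], [2], [1]⟩,
  ⟨[.a5], [1], [2]⟩,
  ⟨[.a4, .a7, .a11], [5], [0, 3]⟩]
def C5 : List Ch := [⟨PB, 0, [], []⟩,
  ⟨PA, 1, [], []⟩,
  ⟨P0, 0, [.a1, .a3, .a4], [.a1, .a2, .a4, .a5]⟩]
def N5 : List Ent := [⟨1, [.a0], [.a0]⟩,
  ⟨4, [.a2, .a9, .a11], [.a2, .a6, .a8, .a9, .a11]⟩,
  ⟨8, [.a3], [.a3]⟩,
  ⟨16, [.a4, .a7, .a11], [.a4, .a5, .a6, .a7, .a8, .a11]⟩,
  ⟨32, [.a5], [.a5]⟩,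
  ⟨64, [.a6], [.a6]⟩,
  ⟨256, [.a8], [.a8]⟩,
  ⟨512, [.a9], [.a9]⟩,
  ⟨2048, [.a11], [.a11]⟩]
theorem bad5 (c : CtxM Goal γ) : Bad Goal γ PZ P5 :=
  c.toCtx.bnd (B := B5) (D := D5) (I := [7, 8, 9, 0, 1, 2, 4]) (r := 2) (C := C5) (N := N5) (by decide +kernel) (by decide +kernel) (by decide +kernel) (by decide +kernel)
    (allB_cons (c.badB) (allB_cons (c.badA) (allB_cons (bad0 c) (allB_nil))))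

def P6 : List Ent := [⟨1, [.a0, .a11], [.a0, .a2, .a3, .a4, .a5, .a6, .a7, .a9, .a11]⟩,
  ⟨4, [.a2, .a9, .a11], [.a2, .a6, .a8, .a9, .a11]⟩,
  ⟨8, [.a3], [.a3]⟩,
  ⟨16, [.a4, .a7, .a11], [.a4, .a5, .a6, .a7, .a8, .a11]⟩,
  ⟨32, [.a5], [.a5]⟩,
  ⟨64, [.a6], [.a6]⟩,
  ⟨256, [.a8], [.a8]⟩]
def B6 : List Gv := [⟨[.a0, .a11], [.a0, .a2, .a3, .a4, .a5, .a6, .a7, .a9, .a11]⟩, ⟨[.a2, .a9, .a11], [.a2, .a6, .a8, .a9, .a11]⟩]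
def D6 : List Dv := [⟨[.a3, .a4, .a5, .a7, .a8, .a11], [1, 0, 0], []⟩,
  ⟨[.a4, .a5, .a6, .a7, .a11], [2, 2, 1], [1, 2]⟩,
  ⟨[.a6, .a8], [3, 3], []⟩,
  ⟨[.a5, .a6, .a8], [1, 4, 2, 3], [3, 2]⟩,
  ⟨[.a8], [1, 3, 3], []⟩,
  ⟨[.a6], [2], [0]⟩,
  ⟨[.a5], [2], [0, 1]⟩,
  ⟨[.a4, .a7, .a11], [5], [0, 1]⟩,
  ⟨[.a3], [7], [0, 1, 3]⟩]
def C6 : List Ch := [⟨PB, 0, [], []⟩,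
  ⟨P0, 1, [], []⟩,
  ⟨PA, 0, [], []⟩]
def N6 : List Ent := [⟨1, [.a0, .a11], [.a0, .a2, .a3, .a4, .a5, .a6, .a7, .a9, .a11]⟩,
  ⟨4, [.a2, .a9, .a11], [.a2, .a6, .a8, .a9, .a11]⟩,
  ⟨8, [.a3], [.a3]⟩,
  ⟨16, [.a4, .a7, .a11], [.a4, .a5, .a6, .a7, .a8, .a11]⟩,
  ⟨32, [.a5], [.a5]⟩,
  ⟨64, [.a6], [.a6]⟩,
  ⟨256, [.a8], [.a8]⟩,
  ⟨512, [.a9], [.a9]⟩,
  ⟨2048, [.a11], [.a11]⟩]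
theorem bad6 (c : CtxM Goal γ) : Bad Goal γ PZ P6 :=
  c.toCtx.bnd (B := B6) (D := D6) (I := [9, 10, 0, 1, 2, 3, 4]) (r := 2) (C := C6) (N := N6) (by decide +kernel) (by decide +kernel) (by decide +kernel) (by decide +kernel)
    (allB_cons (c.badB) (allB_cons (bad0 c) (allB_cons (c.badA) (allB_nil))))

def P7 : List Ent := [⟨1, [.a0, .a11], [.a0, .a2, .a3, .a4, .a5, .a6, .a7, .a9, .a11]⟩,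
  ⟨4, [.a2], [.a2]⟩,
  ⟨8, [.a3], [.a3]⟩,
  ⟨16, [.a4, .a7, .a9], [.a4, .a5, .a6, .a7, .a9]⟩,
  ⟨32, [.a5], [.a5]⟩,
  ⟨64, [.a6], [.a6]⟩,
  ⟨256, [.a8], [.a8]⟩]
def B7 : List Gv := [⟨[.a0, .a11], [.a0, .a2, .a3, .a4, .a5, .a6, .a7, .a9, .a11]⟩, ⟨[.a2], [.a2]⟩, ⟨[.a3], [.a3]⟩]
def D7 : List Dv := [⟨[.a4, .a5, .a6, .a7, .a9], [2, 1, 0, 0], []⟩,
  ⟨[.a6, .a8], [2, 1], [1, 2]⟩,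
  ⟨[.a5, .a8], [4, 2], [2, 4]⟩,
  ⟨[.a8], [0, 2, 4], [4, 2]⟩,
  ⟨[.a6], [2], [0]⟩,
  ⟨[.a5], [2], [1]⟩,
  ⟨[.a4, .a7, .a9], [5], [0, 1]⟩]
def C7 : List Ch := [⟨PA, 0, [], []⟩,
  ⟨P0, 1, [], []⟩,
  ⟨P0, 0, [.a4], [.a4, .a5]⟩]
def N7 : List Ent := [⟨1, [.a0, .a11], [.a0, .a2, .a3, .a4, .a5, .a6, .a7, .a9, .a11]⟩,
  ⟨4, [.a2], [.a2]⟩,
  ⟨8, [.a3], [.a3]⟩,
  ⟨16, [.a4, .a7, .a9], [.a4, .a5, .a6, .a7, .a9]⟩,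
  ⟨32, [.a5], [.a5]⟩,
  ⟨64, [.a6], [.a6]⟩,
  ⟨128, [.a7], [.a7, .a8]⟩,
  ⟨256, [.a8], [.a8]⟩,
  ⟨512, [.a9], [.a9]⟩,
  ⟨2048, [.a11], [.a11]⟩]
theorem bad7 (c : CtxM Goal γ) : Bad Goal γ PZ P7 :=
  c.toCtx.bnd (B := B7) (D := D7) (I := [7, 8, 9, 0, 1, 2, 3]) (r := 2) (C := C7) (N := N7) (by decide +kernel) (by decide +kernel) (by decide +kernel) (by decide +kernel)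
    (allB_cons (c.badA) (allB_cons (bad0 c) (allB_cons (bad0 c) (allB_nil))))

def P8 : List Ent := [⟨1, [.a0, .a11], [.a0, .a2, .a3, .a4, .a5, .a6, .a7, .a9, .a11]⟩,
  ⟨4, [.a2, .a4, .a7], [.a2, .a4, .a5, .a6, .a7, .a8]⟩,
  ⟨8, [.a3], [.a3]⟩,
  ⟨32, [.a5], [.a5]⟩,
  ⟨64, [.a6], [.a6]⟩,
  ⟨256, [.a8], [.a8]⟩,
  ⟨512, [.a9], [.a9]⟩]
def B8 : List Gv := [⟨[.a0, .a11], [.a0, .a2, .a3, .a4, .a5, .a6, .a7, .a9, .a11]⟩, ⟨[.a2, .a4, .a7], [.a2, .a4, .a5, .a6, .a7, .a8]⟩]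
def D8 : List Dv := [⟨[.a3, .a5, .a8, .a9], [1, 0, 0], []⟩,
  ⟨[.a5, .a6, .a9], [0, 2, 1], [1, 2]⟩,
  ⟨[.a8, .a9], [0, 3, 3], []⟩,
  ⟨[.a9], [0, 2, 4], [4, 2]⟩,
  ⟨[.a6, .a8, .a9], [2, 2, 5], [5, 2]⟩,
  ⟨[.a8], [2], [1]⟩,
  ⟨[.a6], [1], [0, 2]⟩,
  ⟨[.a5], [5], [0, 3]⟩,
  ⟨[.a3], [7], [0, 2, 4]⟩]
def C8 : List Ch := [⟨PA, 0, [], []⟩,
  ⟨P0, 1, [], []⟩,
  ⟨P0, 0, [.a1], [.a1, .a2]⟩]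
def N8 : List Ent := [⟨1, [.a0, .a11], [.a0, .a2, .a3, .a4, .a5, .a6, .a7, .a9, .a11]⟩,
  ⟨2, [.a1], [.a1, .a2]⟩,
  ⟨4, [.a2, .a4, .a7], [.a2, .a4, .a5, .a6, .a7, .a8]⟩,
  ⟨8, [.a3], [.a3]⟩,
  ⟨16, [.a4, .a7], [.a4, .a5, .a6, .a7, .a8]⟩,
  ⟨32, [.a5], [.a5]⟩,
  ⟨64, [.a6], [.a6]⟩,
  ⟨256, [.a8], [.a8]⟩,
  ⟨512, [.a9], [.a9]⟩,
  ⟨2048, [.a11], [.a11]⟩]
theorem bad8 (c : CtxM Goal γ) : Bad Goal γ PZ P8 :=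
  c.toCtx.bnd (B := B8) (D := D8) (I := [9, 10, 0, 1, 2, 3, 5]) (r := 2) (C := C8) (N := N8) (by decide +kernel) (by decide +kernel) (by decide +kernel) (by decide +kernel)
    (allB_cons (c.badA) (allB_cons (bad0 c) (allB_cons (bad0 c) (allB_nil))))

def P9 : List Ent := [⟨1, [.a0, .a10], [.a0, .a1, .a2, .a3, .a4, .a6, .a8, .a9, .a10, .a11]⟩,
  ⟨2, [.a1, .a7, .a9, .a11], [.a1, .a2, .a5, .a7, .a11]⟩,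
  ⟨4, [.a2, .a9], [.a2, .a5, .a9]⟩,
  ⟨8, [.a3], [.a3]⟩,
  ⟨32, [.a5], [.a5]⟩,
  ⟨64, [.a6], [.a6]⟩,
  ⟨256, [.a8], [.a8]⟩]
def B9 : List Gv := [⟨[.a0, .a10], [.a0, .a1, .a2, .a3, .a4, .a6, .a8, .a9, .a10, .a11]⟩, ⟨[.a3], [.a3]⟩]
def D9 : List Dv := [⟨[.a1, .a3, .a5, .a6, .a7, .a8, .a9, .a11], [0, 0], []⟩,
  ⟨[.a5, .a6], [2, 1], [1, 2]⟩,
  ⟨[.a6, .a8], [0, 1, 3], [3, 1]⟩,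
  ⟨[.a2, .a6, .a9], [2, 2], []⟩,
  ⟨[.a8], [1, 2, 2, 3], [3, 2]⟩,
  ⟨[.a6], [2], [0]⟩,
  ⟨[.a5], [4], [0]⟩,
  ⟨[.a2, .a9], [3], [1]⟩,
  ⟨[.a1, .a7, .a9, .a11], [7], [9, 2]⟩]
def C9 : List Ch := [⟨PB, 0, [], []⟩]
def N9 : List Ent := [⟨1, [.a0, .a10], [.a0, .a1, .a2, .a3, .a4, .a6, .a8, .a9, .a10, .a11]⟩,
  ⟨2, [.a1, .a7, .a9, .a11], [.a1, .a2, .a5, .a7, .a11]⟩,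
  ⟨4, [.a2, .a9], [.a2, .a5, .a9]⟩,
  ⟨8, [.a3], [.a3]⟩,
  ⟨32, [.a5], [.a5]⟩,
  ⟨64, [.a6], [.a6]⟩,
  ⟨128, [.a7], [.a7, .a8]⟩,
  ⟨256, [.a8], [.a8]⟩,
  ⟨512, [.a9], [.a9]⟩]
theorem bad9 (c : CtxM Goal γ) : Bad Goal γ PZ P9 :=
  c.toCtx.bnd (B := B9) (D := D9) (I := [9, 0, 1, 10, 2, 3, 4]) (r := 1) (C := C9) (N := N9) (by decide +kernel) (by decide +kernel) (by decide +kernel) (by decide +kernel)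
    (allB_cons (c.badB) (allB_nil))

def P10 : List Ent := [⟨1, [.a0, .a7, .a11], [.a0, .a4, .a5, .a9, .a11]⟩,
  ⟨4, [.a2], [.a2]⟩,
  ⟨8, [.a3], [.a3]⟩,
  ⟨16, [.a4, .a7, .a9], [.a4, .a5, .a6, .a7, .a9]⟩,
  ⟨32, [.a5], [.a5]⟩,
  ⟨64, [.a6], [.a6]⟩,
  ⟨256, [.a8], [.a8]⟩]
def B10 : List Gv := [⟨[.a0, .a7, .a11], [.a0, .a4, .a5, .a9, .a11]⟩, ⟨[.a2], [.a2]⟩, ⟨[.a3], [.a3]⟩]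
def D10 : List Dv := [⟨[.a4, .a7, .a8, .a9], [0, 0], []⟩,
  ⟨[.a6, .a8], [2, 1], [1, 2]⟩,
  ⟨[.a8], [4, 2], [2, 4]⟩,
  ⟨[.a5], [2, 4], [4, 2]⟩,
  ⟨[.a6], [2], [1]⟩,
  ⟨[.a4, .a7, .a9], [4], [2]⟩]
def C10 : List Ch := [⟨PA, 0, [], []⟩,
  ⟨P1, 1, [], []⟩,
  ⟨P1, 0, [.a4], [.a4, .a5]⟩]
def N10 : List Ent := [⟨1, [.a0, .a7, .a11], [.a0, .a4, .a5, .a9, .a11]⟩,
  ⟨4, [.a2], [.a2]⟩,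
  ⟨8, [.a3], [.a3]⟩,
  ⟨16, [.a4, .a7, .a9], [.a4, .a5, .a6, .a7, .a9]⟩,
  ⟨32, [.a5], [.a5]⟩,
  ⟨64, [.a6], [.a6]⟩,
  ⟨128, [.a7], [.a7, .a8]⟩,
  ⟨256, [.a8], [.a8]⟩,
  ⟨512, [.a9], [.a9]⟩,
  ⟨2048, [.a11], [.a11]⟩]
theorem bad10 (c : CtxM Goal γ) : Bad Goal γ PZ P10 :=
  c.toCtx.bnd (B := B10) (D := D10) (I := [6, 7, 8, 0, 2, 1, 3]) (r := 2) (C := C10) (N := N10) (by decide +kernel) (by decide +kernel) (by decide +kernel) (by decide +kernel)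
    (allB_cons (c.badA) (allB_cons (bad1 c) (allB_cons (bad1 c) (allB_nil))))

def P11 : List Ent := [⟨1, [.a0, .a7, .a11], [.a0, .a4, .a5, .a9, .a11]⟩,
  ⟨8, [.a3], [.a3]⟩,
  ⟨16, [.a4, .a7], [.a4, .a5, .a6, .a7, .a8]⟩,
  ⟨32, [.a5], [.a5]⟩,
  ⟨64, [.a6], [.a6]⟩,
  ⟨256, [.a8], [.a8]⟩,
  ⟨512, [.a9], [.a9]⟩]
def B11 : List Gv := [⟨[.a0, .a7, .a11], [.a0, .a4, .a5, .a9, .a11]⟩, ⟨[.a4, .a7], [.a4, .a5, .a6, .a7, .a8]⟩]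
def D11 : List Dv := [⟨[.a5, .a6, .a9], [1, 0, 0], []⟩,
  ⟨[.a3, .a6], [2, 1], [1, 2]⟩,
  ⟨[.a8, .a9], [1, 3, 3], []⟩,
  ⟨[.a9], [0, 2, 4], [4, 2]⟩,
  ⟨[.a6, .a9], [3, 2, 5], [5, 2]⟩,
  ⟨[.a8], [2], [1]⟩,
  ⟨[.a6], [1], [2]⟩,
  ⟨[.a5], [6], [0, 3]⟩,
  ⟨[.a3], [6], [1]⟩]
def C11 : List Ch := [⟨PA, 0, [], []⟩,
  ⟨P1, 1, [], []⟩,
  ⟨P1, 0, [.a1], [.a1, .a2]⟩]
def N11 : List Ent := [⟨1, [.a0, .a7, .a11], [.a0, .a4, .a5, .a9, .a11]⟩,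
  ⟨2, [.a1], [.a1, .a2]⟩,
  ⟨4, [.a2], [.a2]⟩,
  ⟨8, [.a3], [.a3]⟩,
  ⟨16, [.a4, .a7], [.a4, .a5, .a6, .a7, .a8]⟩,
  ⟨32, [.a5], [.a5]⟩,
  ⟨64, [.a6], [.a6]⟩,
  ⟨128, [.a7, .a11], [.a7, .a8, .a11]⟩,
  ⟨256, [.a8], [.a8]⟩,
  ⟨512, [.a9], [.a9]⟩]
theorem bad11 (c : CtxM Goal γ) : Bad Goal γ PZ P11 :=
  c.toCtx.bnd (B := B11) (D := D11) (I := [9, 0, 10, 1, 2, 3, 5]) (r := 2) (C := C11) (N := N11) (by decide +kernel) (by decide +kernel) (by decide +kernel) (by decide +kernel)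
    (allB_cons (c.badA) (allB_cons (bad1 c) (allB_cons (bad1 c) (allB_nil))))

def P12 : List Ent := [⟨1, [.a0, .a7, .a11], [.a0, .a4, .a5, .a9, .a11]⟩,
  ⟨4, [.a2, .a9], [.a2, .a5, .a9]⟩,
  ⟨8, [.a3], [.a3]⟩,
  ⟨16, [.a4, .a7, .a9], [.a4, .a5, .a6, .a7, .a9]⟩,
  ⟨32, [.a5], [.a5]⟩,
  ⟨64, [.a6], [.a6]⟩,
  ⟨256, [.a8], [.a8]⟩]
def B12 : List Gv := [⟨[.a0, .a7, .a11], [.a0, .a4, .a5, .a9, .a11]⟩, ⟨[.a2, .a9], [.a2, .a5, .a9]⟩]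
def D12 : List Dv := [⟨[.a4, .a7, .a8, .a9], [0, 0], []⟩,
  ⟨[.a3, .a8], [2, 1], [1, 2]⟩,
  ⟨[.a5], [3, 3], []⟩,
  ⟨[.a8], [0, 2, 4], [4, 2]⟩,
  ⟨[.a6], [1, 3, 3], []⟩,
  ⟨[.a4, .a7, .a9], [4], [1]⟩,
  ⟨[.a3], [4], [2]⟩]
def C12 : List Ch := [⟨PA, 0, [], []⟩,
  ⟨P1, 1, [], []⟩,
  ⟨P1, 0, [.a1, .a3, .a4], [.a1, .a2, .a4, .a5]⟩]
def N12 : List Ent := [⟨1, [.a0, .a7, .a11], [.a0, .a4, .a5, .a9, .a11]⟩,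
  ⟨2, [.a1, .a11], [.a1, .a2, .a5, .a6, .a9, .a11]⟩,
  ⟨4, [.a2, .a9], [.a2, .a5, .a9]⟩,
  ⟨8, [.a3], [.a3]⟩,
  ⟨16, [.a4, .a7, .a9], [.a4, .a5, .a6, .a7, .a9]⟩,
  ⟨32, [.a5], [.a5]⟩,
  ⟨64, [.a6], [.a6]⟩,
  ⟨128, [.a7, .a11], [.a7, .a8, .a11]⟩,
  ⟨256, [.a8], [.a8]⟩,
  ⟨512, [.a9], [.a9]⟩]
theorem bad12 (c : CtxM Goal γ) : Bad Goal γ PZ P12 :=
  c.toCtx.bnd (B := B12) (D := D12) (I := [7, 8, 0, 1, 4, 2, 3]) (r := 2) (C := C12) (N := N12) (by decide +kernel) (by decide +kernel) (by decide +kernel) (by decide +kernel)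
    (allB_cons (c.badA) (allB_cons (bad1 c) (allB_cons (bad1 c) (allB_nil))))

def P13 : List Ent := [⟨1, [.a0, .a7, .a10], [.a0, .a1, .a3, .a4, .a7, .a10, .a11]⟩,
  ⟨2, [.a1, .a7, .a9, .a11], [.a1, .a2, .a5, .a7, .a11]⟩,
  ⟨4, [.a2, .a9], [.a2, .a5, .a9]⟩,
  ⟨8, [.a3], [.a3]⟩,
  ⟨32, [.a5], [.a5]⟩,
  ⟨64, [.a6], [.a6]⟩,
  ⟨256, [.a8], [.a8]⟩]
def B13 : List Gv := [⟨[.a0, .a7, .a10], [.a0, .a1, .a3, .a4, .a7, .a10, .a11]⟩, ⟨[.a3], [.a3]⟩]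
def D13 : List Dv := [⟨[.a1, .a2, .a6, .a7, .a11], [0, 0], []⟩,
  ⟨[.a6], [2, 1], [1, 2]⟩,
  ⟨[.a5, .a8], [1, 3], [3, 1]⟩,
  ⟨[.a2, .a6, .a8, .a9], [2, 2], []⟩,
  ⟨[.a8], [1, 2, 3], [3, 2]⟩,
  ⟨[.a5], [2], [0]⟩,
  ⟨[.a2, .a9], [2], [4, 1]⟩,
  ⟨[.a1, .a7, .a9, .a11], [6], [0, 2]⟩]
def C13 : List Ch := [⟨PB, 0, [], []⟩]
def N13 : List Ent := [⟨1, [.a0, .a7, .a10], [.a0, .a1, .a3, .a4, .a7, .a10, .a11]⟩,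
  ⟨2, [.a1, .a7, .a9, .a11], [.a1, .a2, .a5, .a7, .a11]⟩,
  ⟨4, [.a2, .a9], [.a2, .a5, .a9]⟩,
  ⟨8, [.a3], [.a3]⟩,
  ⟨32, [.a5], [.a5]⟩,
  ⟨64, [.a6], [.a6]⟩,
  ⟨128, [.a7], [.a7, .a8]⟩,
  ⟨256, [.a8], [.a8]⟩,
  ⟨512, [.a9], [.a9]⟩]
theorem bad13 (c : CtxM Goal γ) : Bad Goal γ PZ P13 :=
  c.toCtx.bnd (B := B13) (D := D13) (I := [8, 0, 1, 9, 2, 6, 3]) (r := 1) (C := C13) (N := N13) (by decide +kernel) (by decide +kernel) (by decide +kernel) (by decide +kernel)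
    (allB_cons (c.badB) (allB_nil))

def P14 : List Ent := [⟨1, [.a0], [.a0]⟩,
  ⟨8, [.a3], [.a3]⟩,
  ⟨16, [.a4, .a9, .a11], [.a4, .a5, .a8, .a9, .a11]⟩,
  ⟨32, [.a5], [.a5]⟩,
  ⟨64, [.a6], [.a6]⟩,
  ⟨128, [.a7, .a11], [.a7, .a8, .a11]⟩,
  ⟨256, [.a8], [.a8]⟩]
def B14 : List Gv := [⟨[.a0], [.a0]⟩, ⟨[.a4, .a9, .a11], [.a4, .a5, .a8, .a9, .a11]⟩, ⟨[.a3], [.a3]⟩]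
def D14 : List Dv := [⟨[.a7, .a8, .a11], [1, 1, 0], [0, 1]⟩,
  ⟨[.a5, .a8], [2, 2], []⟩,
  ⟨[.a8], [4, 3], [3, 4]⟩,
  ⟨[.a6, .a7, .a11], [1, 4, 2, 3], [3, 2]⟩,
  ⟨[.a7, .a11], [3], [1]⟩,
  ⟨[.a6], [1], [0]⟩,
  ⟨[.a5], [4], [3]⟩]
def C14 : List Ch := [⟨PB, 0, [], []⟩,
  ⟨PA, 1, [], []⟩,
  ⟨P1, 0, [], []⟩]
def N14 : List Ent := [⟨1, [.a0], [.a0]⟩,
  ⟨4, [.a2], [.a2]⟩,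
  ⟨8, [.a3], [.a3]⟩,
  ⟨16, [.a4, .a9, .a11], [.a4, .a5, .a8, .a9, .a11]⟩,
  ⟨32, [.a5], [.a5]⟩,
  ⟨64, [.a6], [.a6]⟩,
  ⟨128, [.a7, .a11], [.a7, .a8, .a11]⟩,
  ⟨256, [.a8], [.a8]⟩,
  ⟨512, [.a9], [.a9]⟩]
theorem bad14 (c : CtxM Goal γ) : Bad Goal γ PZ P14 :=
  c.toCtx.bnd (B := B14) (D := D14) (I := [7, 9, 8, 0, 1, 2, 4]) (r := 2) (C := C14) (N := N14) (by decide +kernel) (by decide +kernel) (by decide +kernel) (by decide +kernel)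
    (allB_cons (c.badB) (allB_cons (c.badA) (allB_cons (bad1 c) (allB_nil))))

def P15 : List Ent := [⟨1, [.a0], [.a0]⟩,
  ⟨4, [.a2, .a7, .a11], [.a2, .a5, .a6, .a7, .a11]⟩,
  ⟨8, [.a3], [.a3]⟩,
  ⟨16, [.a4, .a7, .a9], [.a4, .a5, .a6, .a7, .a9]⟩,
  ⟨32, [.a5], [.a5]⟩,
  ⟨64, [.a6], [.a6]⟩,
  ⟨256, [.a8], [.a8]⟩]
def B15 : List Gv := [⟨[.a0], [.a0]⟩, ⟨[.a2, .a7, .a11], [.a2, .a5, .a6, .a7, .a11]⟩, ⟨[.a3], [.a3]⟩]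
def D15 : List Dv := [⟨[.a4, .a6, .a7, .a9], [1, 0], [0, 1]⟩,
  ⟨[.a5, .a6], [2, 2], []⟩,
  ⟨[.a6, .a8], [0, 4, 3], [3, 4]⟩,
  ⟨[.a8], [0, 1, 2, 5], [5, 2]⟩,
  ⟨[.a6], [1], [0]⟩,
  ⟨[.a5], [3], [0]⟩,
  ⟨[.a4, .a7, .a9], [5], [1]⟩]
def C15 : List Ch := [⟨PB, 0, [], []⟩,
  ⟨PA, 1, [], []⟩,
  ⟨P1, 0, [.a4], [.a4, .a5]⟩]
def N15 : List Ent := [⟨1, [.a0], [.a0]⟩,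
  ⟨4, [.a2, .a7, .a11], [.a2, .a5, .a6, .a7, .a11]⟩,
  ⟨8, [.a3], [.a3]⟩,
  ⟨16, [.a4, .a7, .a9], [.a4, .a5, .a6, .a7, .a9]⟩,
  ⟨32, [.a5], [.a5]⟩,
  ⟨64, [.a6], [.a6]⟩,
  ⟨128, [.a7, .a11], [.a7, .a8, .a11]⟩,
  ⟨256, [.a8], [.a8]⟩,
  ⟨512, [.a9], [.a9]⟩]
theorem bad15 (c : CtxM Goal γ) : Bad Goal γ PZ P15 :=
  c.toCtx.bnd (B := B15) (D := D15) (I := [7, 8, 9, 0, 1, 2, 3]) (r := 2) (C := C15) (N := N15) (by decide +kernel) (by decide +kernel) (by decide +kernel) (by decide +kernel)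
    (allB_cons (c.badB) (allB_cons (c.badA) (allB_cons (bad1 c) (allB_nil))))

def P16 : List Ent := [⟨1, [.a0, .a9], [.a0, .a3, .a6, .a9]⟩,
  ⟨8, [.a3], [.a3]⟩,
  ⟨16, [.a4, .a9, .a11], [.a4, .a5, .a8, .a9, .a11]⟩,
  ⟨32, [.a5], [.a5]⟩,
  ⟨64, [.a6], [.a6]⟩,
  ⟨128, [.a7, .a11], [.a7, .a8, .a11]⟩,
  ⟨256, [.a8], [.a8]⟩]
def B16 : List Gv := [⟨[.a0, .a9], [.a0, .a3, .a6, .a9]⟩, ⟨[.a4, .a9, .a11], [.a4, .a5, .a8, .a9, .a11]⟩]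
def D16 : List Dv := [⟨[.a3, .a6], [0, 0], []⟩,
  ⟨[.a5, .a7, .a11], [2, 2, 1], [1, 2]⟩,
  ⟨[.a7, .a8, .a11], [0, 3, 3], []⟩,
  ⟨[.a8], [2, 4], [4, 2]⟩,
  ⟨[.a6, .a7, .a8, .a11], [5, 2, 4], [4, 2]⟩,
  ⟨[.a7, .a11], [2], [1]⟩,
  ⟨[.a6], [1], [0, 2]⟩,
  ⟨[.a5], [5], [1]⟩,
  ⟨[.a3], [7], [1]⟩]
def C16 : List Ch := [⟨PB, 0, [], []⟩,
  ⟨PA, 1, [], []⟩,
  ⟨P1, 0, [.a1], [.a1, .a2]⟩]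
def N16 : List Ent := [⟨1, [.a0, .a9], [.a0, .a3, .a6, .a9]⟩,
  ⟨4, [.a2], [.a2]⟩,
  ⟨8, [.a3], [.a3]⟩,
  ⟨16, [.a4, .a9, .a11], [.a4, .a5, .a8, .a9, .a11]⟩,
  ⟨32, [.a5], [.a5]⟩,
  ⟨64, [.a6], [.a6]⟩,
  ⟨128, [.a7, .a11], [.a7, .a8, .a11]⟩,
  ⟨256, [.a8], [.a8]⟩,
  ⟨512, [.a9], [.a9]⟩]
theorem bad16 (c : CtxM Goal γ) : Bad Goal γ PZ P16 :=
  c.toCtx.bnd (B := B16) (D := D16) (I := [9, 0, 10, 1, 2, 3, 5]) (r := 2) (C := C16) (N := N16) (by decide +kernel) (by decide +kernel) (by decide +kernel) (by decide +kernel)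
    (allB_cons (c.badB) (allB_cons (c.badA) (allB_cons (bad1 c) (allB_nil))))

def P17 : List Ent := [⟨1, [.a0, .a9], [.a0, .a3, .a6, .a9]⟩,
  ⟨4, [.a2, .a7, .a11], [.a2, .a5, .a6, .a7, .a11]⟩,
  ⟨8, [.a3], [.a3]⟩,
  ⟨16, [.a4, .a7, .a9], [.a4, .a5, .a6, .a7, .a9]⟩,
  ⟨32, [.a5], [.a5]⟩,
  ⟨64, [.a6], [.a6]⟩,
  ⟨256, [.a8], [.a8]⟩]
def B17 : List Gv := [⟨[.a0, .a9], [.a0, .a3, .a6, .a9]⟩, ⟨[.a2, .a7, .a11], [.a2, .a5, .a6, .a7, .a11]⟩]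
def D17 : List Dv := [⟨[.a3, .a6], [0, 0], []⟩,
  ⟨[.a4, .a5, .a6, .a7, .a9], [2, 1], [1, 2]⟩,
  ⟨[.a5, .a6], [3, 3], []⟩,
  ⟨[.a6, .a8], [0, 2, 4], [4, 2]⟩,
  ⟨[.a8], [0, 1, 2, 3], [3, 2]⟩,
  ⟨[.a6], [1], [0]⟩,
  ⟨[.a5], [3], [0]⟩,
  ⟨[.a4, .a7, .a9], [5], [0, 1]⟩,
  ⟨[.a3], [7], [2]⟩]
def C17 : List Ch := [⟨PB, 0, [], []⟩,
  ⟨PA, 1, [], []⟩,
  ⟨P1, 0, [.a1, .a3, .a4], [.a1, .a2, .a4, .a5]⟩]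
def N17 : List Ent := [⟨1, [.a0, .a9], [.a0, .a3, .a6, .a9]⟩,
  ⟨4, [.a2, .a7, .a11], [.a2, .a5, .a6, .a7, .a11]⟩,
  ⟨8, [.a3], [.a3]⟩,
  ⟨16, [.a4, .a7, .a9], [.a4, .a5, .a6, .a7, .a9]⟩,
  ⟨32, [.a5], [.a5]⟩,
  ⟨64, [.a6], [.a6]⟩,
  ⟨128, [.a7, .a11], [.a7, .a8, .a11]⟩,
  ⟨256, [.a8], [.a8]⟩,
  ⟨512, [.a9], [.a9]⟩]
theorem bad17 (c : CtxM Goal γ) : Bad Goal γ PZ P17 :=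
  c.toCtx.bnd (B := B17) (D := D17) (I := [9, 10, 0, 1, 2, 3, 4]) (r := 2) (C := C17) (N := N17) (by decide +kernel) (by decide +kernel) (by decide +kernel) (by decide +kernel)
    (allB_cons (c.badB) (allB_cons (c.badA) (allB_cons (bad1 c) (allB_nil))))

def P18 : List Ent := [⟨1, [.a0], [.a0]⟩,
  ⟨4, [.a2, .a9], [.a2, .a5, .a9]⟩,
  ⟨8, [.a3], [.a3]⟩,
  ⟨16, [.a4, .a7], [.a4, .a5, .a6, .a7, .a8]⟩,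
  ⟨32, [.a5], [.a5]⟩,
  ⟨64, [.a6], [.a6]⟩,
  ⟨256, [.a8], [.a8]⟩,
  ⟨2048, [.a11], [.a11]⟩]
def B18 : List Gv := [⟨[.a0], [.a0]⟩, ⟨[.a2, .a9], [.a2, .a5, .a9]⟩, ⟨[.a11], [.a11]⟩]
def D18 : List Dv := [⟨[.a3, .a6], [1, 0], [0, 1]⟩,
  ⟨[.a5], [2, 2], []⟩,
  ⟨[.a4, .a5, .a6, .a7, .a8], [1, 3, 4, 2], [2, 4]⟩,
  ⟨[.a6, .a8], [1, 5, 4], [4, 5]⟩,
  ⟨[.a8], [3, 6], [6, 3]⟩,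
  ⟨[.a6], [1], [0]⟩,
  ⟨[.a4, .a7], [3], [4, 0, 1]⟩,
  ⟨[.a3], [6], [1]⟩]
def C18 : List Ch := [⟨PB, 0, [], []⟩,
  ⟨P2, 1, [], []⟩,
  ⟨P3, 0, [], []⟩,
  ⟨PA, 2, [], []⟩,
  ⟨P4, 0, [], []⟩,
  ⟨P5, 1, [], []⟩,
  ⟨P6, 0, [], []⟩]
def S18 : List St := [.phi 1 [⟨4, [.a2, .a4, .a7, .a9], [.a2, .a4, .a6, .a7, .a9]⟩,
  ⟨8, [.a3], [.a3]⟩,
  ⟨32, [.a5], [.a5]⟩,
  ⟨64, [.a6], [.a6]⟩,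
  ⟨256, [.a8], [.a8]⟩] [[[.a0, .a4, .a7, .a8, .a11]], [[.a2, .a4, .a7, .a9], [.a0, .a2, .a8, .a9]], [[.a0, .a8]], [[.a2, .a4, .a7, .a9]], [[.a3, .a11]]],
  .om 0 [⟨8, [.a3], [.a3]⟩,
  ⟨32, [.a5], [.a5]⟩,
  ⟨64, [.a6], [.a6]⟩,
  ⟨256, [.a8], [.a8]⟩] [[[.a3]], [[.a5]], [[.a6]], [[.a8]]]]
theorem bad18 (c : CtxM Goal γ) : Bad Goal γ PZ P18 :=
  c.toCtx.chn (B := B18) (D := D18) (I := [8, 9, 0, 1, 6, 2, 3, 10]) (r := 3) (C := C18) (l := S18) (x := ⟨[.a9], [.a9]⟩) (ix := [0]) (by decide +kernel) (by decide +kernel) (by decide +kernel) (by decide +kernel)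
    (allB_cons (c.badB) (allB_cons (bad2 c) (allB_cons (bad3 c) (allB_cons (c.badA) (allB_cons (bad4 c) (allB_cons (bad5 c) (allB_cons (bad6 c) (allB_nil))))))))

def P19 : List Ent := [⟨1, [.a0], [.a0]⟩,
  ⟨4, [.a2], [.a2]⟩,
  ⟨8, [.a3], [.a3]⟩,
  ⟨16, [.a4, .a7, .a9], [.a4, .a5, .a6, .a7, .a9]⟩,
  ⟨32, [.a5], [.a5]⟩,
  ⟨64, [.a6], [.a6]⟩,
  ⟨256, [.a8], [.a8]⟩,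
  ⟨2048, [.a11], [.a11]⟩]
def B19 : List Gv := [⟨[.a0], [.a0]⟩, ⟨[.a2], [.a2]⟩, ⟨[.a11], [.a11]⟩, ⟨[.a3], [.a3]⟩]
def D19 : List Dv := [⟨[.a4, .a7, .a9], [3, 1, 2, 0], [0, 2]⟩,
  ⟨[.a5, .a6, .a8], [3, 2], [2, 3]⟩,
  ⟨[.a8], [5, 4], [4, 5]⟩,
  ⟨[.a6, .a8], [1, 2, 4], [4, 2]⟩,
  ⟨[.a6], [0], [1]⟩,
  ⟨[.a5], [3], [0, 2]⟩]
def C19 : List Ch := [⟨PB, 0, [], []⟩,
  ⟨P2, 1, [], []⟩,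
  ⟨P2, 0, [.a4], [.a4, .a5]⟩,
  ⟨PA, 2, [], []⟩,
  ⟨P7, 0, [], []⟩,
  ⟨P5, 1, [.a1], [.a1, .a2]⟩,
  ⟨P5, 0, [.a1, .a3, .a4], [.a1, .a2, .a4, .a5]⟩]
def S19 : List St := [.cent 1 1 0 [⟨32, [.a5], [.a5]⟩,
  ⟨64, [.a6], [.a6]⟩],
  .cent 2 2 0 [⟨4, [.a2, .a3], [.a2, .a3]⟩,
  ⟨16, [.a4, .a7, .a9], [.a4, .a5, .a6, .a7, .a9]⟩,
  ⟨32, [.a5], [.a5]⟩,
  ⟨64, [.a6], [.a6]⟩,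
  ⟨256, [.a8], [.a8]⟩]]
theorem bad19 (c : CtxM Goal γ) : Bad Goal γ PZ P19 :=
  c.toCtx.chn (B := B19) (D := D19) (I := [6, 7, 9, 5, 0, 1, 3, 8]) (r := 3) (C := C19) (l := S19) (x := ⟨[.a7], [.a7, .a8]⟩) (ix := [0, 1]) (by decide +kernel) (by decide +kernel) (by decide +kernel) (by decide +kernel)
    (allB_cons (c.badB) (allB_cons (bad2 c) (allB_cons (bad2 c) (allB_cons (c.badA) (allB_cons (bad7 c) (allB_cons (bad5 c) (allB_cons (bad5 c) (allB_nil))))))))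

def P20 : List Ent := [⟨1, [.a0, .a9], [.a0, .a3, .a6, .a9]⟩,
  ⟨4, [.a2], [.a2]⟩,
  ⟨8, [.a3], [.a3]⟩,
  ⟨16, [.a4, .a7, .a9], [.a4, .a5, .a6, .a7, .a9]⟩,
  ⟨32, [.a5], [.a5]⟩,
  ⟨64, [.a6], [.a6]⟩,
  ⟨256, [.a8], [.a8]⟩,
  ⟨2048, [.a11], [.a11]⟩]
def B20 : List Gv := [⟨[.a0, .a9], [.a0, .a3, .a6, .a9]⟩, ⟨[.a2], [.a2]⟩, ⟨[.a11], [.a11]⟩]
def D20 : List Dv := [⟨[.a3, .a6], [0, 0], []⟩,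
  ⟨[.a5], [2, 1], [1, 2]⟩,
  ⟨[.a4, .a6, .a7, .a9], [1, 3, 4, 2], [2, 4]⟩,
  ⟨[.a6, .a8], [1, 5, 4], [4, 5]⟩,
  ⟨[.a8], [3, 6], [6, 3]⟩,
  ⟨[.a6], [1], [0]⟩,
  ⟨[.a4, .a7, .a9], [3], [0]⟩,
  ⟨[.a3], [6], [1]⟩]
def C20 : List Ch := [⟨PB, 0, [], []⟩,
  ⟨P3, 1, [.a4], [.a4, .a5]⟩,
  ⟨P3, 0, [], []⟩,
  ⟨PA, 2, [], []⟩,
  ⟨P7, 0, [.a1], [.a1, .a2]⟩,
  ⟨P6, 1, [.a1, .a3, .a4], [.a1, .a2, .a4, .a5]⟩,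
  ⟨P6, 0, [.a1], [.a1, .a2]⟩]
def N20 : List Ent := [⟨1, [.a0, .a9], [.a0, .a3, .a6, .a9]⟩,
  ⟨4, [.a2], [.a2]⟩,
  ⟨8, [.a3], [.a3]⟩,
  ⟨16, [.a4, .a7, .a9], [.a4, .a5, .a6, .a7, .a9]⟩,
  ⟨32, [.a5], [.a5]⟩,
  ⟨64, [.a6], [.a6]⟩,
  ⟨128, [.a7], [.a7, .a8]⟩,
  ⟨256, [.a8], [.a8]⟩,
  ⟨512, [.a9], [.a9]⟩,
  ⟨2048, [.a11], [.a11]⟩]
theorem bad20 (c : CtxM Goal γ) : Bad Goal γ PZ P20 :=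
  c.toCtx.bnd (B := B20) (D := D20) (I := [8, 9, 0, 1, 6, 2, 3, 10]) (r := 3) (C := C20) (N := N20) (by decide +kernel) (by decide +kernel) (by decide +kernel) (by decide +kernel)
    (allB_cons (c.badB) (allB_cons (bad3 c) (allB_cons (bad3 c) (allB_cons (c.badA) (allB_cons (bad7 c) (allB_cons (bad6 c) (allB_cons (bad6 c) (allB_nil))))))))

def P21 : List Ent := [⟨1, [.a0], [.a0]⟩,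
  ⟨4, [.a2, .a4, .a7], [.a2, .a4, .a5, .a6, .a7, .a8]⟩,
  ⟨8, [.a3], [.a3]⟩,
  ⟨32, [.a5], [.a5]⟩,
  ⟨64, [.a6], [.a6]⟩,
  ⟨256, [.a8], [.a8]⟩,
  ⟨512, [.a9], [.a9]⟩,
  ⟨2048, [.a11], [.a11]⟩]
def B21 : List Gv := [⟨[.a0], [.a0]⟩, ⟨[.a2, .a4, .a7], [.a2, .a4, .a5, .a6, .a7, .a8]⟩, ⟨[.a11], [.a11]⟩]
def D21 : List Dv := [⟨[.a3], [1, 0], [0, 1]⟩,
  ⟨[.a5, .a6, .a8], [2, 2], []⟩,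
  ⟨[.a6, .a8, .a9], [1, 3, 4, 2], [2, 4]⟩,
  ⟨[.a9], [0, 1, 2, 4], [4, 2]⟩,
  ⟨[.a8], [3, 6], [6, 3]⟩,
  ⟨[.a6], [2], [0, 1]⟩,
  ⟨[.a5], [4], [0, 1]⟩]
def C21 : List Ch := [⟨PB, 0, [], []⟩,
  ⟨P2, 1, [], []⟩,
  ⟨P3, 0, [.a4], [.a4, .a5]⟩,
  ⟨PA, 2, [], []⟩,
  ⟨P8, 0, [], []⟩,
  ⟨P2, 1, [.a1], [.a1, .a2]⟩,
  ⟨P3, 0, [.a1, .a3, .a4], [.a1, .a2, .a4, .a5]⟩]
def N21 : List Ent := [⟨1, [.a0], [.a0]⟩,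
  ⟨2, [.a1], [.a1, .a2]⟩,
  ⟨4, [.a2, .a4, .a7], [.a2, .a4, .a5, .a6, .a7, .a8]⟩,
  ⟨8, [.a3], [.a3]⟩,
  ⟨16, [.a4, .a7], [.a4, .a5, .a6, .a7, .a8]⟩,
  ⟨32, [.a5], [.a5]⟩,
  ⟨64, [.a6], [.a6]⟩,
  ⟨256, [.a8], [.a8]⟩,
  ⟨512, [.a9], [.a9]⟩,
  ⟨2048, [.a11], [.a11]⟩]
theorem bad21 (c : CtxM Goal γ) : Bad Goal γ PZ P21 :=
  c.toCtx.bnd (B := B21) (D := D21) (I := [7, 8, 6, 0, 1, 2, 3, 9]) (r := 3) (C := C21) (N := N21) (by decide +kernel) (by decide +kernel) (by decide +kernel) (by decide +kernel)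
    (allB_cons (c.badB) (allB_cons (bad2 c) (allB_cons (bad3 c) (allB_cons (c.badA) (allB_cons (bad8 c) (allB_cons (bad2 c) (allB_cons (bad3 c) (allB_nil))))))))

def P22 : List Ent := [⟨1, [.a0, .a11], [.a0, .a2, .a3, .a4, .a5, .a6, .a7, .a9, .a11]⟩,
  ⟨4, [.a2], [.a2]⟩,
  ⟨8, [.a3], [.a3]⟩,
  ⟨16, [.a4, .a7], [.a4, .a5, .a6, .a7, .a8]⟩,
  ⟨32, [.a5], [.a5]⟩,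
  ⟨64, [.a6], [.a6]⟩,
  ⟨256, [.a8], [.a8]⟩,
  ⟨512, [.a9], [.a9]⟩]
def B22 : List Gv := [⟨[.a0, .a11], [.a0, .a2, .a3, .a4, .a5, .a6, .a7, .a9, .a11]⟩, ⟨[.a2], [.a2]⟩, ⟨[.a4, .a7], [.a4, .a5, .a6, .a7, .a8]⟩]
def D22 : List Dv := [⟨[.a3, .a4, .a5, .a6, .a7, .a9], [1, 0, 0], []⟩,
  ⟨[.a6, .a8], [2, 1], [1, 2]⟩,
  ⟨[.a5, .a8, .a9], [4, 1, 4, 2], [2, 4]⟩,
  ⟨[.a8, .a9], [1, 0, 5, 5], []⟩,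
  ⟨[.a9], [1, 3, 6], [6, 3]⟩,
  ⟨[.a8], [1], [0]⟩,
  ⟨[.a6], [4], [0]⟩,
  ⟨[.a5], [4], [1, 2]⟩,
  ⟨[.a3], [7], [10, 0, 1, 3]⟩]
def C22 : List Ch := [⟨PA, 0, [], []⟩,
  ⟨P4, 1, [], []⟩,
  ⟨P4, 0, [.a1], [.a1, .a2]⟩,
  ⟨P7, 2, [], []⟩,
  ⟨P7, 0, [.a1], [.a1, .a2]⟩,
  ⟨P8, 1, [], []⟩,
  ⟨P8, 0, [.a4], [.a4, .a5]⟩]
def N22 : List Ent := [⟨1, [.a0, .a11], [.a0, .a2, .a3, .a4, .a5, .a6, .a7, .a9, .a11]⟩,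
  ⟨2, [.a1], [.a1, .a2]⟩,
  ⟨4, [.a2], [.a2]⟩,
  ⟨8, [.a3], [.a3]⟩,
  ⟨16, [.a4, .a7], [.a4, .a5, .a6, .a7, .a8]⟩,
  ⟨32, [.a5], [.a5]⟩,
  ⟨64, [.a6], [.a6]⟩,
  ⟨128, [.a7], [.a7, .a8]⟩,
  ⟨256, [.a8], [.a8]⟩,
  ⟨512, [.a9], [.a9]⟩,
  ⟨2048, [.a11], [.a11]⟩]
theorem bad22 (c : CtxM Goal γ) : Bad Goal γ PZ P22 :=
  c.toCtx.bnd (B := B22) (D := D22) (I := [9, 10, 0, 11, 1, 2, 3, 4]) (r := 3) (C := C22) (N := N22) (by decide +kernel) (by decide +kernel) (by decide +kernel) (by decide +kernel)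
    (allB_cons (c.badA) (allB_cons (bad4 c) (allB_cons (bad4 c) (allB_cons (bad7 c) (allB_cons (bad7 c) (allB_cons (bad8 c) (allB_cons (bad8 c) (allB_nil))))))))

def P23 : List Ent := [⟨1, [.a0], [.a0]⟩,
  ⟨4, [.a2, .a11], [.a2, .a5, .a6, .a8, .a11]⟩,
  ⟨8, [.a3], [.a3]⟩,
  ⟨16, [.a4, .a7, .a11], [.a4, .a5, .a6, .a7, .a8, .a11]⟩,
  ⟨32, [.a5], [.a5]⟩,
  ⟨64, [.a6], [.a6]⟩,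
  ⟨256, [.a8], [.a8]⟩,
  ⟨512, [.a9], [.a9]⟩]
def B23 : List Gv := [⟨[.a0], [.a0]⟩, ⟨[.a2, .a11], [.a2, .a5, .a6, .a8, .a11]⟩, ⟨[.a4, .a7, .a11], [.a4, .a5, .a6, .a7, .a8, .a11]⟩]
def D23 : List Dv := [⟨[.a3, .a4, .a6, .a7, .a9, .a11], [1, 1, 0], [0, 1]⟩,
  ⟨[.a5, .a6, .a8], [2, 2], []⟩,
  ⟨[.a8, .a9], [4, 3, 4, 2], [2, 4]⟩,
  ⟨[.a6], [1, 2, 4, 2, 3], [3, 2]⟩,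
  ⟨[.a9], [1, 0, 2, 3, 6], [6, 3]⟩,
  ⟨[.a8], [2], [0]⟩,
  ⟨[.a5], [4], [2, 0]⟩,
  ⟨[.a3], [6], [9, 3, 2]⟩]
def C23 : List Ch := [⟨PB, 0, [], []⟩,
  ⟨P5, 1, [], []⟩,
  ⟨P6, 0, [.a4], [.a4, .a5]⟩,
  ⟨P5, 2, [.a1], [.a1, .a2]⟩,
  ⟨P6, 0, [.a1, .a3, .a4], [.a1, .a2, .a4, .a5]⟩,
  ⟨PA, 1, [], []⟩,
  ⟨P8, 0, [.a4], [.a4, .a5]⟩]
def N23 : List Ent := [⟨1, [.a0], [.a0]⟩,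
  ⟨2, [.a1], [.a1, .a2]⟩,
  ⟨4, [.a2, .a11], [.a2, .a5, .a6, .a8, .a11]⟩,
  ⟨8, [.a3], [.a3]⟩,
  ⟨16, [.a4, .a7, .a11], [.a4, .a5, .a6, .a7, .a8, .a11]⟩,
  ⟨32, [.a5], [.a5]⟩,
  ⟨64, [.a6], [.a6]⟩,
  ⟨256, [.a8], [.a8]⟩,
  ⟨512, [.a9], [.a9]⟩,
  ⟨2048, [.a11], [.a11]⟩]
theorem bad23 (c : CtxM Goal γ) : Bad Goal γ PZ P23 :=
  c.toCtx.bnd (B := B23) (D := D23) (I := [8, 9, 0, 10, 1, 4, 2, 3]) (r := 3) (C := C23) (N := N23) (by decide +kernel) (by decide +kernel) (by decide +kernel) (by decide +kernel)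
    (allB_cons (c.badB) (allB_cons (bad5 c) (allB_cons (bad6 c) (allB_cons (bad5 c) (allB_cons (bad6 c) (allB_cons (c.badA) (allB_cons (bad8 c) (allB_nil))))))))

def P24 : List Ent := [⟨1, [.a0], [.a0]⟩,
  ⟨2, [.a1, .a7, .a11], [.a1, .a2, .a5, .a6, .a7, .a8, .a9, .a11]⟩,
  ⟨4, [.a2, .a9], [.a2, .a5, .a9]⟩,
  ⟨8, [.a3], [.a3]⟩,
  ⟨16, [.a4, .a7, .a9], [.a4, .a5, .a6, .a7, .a9]⟩,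
  ⟨32, [.a5], [.a5]⟩,
  ⟨64, [.a6], [.a6]⟩,
  ⟨256, [.a8], [.a8]⟩]
def B24 : List Gv := [⟨[.a0], [.a0]⟩, ⟨[.a1, .a7, .a11], [.a1, .a2, .a5, .a6, .a7, .a8, .a9, .a11]⟩]
def D24 : List Dv := [⟨[.a3, .a4, .a7, .a8, .a9], [1, 0], [0, 1]⟩,
  ⟨[.a2, .a5, .a9], [2, 2], []⟩,
  ⟨[.a6], [1, 2], [2, 1]⟩,
  ⟨[.a4, .a5, .a7, .a8, .a9], [2, 2, 4], [4, 2]⟩,
  ⟨[.a5], [0, 3, 2, 4], [4, 2]⟩,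
  ⟨[.a8], [0, 3, 4], [4, 3]⟩,
  ⟨[.a4, .a7, .a9], [2], [1, 0]⟩,
  ⟨[.a3], [6], [0, 1]⟩,
  ⟨[.a2, .a9], [6], [3]⟩]
def C24 : List Ch := [⟨PB, 0, [], []⟩,
  ⟨PA, 1, [], []⟩,
  ⟨P4, 0, [.a1, .a10], [.a1, .a2, .a4, .a5, .a7, .a9, .a10, .a11]⟩]
def S24 : List St := [.phi 1 [⟨4, [.a2, .a9], [.a2, .a5, .a9]⟩,
  ⟨8, [.a3], [.a3]⟩,
  ⟨16, [.a4, .a7, .a9], [.a4, .a5, .a6, .a7, .a9]⟩,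
  ⟨32, [.a5], [.a5]⟩,
  ⟨64, [.a6], [.a6]⟩,
  ⟨256, [.a8], [.a8]⟩] [[[.a1, .a6, .a7, .a11]], [[.a3, .a4, .a7, .a9], [.a0, .a2, .a8, .a9]], [[.a0, .a1, .a2, .a7, .a9, .a11], [.a1, .a6, .a7, .a11]], [[.a0, .a8]], [[.a3, .a4, .a7, .a9]], [[.a3, .a4, .a7, .a9], [.a2, .a3, .a4, .a7]]],
  .comm 0 2 [⟨8, [.a3, .a6], [.a3, .a6]⟩,
  ⟨32, [.a5], [.a5]⟩,
  ⟨64, [.a6], [.a6]⟩,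
  ⟨256, [.a8], [.a8]⟩] [⟨[.a2, .a9], [.a0]⟩, ⟨[.a8], [.a0]⟩, ⟨[.a4, .a7, .a9], [.a0, .a3]⟩, ⟨[.a2, .a3, .a9], [.a2, .a4, .a7]⟩]]
theorem bad24 (c : CtxM Goal γ) : Bad Goal γ PZ P24 :=
  c.toCtx.chn (B := B24) (D := D24) (I := [9, 10, 0, 1, 2, 4, 6, 3]) (r := 2) (C := C24) (l := S24) (x := ⟨[.a9], [.a9]⟩) (ix := [0]) (by decide +kernel) (by decide +kernel) (by decide +kernel) (by decide +kernel)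
    (allB_cons (c.badB) (allB_cons (c.badA) (allB_cons (bad4 c) (allB_nil))))

def P25 : List Ent := [⟨1, [.a0, .a10], [.a0, .a1, .a2, .a3, .a4, .a6, .a8, .a9, .a10, .a11]⟩,
  ⟨2, [.a1, .a7, .a11], [.a1, .a2, .a5, .a6, .a7, .a8, .a9, .a11]⟩,
  ⟨4, [.a2], [.a2]⟩,
  ⟨8, [.a3], [.a3]⟩,
  ⟨32, [.a5], [.a5]⟩,
  ⟨64, [.a6], [.a6]⟩,
  ⟨256, [.a8], [.a8]⟩,
  ⟨512, [.a9], [.a9]⟩]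
def B25 : List Gv := [⟨[.a0, .a10], [.a0, .a1, .a2, .a3, .a4, .a6, .a8, .a9, .a10, .a11]⟩, ⟨[.a1, .a7, .a11], [.a1, .a2, .a5, .a6, .a7, .a8, .a9, .a11]⟩]
def D25 : List Dv := [⟨[.a2, .a3, .a5, .a6], [1, 0, 0], []⟩,
  ⟨[.a3, .a5], [2, 1], [1, 2]⟩,
  ⟨[.a5, .a6, .a9], [0, 1, 3, 3], []⟩,
  ⟨[.a6], [2, 4], [4, 2]⟩,
  ⟨[.a9], [1, 2, 4], [4, 2]⟩,
  ⟨[.a8, .a9], [1, 2, 3, 6], [6, 3]⟩,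
  ⟨[.a8], [0], [1]⟩,
  ⟨[.a5], [4], [3, 2]⟩,
  ⟨[.a3], [6], [0]⟩,
  ⟨[.a2], [8], [0, 1, 5]⟩]
def C25 : List Ch := [⟨PB, 0, [], []⟩,
  ⟨P9, 1, [], []⟩,
  ⟨P9, 0, [.a4], [.a4, .a5]⟩]
def N25 : List Ent := [⟨1, [.a0, .a10], [.a0, .a1, .a2, .a3, .a4, .a6, .a8, .a9, .a10, .a11]⟩,
  ⟨2, [.a1, .a7, .a11], [.a1, .a2, .a5, .a6, .a7, .a8, .a9, .a11]⟩,
  ⟨4, [.a2], [.a2]⟩,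
  ⟨8, [.a3], [.a3]⟩,
  ⟨16, [.a4], [.a4, .a5]⟩,
  ⟨32, [.a5], [.a5]⟩,
  ⟨64, [.a6], [.a6]⟩,
  ⟨128, [.a7], [.a7, .a8]⟩,
  ⟨256, [.a8], [.a8]⟩,
  ⟨512, [.a9], [.a9]⟩]
theorem bad25 (c : CtxM Goal γ) : Bad Goal γ PZ P25 :=
  c.toCtx.bnd (B := B25) (D := D25) (I := [10, 11, 0, 1, 2, 6, 3, 5]) (r := 2) (C := C25) (N := N25) (by decide +kernel) (by decide +kernel) (by decide +kernel) (by decide +kernel)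
    (allB_cons (c.badB) (allB_cons (bad9 c) (allB_cons (bad9 c) (allB_nil))))

def P26 : List Ent := [⟨1, [.a0, .a7], [.a0, .a2, .a3, .a5, .a7, .a8]⟩,
  ⟨4, [.a2], [.a2]⟩,
  ⟨8, [.a3], [.a3]⟩,
  ⟨16, [.a4, .a7, .a9], [.a4, .a5, .a6, .a7, .a9]⟩,
  ⟨32, [.a5], [.a5]⟩,
  ⟨64, [.a6], [.a6]⟩,
  ⟨256, [.a8], [.a8]⟩,
  ⟨2048, [.a11], [.a11]⟩]
def B26 : List Gv := [⟨[.a0, .a7], [.a0, .a2, .a3, .a5, .a7, .a8]⟩, ⟨[.a11], [.a11]⟩, ⟨[.a3], [.a3]⟩]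
def D26 : List Dv := [⟨[.a2, .a3, .a8], [0, 0], []⟩,
  ⟨[.a4, .a7, .a8, .a9], [0, 2, 1], [1, 2]⟩,
  ⟨[.a5], [4, 2], [2, 4]⟩,
  ⟨[.a8], [5, 4], [4, 5]⟩,
  ⟨[.a6], [1, 3, 5], [5, 3]⟩,
  ⟨[.a4, .a7, .a9], [3], [1]⟩,
  ⟨[.a2], [5], [8, 2]⟩]
def C26 : List Ch := [⟨PB, 0, [], []⟩,
  ⟨PA, 1, [], []⟩,
  ⟨P10, 0, [], []⟩]
def N26 : List Ent := [⟨1, [.a0, .a7], [.a0, .a2, .a3, .a5, .a7, .a8]⟩,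
  ⟨4, [.a2], [.a2]⟩,
  ⟨8, [.a3], [.a3]⟩,
  ⟨16, [.a4, .a7, .a9], [.a4, .a5, .a6, .a7, .a9]⟩,
  ⟨32, [.a5], [.a5]⟩,
  ⟨64, [.a6], [.a6]⟩,
  ⟨128, [.a7], [.a7, .a8]⟩,
  ⟨256, [.a8], [.a8]⟩,
  ⟨512, [.a9], [.a9]⟩,
  ⟨2048, [.a11], [.a11]⟩]
theorem bad26 (c : CtxM Goal γ) : Bad Goal γ PZ P26 :=
  c.toCtx.bnd (B := B26) (D := D26) (I := [7, 0, 9, 1, 4, 2, 3, 8]) (r := 2) (C := C26) (N := N26) (by decide +kernel) (by decide +kernel) (by decide +kernel) (by decide +kernel)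
    (allB_cons (c.badB) (allB_cons (c.badA) (allB_cons (bad10 c) (allB_nil))))

def P27 : List Ent := [⟨1, [.a0, .a7, .a9], [.a0, .a2, .a6, .a7, .a8, .a9]⟩,
  ⟨4, [.a2], [.a2]⟩,
  ⟨8, [.a3], [.a3]⟩,
  ⟨16, [.a4, .a7, .a9], [.a4, .a5, .a6, .a7, .a9]⟩,
  ⟨32, [.a5], [.a5]⟩,
  ⟨64, [.a6], [.a6]⟩,
  ⟨256, [.a8], [.a8]⟩,
  ⟨2048, [.a11], [.a11]⟩]
def B27 : List Gv := [⟨[.a0, .a7, .a9], [.a0, .a2, .a6, .a7, .a8, .a9]⟩, ⟨[.a11], [.a11]⟩, ⟨[.a3], [.a3]⟩]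
def D27 : List Dv := [⟨[.a2, .a5, .a6, .a8], [0, 0], []⟩,
  ⟨[.a4, .a5, .a6, .a7, .a8, .a9], [3, 0, 2, 1], [1, 2]⟩,
  ⟨[.a5], [4, 2], [2, 4]⟩,
  ⟨[.a8], [5, 4], [4, 5]⟩,
  ⟨[.a6, .a8], [1, 3, 5], [5, 3]⟩,
  ⟨[.a6], [0], [1]⟩,
  ⟨[.a4, .a7, .a9], [4], [3, 0, 2]⟩,
  ⟨[.a2], [6], [4, 1, 3]⟩]
def C27 : List Ch := [⟨PB, 0, [], []⟩,
  ⟨PA, 1, [], []⟩,
  ⟨P10, 0, [.a1], [.a1, .a2]⟩]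
def N27 : List Ent := [⟨1, [.a0, .a7, .a9], [.a0, .a2, .a6, .a7, .a8, .a9]⟩,
  ⟨4, [.a2], [.a2]⟩,
  ⟨8, [.a3], [.a3]⟩,
  ⟨16, [.a4, .a7, .a9], [.a4, .a5, .a6, .a7, .a9]⟩,
  ⟨32, [.a5], [.a5]⟩,
  ⟨64, [.a6], [.a6]⟩,
  ⟨128, [.a7], [.a7, .a8]⟩,
  ⟨256, [.a8], [.a8]⟩,
  ⟨512, [.a9], [.a9]⟩,
  ⟨2048, [.a11], [.a11]⟩]
theorem bad27 (c : CtxM Goal γ) : Bad Goal γ PZ P27 :=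
  c.toCtx.bnd (B := B27) (D := D27) (I := [8, 0, 10, 1, 5, 2, 4, 9]) (r := 2) (C := C27) (N := N27) (by decide +kernel) (by decide +kernel) (by decide +kernel) (by decide +kernel)
    (allB_cons (c.badB) (allB_cons (c.badA) (allB_cons (bad10 c) (allB_nil))))

def P28 : List Ent := [⟨1, [.a0, .a7, .a11], [.a0, .a4, .a5, .a9, .a11]⟩,
  ⟨4, [.a2], [.a2]⟩,
  ⟨8, [.a3], [.a3]⟩,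
  ⟨16, [.a4, .a7], [.a4, .a5, .a6, .a7, .a8]⟩,
  ⟨32, [.a5], [.a5]⟩,
  ⟨64, [.a6], [.a6]⟩,
  ⟨256, [.a8], [.a8]⟩,
  ⟨512, [.a9], [.a9]⟩]
def B28 : List Gv := [⟨[.a0, .a7, .a11], [.a0, .a4, .a5, .a9, .a11]⟩, ⟨[.a2], [.a2]⟩, ⟨[.a4, .a7], [.a4, .a5, .a6, .a7, .a8]⟩]
def D28 : List Dv := [⟨[.a5, .a6, .a9], [2, 0, 0], []⟩,
  ⟨[.a6, .a8], [2, 1], [1, 2]⟩,
  ⟨[.a3, .a6], [4, 2], [2, 4]⟩,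
  ⟨[.a8, .a9], [2, 5, 5], []⟩,
  ⟨[.a9], [0, 3, 6], [6, 3]⟩,
  ⟨[.a8], [1], [0]⟩,
  ⟨[.a6], [4], [0]⟩,
  ⟨[.a5], [6], [0, 2]⟩,
  ⟨[.a3], [5], [1]⟩]
def C28 : List Ch := [⟨PA, 0, [], []⟩,
  ⟨P11, 1, [], []⟩,
  ⟨P11, 0, [.a4], [.a4, .a5]⟩,
  ⟨P10, 2, [], []⟩,
  ⟨P10, 0, [.a1], [.a1, .a2]⟩,
  ⟨P12, 1, [], []⟩,
  ⟨P12, 0, [.a1], [.a1, .a2]⟩]
def N28 : List Ent := [⟨1, [.a0, .a7, .a11], [.a0, .a4, .a5, .a9, .a11]⟩,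
  ⟨2, [.a1], [.a1, .a2]⟩,
  ⟨4, [.a2], [.a2]⟩,
  ⟨8, [.a3], [.a3]⟩,
  ⟨16, [.a4, .a7], [.a4, .a5, .a6, .a7, .a8]⟩,
  ⟨32, [.a5], [.a5]⟩,
  ⟨64, [.a6], [.a6]⟩,
  ⟨128, [.a7], [.a7, .a8]⟩,
  ⟨256, [.a8], [.a8]⟩,
  ⟨512, [.a9], [.a9]⟩,
  ⟨2048, [.a11], [.a11]⟩]
theorem bad28 (c : CtxM Goal γ) : Bad Goal γ PZ P28 :=
  c.toCtx.bnd (B := B28) (D := D28) (I := [9, 10, 0, 11, 1, 2, 3, 4]) (r := 3) (C := C28) (N := N28) (by decide +kernel) (by decide +kernel) (by decide +kernel) (by decide +kernel)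
    (allB_cons (c.badA) (allB_cons (bad11 c) (allB_cons (bad11 c) (allB_cons (bad10 c) (allB_cons (bad10 c) (allB_cons (bad12 c) (allB_cons (bad12 c) (allB_nil))))))))

def P29 : List Ent := [⟨1, [.a0, .a7, .a10], [.a0, .a1, .a3, .a4, .a7, .a10, .a11]⟩,
  ⟨2, [.a1, .a7, .a11], [.a1, .a2, .a5, .a6, .a7, .a8, .a9, .a11]⟩,
  ⟨4, [.a2], [.a2]⟩,
  ⟨8, [.a3], [.a3]⟩,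
  ⟨32, [.a5], [.a5]⟩,
  ⟨64, [.a6], [.a6]⟩,
  ⟨256, [.a8], [.a8]⟩,
  ⟨512, [.a9], [.a9]⟩]
def B29 : List Gv := [⟨[.a0, .a7, .a10], [.a0, .a1, .a3, .a4, .a7, .a10, .a11]⟩, ⟨[.a1, .a7, .a11], [.a1, .a2, .a5, .a6, .a7, .a8, .a9, .a11]⟩]
def D29 : List Dv := [⟨[.a5, .a8, .a9], [1, 0, 0], []⟩,
  ⟨[.a3, .a5, .a6], [2, 1], [1, 2]⟩,
  ⟨[.a2, .a5, .a9], [3, 3], []⟩,
  ⟨[.a6, .a8], [2, 4], [4, 2]⟩,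
  ⟨[.a8, .a9], [0, 3, 2, 4], [4, 2]⟩,
  ⟨[.a9], [0, 3, 6], [6, 3]⟩,
  ⟨[.a8], [1], [0]⟩,
  ⟨[.a6], [3], [0]⟩,
  ⟨[.a5], [7], [1, 2]⟩,
  ⟨[.a3], [7], [0, 1]⟩,
  ⟨[.a2], [7], [1, 4]⟩]
def C29 : List Ch := [⟨PB, 0, [], []⟩,
  ⟨P13, 1, [], []⟩,
  ⟨P13, 0, [.a4], [.a4, .a5]⟩]
def N29 : List Ent := [⟨1, [.a0, .a7, .a10], [.a0, .a1, .a3, .a4, .a7, .a10, .a11]⟩,
  ⟨2, [.a1, .a7, .a11], [.a1, .a2, .a5, .a6, .a7, .a8, .a9, .a11]⟩,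
  ⟨4, [.a2], [.a2]⟩,
  ⟨8, [.a3], [.a3]⟩,
  ⟨16, [.a4], [.a4, .a5]⟩,
  ⟨32, [.a5], [.a5]⟩,
  ⟨64, [.a6], [.a6]⟩,
  ⟨128, [.a7], [.a7, .a8]⟩,
  ⟨256, [.a8], [.a8]⟩,
  ⟨512, [.a9], [.a9]⟩]
theorem bad29 (c : CtxM Goal γ) : Bad Goal γ PZ P29 :=
  c.toCtx.bnd (B := B29) (D := D29) (I := [11, 12, 0, 1, 2, 3, 4, 5]) (r := 2) (C := C29) (N := N29) (by decide +kernel) (by decide +kernel) (by decide +kernel) (by decide +kernel)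
    (allB_cons (c.badB) (allB_cons (bad13 c) (allB_cons (bad13 c) (allB_nil))))

def P30 : List Ent := [⟨1, [.a0, .a11], [.a0, .a2, .a3, .a4, .a5, .a6, .a7, .a9, .a11]⟩,
  ⟨4, [.a2], [.a2]⟩,
  ⟨8, [.a3], [.a3]⟩,
  ⟨16, [.a4, .a9], [.a4, .a5, .a8, .a9]⟩,
  ⟨32, [.a5], [.a5]⟩,
  ⟨64, [.a6], [.a6]⟩,
  ⟨128, [.a7], [.a7, .a8]⟩,
  ⟨256, [.a8], [.a8]⟩]
def B30 : List Gv := [⟨[.a0, .a11], [.a0, .a2, .a3, .a4, .a5, .a6, .a7, .a9, .a11]⟩, ⟨[.a4, .a9], [.a4, .a5, .a8, .a9]⟩, ⟨[.a3], [.a3]⟩]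
def D30 : List Dv := [⟨[.a2, .a3, .a4, .a5, .a6, .a7, .a9], [0, 0], []⟩,
  ⟨[.a7, .a8], [2, 0, 2, 1], [1, 2]⟩,
  ⟨[.a5, .a8], [3, 3], []⟩,
  ⟨[.a6, .a8], [0, 2, 4], [4, 2]⟩,
  ⟨[.a8], [1, 3, 6], [6, 3]⟩,
  ⟨[.a7], [3], [0]⟩,
  ⟨[.a6], [2], [1]⟩,
  ⟨[.a5], [4], [2]⟩,
  ⟨[.a2], [7], [10, 9, 0, 1, 2]⟩]
def C30 : List Ch := [⟨PA, 0, [], []⟩,
  ⟨P7, 1, [], []⟩,
  ⟨P10, 0, [], []⟩]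
def N30 : List Ent := [⟨1, [.a0, .a11], [.a0, .a2, .a3, .a4, .a5, .a6, .a7, .a9, .a11]⟩,
  ⟨4, [.a2], [.a2]⟩,
  ⟨8, [.a3], [.a3]⟩,
  ⟨16, [.a4, .a9], [.a4, .a5, .a8, .a9]⟩,
  ⟨32, [.a5], [.a5]⟩,
  ⟨64, [.a6], [.a6]⟩,
  ⟨128, [.a7], [.a7, .a8]⟩,
  ⟨256, [.a8], [.a8]⟩,
  ⟨512, [.a9], [.a9]⟩,
  ⟨2048, [.a11], [.a11]⟩]
theorem bad30 (c : CtxM Goal γ) : Bad Goal γ PZ P30 :=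
  c.toCtx.bnd (B := B30) (D := D30) (I := [9, 0, 11, 10, 1, 2, 3, 4]) (r := 2) (C := C30) (N := N30) (by decide +kernel) (by decide +kernel) (by decide +kernel) (by decide +kernel)
    (allB_cons (c.badA) (allB_cons (bad7 c) (allB_cons (bad10 c) (allB_nil))))

def P31 : List Ent := [⟨1, [.a0], [.a0]⟩,
  ⟨4, [.a2], [.a2]⟩,
  ⟨8, [.a3], [.a3]⟩,
  ⟨16, [.a4, .a9, .a11], [.a4, .a5, .a8, .a9, .a11]⟩,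
  ⟨32, [.a5], [.a5]⟩,
  ⟨64, [.a6], [.a6]⟩,
  ⟨128, [.a7, .a11], [.a7, .a8, .a11]⟩,
  ⟨256, [.a8], [.a8]⟩]
def B31 : List Gv := [⟨[.a0], [.a0]⟩, ⟨[.a2], [.a2]⟩, ⟨[.a4, .a9, .a11], [.a4, .a5, .a8, .a9, .a11]⟩, ⟨[.a3], [.a3]⟩]
def D31 : List Dv := [⟨[.a7, .a8, .a11], [2, 2, 0], [0, 2]⟩,
  ⟨[.a6, .a8], [3, 2], [2, 3]⟩,
  ⟨[.a5, .a8], [4, 4], []⟩,
  ⟨[.a8], [6, 5], [5, 6]⟩,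
  ⟨[.a7, .a11], [3], [0]⟩,
  ⟨[.a6], [3], [1]⟩,
  ⟨[.a5], [3], [2]⟩]
def C31 : List Ch := [⟨PB, 0, [], []⟩,
  ⟨P14, 1, [], []⟩,
  ⟨P14, 0, [.a4], [.a4, .a5]⟩,
  ⟨PA, 2, [], []⟩,
  ⟨P10, 0, [], []⟩,
  ⟨P15, 1, [], []⟩,
  ⟨P15, 0, [.a4], [.a4, .a5]⟩]
def S31 : List St := [.cent 1 1 0 [⟨32, [.a5], [.a5]⟩,
  ⟨64, [.a6], [.a6]⟩],
  .phi 2 [⟨16, [.a4, .a7, .a9], [.a4, .a5, .a6, .a7, .a9]⟩,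
  ⟨32, [.a5], [.a5]⟩,
  ⟨64, [.a6], [.a6]⟩,
  ⟨256, [.a8], [.a8]⟩] [[[.a0, .a3, .a7, .a11]], [[.a0, .a8]], [[.a2, .a4, .a7, .a9]], [[.a7, .a11]]],
  .cent 3 3 1 [⟨4, [.a2, .a3], [.a2, .a3]⟩,
  ⟨16, [.a4, .a7, .a9], [.a4, .a5, .a6, .a7, .a9]⟩,
  ⟨32, [.a5], [.a5]⟩,
  ⟨64, [.a6], [.a6]⟩,
  ⟨256, [.a8], [.a8]⟩],
  .phi 1 [⟨32, [.a5, .a6], [.a5, .a6]⟩] [[[.a4, .a7, .a9]]]]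
theorem bad31 (c : CtxM Goal γ) : Bad Goal γ PZ P31 :=
  c.toCtx.chn (B := B31) (D := D31) (I := [7, 8, 10, 9, 0, 1, 2, 3]) (r := 3) (C := C31) (l := S31) (x := ⟨[.a11], [.a11]⟩) (ix := [1, 0]) (by decide +kernel) (by decide +kernel) (by decide +kernel) (by decide +kernel)
    (allB_cons (c.badB) (allB_cons (bad14 c) (allB_cons (bad14 c) (allB_cons (c.badA) (allB_cons (bad10 c) (allB_cons (bad15 c) (allB_cons (bad15 c) (allB_nil))))))))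

def P32 : List Ent := [⟨1, [.a0, .a11], [.a0, .a2, .a3, .a4, .a5, .a6, .a7, .a9, .a11]⟩,
  ⟨4, [.a2], [.a2]⟩,
  ⟨8, [.a3], [.a3]⟩,
  ⟨16, [.a4, .a9, .a11], [.a4, .a5, .a8, .a9, .a11]⟩,
  ⟨32, [.a5], [.a5]⟩,
  ⟨64, [.a6], [.a6]⟩,
  ⟨128, [.a7, .a11], [.a7, .a8, .a11]⟩,
  ⟨256, [.a8], [.a8]⟩]
def B32 : List Gv := [⟨[.a0, .a11], [.a0, .a2, .a3, .a4, .a5, .a6, .a7, .a9, .a11]⟩, ⟨[.a4, .a9, .a11], [.a4, .a5, .a8, .a9, .a11]⟩, ⟨[.a3], [.a3]⟩]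
def D32 : List Dv := [⟨[.a2, .a3, .a4, .a5, .a6, .a7, .a9], [0, 0], []⟩,
  ⟨[.a7, .a8, .a11], [2, 2, 1], [1, 2]⟩,
  ⟨[.a5, .a8], [3, 3], []⟩,
  ⟨[.a8], [5, 4], [4, 5]⟩,
  ⟨[.a6, .a8], [1, 3, 3], []⟩,
  ⟨[.a7, .a11], [3], [1]⟩,
  ⟨[.a6], [1], [2]⟩,
  ⟨[.a5], [4], [3]⟩,
  ⟨[.a2], [7], [10, 9, 0, 1, 2]⟩]
def C32 : List Ch := [⟨PB, 0, [], []⟩,
  ⟨P7, 1, [], []⟩,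
  ⟨PA, 0, [], []⟩]
def N32 : List Ent := [⟨1, [.a0, .a11], [.a0, .a2, .a3, .a4, .a5, .a6, .a7, .a9, .a11]⟩,
  ⟨4, [.a2], [.a2]⟩,
  ⟨8, [.a3], [.a3]⟩,
  ⟨16, [.a4, .a9, .a11], [.a4, .a5, .a8, .a9, .a11]⟩,
  ⟨32, [.a5], [.a5]⟩,
  ⟨64, [.a6], [.a6]⟩,
  ⟨128, [.a7, .a11], [.a7, .a8, .a11]⟩,
  ⟨256, [.a8], [.a8]⟩,
  ⟨512, [.a9], [.a9]⟩,
  ⟨2048, [.a11], [.a11]⟩]
theorem bad32 (c : CtxM Goal γ) : Bad Goal γ PZ P32 :=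
  c.toCtx.bnd (B := B32) (D := D32) (I := [9, 0, 11, 10, 1, 2, 3, 5]) (r := 2) (C := C32) (N := N32) (by decide +kernel) (by decide +kernel) (by decide +kernel) (by decide +kernel)
    (allB_cons (c.badB) (allB_cons (bad7 c) (allB_cons (c.badA) (allB_nil))))

def P33 : List Ent := [⟨1, [.a0, .a9], [.a0, .a3, .a6, .a9]⟩,
  ⟨4, [.a2], [.a2]⟩,
  ⟨8, [.a3], [.a3]⟩,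
  ⟨16, [.a4, .a9, .a11], [.a4, .a5, .a8, .a9, .a11]⟩,
  ⟨32, [.a5], [.a5]⟩,
  ⟨64, [.a6], [.a6]⟩,
  ⟨128, [.a7, .a11], [.a7, .a8, .a11]⟩,
  ⟨256, [.a8], [.a8]⟩]
def B33 : List Gv := [⟨[.a0, .a9], [.a0, .a3, .a6, .a9]⟩, ⟨[.a2], [.a2]⟩, ⟨[.a4, .a9, .a11], [.a4, .a5, .a8, .a9, .a11]⟩]
def D33 : List Dv := [⟨[.a3, .a6], [0, 0], []⟩,
  ⟨[.a5], [2, 1], [1, 2]⟩,
  ⟨[.a7, .a11], [0, 4, 4, 2], [2, 4]⟩,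
  ⟨[.a6, .a8], [5, 4], [4, 5]⟩,
  ⟨[.a8], [2, 6, 6], []⟩,
  ⟨[.a6], [1], [0]⟩,
  ⟨[.a3], [5], [0]⟩]
def C33 : List Ch := [⟨PB, 0, [], []⟩,
  ⟨P16, 1, [], []⟩,
  ⟨P16, 0, [.a4], [.a4, .a5]⟩,
  ⟨PA, 2, [], []⟩,
  ⟨P10, 0, [.a1], [.a1, .a2]⟩,
  ⟨P17, 1, [], []⟩,
  ⟨P17, 0, [.a4], [.a4, .a5]⟩]
def N33 : List Ent := [⟨1, [.a0, .a9], [.a0, .a3, .a6, .a9]⟩,
  ⟨4, [.a2], [.a2]⟩,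
  ⟨8, [.a3], [.a3]⟩,
  ⟨16, [.a4, .a9, .a11], [.a4, .a5, .a8, .a9, .a11]⟩,
  ⟨32, [.a5], [.a5]⟩,
  ⟨64, [.a6], [.a6]⟩,
  ⟨128, [.a7, .a11], [.a7, .a8, .a11]⟩,
  ⟨256, [.a8], [.a8]⟩,
  ⟨512, [.a9], [.a9]⟩,
  ⟨2048, [.a11], [.a11]⟩]
theorem bad33 (c : CtxM Goal γ) : Bad Goal γ PZ P33 :=
  c.toCtx.bnd (B := B33) (D := D33) (I := [7, 8, 0, 9, 5, 1, 4, 2]) (r := 3) (C := C33) (N := N33) (by decide +kernel) (by decide +kernel) (by decide +kernel) (by decide +kernel)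
    (allB_cons (c.badB) (allB_cons (bad16 c) (allB_cons (bad16 c) (allB_cons (c.badA) (allB_cons (bad10 c) (allB_cons (bad17 c) (allB_cons (bad17 c) (allB_nil))))))))

def P34 : List Ent := [⟨1, [.a0, .a9, .a11], [.a0, .a2, .a4, .a7, .a8, .a11]⟩,
  ⟨4, [.a2], [.a2]⟩,
  ⟨8, [.a3], [.a3]⟩,
  ⟨16, [.a4, .a9, .a11], [.a4, .a5, .a8, .a9, .a11]⟩,
  ⟨32, [.a5], [.a5]⟩,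
  ⟨64, [.a6], [.a6]⟩,
  ⟨128, [.a7, .a11], [.a7, .a8, .a11]⟩,
  ⟨256, [.a8], [.a8]⟩]
def B34 : List Gv := [⟨[.a0, .a9, .a11], [.a0, .a2, .a4, .a7, .a8, .a11]⟩, ⟨[.a4, .a9, .a11], [.a4, .a5, .a8, .a9, .a11]⟩, ⟨[.a3], [.a3]⟩]
def D34 : List Dv := [⟨[.a2, .a4, .a7, .a8, .a9], [0, 0], []⟩,
  ⟨[.a5, .a7, .a11], [2, 2, 1], [1, 2]⟩,
  ⟨[.a7, .a8, .a11], [0, 3, 3], []⟩,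
  ⟨[.a8], [0, 1, 5, 3], [3, 5]⟩,
  ⟨[.a6], [3, 3], []⟩,
  ⟨[.a7, .a11], [2], [1]⟩,
  ⟨[.a5], [4], [0]⟩,
  ⟨[.a2], [6], [8, 1, 3]⟩]
def C34 : List Ch := [⟨PB, 0, [], []⟩,
  ⟨P7, 1, [.a1], [.a1, .a2]⟩,
  ⟨PA, 0, [], []⟩]
def N34 : List Ent := [⟨1, [.a0, .a9, .a11], [.a0, .a2, .a4, .a7, .a8, .a11]⟩,
  ⟨4, [.a2], [.a2]⟩,
  ⟨8, [.a3], [.a3]⟩,
  ⟨16, [.a4, .a9, .a11], [.a4, .a5, .a8, .a9, .a11]⟩,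
  ⟨32, [.a5], [.a5]⟩,
  ⟨64, [.a6], [.a6]⟩,
  ⟨128, [.a7, .a11], [.a7, .a8, .a11]⟩,
  ⟨256, [.a8], [.a8]⟩,
  ⟨512, [.a9], [.a9]⟩,
  ⟨2048, [.a11], [.a11]⟩]
theorem bad34 (c : CtxM Goal γ) : Bad Goal γ PZ P34 :=
  c.toCtx.bnd (B := B34) (D := D34) (I := [8, 0, 10, 9, 1, 3, 2, 4]) (r := 2) (C := C34) (N := N34) (by decide +kernel) (by decide +kernel) (by decide +kernel) (by decide +kernel)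
    (allB_cons (c.badB) (allB_cons (bad7 c) (allB_cons (c.badA) (allB_nil))))

def P35 : List Ent := [⟨1, [.a0, .a11], [.a0, .a2, .a3, .a4, .a5, .a6, .a7, .a9, .a11]⟩,
  ⟨4, [.a2], [.a2]⟩,
  ⟨8, [.a3], [.a3]⟩,
  ⟨16, [.a4], [.a4, .a5]⟩,
  ⟨32, [.a5], [.a5]⟩,
  ⟨64, [.a6], [.a6]⟩,
  ⟨128, [.a7, .a9], [.a7, .a8, .a9]⟩,
  ⟨256, [.a8], [.a8]⟩]
def B35 : List Gv := [⟨[.a0, .a11], [.a0, .a2, .a3, .a4, .a5, .a6, .a7, .a9, .a11]⟩, ⟨[.a4], [.a4, .a5]⟩, ⟨[.a3], [.a3]⟩]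
def D35 : List Dv := [⟨[.a2, .a3, .a4, .a5, .a6, .a7, .a9], [0, 0], []⟩,
  ⟨[.a5, .a6, .a7, .a9], [2, 3, 0, 2, 1], [1, 2]⟩,
  ⟨[.a6, .a7, .a9], [0, 3, 3], []⟩,
  ⟨[.a7, .a8, .a9], [0, 2, 4], [4, 2]⟩,
  ⟨[.a8], [1, 2, 3, 6], [6, 3]⟩,
  ⟨[.a7, .a9], [1], [0]⟩,
  ⟨[.a6], [3], [0]⟩,
  ⟨[.a5], [5], [0, 1]⟩,
  ⟨[.a2], [7], [10, 9, 0, 1, 2]⟩]
def C35 : List Ch := [⟨PA, 0, [], []⟩,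
  ⟨P7, 1, [], []⟩,
  ⟨P10, 0, [.a1], [.a1, .a2]⟩]
def N35 : List Ent := [⟨1, [.a0, .a11], [.a0, .a2, .a3, .a4, .a5, .a6, .a7, .a9, .a11]⟩,
  ⟨4, [.a2], [.a2]⟩,
  ⟨8, [.a3], [.a3]⟩,
  ⟨16, [.a4], [.a4, .a5]⟩,
  ⟨32, [.a5], [.a5]⟩,
  ⟨64, [.a6], [.a6]⟩,
  ⟨128, [.a7, .a9], [.a7, .a8, .a9]⟩,
  ⟨256, [.a8], [.a8]⟩,
  ⟨512, [.a9], [.a9]⟩,
  ⟨2048, [.a11], [.a11]⟩]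
theorem bad35 (c : CtxM Goal γ) : Bad Goal γ PZ P35 :=
  c.toCtx.bnd (B := B35) (D := D35) (I := [9, 0, 11, 10, 1, 2, 3, 4]) (r := 2) (C := C35) (N := N35) (by decide +kernel) (by decide +kernel) (by decide +kernel) (by decide +kernel)
    (allB_cons (c.badA) (allB_cons (bad7 c) (allB_cons (bad10 c) (allB_nil))))

def P36 : List Ent := [⟨1, [.a0], [.a0]⟩,
  ⟨8, [.a3], [.a3]⟩,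
  ⟨16, [.a4, .a11], [.a4, .a5, .a11]⟩,
  ⟨32, [.a5], [.a5]⟩,
  ⟨64, [.a6], [.a6]⟩,
  ⟨128, [.a7, .a11], [.a7, .a8, .a11]⟩,
  ⟨256, [.a8], [.a8]⟩,
  ⟨512, [.a9], [.a9]⟩]
def B36 : List Gv := [⟨[.a0], [.a0]⟩, ⟨[.a4, .a11], [.a4, .a5, .a11]⟩, ⟨[.a7, .a11], [.a7, .a8, .a11]⟩]
def D36 : List Dv := [⟨[.a3, .a4, .a5, .a6, .a7, .a8, .a9], [1, 0], [0, 1]⟩,
  ⟨[.a5], [2, 2], []⟩,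
  ⟨[.a6, .a7, .a9, .a11], [3, 4, 2], [2, 4]⟩,
  ⟨[.a8, .a9], [5, 0, 5, 4], [4, 5]⟩,
  ⟨[.a9], [0, 6, 6], []⟩,
  ⟨[.a8], [1], [0]⟩,
  ⟨[.a6], [3], [8, 1]⟩,
  ⟨[.a3], [6], [8, 5, 0, 9, 1, 2]⟩]
def C36 : List Ch := [⟨PB, 0, [], []⟩,
  ⟨P14, 1, [], []⟩,
  ⟨P16, 0, [], []⟩,
  ⟨P14, 2, [.a1], [.a1, .a2]⟩,
  ⟨P16, 0, [.a1], [.a1, .a2]⟩,
  ⟨PA, 1, [], []⟩,
  ⟨P11, 0, [], []⟩]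
def N36 : List Ent := [⟨1, [.a0], [.a0]⟩,
  ⟨2, [.a1], [.a1, .a2]⟩,
  ⟨4, [.a2], [.a2]⟩,
  ⟨8, [.a3], [.a3]⟩,
  ⟨16, [.a4, .a11], [.a4, .a5, .a11]⟩,
  ⟨32, [.a5], [.a5]⟩,
  ⟨64, [.a6], [.a6]⟩,
  ⟨128, [.a7, .a11], [.a7, .a8, .a11]⟩,
  ⟨256, [.a8], [.a8]⟩,
  ⟨512, [.a9], [.a9]⟩]
theorem bad36 (c : CtxM Goal γ) : Bad Goal γ PZ P36 :=
  c.toCtx.bnd (B := B36) (D := D36) (I := [8, 0, 9, 6, 1, 10, 2, 3]) (r := 3) (C := C36) (N := N36) (by decide +kernel) (by decide +kernel) (by decide +kernel) (by decide +kernel)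
    (allB_cons (c.badB) (allB_cons (bad14 c) (allB_cons (bad16 c) (allB_cons (bad14 c) (allB_cons (bad16 c) (allB_cons (c.badA) (allB_cons (bad11 c) (allB_nil))))))))

def P37 : List Ent := [⟨1, [.a0], [.a0]⟩,
  ⟨4, [.a2, .a9], [.a2, .a5, .a9]⟩,
  ⟨8, [.a3], [.a3]⟩,
  ⟨16, [.a4, .a9, .a11], [.a4, .a5, .a8, .a9, .a11]⟩,
  ⟨32, [.a5], [.a5]⟩,
  ⟨64, [.a6], [.a6]⟩,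
  ⟨128, [.a7, .a11], [.a7, .a8, .a11]⟩,
  ⟨256, [.a8], [.a8]⟩]
def B37 : List Gv := [⟨[.a0], [.a0]⟩, ⟨[.a2, .a9], [.a2, .a5, .a9]⟩, ⟨[.a4, .a9, .a11], [.a4, .a5, .a8, .a9, .a11]⟩]
def D37 : List Dv := [⟨[.a3, .a6], [1, 0], [0, 1]⟩,
  ⟨[.a5], [2, 2], []⟩,
  ⟨[.a7, .a8, .a11], [4, 4, 2], [2, 4]⟩,
  ⟨[.a6], [5, 4], [4, 5]⟩,
  ⟨[.a8], [2, 6, 6], []⟩,
  ⟨[.a7, .a11], [2], [0]⟩,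
  ⟨[.a3], [5], [2]⟩]
def C37 : List Ch := [⟨PB, 0, [], []⟩,
  ⟨P14, 1, [], []⟩,
  ⟨P16, 0, [.a4], [.a4, .a5]⟩,
  ⟨PA, 2, [], []⟩,
  ⟨P12, 0, [], []⟩,
  ⟨P15, 1, [.a1], [.a1, .a2]⟩,
  ⟨P17, 0, [.a1, .a3, .a4], [.a1, .a2, .a4, .a5]⟩]
def S37 : List St := [.phi 1 [⟨8, [.a3], [.a3]⟩,
  ⟨16, [.a4, .a7, .a9], [.a4, .a5, .a6, .a7, .a9]⟩,
  ⟨32, [.a5], [.a5]⟩,
  ⟨64, [.a6], [.a6]⟩,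
  ⟨256, [.a8], [.a8]⟩] [[[.a3, .a4, .a7, .a9], [.a0, .a2, .a8, .a9]], [[.a0, .a3, .a7, .a11]], [[.a0, .a8]], [[.a3, .a4, .a7, .a9]], [[.a7, .a11]]],
  .om 0 [⟨8, [.a3], [.a3]⟩,
  ⟨32, [.a5], [.a5]⟩,
  ⟨64, [.a6], [.a6]⟩,
  ⟨256, [.a8], [.a8]⟩] [[[.a3]], [[.a5]], [[.a6]], [[.a8]]]]
theorem bad37 (c : CtxM Goal γ) : Bad Goal γ PZ P37 :=
  c.toCtx.chn (B := B37) (D := D37) (I := [7, 8, 0, 9, 5, 3, 1, 2]) (r := 3) (C := C37) (l := S37) (x := ⟨[.a9], [.a9]⟩) (ix := [0]) (by decide +kernel) (by decide +kernel) (by decide +kernel) (by decide +kernel)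
    (allB_cons (c.badB) (allB_cons (bad14 c) (allB_cons (bad16 c) (allB_cons (c.badA) (allB_cons (bad12 c) (allB_cons (bad15 c) (allB_cons (bad17 c) (allB_nil))))))))

def P38 : List Ent := [⟨1, [.a0], [.a0]⟩,
  ⟨4, [.a2, .a7, .a11], [.a2, .a5, .a6, .a7, .a11]⟩,
  ⟨8, [.a3], [.a3]⟩,
  ⟨16, [.a4, .a7], [.a4, .a5, .a6, .a7, .a8]⟩,
  ⟨32, [.a5], [.a5]⟩,
  ⟨64, [.a6], [.a6]⟩,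
  ⟨256, [.a8], [.a8]⟩,
  ⟨512, [.a9], [.a9]⟩]
def B38 : List Gv := [⟨[.a0], [.a0]⟩, ⟨[.a2, .a7, .a11], [.a2, .a5, .a6, .a7, .a11]⟩, ⟨[.a4, .a7], [.a4, .a5, .a6, .a7, .a8]⟩]
def D38 : List Dv := [⟨[.a5, .a8, .a9], [2, 1, 0], [0, 1]⟩,
  ⟨[.a6, .a8, .a9], [0, 2, 2], []⟩,
  ⟨[.a3], [4, 2], [2, 4]⟩,
  ⟨[.a8, .a9], [1, 5, 4], [4, 5]⟩,
  ⟨[.a9], [0, 2, 3, 6, 6], []⟩,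
  ⟨[.a8], [1], [0]⟩,
  ⟨[.a6], [4], [0, 1]⟩,
  ⟨[.a5], [6], [1, 2]⟩]
def C38 : List Ch := [⟨PB, 0, [], []⟩,
  ⟨PA, 1, [], []⟩,
  ⟨P11, 0, [.a4], [.a4, .a5]⟩,
  ⟨P15, 2, [], []⟩,
  ⟨P17, 0, [], []⟩,
  ⟨P15, 1, [.a1], [.a1, .a2]⟩,
  ⟨P17, 0, [.a1], [.a1, .a2]⟩]
def N38 : List Ent := [⟨1, [.a0], [.a0]⟩,
  ⟨2, [.a1], [.a1, .a2]⟩,
  ⟨4, [.a2, .a7, .a11], [.a2, .a5, .a6, .a7, .a11]⟩,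
  ⟨8, [.a3], [.a3]⟩,
  ⟨16, [.a4, .a7], [.a4, .a5, .a6, .a7, .a8]⟩,
  ⟨32, [.a5], [.a5]⟩,
  ⟨64, [.a6], [.a6]⟩,
  ⟨128, [.a7, .a11], [.a7, .a8, .a11]⟩,
  ⟨256, [.a8], [.a8]⟩,
  ⟨512, [.a9], [.a9]⟩]
theorem bad38 (c : CtxM Goal γ) : Bad Goal γ PZ P38 :=
  c.toCtx.bnd (B := B38) (D := D38) (I := [8, 9, 5, 10, 0, 1, 2, 3]) (r := 3) (C := C38) (N := N38) (by decide +kernel) (by decide +kernel) (by decide +kernel) (by decide +kernel)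
    (allB_cons (c.badB) (allB_cons (c.badA) (allB_cons (bad11 c) (allB_cons (bad15 c) (allB_cons (bad17 c) (allB_cons (bad15 c) (allB_cons (bad17 c) (allB_nil))))))))

def P39 : List Ent := [⟨1, [.a0], [.a0]⟩,
  ⟨2, [.a1, .a11], [.a1, .a2, .a5, .a6, .a9, .a11]⟩,
  ⟨4, [.a2, .a9], [.a2, .a5, .a9]⟩,
  ⟨8, [.a3], [.a3]⟩,
  ⟨16, [.a4, .a7], [.a4, .a5, .a6, .a7, .a8]⟩,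
  ⟨32, [.a5], [.a5]⟩,
  ⟨64, [.a6], [.a6]⟩,
  ⟨256, [.a8], [.a8]⟩]
def B39 : List Gv := [⟨[.a0], [.a0]⟩, ⟨[.a1, .a11], [.a1, .a2, .a5, .a6, .a9, .a11]⟩]
def D39 : List Dv := [⟨[.a2, .a4, .a6, .a7, .a8, .a9], [1, 0], [0, 1]⟩,
  ⟨[.a4, .a6, .a7], [0, 2, 2], []⟩,
  ⟨[.a6], [1, 2], [2, 1]⟩,
  ⟨[.a3, .a5], [2, 4], [4, 2]⟩,
  ⟨[.a5], [0, 2, 4], [4, 2]⟩,
  ⟨[.a8], [3, 4], [4, 3]⟩,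
  ⟨[.a4, .a7], [4], [3]⟩,
  ⟨[.a3], [3], [2]⟩,
  ⟨[.a2, .a9], [7], [1, 5]⟩]
def C39 : List Ch := [⟨PB, 0, [], []⟩,
  ⟨PA, 1, [], []⟩,
  ⟨P12, 0, [.a10], [.a10, .a11]⟩]
def S39 : List St := [.phi 1 [⟨4, [.a2, .a9], [.a2, .a5, .a9]⟩,
  ⟨8, [.a3], [.a3]⟩,
  ⟨16, [.a4, .a7], [.a4, .a5, .a6, .a7, .a8]⟩,
  ⟨32, [.a5], [.a5]⟩,
  ⟨64, [.a6], [.a6]⟩,
  ⟨256, [.a8], [.a8]⟩] [[[.a1, .a3, .a6, .a11]], [[.a2, .a4, .a7, .a9], [.a0, .a2, .a8, .a9]], [[.a0, .a1, .a11]], [[.a0, .a8]], [[.a2, .a4, .a7, .a9]], [[.a2, .a4, .a7, .a9], [.a3, .a4, .a7]]],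
  .comm 0 2 [⟨8, [.a3], [.a3]⟩,
  ⟨32, [.a5], [.a5]⟩,
  ⟨64, [.a6], [.a6]⟩,
  ⟨256, [.a8], [.a8]⟩] [⟨[.a4, .a7], [.a0]⟩, ⟨[.a8], [.a0]⟩, ⟨[.a2, .a4, .a7, .a9], [.a0, .a3]⟩, ⟨[.a3], [.a1, .a11]⟩]]
theorem bad39 (c : CtxM Goal γ) : Bad Goal γ PZ P39 :=
  c.toCtx.chn (B := B39) (D := D39) (I := [9, 10, 0, 1, 2, 4, 6, 3]) (r := 2) (C := C39) (l := S39) (x := ⟨[.a9], [.a9]⟩) (ix := [0]) (by decide +kernel) (by decide +kernel) (by decide +kernel) (by decide +kernel)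
    (allB_cons (c.badB) (allB_cons (c.badA) (allB_cons (bad12 c) (allB_nil))))

def P40 : List Ent := [⟨1, [.a0, .a10], [.a0, .a1, .a2, .a3, .a4, .a6, .a8, .a9, .a10, .a11]⟩,
  ⟨2, [.a1, .a11], [.a1, .a2, .a5, .a6, .a9, .a11]⟩,
  ⟨4, [.a2, .a9], [.a2, .a5, .a9]⟩,
  ⟨8, [.a3], [.a3]⟩,
  ⟨32, [.a5], [.a5]⟩,
  ⟨64, [.a6], [.a6]⟩,
  ⟨128, [.a7, .a9], [.a7, .a8, .a9]⟩,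
  ⟨256, [.a8], [.a8]⟩]
def B40 : List Gv := [⟨[.a0, .a10], [.a0, .a1, .a2, .a3, .a4, .a6, .a8, .a9, .a10, .a11]⟩, ⟨[.a1, .a11], [.a1, .a2, .a5, .a6, .a9, .a11]⟩]
def D40 : List Dv := [⟨[.a2, .a3, .a6, .a7, .a8], [1, 0, 0], []⟩,
  ⟨[.a7, .a8, .a9], [0, 2, 1], [1, 2]⟩,
  ⟨[.a3, .a5, .a6, .a7, .a9], [1, 3, 3], []⟩,
  ⟨[.a8], [1, 2, 2, 3], [3, 2]⟩,
  ⟨[.a5, .a6], [3, 5], [5, 3]⟩,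
  ⟨[.a6, .a8], [0, 4, 4], []⟩,
  ⟨[.a7, .a9], [4], [2]⟩,
  ⟨[.a6], [1], [3]⟩,
  ⟨[.a5], [3], [0]⟩,
  ⟨[.a3], [6], [0, 1, 2]⟩,
  ⟨[.a2, .a9], [9], [0, 2, 3, 6]⟩]
def C40 : List Ch := [⟨PB, 0, [], []⟩,
  ⟨P9, 1, [], []⟩,
  ⟨P13, 0, [], []⟩]
def S40 : List St := [.om 1 [⟨8, [.a3], [.a3]⟩,
  ⟨32, [.a5], [.a5]⟩,
  ⟨64, [.a6], [.a6]⟩,
  ⟨256, [.a8], [.a8]⟩] [[[.a3]], [[.a5]], [[.a6]], [[.a8]]]]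
theorem bad40 (c : CtxM Goal γ) : Bad Goal γ PZ P40 :=
  c.toCtx.chn (B := B40) (D := D40) (I := [11, 12, 0, 1, 2, 3, 4, 7]) (r := 2) (C := C40) (l := S40) (x := ⟨[.a9], [.a9]⟩) (ix := [0]) (by decide +kernel) (by decide +kernel) (by decide +kernel) (by decide +kernel)
    (allB_cons (c.badB) (allB_cons (bad9 c) (allB_cons (bad13 c) (allB_nil))))

def P41 : List Ent := [⟨1, [.a0, .a10], [.a0, .a1, .a2, .a3, .a4, .a6, .a8, .a9, .a10, .a11]⟩,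
  ⟨2, [.a1, .a9, .a11], [.a1, .a2, .a5, .a8, .a11]⟩,
  ⟨4, [.a2, .a9], [.a2, .a5, .a9]⟩,
  ⟨8, [.a3], [.a3]⟩,
  ⟨32, [.a5], [.a5]⟩,
  ⟨64, [.a6], [.a6]⟩,
  ⟨128, [.a7], [.a7, .a8]⟩,
  ⟨256, [.a8], [.a8]⟩]
def B41 : List Gv := [⟨[.a0, .a10], [.a0, .a1, .a2, .a3, .a4, .a6, .a8, .a9, .a10, .a11]⟩, ⟨[.a1, .a9, .a11], [.a1, .a2, .a5, .a8, .a11]⟩, ⟨[.a3], [.a3]⟩]
def D41 : List Dv := [⟨[.a2, .a3, .a5, .a7, .a9], [1, 0, 0], []⟩,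
  ⟨[.a7, .a8], [3, 0, 2, 1], [1, 2]⟩,
  ⟨[.a6, .a7], [4, 1, 3, 3], []⟩,
  ⟨[.a5, .a6], [5, 3], [3, 5]⟩,
  ⟨[.a8], [6, 5], [5, 6]⟩,
  ⟨[.a7], [3], [0]⟩,
  ⟨[.a6], [3], [0]⟩,
  ⟨[.a5], [3], [0]⟩,
  ⟨[.a2, .a9], [7], [10, 0, 2]⟩]
def C41 : List Ch := [⟨PB, 0, [], []⟩,
  ⟨P9, 1, [], []⟩,
  ⟨P13, 0, [.a4], [.a4, .a5]⟩]
def S41 : List St := [.om 1 [⟨8, [.a3], [.a3]⟩,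
  ⟨32, [.a5], [.a5]⟩,
  ⟨64, [.a6], [.a6]⟩,
  ⟨256, [.a8], [.a8]⟩] [[[.a3]], [[.a5]], [[.a6]], [[.a8]]]]
theorem bad41 (c : CtxM Goal γ) : Bad Goal γ PZ P41 :=
  c.toCtx.chn (B := B41) (D := D41) (I := [9, 10, 0, 11, 1, 2, 3, 4]) (r := 2) (C := C41) (l := S41) (x := ⟨[.a9], [.a9]⟩) (ix := [0]) (by decide +kernel) (by decide +kernel) (by decide +kernel) (by decide +kernel)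
    (allB_cons (c.badB) (allB_cons (bad9 c) (allB_cons (bad13 c) (allB_nil))))

def P42 : List Ent := [⟨1, [.a0], [.a0]⟩,
  ⟨4, [.a2], [.a2]⟩,
  ⟨8, [.a3], [.a3]⟩,
  ⟨16, [.a4, .a7], [.a4, .a5, .a6, .a7, .a8]⟩,
  ⟨32, [.a5], [.a5]⟩,
  ⟨64, [.a6], [.a6]⟩,
  ⟨256, [.a8], [.a8]⟩,
  ⟨512, [.a9], [.a9]⟩,
  ⟨2048, [.a11], [.a11]⟩]
def B42 : List Gv := [⟨[.a0], [.a0]⟩, ⟨[.a2], [.a2]⟩, ⟨[.a4, .a7], [.a4, .a5, .a6, .a7, .a8]⟩, ⟨[.a11], [.a11]⟩]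
def D42 : List Dv := [⟨[.a3], [2, 0], [0, 2]⟩,
  ⟨[.a5, .a6, .a8], [3, 3], []⟩,
  ⟨[.a9], [0, 4, 1, 3, 5, 2], [2, 5]⟩,
  ⟨[.a6, .a8], [1, 2, 5], [5, 2]⟩,
  ⟨[.a8], [3, 7], [7, 3]⟩,
  ⟨[.a6], [1], [0]⟩,
  ⟨[.a5], [4], [0, 1]⟩]
def C42 : List Ch := [⟨PB, 0, [], []⟩,
  ⟨P18, 1, [], []⟩,
  ⟨P18, 0, [.a4], [.a4, .a5]⟩,
  ⟨P19, 2, [], []⟩,
  ⟨P20, 0, [], []⟩,
  ⟨P21, 1, [], []⟩,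
  ⟨P21, 0, [.a4], [.a4, .a5]⟩,
  ⟨PA, 3, [], []⟩,
  ⟨P22, 0, [], []⟩,
  ⟨P18, 1, [.a1], [.a1, .a2]⟩,
  ⟨P18, 0, [.a1, .a3, .a4], [.a1, .a2, .a4, .a5]⟩,
  ⟨P19, 2, [.a1], [.a1, .a2]⟩,
  ⟨P20, 0, [.a1], [.a1, .a2]⟩,
  ⟨P23, 1, [], []⟩,
  ⟨P23, 0, [.a4], [.a4, .a5]⟩]
def S42 : List St := [.cent 1 1 0 [⟨32, [.a5], [.a5]⟩,
  ⟨64, [.a6], [.a6]⟩],
  .phi 2 [⟨4, [.a2, .a4, .a7, .a9], [.a2, .a4, .a6, .a7, .a9]⟩,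
  ⟨8, [.a3], [.a3]⟩,
  ⟨32, [.a5], [.a5]⟩,
  ⟨64, [.a6], [.a6]⟩,
  ⟨256, [.a8], [.a8]⟩] [[[.a0, .a4, .a7, .a8, .a11]], [[.a2, .a4, .a7, .a9], [.a0, .a9]], [[.a0, .a8]], [[.a2, .a4, .a7, .a9]], [[.a3, .a11]]],
  .cent 3 3 1 [⟨4, [.a2, .a3], [.a2, .a3]⟩,
  ⟨32, [.a5], [.a5]⟩,
  ⟨64, [.a6], [.a6]⟩,
  ⟨256, [.a8], [.a8]⟩],
  .comm 1 1 [⟨32, [.a5], [.a5]⟩] [⟨[.a3], [.a2, .a4, .a7, .a9]⟩]]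
theorem bad42 (c : CtxM Goal γ) : Bad Goal γ PZ P42 :=
  c.toCtx.chn (B := B42) (D := D42) (I := [7, 8, 6, 9, 0, 1, 2, 4, 10]) (r := 4) (C := C42) (l := S42) (x := ⟨[.a7], [.a7, .a8]⟩) (ix := [1, 0]) (by decide +kernel) (by decide +kernel) (by decide +kernel) (by decide +kernel)
    (allB_cons (c.badB) (allB_cons (bad18 c) (allB_cons (bad18 c) (allB_cons (bad19 c) (allB_cons (bad20 c) (allB_cons (bad21 c) (allB_cons (bad21 c) (allB_cons (c.badA) (allB_cons (bad22 c) (allB_cons (bad18 c) (allB_cons (bad18 c) (allB_cons (bad19 c) (allB_cons (bad20 c) (allB_cons (bad23 c) (allB_cons (bad23 c) (allB_nil))))))))))))))))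

def P43 : List Ent := [⟨1, [.a0, .a11], [.a0, .a2, .a3, .a4, .a5, .a6, .a7, .a9, .a11]⟩,
  ⟨2, [.a1, .a7], [.a1, .a2, .a7, .a8]⟩,
  ⟨4, [.a2], [.a2]⟩,
  ⟨8, [.a3], [.a3]⟩,
  ⟨16, [.a4, .a7], [.a4, .a5, .a6, .a7, .a8]⟩,
  ⟨32, [.a5], [.a5]⟩,
  ⟨64, [.a6], [.a6]⟩,
  ⟨256, [.a8], [.a8]⟩,
  ⟨512, [.a9], [.a9]⟩]
def B43 : List Gv := [⟨[.a0, .a11], [.a0, .a2, .a3, .a4, .a5, .a6, .a7, .a9, .a11]⟩, ⟨[.a1, .a7], [.a1, .a2, .a7, .a8]⟩]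
def D43 : List Dv := [⟨[.a2, .a3, .a4, .a5, .a6, .a7, .a9], [0, 0], []⟩,
  ⟨[.a3, .a4, .a5, .a6, .a7], [0, 2, 1], [1, 2]⟩,
  ⟨[.a5, .a6, .a9], [0, 1, 3, 3], []⟩,
  ⟨[.a4, .a5, .a6, .a7, .a8], [1, 2, 4], [4, 2]⟩,
  ⟨[.a9], [1, 3, 3], []⟩,
  ⟨[.a8, .a9], [2, 1, 3, 3, 5], [5, 3]⟩,
  ⟨[.a6, .a9], [3, 2, 4, 4, 7], [7, 4]⟩,
  ⟨[.a8], [1], [2]⟩,
  ⟨[.a6], [1], [3]⟩,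
  ⟨[.a5], [6], [0, 4]⟩,
  ⟨[.a4, .a7], [6], [0, 1, 2]⟩,
  ⟨[.a3], [9], [0, 1, 2]⟩,
  ⟨[.a2], [11], [0, 1, 2, 3, 7]⟩]
def C43 : List Ch := [⟨PA, 0, [], []⟩,
  ⟨P22, 1, [], []⟩,
  ⟨P22, 0, [.a10], [.a10, .a11]⟩]
def N43 : List Ent := [⟨1, [.a0, .a11], [.a0, .a2, .a3, .a4, .a5, .a6, .a7, .a9, .a11]⟩,
  ⟨2, [.a1, .a7], [.a1, .a2, .a7, .a8]⟩,
  ⟨4, [.a2], [.a2]⟩,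
  ⟨8, [.a3], [.a3]⟩,
  ⟨16, [.a4, .a7], [.a4, .a5, .a6, .a7, .a8]⟩,
  ⟨32, [.a5], [.a5]⟩,
  ⟨64, [.a6], [.a6]⟩,
  ⟨128, [.a7], [.a7, .a8]⟩,
  ⟨256, [.a8], [.a8]⟩,
  ⟨512, [.a9], [.a9]⟩,
  ⟨1024, [.a10], [.a10, .a11]⟩,
  ⟨2048, [.a11], [.a11]⟩]
theorem bad43 (c : CtxM Goal γ) : Bad Goal γ PZ P43 :=
  c.toCtx.bnd (B := B43) (D := D43) (I := [13, 14, 0, 1, 2, 3, 4, 5, 8]) (r := 2) (C := C43) (N := N43) (by decide +kernel) (by decide +kernel) (by decide +kernel) (by decide +kernel)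
    (allB_cons (c.badA) (allB_cons (bad22 c) (allB_cons (bad22 c) (allB_nil))))

def P44 : List Ent := [⟨1, [.a0], [.a0]⟩,
  ⟨2, [.a1, .a7, .a11], [.a1, .a2, .a5, .a6, .a7, .a8, .a9, .a11]⟩,
  ⟨4, [.a2], [.a2]⟩,
  ⟨8, [.a3], [.a3]⟩,
  ⟨16, [.a4, .a7], [.a4, .a5, .a6, .a7, .a8]⟩,
  ⟨32, [.a5], [.a5]⟩,
  ⟨64, [.a6], [.a6]⟩,
  ⟨256, [.a8], [.a8]⟩,
  ⟨512, [.a9], [.a9]⟩]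
def B44 : List Gv := [⟨[.a0], [.a0]⟩, ⟨[.a1, .a7, .a11], [.a1, .a2, .a5, .a6, .a7, .a8, .a9, .a11]⟩, ⟨[.a2], [.a2]⟩]
def D44 : List Dv := [⟨[.a3, .a4, .a7, .a8, .a9], [1, 0], [0, 1]⟩,
  ⟨[.a5, .a9], [3, 2, 2], []⟩,
  ⟨[.a6, .a8], [4, 3], [3, 4]⟩,
  ⟨[.a8], [0, 2, 3], [3, 2]⟩,
  ⟨[.a4, .a5, .a7, .a8, .a9], [3, 3, 5], [5, 3]⟩,
  ⟨[.a9], [3, 4, 7], [7, 4]⟩,
  ⟨[.a6], [3], [2]⟩,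
  ⟨[.a5], [5], [1]⟩,
  ⟨[.a4, .a7], [3], [0, 4, 2]⟩,
  ⟨[.a3], [8], [0, 5, 3]⟩]
def C44 : List Ch := [⟨PB, 0, [], []⟩,
  ⟨PA, 1, [], []⟩,
  ⟨P22, 0, [.a10], [.a10, .a11]⟩,
  ⟨P24, 2, [], []⟩,
  ⟨P24, 0, [.a4], [.a4, .a5]⟩,
  ⟨P24, 1, [.a1], [.a1, .a2]⟩,
  ⟨P24, 0, [.a11], [.a11]⟩]
def N44 : List Ent := [⟨1, [.a0], [.a0]⟩,
  ⟨2, [.a1, .a7, .a11], [.a1, .a2, .a5, .a6, .a7, .a8, .a9, .a11]⟩,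
  ⟨4, [.a2], [.a2]⟩,
  ⟨8, [.a3], [.a3]⟩,
  ⟨16, [.a4, .a7], [.a4, .a5, .a6, .a7, .a8]⟩,
  ⟨32, [.a5], [.a5]⟩,
  ⟨64, [.a6], [.a6]⟩,
  ⟨128, [.a7], [.a7, .a8]⟩,
  ⟨256, [.a8], [.a8]⟩,
  ⟨512, [.a9], [.a9]⟩,
  ⟨2048, [.a11], [.a11]⟩]
theorem bad44 (c : CtxM Goal γ) : Bad Goal γ PZ P44 :=
  c.toCtx.bnd (B := B44) (D := D44) (I := [10, 11, 12, 0, 1, 2, 3, 6, 4]) (r := 3) (C := C44) (N := N44) (by decide +kernel) (by decide +kernel) (by decide +kernel) (by decide +kernel)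
    (allB_cons (c.badB) (allB_cons (c.badA) (allB_cons (bad22 c) (allB_cons (bad24 c) (allB_cons (bad24 c) (allB_cons (bad24 c) (allB_cons (bad24 c) (allB_nil))))))))

def P45 : List Ent := [⟨1, [.a0, .a10], [.a0, .a1, .a2, .a3, .a4, .a6, .a8, .a9, .a10, .a11]⟩,
  ⟨2, [.a1, .a7, .a11], [.a1, .a2, .a5, .a6, .a7, .a8, .a9, .a11]⟩,
  ⟨4, [.a2], [.a2]⟩,
  ⟨8, [.a3], [.a3]⟩,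
  ⟨16, [.a4, .a7], [.a4, .a5, .a6, .a7, .a8]⟩,
  ⟨32, [.a5], [.a5]⟩,
  ⟨64, [.a6], [.a6]⟩,
  ⟨256, [.a8], [.a8]⟩,
  ⟨512, [.a9], [.a9]⟩]
def B45 : List Gv := [⟨[.a0, .a10], [.a0, .a1, .a2, .a3, .a4, .a6, .a8, .a9, .a10, .a11]⟩, ⟨[.a4, .a7], [.a4, .a5, .a6, .a7, .a8]⟩]
def D45 : List Dv := [⟨[.a1, .a3, .a5, .a6, .a7, .a8, .a9, .a11], [0, 0], []⟩,
  ⟨[.a5, .a6, .a8, .a9], [2, 1], [1, 2]⟩,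
  ⟨[.a9], [0, 3, 3], []⟩,
  ⟨[.a3, .a6, .a8], [2, 4], [4, 2]⟩,
  ⟨[.a2, .a6, .a9], [3, 3], []⟩,
  ⟨[.a8], [3, 6], [6, 3]⟩,
  ⟨[.a6, .a8], [3, 5], [5, 3]⟩,
  ⟨[.a6], [0], [1]⟩,
  ⟨[.a5], [6], [0, 2, 5]⟩,
  ⟨[.a3], [5], [1, 3]⟩,
  ⟨[.a2], [5], [2, 7]⟩,
  ⟨[.a1, .a7, .a11], [10], [1, 3, 8]⟩]
def C45 : List Ch := [⟨PB, 0, [], []⟩,
  ⟨P25, 1, [], []⟩,
  ⟨P25, 0, [.a1], [.a1, .a2]⟩]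
def N45 : List Ent := [⟨1, [.a0, .a10], [.a0, .a1, .a2, .a3, .a4, .a6, .a8, .a9, .a10, .a11]⟩,
  ⟨2, [.a1, .a7, .a11], [.a1, .a2, .a5, .a6, .a7, .a8, .a9, .a11]⟩,
  ⟨4, [.a2], [.a2]⟩,
  ⟨8, [.a3], [.a3]⟩,
  ⟨16, [.a4, .a7], [.a4, .a5, .a6, .a7, .a8]⟩,
  ⟨32, [.a5], [.a5]⟩,
  ⟨64, [.a6], [.a6]⟩,
  ⟨128, [.a7], [.a7, .a8]⟩,
  ⟨256, [.a8], [.a8]⟩,
  ⟨512, [.a9], [.a9]⟩,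
  ⟨2048, [.a11], [.a11]⟩]
theorem bad45 (c : CtxM Goal γ) : Bad Goal γ PZ P45 :=
  c.toCtx.bnd (B := B45) (D := D45) (I := [12, 0, 1, 2, 13, 3, 4, 6, 9]) (r := 2) (C := C45) (N := N45) (by decide +kernel) (by decide +kernel) (by decide +kernel) (by decide +kernel)
    (allB_cons (c.badB) (allB_cons (bad25 c) (allB_cons (bad25 c) (allB_nil))))

def P46 : List Ent := [⟨1, [.a0, .a7], [.a0, .a2, .a3, .a5, .a7, .a8]⟩,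
  ⟨4, [.a2], [.a2]⟩,
  ⟨8, [.a3], [.a3]⟩,
  ⟨16, [.a4, .a7], [.a4, .a5, .a6, .a7, .a8]⟩,
  ⟨32, [.a5], [.a5]⟩,
  ⟨64, [.a6], [.a6]⟩,
  ⟨256, [.a8], [.a8]⟩,
  ⟨512, [.a9], [.a9]⟩,
  ⟨2048, [.a11], [.a11]⟩]
def B46 : List Gv := [⟨[.a0, .a7], [.a0, .a2, .a3, .a5, .a7, .a8]⟩, ⟨[.a4, .a7], [.a4, .a5, .a6, .a7, .a8]⟩, ⟨[.a11], [.a11]⟩]
def D46 : List Dv := [⟨[.a2, .a3, .a8], [0, 0], []⟩,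
  ⟨[.a3, .a6], [2, 1], [1, 2]⟩,
  ⟨[.a5, .a6, .a8], [3, 3], []⟩,
  ⟨[.a8, .a9], [0, 4, 2, 5, 3], [3, 5]⟩,
  ⟨[.a6, .a8], [1, 3, 5], [5, 3]⟩,
  ⟨[.a9], [1, 2, 4, 7], [7, 4]⟩,
  ⟨[.a8], [2], [0]⟩,
  ⟨[.a6], [2], [0]⟩,
  ⟨[.a5], [5], [0, 1]⟩,
  ⟨[.a3], [7], [1]⟩,
  ⟨[.a2], [9], [0, 3]⟩]
def C46 : List Ch := [⟨PB, 0, [], []⟩,
  ⟨P26, 1, [], []⟩,
  ⟨P27, 0, [], []⟩,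
  ⟨PA, 2, [], []⟩,
  ⟨P28, 0, [], []⟩,
  ⟨P26, 1, [.a1], [.a1, .a2]⟩,
  ⟨P27, 0, [.a1], [.a1, .a2]⟩]
def N46 : List Ent := [⟨1, [.a0, .a7], [.a0, .a2, .a3, .a5, .a7, .a8]⟩,
  ⟨2, [.a1], [.a1, .a2]⟩,
  ⟨4, [.a2], [.a2]⟩,
  ⟨8, [.a3], [.a3]⟩,
  ⟨16, [.a4, .a7], [.a4, .a5, .a6, .a7, .a8]⟩,
  ⟨32, [.a5], [.a5]⟩,
  ⟨64, [.a6], [.a6]⟩,
  ⟨128, [.a7], [.a7, .a8]⟩,
  ⟨256, [.a8], [.a8]⟩,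
  ⟨512, [.a9], [.a9]⟩,
  ⟨2048, [.a11], [.a11]⟩]
theorem bad46 (c : CtxM Goal γ) : Bad Goal γ PZ P46 :=
  c.toCtx.bnd (B := B46) (D := D46) (I := [11, 0, 1, 12, 2, 3, 4, 5, 13]) (r := 3) (C := C46) (N := N46) (by decide +kernel) (by decide +kernel) (by decide +kernel) (by decide +kernel)
    (allB_cons (c.badB) (allB_cons (bad26 c) (allB_cons (bad27 c) (allB_cons (c.badA) (allB_cons (bad28 c) (allB_cons (bad26 c) (allB_cons (bad27 c) (allB_nil))))))))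

def P47 : List Ent := [⟨1, [.a0, .a7, .a11], [.a0, .a4, .a5, .a9, .a11]⟩,
  ⟨2, [.a1, .a7], [.a1, .a2, .a7, .a8]⟩,
  ⟨4, [.a2], [.a2]⟩,
  ⟨8, [.a3], [.a3]⟩,
  ⟨16, [.a4, .a7], [.a4, .a5, .a6, .a7, .a8]⟩,
  ⟨32, [.a5], [.a5]⟩,
  ⟨64, [.a6], [.a6]⟩,
  ⟨256, [.a8], [.a8]⟩,
  ⟨512, [.a9], [.a9]⟩]
def B47 : List Gv := [⟨[.a0, .a7, .a11], [.a0, .a4, .a5, .a9, .a11]⟩, ⟨[.a1, .a7], [.a1, .a2, .a7, .a8]⟩]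
def D47 : List Dv := [⟨[.a4, .a7, .a8, .a9], [0, 0], []⟩,
  ⟨[.a2, .a5, .a9], [2, 1], [1, 2]⟩,
  ⟨[.a8, .a9], [0, 3, 3], []⟩,
  ⟨[.a3, .a5, .a8], [2, 4], [4, 2]⟩,
  ⟨[.a5, .a6], [3, 3], []⟩,
  ⟨[.a6], [0, 1, 3, 5], [5, 3]⟩,
  ⟨[.a9], [3, 0, 4, 7], [7, 4]⟩,
  ⟨[.a8], [4], [0]⟩,
  ⟨[.a5], [3], [2]⟩,
  ⟨[.a4, .a7], [8], [1, 2]⟩,
  ⟨[.a3], [6], [1, 2]⟩,
  ⟨[.a2], [9], [2, 4]⟩]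
def C47 : List Ch := [⟨PA, 0, [], []⟩,
  ⟨P28, 1, [], []⟩,
  ⟨P28, 0, [.a10], [.a10, .a11]⟩]
def N47 : List Ent := [⟨1, [.a0, .a7, .a11], [.a0, .a4, .a5, .a9, .a11]⟩,
  ⟨2, [.a1, .a7], [.a1, .a2, .a7, .a8]⟩,
  ⟨4, [.a2], [.a2]⟩,
  ⟨8, [.a3], [.a3]⟩,
  ⟨16, [.a4, .a7], [.a4, .a5, .a6, .a7, .a8]⟩,
  ⟨32, [.a5], [.a5]⟩,
  ⟨64, [.a6], [.a6]⟩,
  ⟨128, [.a7], [.a7, .a8]⟩,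
  ⟨256, [.a8], [.a8]⟩,
  ⟨512, [.a9], [.a9]⟩,
  ⟨1024, [.a10], [.a10, .a11]⟩,
  ⟨2048, [.a11], [.a11]⟩]
theorem bad47 (c : CtxM Goal γ) : Bad Goal γ PZ P47 :=
  c.toCtx.bnd (B := B47) (D := D47) (I := [12, 13, 0, 1, 2, 3, 6, 4, 5]) (r := 2) (C := C47) (N := N47) (by decide +kernel) (by decide +kernel) (by decide +kernel) (by decide +kernel)
    (allB_cons (c.badA) (allB_cons (bad28 c) (allB_cons (bad28 c) (allB_nil))))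

def P48 : List Ent := [⟨1, [.a0, .a7], [.a0, .a2, .a3, .a5, .a7, .a8]⟩,
  ⟨2, [.a1, .a7, .a11], [.a1, .a2, .a5, .a6, .a7, .a8, .a9, .a11]⟩,
  ⟨4, [.a2], [.a2]⟩,
  ⟨8, [.a3], [.a3]⟩,
  ⟨16, [.a4, .a7], [.a4, .a5, .a6, .a7, .a8]⟩,
  ⟨32, [.a5], [.a5]⟩,
  ⟨64, [.a6], [.a6]⟩,
  ⟨256, [.a8], [.a8]⟩,
  ⟨512, [.a9], [.a9]⟩]
def B48 : List Gv := [⟨[.a0, .a7], [.a0, .a2, .a3, .a5, .a7, .a8]⟩, ⟨[.a1, .a7, .a11], [.a1, .a2, .a5, .a6, .a7, .a8, .a9, .a11]⟩]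
def D48 : List Dv := [⟨[.a2, .a3, .a8], [0, 0], []⟩,
  ⟨[.a3, .a4, .a7, .a8, .a9], [2, 1], [1, 2]⟩,
  ⟨[.a4, .a7], [0, 1, 3, 3], []⟩,
  ⟨[.a5, .a6], [2, 4], [4, 2]⟩,
  ⟨[.a6], [0, 2, 4], [4, 2]⟩,
  ⟨[.a9], [0, 2, 3, 3, 6], [6, 3]⟩,
  ⟨[.a8], [1, 2, 3, 4], [4, 3]⟩,
  ⟨[.a5], [3], [2]⟩,
  ⟨[.a3], [6], [5, 1, 2]⟩,
  ⟨[.a2], [8], [0, 2]⟩]
def C48 : List Ch := [⟨PB, 0, [], []⟩,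
  ⟨PA, 1, [], []⟩,
  ⟨P28, 0, [.a10], [.a10, .a11]⟩]
def N48 : List Ent := [⟨1, [.a0, .a7], [.a0, .a2, .a3, .a5, .a7, .a8]⟩,
  ⟨2, [.a1, .a7, .a11], [.a1, .a2, .a5, .a6, .a7, .a8, .a9, .a11]⟩,
  ⟨4, [.a2], [.a2]⟩,
  ⟨8, [.a3], [.a3]⟩,
  ⟨16, [.a4, .a7], [.a4, .a5, .a6, .a7, .a8]⟩,
  ⟨32, [.a5], [.a5]⟩,
  ⟨64, [.a6], [.a6]⟩,
  ⟨128, [.a7], [.a7, .a8]⟩,
  ⟨256, [.a8], [.a8]⟩,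
  ⟨512, [.a9], [.a9]⟩,
  ⟨2048, [.a11], [.a11]⟩]
theorem bad48 (c : CtxM Goal γ) : Bad Goal γ PZ P48 :=
  c.toCtx.bnd (B := B48) (D := D48) (I := [10, 11, 0, 1, 7, 2, 5, 3, 4]) (r := 2) (C := C48) (N := N48) (by decide +kernel) (by decide +kernel) (by decide +kernel) (by decide +kernel)
    (allB_cons (c.badB) (allB_cons (c.badA) (allB_cons (bad28 c) (allB_nil))))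

def P49 : List Ent := [⟨1, [.a0, .a7, .a10], [.a0, .a1, .a3, .a4, .a7, .a10, .a11]⟩,
  ⟨2, [.a1, .a7, .a11], [.a1, .a2, .a5, .a6, .a7, .a8, .a9, .a11]⟩,
  ⟨4, [.a2], [.a2]⟩,
  ⟨8, [.a3], [.a3]⟩,
  ⟨16, [.a4, .a7], [.a4, .a5, .a6, .a7, .a8]⟩,
  ⟨32, [.a5], [.a5]⟩,
  ⟨64, [.a6], [.a6]⟩,
  ⟨256, [.a8], [.a8]⟩,
  ⟨512, [.a9], [.a9]⟩]
def B49 : List Gv := [⟨[.a0, .a7, .a10], [.a0, .a1, .a3, .a4, .a7, .a10, .a11]⟩, ⟨[.a4, .a7], [.a4, .a5, .a6, .a7, .a8]⟩]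
def D49 : List Dv := [⟨[.a1, .a2, .a6, .a7, .a11], [0, 0], []⟩,
  ⟨[.a5, .a8, .a9], [2, 1], [1, 2]⟩,
  ⟨[.a6, .a9], [0, 3, 3], []⟩,
  ⟨[.a3, .a5, .a6], [2, 4], [4, 2]⟩,
  ⟨[.a2, .a6, .a8, .a9], [3, 3], []⟩,
  ⟨[.a8], [3, 6], [6, 3]⟩,
  ⟨[.a9], [0, 3, 3, 5], [5, 3]⟩,
  ⟨[.a6], [4], [0]⟩,
  ⟨[.a5], [6], [2, 1]⟩,
  ⟨[.a3], [5], [0, 1]⟩,
  ⟨[.a2], [5], [2, 4, 3]⟩,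
  ⟨[.a1, .a7, .a11], [10], [0, 2, 5]⟩]
def C49 : List Ch := [⟨PB, 0, [], []⟩,
  ⟨P29, 1, [], []⟩,
  ⟨P29, 0, [.a1], [.a1, .a2]⟩]
def N49 : List Ent := [⟨1, [.a0, .a7, .a10], [.a0, .a1, .a3, .a4, .a7, .a10, .a11]⟩,
  ⟨2, [.a1, .a7, .a11], [.a1, .a2, .a5, .a6, .a7, .a8, .a9, .a11]⟩,
  ⟨4, [.a2], [.a2]⟩,
  ⟨8, [.a3], [.a3]⟩,
  ⟨16, [.a4, .a7], [.a4, .a5, .a6, .a7, .a8]⟩,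
  ⟨32, [.a5], [.a5]⟩,
  ⟨64, [.a6], [.a6]⟩,
  ⟨128, [.a7], [.a7, .a8]⟩,
  ⟨256, [.a8], [.a8]⟩,
  ⟨512, [.a9], [.a9]⟩,
  ⟨2048, [.a11], [.a11]⟩]
theorem bad49 (c : CtxM Goal γ) : Bad Goal γ PZ P49 :=
  c.toCtx.bnd (B := B49) (D := D49) (I := [12, 0, 1, 2, 13, 3, 4, 6, 5]) (r := 2) (C := C49) (N := N49) (by decide +kernel) (by decide +kernel) (by decide +kernel) (by decide +kernel)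
    (allB_cons (c.badB) (allB_cons (bad29 c) (allB_cons (bad29 c) (allB_nil))))

def P50 : List Ent := [⟨1, [.a0], [.a0]⟩,
  ⟨4, [.a2], [.a2]⟩,
  ⟨8, [.a3], [.a3]⟩,
  ⟨16, [.a4, .a9], [.a4, .a5, .a8, .a9]⟩,
  ⟨32, [.a5], [.a5]⟩,
  ⟨64, [.a6], [.a6]⟩,
  ⟨128, [.a7], [.a7, .a8]⟩,
  ⟨256, [.a8], [.a8]⟩,
  ⟨2048, [.a11], [.a11]⟩]
def B50 : List Gv := [⟨[.a0], [.a0]⟩, ⟨[.a4, .a9], [.a4, .a5, .a8, .a9]⟩, ⟨[.a11], [.a11]⟩, ⟨[.a3], [.a3]⟩]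
def D50 : List Dv := [⟨[.a2, .a3, .a6], [1, 0], [0, 1]⟩,
  ⟨[.a5, .a8], [2, 2], []⟩,
  ⟨[.a6, .a7], [0, 3, 1, 4, 2], [2, 4]⟩,
  ⟨[.a8], [6, 5], [5, 6]⟩,
  ⟨[.a7, .a8], [1, 2, 3, 6], [6, 3]⟩,
  ⟨[.a7], [0], [1]⟩,
  ⟨[.a6], [3], [0]⟩,
  ⟨[.a5], [5], [3]⟩,
  ⟨[.a2], [7], [11, 1]⟩]
def C50 : List Ch := [⟨PB, 0, [], []⟩,
  ⟨P19, 1, [], []⟩,
  ⟨P26, 0, [], []⟩,
  ⟨PA, 2, [], []⟩,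
  ⟨P30, 0, [], []⟩,
  ⟨P31, 1, [], []⟩,
  ⟨P32, 0, [], []⟩]
def S50 : List St := [.phi 1 [⟨4, [.a2, .a3], [.a2, .a3]⟩,
  ⟨16, [.a4, .a7, .a9], [.a4, .a5, .a6, .a7, .a9]⟩,
  ⟨32, [.a5], [.a5]⟩,
  ⟨64, [.a6], [.a6]⟩,
  ⟨256, [.a8], [.a8]⟩] [[[.a7], [.a0, .a7]], [[.a0, .a3, .a7, .a11]], [[.a0, .a8]], [[.a2, .a4, .a7, .a9]], [[.a7]]],
  .om 2 [⟨1, [.a0], [.a0]⟩,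
  ⟨4, [.a2], [.a2]⟩,
  ⟨8, [.a3], [.a3]⟩,
  ⟨16, [.a4, .a7, .a9], [.a4, .a5, .a6, .a7, .a9]⟩,
  ⟨32, [.a5], [.a5]⟩,
  ⟨64, [.a6], [.a6]⟩,
  ⟨256, [.a8], [.a8]⟩,
  ⟨2048, [.a11], [.a11]⟩] [[[.a0]], [[.a2]], [[.a3]], [[.a0], [.a0, .a4, .a7, .a9]], [[.a5]], [[.a6]], [[.a8]], [[.a11]]],
  .phi 0 [⟨4, [.a2, .a3, .a4, .a7, .a9], [.a2, .a3, .a4, .a5, .a6, .a7, .a9]⟩,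
  ⟨32, [.a5], [.a5]⟩,
  ⟨64, [.a6], [.a6]⟩,
  ⟨256, [.a8], [.a8]⟩] [[[.a0, .a2, .a3, .a11]], [[.a0, .a8]], [[.a2, .a4, .a7, .a9]], [[.a3, .a11]]],
  .om 2 [⟨4, [.a2, .a3], [.a2, .a3]⟩,
  ⟨32, [.a5], [.a5]⟩,
  ⟨64, [.a6], [.a6]⟩,
  ⟨256, [.a8], [.a8]⟩] [[[.a2, .a3]], [[.a5]], [[.a6]], [[.a8]]],
  .cent 5 0 4 [⟨4, [.a2], [.a2]⟩,
  ⟨8, [.a3], [.a3]⟩,
  ⟨16, [.a4, .a7, .a9], [.a4, .a5, .a6, .a7, .a9]⟩,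
  ⟨32, [.a5], [.a5]⟩,
  ⟨64, [.a6], [.a6]⟩,
  ⟨256, [.a8], [.a8]⟩],
  .om 2 [⟨32, [.a5], [.a5]⟩,
  ⟨64, [.a6], [.a6]⟩,
  ⟨256, [.a8], [.a8]⟩] [[[.a5]], [[.a6]], [[.a8]]]]
theorem bad50 (c : CtxM Goal γ) : Bad Goal γ PZ P50 :=
  c.toCtx.chn (B := B50) (D := D50) (I := [9, 0, 12, 10, 1, 2, 3, 5, 11]) (r := 3) (C := C50) (l := S50) (x := ⟨[.a9], [.a9]⟩) (ix := [1, 0]) (by decide +kernel) (by decide +kernel) (by decide +kernel) (by decide +kernel)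
    (allB_cons (c.badB) (allB_cons (bad19 c) (allB_cons (bad26 c) (allB_cons (c.badA) (allB_cons (bad30 c) (allB_cons (bad31 c) (allB_cons (bad32 c) (allB_nil))))))))

def P51 : List Ent := [⟨1, [.a0, .a9], [.a0, .a3, .a6, .a9]⟩,
  ⟨4, [.a2], [.a2]⟩,
  ⟨8, [.a3], [.a3]⟩,
  ⟨16, [.a4, .a9], [.a4, .a5, .a8, .a9]⟩,
  ⟨32, [.a5], [.a5]⟩,
  ⟨64, [.a6], [.a6]⟩,
  ⟨128, [.a7], [.a7, .a8]⟩,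
  ⟨256, [.a8], [.a8]⟩,
  ⟨2048, [.a11], [.a11]⟩]
def B51 : List Gv := [⟨[.a0, .a9], [.a0, .a3, .a6, .a9]⟩, ⟨[.a4, .a9], [.a4, .a5, .a8, .a9]⟩, ⟨[.a11], [.a11]⟩]
def D51 : List Dv := [⟨[.a3, .a6], [0, 0], []⟩,
  ⟨[.a2, .a3, .a5, .a6, .a8], [2, 1], [1, 2]⟩,
  ⟨[.a5, .a8], [3, 3], []⟩,
  ⟨[.a6, .a7], [4, 1, 5, 3], [3, 5]⟩,
  ⟨[.a8], [3, 6], [6, 3]⟩,
  ⟨[.a7, .a8], [1, 2, 3, 7], [7, 3]⟩,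
  ⟨[.a7], [0], [1]⟩,
  ⟨[.a6], [3], [0]⟩,
  ⟨[.a5], [5], [3]⟩,
  ⟨[.a3], [8], [1]⟩,
  ⟨[.a2], [8], [0, 1, 2, 5]⟩]
def C51 : List Ch := [⟨PB, 0, [], []⟩,
  ⟨P20, 1, [], []⟩,
  ⟨P27, 0, [], []⟩,
  ⟨PA, 2, [], []⟩,
  ⟨P30, 0, [.a1], [.a1, .a2]⟩,
  ⟨P33, 1, [], []⟩,
  ⟨P34, 0, [], []⟩]
def S51 : List St := [.phi 1 [⟨4, [.a2], [.a2]⟩,
  ⟨8, [.a3], [.a3]⟩,
  ⟨16, [.a4, .a7, .a9], [.a4, .a5, .a6, .a7, .a9]⟩,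
  ⟨32, [.a5], [.a5]⟩,
  ⟨64, [.a6], [.a6]⟩,
  ⟨256, [.a8], [.a8]⟩] [[[.a0, .a4, .a8]], [[.a2, .a4, .a7, .a9], [.a0, .a9]], [[.a0, .a4, .a8], [.a0, .a4, .a7, .a8, .a11]], [[.a3, .a7, .a11]], [[.a2, .a4, .a7, .a9]], [[.a7]]],
  .comm 0 0 [⟨32, [.a5], [.a5]⟩] [⟨[.a2], [.a4, .a7, .a9]⟩],
  .om 1 [⟨4, [.a2], [.a2]⟩,
  ⟨8, [.a3], [.a3]⟩,
  ⟨32, [.a5], [.a5]⟩,
  ⟨64, [.a6], [.a6]⟩,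
  ⟨256, [.a8], [.a8]⟩] [[[.a2]], [[.a3]], [[.a5]], [[.a6]], [[.a8]]]]
theorem bad51 (c : CtxM Goal γ) : Bad Goal γ PZ P51 :=
  c.toCtx.chn (B := B51) (D := D51) (I := [11, 0, 1, 12, 2, 3, 4, 6, 13]) (r := 3) (C := C51) (l := S51) (x := ⟨[.a9], [.a9]⟩) (ix := [0, 1]) (by decide +kernel) (by decide +kernel) (by decide +kernel) (by decide +kernel)
    (allB_cons (c.badB) (allB_cons (bad20 c) (allB_cons (bad27 c) (allB_cons (c.badA) (allB_cons (bad30 c) (allB_cons (bad33 c) (allB_cons (bad34 c) (allB_nil))))))))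

def P52 : List Ent := [⟨1, [.a0], [.a0]⟩,
  ⟨4, [.a2], [.a2]⟩,
  ⟨8, [.a3], [.a3]⟩,
  ⟨16, [.a4], [.a4, .a5]⟩,
  ⟨32, [.a5], [.a5]⟩,
  ⟨64, [.a6], [.a6]⟩,
  ⟨128, [.a7, .a9], [.a7, .a8, .a9]⟩,
  ⟨256, [.a8], [.a8]⟩,
  ⟨2048, [.a11], [.a11]⟩]
def B52 : List Gv := [⟨[.a0], [.a0]⟩, ⟨[.a4], [.a4, .a5]⟩, ⟨[.a11], [.a11]⟩, ⟨[.a3], [.a3]⟩]
def D52 : List Dv := [⟨[.a2], [1, 0], [0, 1]⟩,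
  ⟨[.a5], [2, 2], []⟩,
  ⟨[.a7, .a9], [0, 3, 5, 1, 4, 2], [2, 4]⟩,
  ⟨[.a8], [6, 5], [5, 6]⟩,
  ⟨[.a6, .a8], [2, 3, 6], [6, 3]⟩,
  ⟨[.a6], [0], [1]⟩]
def C52 : List Ch := [⟨PB, 0, [], []⟩,
  ⟨P19, 1, [], []⟩,
  ⟨P27, 0, [], []⟩,
  ⟨PA, 2, [], []⟩,
  ⟨P35, 0, [], []⟩,
  ⟨P31, 1, [.a1], [.a1, .a2]⟩,
  ⟨P34, 0, [.a1], [.a1, .a2]⟩]
def S52 : List St := [.cent 1 1 0 [⟨32, [.a5], [.a5]⟩,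
  ⟨64, [.a6], [.a6]⟩],
  .phi 2 [⟨4, [.a2], [.a2]⟩,
  ⟨8, [.a3, .a4, .a7, .a9], [.a3, .a4, .a6, .a7, .a9]⟩,
  ⟨32, [.a5], [.a5]⟩,
  ⟨64, [.a6], [.a6]⟩,
  ⟨256, [.a8], [.a8]⟩] [[[.a0, .a4, .a8]], [[.a0, .a3, .a4, .a8, .a11]], [[.a4]], [[.a2, .a4, .a7, .a9]], [[.a7, .a9]]],
  .cent 3 3 1 [⟨4, [.a2, .a3], [.a2, .a3]⟩,
  ⟨32, [.a5], [.a5]⟩,
  ⟨64, [.a6], [.a6]⟩,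
  ⟨256, [.a8], [.a8]⟩],
  .cent 1 1 3 [⟨32, [.a5], [.a5]⟩,
  ⟨64, [.a6], [.a6]⟩,
  ⟨256, [.a8], [.a8]⟩],
  .cent 5 5 1 [⟨4, [.a2], [.a2]⟩,
  ⟨8, [.a3], [.a3]⟩,
  ⟨16, [.a4, .a7, .a9], [.a4, .a5, .a6, .a7, .a9]⟩,
  ⟨32, [.a5], [.a5]⟩,
  ⟨64, [.a6], [.a6]⟩,
  ⟨256, [.a8], [.a8]⟩]]
theorem bad52 (c : CtxM Goal γ) : Bad Goal γ PZ P52 :=
  c.toCtx.chn (B := B52) (D := D52) (I := [6, 5, 9, 7, 4, 0, 3, 2, 8]) (r := 3) (C := C52) (l := S52) (x := ⟨[.a9], [.a9]⟩) (ix := [0, 1]) (by decide +kernel) (by decide +kernel) (by decide +kernel) (by decide +kernel)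
    (allB_cons (c.badB) (allB_cons (bad19 c) (allB_cons (bad27 c) (allB_cons (c.badA) (allB_cons (bad35 c) (allB_cons (bad31 c) (allB_cons (bad34 c) (allB_nil))))))))

def P53 : List Ent := [⟨1, [.a0, .a9], [.a0, .a3, .a6, .a9]⟩,
  ⟨4, [.a2], [.a2]⟩,
  ⟨8, [.a3], [.a3]⟩,
  ⟨16, [.a4], [.a4, .a5]⟩,
  ⟨32, [.a5], [.a5]⟩,
  ⟨64, [.a6], [.a6]⟩,
  ⟨128, [.a7, .a9], [.a7, .a8, .a9]⟩,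
  ⟨256, [.a8], [.a8]⟩,
  ⟨2048, [.a11], [.a11]⟩]
def B53 : List Gv := [⟨[.a0, .a9], [.a0, .a3, .a6, .a9]⟩, ⟨[.a4], [.a4, .a5]⟩, ⟨[.a11], [.a11]⟩]
def D53 : List Dv := [⟨[.a3, .a6], [0, 0], []⟩,
  ⟨[.a2, .a5, .a8], [2, 1], [1, 2]⟩,
  ⟨[.a5], [3, 3], []⟩,
  ⟨[.a6, .a7, .a8, .a9], [4, 2, 1, 5, 3], [3, 5]⟩,
  ⟨[.a8], [3, 6], [6, 3]⟩,
  ⟨[.a7, .a9], [1, 2, 3, 7], [7, 3]⟩,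
  ⟨[.a6], [2], [0, 1]⟩,
  ⟨[.a3], [6], [0]⟩,
  ⟨[.a2], [6], [5, 3]⟩]
def C53 : List Ch := [⟨PB, 0, [], []⟩,
  ⟨P20, 1, [], []⟩,
  ⟨P26, 0, [], []⟩,
  ⟨PA, 2, [], []⟩,
  ⟨P35, 0, [.a1], [.a1, .a2]⟩,
  ⟨P33, 1, [.a1], [.a1, .a2]⟩,
  ⟨P32, 0, [.a1], [.a1, .a2]⟩]
def S53 : List St := [.phi 1 [⟨4, [.a2], [.a2]⟩,
  ⟨8, [.a3], [.a3]⟩,
  ⟨16, [.a4, .a7, .a9], [.a4, .a5, .a6, .a7, .a9]⟩,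
  ⟨32, [.a5], [.a5]⟩,
  ⟨64, [.a6], [.a6]⟩,
  ⟨256, [.a8], [.a8]⟩] [[[.a0, .a3, .a4, .a7], [.a0, .a2, .a4, .a9]], [[.a2, .a4, .a7, .a9], [.a0, .a9]], [[.a0, .a3, .a7, .a11]], [[.a4]], [[.a2, .a4, .a7, .a9]], [[.a7, .a9]]],
  .comm 0 0 [⟨32, [.a5], [.a5]⟩] [⟨[.a2], [.a4, .a7, .a9]⟩],
  .om 1 [⟨4, [.a2], [.a2]⟩,
  ⟨8, [.a3], [.a3]⟩,
  ⟨32, [.a5], [.a5]⟩,
  ⟨64, [.a6], [.a6]⟩,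
  ⟨256, [.a8], [.a8]⟩] [[[.a2]], [[.a3]], [[.a5]], [[.a6]], [[.a8]]]]
theorem bad53 (c : CtxM Goal γ) : Bad Goal γ PZ P53 :=
  c.toCtx.chn (B := B53) (D := D53) (I := [9, 0, 1, 10, 6, 2, 3, 4, 11]) (r := 3) (C := C53) (l := S53) (x := ⟨[.a9], [.a9]⟩) (ix := [0, 1]) (by decide +kernel) (by decide +kernel) (by decide +kernel) (by decide +kernel)
    (allB_cons (c.badB) (allB_cons (bad20 c) (allB_cons (bad26 c) (allB_cons (c.badA) (allB_cons (bad35 c) (allB_cons (bad33 c) (allB_cons (bad32 c) (allB_nil))))))))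

def P54 : List Ent := [⟨1, [.a0, .a11], [.a0, .a2, .a3, .a4, .a5, .a6, .a7, .a9, .a11]⟩,
  ⟨4, [.a2], [.a2]⟩,
  ⟨8, [.a3], [.a3]⟩,
  ⟨16, [.a4], [.a4, .a5]⟩,
  ⟨32, [.a5], [.a5]⟩,
  ⟨64, [.a6], [.a6]⟩,
  ⟨128, [.a7], [.a7, .a8]⟩,
  ⟨256, [.a8], [.a8]⟩,
  ⟨512, [.a9], [.a9]⟩]
def B54 : List Gv := [⟨[.a0, .a11], [.a0, .a2, .a3, .a4, .a5, .a6, .a7, .a9, .a11]⟩, ⟨[.a4], [.a4, .a5]⟩, ⟨[.a7], [.a7, .a8]⟩]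
def D54 : List Dv := [⟨[.a2, .a3, .a4, .a5, .a6, .a7, .a9], [0, 0], []⟩,
  ⟨[.a3, .a4, .a6, .a7, .a9], [0, 2, 1], [1, 2]⟩,
  ⟨[.a5], [3, 3], []⟩,
  ⟨[.a6, .a7, .a9], [4, 2, 5, 3], [3, 5]⟩,
  ⟨[.a8, .a9], [6, 0, 6, 5], [5, 6]⟩,
  ⟨[.a9], [0, 7, 7], []⟩,
  ⟨[.a8], [1], [0]⟩,
  ⟨[.a6], [3], [9, 1]⟩,
  ⟨[.a3], [6], [9, 0, 10, 2]⟩,
  ⟨[.a2], [8], [0, 10, 6, 1, 11, 3]⟩]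
def C54 : List Ch := [⟨PA, 0, [], []⟩,
  ⟨P30, 1, [], []⟩,
  ⟨P30, 0, [.a1], [.a1, .a2]⟩,
  ⟨P35, 2, [], []⟩,
  ⟨P35, 0, [.a1], [.a1, .a2]⟩,
  ⟨P22, 1, [], []⟩,
  ⟨P28, 0, [], []⟩]
def N54 : List Ent := [⟨1, [.a0, .a11], [.a0, .a2, .a3, .a4, .a5, .a6, .a7, .a9, .a11]⟩,
  ⟨2, [.a1], [.a1, .a2]⟩,
  ⟨4, [.a2], [.a2]⟩,
  ⟨8, [.a3], [.a3]⟩,
  ⟨16, [.a4], [.a4, .a5]⟩,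
  ⟨32, [.a5], [.a5]⟩,
  ⟨64, [.a6], [.a6]⟩,
  ⟨128, [.a7], [.a7, .a8]⟩,
  ⟨256, [.a8], [.a8]⟩,
  ⟨512, [.a9], [.a9]⟩,
  ⟨2048, [.a11], [.a11]⟩]
theorem bad54 (c : CtxM Goal γ) : Bad Goal γ PZ P54 :=
  c.toCtx.bnd (B := B54) (D := D54) (I := [10, 0, 1, 11, 7, 2, 12, 3, 4]) (r := 3) (C := C54) (N := N54) (by decide +kernel) (by decide +kernel) (by decide +kernel) (by decide +kernel)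
    (allB_cons (c.badA) (allB_cons (bad30 c) (allB_cons (bad30 c) (allB_cons (bad35 c) (allB_cons (bad35 c) (allB_cons (bad22 c) (allB_cons (bad28 c) (allB_nil))))))))

def P55 : List Ent := [⟨1, [.a0], [.a0]⟩,
  ⟨4, [.a2], [.a2]⟩,
  ⟨8, [.a3], [.a3]⟩,
  ⟨16, [.a4, .a11], [.a4, .a5, .a11]⟩,
  ⟨32, [.a5], [.a5]⟩,
  ⟨64, [.a6], [.a6]⟩,
  ⟨128, [.a7, .a11], [.a7, .a8, .a11]⟩,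
  ⟨256, [.a8], [.a8]⟩,
  ⟨512, [.a9], [.a9]⟩]
def B55 : List Gv := [⟨[.a0], [.a0]⟩, ⟨[.a2], [.a2]⟩, ⟨[.a4, .a11], [.a4, .a5, .a11]⟩, ⟨[.a7, .a11], [.a7, .a8, .a11]⟩]
def D55 : List Dv := [⟨[.a3, .a4, .a5, .a6, .a7, .a8, .a9], [2, 0], [0, 2]⟩,
  ⟨[.a5, .a6, .a8], [3, 2], [2, 3]⟩,
  ⟨[.a6, .a8], [0, 4, 4], []⟩,
  ⟨[.a9], [6, 0, 5, 6, 3], [3, 6]⟩,
  ⟨[.a8], [1, 7, 6], [6, 7]⟩,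
  ⟨[.a6], [2], [0]⟩,
  ⟨[.a5], [4], [0, 1]⟩,
  ⟨[.a3], [6], [9, 0, 1, 10, 2, 3]⟩]
def C55 : List Ch := [⟨PB, 0, [], []⟩,
  ⟨P36, 1, [], []⟩,
  ⟨P36, 0, [.a4], [.a4, .a5]⟩,
  ⟨P31, 2, [], []⟩,
  ⟨P33, 0, [], []⟩,
  ⟨P37, 1, [], []⟩,
  ⟨P37, 0, [.a4], [.a4, .a5]⟩,
  ⟨P31, 3, [.a1], [.a1, .a2]⟩,
  ⟨P33, 0, [.a1], [.a1, .a2]⟩,
  ⟨P37, 1, [.a1], [.a1, .a2]⟩,
  ⟨P37, 0, [.a1, .a3, .a4], [.a1, .a2, .a4, .a5]⟩,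
  ⟨PA, 2, [], []⟩,
  ⟨P28, 0, [], []⟩,
  ⟨P38, 1, [], []⟩,
  ⟨P38, 0, [.a4], [.a4, .a5]⟩]
def S55 : List St := [.phi 1 [⟨8, [.a3], [.a3]⟩,
  ⟨16, [.a4, .a7, .a9], [.a4, .a5, .a6, .a7, .a9]⟩,
  ⟨32, [.a5], [.a5]⟩,
  ⟨64, [.a6], [.a6]⟩,
  ⟨256, [.a8], [.a8]⟩] [[[.a2, .a4, .a7, .a9], [.a0, .a9]], [[.a0, .a3, .a7, .a11]], [[.a0, .a8]], [[.a2, .a4, .a7, .a9]], [[.a7, .a11]]],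
  .om 2 [⟨1, [.a0], [.a0]⟩,
  ⟨4, [.a2], [.a2]⟩,
  ⟨8, [.a3], [.a3]⟩,
  ⟨16, [.a4, .a7], [.a4, .a5, .a6, .a7, .a8]⟩,
  ⟨32, [.a5], [.a5]⟩,
  ⟨64, [.a6], [.a6]⟩,
  ⟨256, [.a8], [.a8]⟩,
  ⟨512, [.a9], [.a9]⟩] [[[.a0]], [[.a2]], [[.a3]], [[.a0], [.a9], [.a0, .a3, .a4, .a6, .a7, .a8, .a9]], [[.a5]], [[.a6]], [[.a8]], [[.a9]]],
  .comm 1 1 [⟨32, [.a5], [.a5]⟩] [⟨[.a3], [.a4, .a7, .a9]⟩],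
  .phi 1 [⟨8, [.a3], [.a3]⟩,
  ⟨32, [.a5], [.a5]⟩,
  ⟨64, [.a6], [.a6]⟩,
  ⟨256, [.a8], [.a8]⟩] [[[.a2, .a4, .a7, .a9], [.a0, .a9]], [[.a0, .a8]], [[.a2, .a4, .a7, .a9]], [[.a2, .a4, .a7, .a9], [.a3, .a4, .a7]]]]
theorem bad55 (c : CtxM Goal γ) : Bad Goal γ PZ P55 :=
  c.toCtx.chn (B := B55) (D := D55) (I := [8, 9, 0, 10, 1, 2, 11, 3, 4]) (r := 4) (C := C55) (l := S55) (x := ⟨[.a1], [.a1, .a2]⟩) (ix := [2, 0, 1]) (by decide +kernel) (by decide +kernel) (by decide +kernel) (by decide +kernel)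
    (allB_cons (c.badB) (allB_cons (bad36 c) (allB_cons (bad36 c) (allB_cons (bad31 c) (allB_cons (bad33 c) (allB_cons (bad37 c) (allB_cons (bad37 c) (allB_cons (bad31 c) (allB_cons (bad33 c) (allB_cons (bad37 c) (allB_cons (bad37 c) (allB_cons (c.badA) (allB_cons (bad28 c) (allB_cons (bad38 c) (allB_cons (bad38 c) (allB_nil))))))))))))))))

def P56 : List Ent := [⟨1, [.a0, .a11], [.a0, .a2, .a3, .a4, .a5, .a6, .a7, .a9, .a11]⟩,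
  ⟨4, [.a2], [.a2]⟩,
  ⟨8, [.a3], [.a3]⟩,
  ⟨16, [.a4, .a11], [.a4, .a5, .a11]⟩,
  ⟨32, [.a5], [.a5]⟩,
  ⟨64, [.a6], [.a6]⟩,
  ⟨128, [.a7, .a11], [.a7, .a8, .a11]⟩,
  ⟨256, [.a8], [.a8]⟩,
  ⟨512, [.a9], [.a9]⟩]
def B56 : List Gv := [⟨[.a0, .a11], [.a0, .a2, .a3, .a4, .a5, .a6, .a7, .a9, .a11]⟩, ⟨[.a4, .a11], [.a4, .a5, .a11]⟩, ⟨[.a7, .a11], [.a7, .a8, .a11]⟩]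
def D56 : List Dv := [⟨[.a2, .a3, .a4, .a5, .a6, .a7, .a9], [0, 0], []⟩,
  ⟨[.a3, .a4, .a5, .a6, .a7, .a8, .a9], [2, 1], [1, 2]⟩,
  ⟨[.a5], [3, 3], []⟩,
  ⟨[.a6, .a7, .a9, .a11], [4, 5, 3], [3, 5]⟩,
  ⟨[.a8, .a9], [6, 0, 6, 5], [5, 6]⟩,
  ⟨[.a9], [0, 7, 7], []⟩,
  ⟨[.a8], [1], [0]⟩,
  ⟨[.a6], [3], [9, 1]⟩,
  ⟨[.a3], [6], [9, 5, 0, 10, 1, 2]⟩,
  ⟨[.a2], [8], [0, 10, 6, 1, 11, 3]⟩]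
def C56 : List Ch := [⟨PB, 0, [], []⟩,
  ⟨P32, 1, [], []⟩,
  ⟨P34, 0, [], []⟩,
  ⟨P34, 2, [.a1], [.a1, .a2]⟩,
  ⟨P32, 0, [.a1], [.a1, .a2]⟩,
  ⟨P22, 1, [], []⟩,
  ⟨PA, 0, [], []⟩]
def N56 : List Ent := [⟨1, [.a0, .a11], [.a0, .a2, .a3, .a4, .a5, .a6, .a7, .a9, .a11]⟩,
  ⟨2, [.a1], [.a1, .a2]⟩,
  ⟨4, [.a2], [.a2]⟩,
  ⟨8, [.a3], [.a3]⟩,
  ⟨16, [.a4, .a11], [.a4, .a5, .a11]⟩,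
  ⟨32, [.a5], [.a5]⟩,
  ⟨64, [.a6], [.a6]⟩,
  ⟨128, [.a7, .a11], [.a7, .a8, .a11]⟩,
  ⟨256, [.a8], [.a8]⟩,
  ⟨512, [.a9], [.a9]⟩,
  ⟨2048, [.a11], [.a11]⟩]
theorem bad56 (c : CtxM Goal γ) : Bad Goal γ PZ P56 :=
  c.toCtx.bnd (B := B56) (D := D56) (I := [10, 0, 1, 11, 7, 2, 12, 3, 4]) (r := 3) (C := C56) (N := N56) (by decide +kernel) (by decide +kernel) (by decide +kernel) (by decide +kernel)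
    (allB_cons (c.badB) (allB_cons (bad32 c) (allB_cons (bad34 c) (allB_cons (bad34 c) (allB_cons (bad32 c) (allB_cons (bad22 c) (allB_cons (c.badA) (allB_nil))))))))

def P57 : List Ent := [⟨1, [.a0, .a11], [.a0, .a2, .a3, .a4, .a5, .a6, .a7, .a9, .a11]⟩,
  ⟨2, [.a1], [.a1, .a2]⟩,
  ⟨4, [.a2], [.a2]⟩,
  ⟨8, [.a3], [.a3]⟩,
  ⟨16, [.a4, .a7], [.a4, .a5, .a6, .a7, .a8]⟩,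
  ⟨32, [.a5], [.a5]⟩,
  ⟨64, [.a6], [.a6]⟩,
  ⟨256, [.a8], [.a8]⟩,
  ⟨512, [.a9], [.a9]⟩]
def B57 : List Gv := [⟨[.a0, .a11], [.a0, .a2, .a3, .a4, .a5, .a6, .a7, .a9, .a11]⟩, ⟨[.a1], [.a1, .a2]⟩]
def D57 : List Dv := [⟨[.a2, .a3, .a4, .a5, .a6, .a7, .a9], [0, 0], []⟩,
  ⟨[.a3, .a5, .a9], [2, 1], [1, 2]⟩,
  ⟨[.a4, .a5, .a6, .a7, .a8], [0, 1, 3, 3], []⟩,
  ⟨[.a6, .a8, .a9], [1, 2, 4], [4, 2]⟩,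
  ⟨[.a5, .a6], [3, 3], []⟩,
  ⟨[.a9], [1, 3, 6], [6, 3]⟩,
  ⟨[.a8], [4, 5], [5, 4]⟩,
  ⟨[.a6], [3], [0, 1]⟩,
  ⟨[.a5], [3], [0]⟩,
  ⟨[.a4, .a7], [6], [0, 1, 2]⟩,
  ⟨[.a3], [8], [1, 4]⟩,
  ⟨[.a2], [10], [0, 1, 2, 3, 5]⟩]
def C57 : List Ch := [⟨PA, 0, [], []⟩,
  ⟨P22, 1, [], []⟩,
  ⟨P28, 0, [.a10], [.a10, .a11]⟩]
def N57 : List Ent := [⟨1, [.a0, .a11], [.a0, .a2, .a3, .a4, .a5, .a6, .a7, .a9, .a11]⟩,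
  ⟨2, [.a1], [.a1, .a2]⟩,
  ⟨4, [.a2], [.a2]⟩,
  ⟨8, [.a3], [.a3]⟩,
  ⟨16, [.a4, .a7], [.a4, .a5, .a6, .a7, .a8]⟩,
  ⟨32, [.a5], [.a5]⟩,
  ⟨64, [.a6], [.a6]⟩,
  ⟨128, [.a7], [.a7, .a8]⟩,
  ⟨256, [.a8], [.a8]⟩,
  ⟨512, [.a9], [.a9]⟩,
  ⟨2048, [.a11], [.a11]⟩]
theorem bad57 (c : CtxM Goal γ) : Bad Goal γ PZ P57 :=
  c.toCtx.bnd (B := B57) (D := D57) (I := [12, 13, 0, 1, 2, 3, 4, 5, 6]) (r := 2) (C := C57) (N := N57) (by decide +kernel) (by decide +kernel) (by decide +kernel) (by decide +kernel)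
    (allB_cons (c.badA) (allB_cons (bad22 c) (allB_cons (bad28 c) (allB_nil))))

def P58 : List Ent := [⟨1, [.a0], [.a0]⟩,
  ⟨2, [.a1, .a11], [.a1, .a2, .a5, .a6, .a9, .a11]⟩,
  ⟨4, [.a2], [.a2]⟩,
  ⟨8, [.a3], [.a3]⟩,
  ⟨16, [.a4, .a7], [.a4, .a5, .a6, .a7, .a8]⟩,
  ⟨32, [.a5], [.a5]⟩,
  ⟨64, [.a6], [.a6]⟩,
  ⟨256, [.a8], [.a8]⟩,
  ⟨512, [.a9], [.a9]⟩]
def B58 : List Gv := [⟨[.a0], [.a0]⟩, ⟨[.a1, .a11], [.a1, .a2, .a5, .a6, .a9, .a11]⟩, ⟨[.a2], [.a2]⟩]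
def D58 : List Dv := [⟨[.a4, .a6, .a7, .a8, .a9], [2, 1, 0], [0, 1]⟩,
  ⟨[.a5, .a8, .a9], [3, 2, 2], []⟩,
  ⟨[.a6, .a8], [4, 3], [3, 4]⟩,
  ⟨[.a8], [0, 2, 3], [3, 2]⟩,
  ⟨[.a3, .a5, .a6, .a8], [3, 5], [5, 3]⟩,
  ⟨[.a9], [1, 3, 4, 7], [7, 4]⟩,
  ⟨[.a6], [3], [2]⟩,
  ⟨[.a5], [5], [3, 1]⟩,
  ⟨[.a4, .a7], [7], [1, 4, 2]⟩,
  ⟨[.a3], [4], [1, 2, 5]⟩]
def C58 : List Ch := [⟨PB, 0, [], []⟩,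
  ⟨PA, 1, [], []⟩,
  ⟨P28, 0, [.a10], [.a10, .a11]⟩,
  ⟨P39, 2, [], []⟩,
  ⟨P39, 0, [.a4], [.a4, .a5]⟩,
  ⟨P39, 1, [.a1], [.a1, .a2]⟩,
  ⟨P39, 0, [.a1, .a3, .a4], [.a1, .a2, .a4, .a5]⟩]
def N58 : List Ent := [⟨1, [.a0], [.a0]⟩,
  ⟨2, [.a1, .a11], [.a1, .a2, .a5, .a6, .a9, .a11]⟩,
  ⟨4, [.a2], [.a2]⟩,
  ⟨8, [.a3], [.a3]⟩,
  ⟨16, [.a4, .a7], [.a4, .a5, .a6, .a7, .a8]⟩,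
  ⟨32, [.a5], [.a5]⟩,
  ⟨64, [.a6], [.a6]⟩,
  ⟨128, [.a7], [.a7, .a8]⟩,
  ⟨256, [.a8], [.a8]⟩,
  ⟨512, [.a9], [.a9]⟩,
  ⟨2048, [.a11], [.a11]⟩]
theorem bad58 (c : CtxM Goal γ) : Bad Goal γ PZ P58 :=
  c.toCtx.bnd (B := B58) (D := D58) (I := [10, 11, 12, 0, 1, 2, 3, 6, 4]) (r := 3) (C := C58) (N := N58) (by decide +kernel) (by decide +kernel) (by decide +kernel) (by decide +kernel)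
    (allB_cons (c.badB) (allB_cons (c.badA) (allB_cons (bad28 c) (allB_cons (bad39 c) (allB_cons (bad39 c) (allB_cons (bad39 c) (allB_cons (bad39 c) (allB_nil))))))))

def P59 : List Ent := [⟨1, [.a0, .a11], [.a0, .a2, .a3, .a4, .a5, .a6, .a7, .a9, .a11]⟩,
  ⟨2, [.a1, .a11], [.a1, .a2, .a5, .a6, .a9, .a11]⟩,
  ⟨4, [.a2], [.a2]⟩,
  ⟨8, [.a3], [.a3]⟩,
  ⟨16, [.a4, .a7], [.a4, .a5, .a6, .a7, .a8]⟩,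
  ⟨32, [.a5], [.a5]⟩,
  ⟨64, [.a6], [.a6]⟩,
  ⟨256, [.a8], [.a8]⟩,
  ⟨512, [.a9], [.a9]⟩]
def B59 : List Gv := [⟨[.a0, .a11], [.a0, .a2, .a3, .a4, .a5, .a6, .a7, .a9, .a11]⟩, ⟨[.a1, .a11], [.a1, .a2, .a5, .a6, .a9, .a11]⟩]
def D59 : List Dv := [⟨[.a2, .a3, .a4, .a5, .a6, .a7, .a9], [0, 0], []⟩,
  ⟨[.a6, .a8, .a9], [0, 2, 1], [1, 2]⟩,
  ⟨[.a3, .a4, .a5, .a6, .a7, .a8], [1, 3, 3], []⟩,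
  ⟨[.a4, .a5, .a6, .a7], [0, 2, 4], [4, 2]⟩,
  ⟨[.a5, .a6], [3, 3], []⟩,
  ⟨[.a8, .a9], [3, 0, 1, 2, 3, 5], [5, 3]⟩,
  ⟨[.a9], [0, 1, 4, 7], [7, 4]⟩,
  ⟨[.a8], [1], [0]⟩,
  ⟨[.a6], [6], [0, 1]⟩,
  ⟨[.a5], [4], [0]⟩,
  ⟨[.a4, .a7], [6], [0, 1]⟩,
  ⟨[.a3], [8], [0, 1, 2, 3]⟩,
  ⟨[.a2], [11], [0, 1, 2, 3, 5]⟩]
def C59 : List Ch := [⟨PB, 0, [], []⟩,
  ⟨P22, 1, [], []⟩,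
  ⟨PA, 0, [], []⟩]
def N59 : List Ent := [⟨1, [.a0, .a11], [.a0, .a2, .a3, .a4, .a5, .a6, .a7, .a9, .a11]⟩,
  ⟨2, [.a1, .a11], [.a1, .a2, .a5, .a6, .a9, .a11]⟩,
  ⟨4, [.a2], [.a2]⟩,
  ⟨8, [.a3], [.a3]⟩,
  ⟨16, [.a4, .a7], [.a4, .a5, .a6, .a7, .a8]⟩,
  ⟨32, [.a5], [.a5]⟩,
  ⟨64, [.a6], [.a6]⟩,
  ⟨128, [.a7], [.a7, .a8]⟩,
  ⟨256, [.a8], [.a8]⟩,
  ⟨512, [.a9], [.a9]⟩,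
  ⟨2048, [.a11], [.a11]⟩]
theorem bad59 (c : CtxM Goal γ) : Bad Goal γ PZ P59 :=
  c.toCtx.bnd (B := B59) (D := D59) (I := [13, 14, 0, 1, 2, 3, 4, 5, 6]) (r := 2) (C := C59) (N := N59) (by decide +kernel) (by decide +kernel) (by decide +kernel) (by decide +kernel)
    (allB_cons (c.badB) (allB_cons (bad22 c) (allB_cons (c.badA) (allB_nil))))

end Cfsg.Agent.H782.TF.Mix
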