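import Cfsg.Agent.H782.TF.Mix1

/-!
# S5262, q = 2: certificate of the subgroup tree, part 2 (generated; helper782)
-/

set_option autoImplicit false
set_option maxRecDepth 100000

namespace Cfsg.Agent.H782.TF.Mix

open Cfsg.Agent.H782.TF

universe u

variable {U : Type u} [Group U] {Goal : Subgroup U → Prop} {γ : ℕ → U}

def P60 : List Ent := [⟨1, [.a0, .a10], [.a0, .a1, .a2, .a3, .a4, .a6, .a8, .a9, .a10, .a11]⟩,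
  ⟨2, [.a1, .a7, .a11], [.a1, .a2, .a5, .a6, .a7, .a8, .a9, .a11]⟩,
  ⟨4, [.a2], [.a2]⟩,
  ⟨8, [.a3], [.a3]⟩,
  ⟨16, [.a4], [.a4, .a5]⟩,
  ⟨32, [.a5], [.a5]⟩,
  ⟨64, [.a6], [.a6]⟩,
  ⟨256, [.a8], [.a8]⟩,
  ⟨512, [.a9], [.a9]⟩]
def B60 : List Gv := [⟨[.a0, .a10], [.a0, .a1, .a2, .a3, .a4, .a6, .a8, .a9, .a10, .a11]⟩, ⟨[.a4], [.a4, .a5]⟩]
def D60 : List Dv := [⟨[.a1, .a3, .a5, .a6, .a7, .a8, .a9, .a11], [0, 0], []⟩,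
  ⟨[.a2], [2, 1], [1, 2]⟩,
  ⟨[.a5], [3, 3], []⟩,
  ⟨[.a3, .a5, .a6, .a8], [2, 4], [4, 2]⟩,
  ⟨[.a6, .a9], [2, 3, 3], []⟩,
  ⟨[.a8, .a9], [0, 2, 3, 4], [4, 3]⟩,
  ⟨[.a9], [0, 2, 5], [5, 2]⟩,
  ⟨[.a8], [1], [0]⟩,
  ⟨[.a6], [3], [1]⟩,
  ⟨[.a3], [5], [6, 0, 1]⟩,
  ⟨[.a1, .a7, .a11], [9], [0, 1, 3]⟩]
def C60 : List Ch := [⟨PB, 0, [], []⟩,
  ⟨P25, 1, [], []⟩,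
  ⟨P29, 0, [.a1], [.a1, .a2]⟩]
def S60 : List St := [.cent 1 1 0 [⟨32, [.a5], [.a5]⟩],
  .om 2 [⟨4, [.a2], [.a2]⟩,
  ⟨8, [.a3], [.a3]⟩,
  ⟨32, [.a5], [.a5]⟩,
  ⟨64, [.a6], [.a6]⟩,
  ⟨256, [.a8], [.a8]⟩,
  ⟨512, [.a9], [.a9]⟩] [[[.a2]], [[.a3]], [[.a5]], [[.a6]], [[.a8]], [[.a9]]]]
theorem bad60 (c : CtxM Goal γ) : Bad Goal γ PZ P60 :=
  c.toCtx.chn (B := B60) (D := D60) (I := [11, 0, 9, 1, 12, 8, 2, 3, 4]) (r := 2) (C := C60) (l := S60) (x := ⟨[.a7], [.a7, .a8]⟩) (ix := [0, 1]) (by decide +kernel) (by decide +kernel) (by decide +kernel) (by decide +kernel)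
    (allB_cons (c.badB) (allB_cons (bad25 c) (allB_cons (bad29 c) (allB_nil))))

def P61 : List Ent := [⟨1, [.a0, .a10], [.a0, .a1, .a2, .a3, .a4, .a6, .a8, .a9, .a10, .a11]⟩,
  ⟨2, [.a1, .a11], [.a1, .a2, .a5, .a6, .a9, .a11]⟩,
  ⟨4, [.a2], [.a2]⟩,
  ⟨8, [.a3], [.a3]⟩,
  ⟨32, [.a5], [.a5]⟩,
  ⟨64, [.a6], [.a6]⟩,
  ⟨128, [.a7], [.a7, .a8]⟩,
  ⟨256, [.a8], [.a8]⟩,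
  ⟨512, [.a9], [.a9]⟩]
def B61 : List Gv := [⟨[.a0, .a10], [.a0, .a1, .a2, .a3, .a4, .a6, .a8, .a9, .a10, .a11]⟩, ⟨[.a1, .a11], [.a1, .a2, .a5, .a6, .a9, .a11]⟩, ⟨[.a2], [.a2]⟩]
def D61 : List Dv := [⟨[.a3, .a6, .a7, .a8], [2, 1, 0, 0], []⟩,
  ⟨[.a7, .a8, .a9], [0, 3, 2, 1], [1, 2]⟩,
  ⟨[.a5, .a8, .a9], [4, 3, 3], []⟩,
  ⟨[.a9], [1, 2, 5, 3], [3, 5]⟩,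
  ⟨[.a6, .a8], [6, 5], [5, 6]⟩,
  ⟨[.a8, .a9], [3, 0, 2, 4, 7, 3, 5], [5, 3]⟩,
  ⟨[.a8], [0], [2]⟩,
  ⟨[.a7], [5], [0, 3]⟩,
  ⟨[.a6], [3], [1]⟩,
  ⟨[.a5], [6], [2, 5]⟩,
  ⟨[.a3], [9], [1, 2, 3]⟩]
def C61 : List Ch := [⟨PB, 0, [], []⟩,
  ⟨P25, 1, [], []⟩,
  ⟨P29, 0, [], []⟩,
  ⟨P40, 2, [], []⟩,
  ⟨P40, 0, [.a4], [.a4, .a5]⟩,
  ⟨P41, 1, [], []⟩,
  ⟨P41, 0, [.a4], [.a4, .a5]⟩]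
def S61 : List St := [.phi 1 [⟨2, [.a1, .a7, .a9, .a11], [.a1, .a2, .a5, .a7, .a11]⟩,
  ⟨4, [.a2, .a9], [.a2, .a5, .a9]⟩,
  ⟨8, [.a3], [.a3]⟩,
  ⟨32, [.a5], [.a5]⟩,
  ⟨64, [.a6], [.a6]⟩,
  ⟨256, [.a8], [.a8]⟩] [[[.a0, .a2, .a8, .a10]], [[.a1, .a3, .a6, .a11]], [[.a0, .a3, .a7, .a8, .a10], [.a0, .a3, .a8, .a10]], [[.a2, .a9]], [[.a1, .a3, .a6, .a11], [.a1, .a2, .a11]], [[.a7]]],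
  .om 2 [⟨4, [.a2], [.a2]⟩,
  ⟨8, [.a3], [.a3]⟩,
  ⟨32, [.a5], [.a5]⟩,
  ⟨64, [.a6], [.a6]⟩,
  ⟨256, [.a8], [.a8]⟩,
  ⟨512, [.a9], [.a9]⟩] [[[.a2]], [[.a3]], [[.a5]], [[.a6]], [[.a8]], [[.a9]]],
  .comm 1 1 [⟨32, [.a5, .a8], [.a5, .a8]⟩,
  ⟨256, [.a8], [.a8]⟩] [⟨[.a3], [.a1, .a2, .a7, .a11]⟩, ⟨[.a3, .a6], [.a1, .a2, .a7, .a11]⟩]]
theorem bad61 (c : CtxM Goal γ) : Bad Goal γ PZ P61 :=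
  c.toCtx.chn (B := B61) (D := D61) (I := [11, 12, 13, 0, 1, 2, 3, 4, 7]) (r := 3) (C := C61) (l := S61) (x := ⟨[.a4], [.a4, .a5]⟩) (ix := [1, 0]) (by decide +kernel) (by decide +kernel) (by decide +kernel) (by decide +kernel)
    (allB_cons (c.badB) (allB_cons (bad25 c) (allB_cons (bad29 c) (allB_cons (bad40 c) (allB_cons (bad40 c) (allB_cons (bad41 c) (allB_cons (bad41 c) (allB_nil))))))))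

def P62 : List Ent := [⟨1, [.a0], [.a0]⟩,
  ⟨2, [.a1, .a7], [.a1, .a2, .a7, .a8]⟩,
  ⟨4, [.a2], [.a2]⟩,
  ⟨8, [.a3], [.a3]⟩,
  ⟨16, [.a4, .a7], [.a4, .a5, .a6, .a7, .a8]⟩,
  ⟨32, [.a5], [.a5]⟩,
  ⟨64, [.a6], [.a6]⟩,
  ⟨256, [.a8], [.a8]⟩,
  ⟨512, [.a9], [.a9]⟩,
  ⟨2048, [.a11], [.a11]⟩]
def B62 : List Gv := [⟨[.a0], [.a0]⟩, ⟨[.a1, .a7], [.a1, .a2, .a7, .a8]⟩, ⟨[.a11], [.a11]⟩]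
def D62 : List Dv := [⟨[.a2, .a3], [1, 0], [0, 1]⟩,
  ⟨[.a3, .a8], [0, 2, 2], []⟩,
  ⟨[.a4, .a7, .a9], [1, 4, 2], [2, 4]⟩,
  ⟨[.a5, .a6, .a9], [5, 4], [4, 5]⟩,
  ⟨[.a6, .a9], [0, 3, 5], [5, 3]⟩,
  ⟨[.a9], [1, 4, 7], [7, 4]⟩,
  ⟨[.a8], [4, 8], [8, 4]⟩,
  ⟨[.a6], [2], [1]⟩,
  ⟨[.a5], [4], [0, 2]⟩,
  ⟨[.a4, .a7], [6], [3]⟩,
  ⟨[.a3], [8], [3]⟩,
  ⟨[.a2], [10], [0]⟩]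
def C62 : List Ch := [⟨PB, 0, [], []⟩,
  ⟨P42, 1, [], []⟩,
  ⟨P42, 0, [.a10], [.a10, .a11]⟩,
  ⟨PA, 2, [], []⟩,
  ⟨P43, 0, [], []⟩,
  ⟨P44, 1, [], []⟩,
  ⟨P44, 0, [.a10], [.a10, .a11]⟩]
def N62 : List Ent := [⟨1, [.a0], [.a0]⟩,
  ⟨2, [.a1, .a7], [.a1, .a2, .a7, .a8]⟩,
  ⟨4, [.a2], [.a2]⟩,
  ⟨8, [.a3], [.a3]⟩,
  ⟨16, [.a4, .a7], [.a4, .a5, .a6, .a7, .a8]⟩,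
  ⟨32, [.a5], [.a5]⟩,
  ⟨64, [.a6], [.a6]⟩,
  ⟨128, [.a7], [.a7, .a8]⟩,
  ⟨256, [.a8], [.a8]⟩,
  ⟨512, [.a9], [.a9]⟩,
  ⟨1024, [.a10], [.a10, .a11]⟩,
  ⟨2048, [.a11], [.a11]⟩]
theorem bad62 (c : CtxM Goal γ) : Bad Goal γ PZ P62 :=
  c.toCtx.bnd (B := B62) (D := D62) (I := [12, 13, 0, 1, 2, 3, 4, 5, 6, 14]) (r := 3) (C := C62) (N := N62) (by decide +kernel) (by decide +kernel) (by decide +kernel) (by decide +kernel)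
    (allB_cons (c.badB) (allB_cons (bad42 c) (allB_cons (bad42 c) (allB_cons (c.badA) (allB_cons (bad43 c) (allB_cons (bad44 c) (allB_cons (bad44 c) (allB_nil))))))))

def P63 : List Ent := [⟨1, [.a0, .a10], [.a0, .a1, .a2, .a3, .a4, .a6, .a8, .a9, .a10, .a11]⟩,
  ⟨2, [.a1, .a7], [.a1, .a2, .a7, .a8]⟩,
  ⟨4, [.a2], [.a2]⟩,
  ⟨8, [.a3], [.a3]⟩,
  ⟨16, [.a4, .a7], [.a4, .a5, .a6, .a7, .a8]⟩,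
  ⟨32, [.a5], [.a5]⟩,
  ⟨64, [.a6], [.a6]⟩,
  ⟨256, [.a8], [.a8]⟩,
  ⟨512, [.a9], [.a9]⟩,
  ⟨2048, [.a11], [.a11]⟩]
def B63 : List Gv := [⟨[.a0, .a10], [.a0, .a1, .a2, .a3, .a4, .a6, .a8, .a9, .a10, .a11]⟩, ⟨[.a1, .a7], [.a1, .a2, .a7, .a8]⟩]
def D63 : List Dv := [⟨[.a2, .a3, .a6, .a9, .a11], [1, 0, 0], []⟩,
  ⟨[.a4, .a6, .a7, .a11], [0, 2, 1], [1, 2]⟩,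
  ⟨[.a3, .a9, .a11], [1, 3, 3], []⟩,
  ⟨[.a5, .a6, .a8], [1, 2, 2, 3], [3, 2]⟩,
  ⟨[.a8, .a9], [3, 5], [5, 3]⟩,
  ⟨[.a6], [4, 4], []⟩,
  ⟨[.a9, .a11], [1, 0, 2, 3, 4, 7], [7, 4]⟩,
  ⟨[.a11], [0, 2, 1, 5, 6], [6, 5]⟩,
  ⟨[.a9], [1], [0]⟩,
  ⟨[.a8], [4], [0]⟩,
  ⟨[.a5], [6], [4, 0]⟩,
  ⟨[.a4, .a7], [9], [5, 3]⟩,
  ⟨[.a3], [9], [3, 4]⟩,
  ⟨[.a2], [12], [0, 7, 4, 5]⟩]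
def C63 : List Ch := [⟨PB, 0, [], []⟩,
  ⟨P45, 1, [], []⟩,
  ⟨P45, 0, [.a0], [.a0]⟩]
def N63 : List Ent := [⟨1, [.a0, .a10], [.a0, .a1, .a2, .a3, .a4, .a6, .a8, .a9, .a10, .a11]⟩,
  ⟨2, [.a1, .a7], [.a1, .a2, .a7, .a8]⟩,
  ⟨4, [.a2], [.a2]⟩,
  ⟨8, [.a3], [.a3]⟩,
  ⟨16, [.a4, .a7], [.a4, .a5, .a6, .a7, .a8]⟩,
  ⟨32, [.a5], [.a5]⟩,
  ⟨64, [.a6], [.a6]⟩,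
  ⟨128, [.a7], [.a7, .a8]⟩,
  ⟨256, [.a8], [.a8]⟩,
  ⟨512, [.a9], [.a9]⟩,
  ⟨1024, [.a10], [.a10, .a11]⟩,
  ⟨2048, [.a11], [.a11]⟩]
theorem bad63 (c : CtxM Goal γ) : Bad Goal γ PZ P63 :=
  c.toCtx.bnd (B := B63) (D := D63) (I := [14, 15, 0, 1, 2, 3, 8, 4, 5, 6]) (r := 2) (C := C63) (N := N63) (by decide +kernel) (by decide +kernel) (by decide +kernel) (by decide +kernel)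
    (allB_cons (c.badB) (allB_cons (bad45 c) (allB_cons (bad45 c) (allB_nil))))

def P64 : List Ent := [⟨1, [.a0, .a7], [.a0, .a2, .a3, .a5, .a7, .a8]⟩,
  ⟨2, [.a1, .a7], [.a1, .a2, .a7, .a8]⟩,
  ⟨4, [.a2], [.a2]⟩,
  ⟨8, [.a3], [.a3]⟩,
  ⟨16, [.a4, .a7], [.a4, .a5, .a6, .a7, .a8]⟩,
  ⟨32, [.a5], [.a5]⟩,
  ⟨64, [.a6], [.a6]⟩,
  ⟨256, [.a8], [.a8]⟩,
  ⟨512, [.a9], [.a9]⟩,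
  ⟨2048, [.a11], [.a11]⟩]
def B64 : List Gv := [⟨[.a0, .a7], [.a0, .a2, .a3, .a5, .a7, .a8]⟩, ⟨[.a1, .a7], [.a1, .a2, .a7, .a8]⟩, ⟨[.a11], [.a11]⟩]
def D64 : List Dv := [⟨[.a2, .a3, .a8], [0, 0], []⟩,
  ⟨[.a8], [0, 2, 1], [1, 2]⟩,
  ⟨[.a3], [1, 3, 3], []⟩,
  ⟨[.a4, .a7, .a8, .a9], [2, 5, 3], [3, 5]⟩,
  ⟨[.a5, .a6, .a9], [6, 5], [5, 6]⟩,
  ⟨[.a6, .a9], [0, 4, 6], [6, 4]⟩,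
  ⟨[.a9], [1, 5, 8], [8, 5]⟩,
  ⟨[.a6], [1], [0]⟩,
  ⟨[.a5], [3], [0, 1]⟩,
  ⟨[.a4, .a7], [5], [7, 2]⟩,
  ⟨[.a2], [9], [7, 8]⟩]
def C64 : List Ch := [⟨PB, 0, [], []⟩,
  ⟨P46, 1, [], []⟩,
  ⟨P46, 0, [.a10], [.a10, .a11]⟩,
  ⟨PA, 2, [], []⟩,
  ⟨P47, 0, [], []⟩,
  ⟨P48, 1, [], []⟩,
  ⟨P48, 0, [.a10], [.a10, .a11]⟩]
def N64 : List Ent := [⟨1, [.a0, .a7], [.a0, .a2, .a3, .a5, .a7, .a8]⟩,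
  ⟨2, [.a1, .a7], [.a1, .a2, .a7, .a8]⟩,
  ⟨4, [.a2], [.a2]⟩,
  ⟨8, [.a3], [.a3]⟩,
  ⟨16, [.a4, .a7], [.a4, .a5, .a6, .a7, .a8]⟩,
  ⟨32, [.a5], [.a5]⟩,
  ⟨64, [.a6], [.a6]⟩,
  ⟨128, [.a7], [.a7, .a8]⟩,
  ⟨256, [.a8], [.a8]⟩,
  ⟨512, [.a9], [.a9]⟩,
  ⟨1024, [.a10], [.a10, .a11]⟩,
  ⟨2048, [.a11], [.a11]⟩]
theorem bad64 (c : CtxM Goal γ) : Bad Goal γ PZ P64 :=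
  c.toCtx.bnd (B := B64) (D := D64) (I := [11, 12, 0, 8, 1, 2, 3, 9, 4, 13]) (r := 3) (C := C64) (N := N64) (by decide +kernel) (by decide +kernel) (by decide +kernel) (by decide +kernel)
    (allB_cons (c.badB) (allB_cons (bad46 c) (allB_cons (bad46 c) (allB_cons (c.badA) (allB_cons (bad47 c) (allB_cons (bad48 c) (allB_cons (bad48 c) (allB_nil))))))))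

def P65 : List Ent := [⟨1, [.a0, .a7, .a10], [.a0, .a1, .a3, .a4, .a7, .a10, .a11]⟩,
  ⟨2, [.a1, .a7], [.a1, .a2, .a7, .a8]⟩,
  ⟨4, [.a2], [.a2]⟩,
  ⟨8, [.a3], [.a3]⟩,
  ⟨16, [.a4, .a7], [.a4, .a5, .a6, .a7, .a8]⟩,
  ⟨32, [.a5], [.a5]⟩,
  ⟨64, [.a6], [.a6]⟩,
  ⟨256, [.a8], [.a8]⟩,
  ⟨512, [.a9], [.a9]⟩,
  ⟨2048, [.a11], [.a11]⟩]
def B65 : List Gv := [⟨[.a0, .a7, .a10], [.a0, .a1, .a3, .a4, .a7, .a10, .a11]⟩, ⟨[.a1, .a7], [.a1, .a2, .a7, .a8]⟩]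
def D65 : List Dv := [⟨[.a6, .a8, .a11], [1, 0, 0], []⟩,
  ⟨[.a2, .a3, .a4, .a7, .a8, .a9], [2, 1], [1, 2]⟩,
  ⟨[.a3, .a4, .a5, .a7, .a9], [0, 3, 3], []⟩,
  ⟨[.a5, .a6], [1, 2, 3], [3, 2]⟩,
  ⟨[.a8, .a9, .a11], [3, 3, 5], [5, 3]⟩,
  ⟨[.a4, .a7, .a8, .a9], [2, 3, 6], [6, 3]⟩,
  ⟨[.a9], [2, 0, 3, 3, 6], [6, 3]⟩,
  ⟨[.a11], [0, 2, 4, 6], [6, 4]⟩,
  ⟨[.a8], [3], [1, 0]⟩,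
  ⟨[.a6], [8], [0, 1]⟩,
  ⟨[.a5], [6], [0]⟩,
  ⟨[.a4, .a7], [5], [2, 4]⟩,
  ⟨[.a3], [9], [0, 1, 5]⟩,
  ⟨[.a2], [11], [0, 1, 4, 6]⟩]
def C65 : List Ch := [⟨PB, 0, [], []⟩,
  ⟨P49, 1, [], []⟩,
  ⟨P49, 0, [.a0], [.a0]⟩]
def N65 : List Ent := [⟨1, [.a0, .a7, .a10], [.a0, .a1, .a3, .a4, .a7, .a10, .a11]⟩,
  ⟨2, [.a1, .a7], [.a1, .a2, .a7, .a8]⟩,
  ⟨4, [.a2], [.a2]⟩,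
  ⟨8, [.a3], [.a3]⟩,
  ⟨16, [.a4, .a7], [.a4, .a5, .a6, .a7, .a8]⟩,
  ⟨32, [.a5], [.a5]⟩,
  ⟨64, [.a6], [.a6]⟩,
  ⟨128, [.a7], [.a7, .a8]⟩,
  ⟨256, [.a8], [.a8]⟩,
  ⟨512, [.a9], [.a9]⟩,
  ⟨1024, [.a10], [.a10, .a11]⟩,
  ⟨2048, [.a11], [.a11]⟩]
theorem bad65 (c : CtxM Goal γ) : Bad Goal γ PZ P65 :=
  c.toCtx.bnd (B := B65) (D := D65) (I := [14, 15, 0, 1, 2, 3, 4, 5, 7, 6]) (r := 2) (C := C65) (N := N65) (by decide +kernel) (by decide +kernel) (by decide +kernel) (by decide +kernel)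
    (allB_cons (c.badB) (allB_cons (bad49 c) (allB_cons (bad49 c) (allB_nil))))

def P66 : List Ent := [⟨1, [.a0], [.a0]⟩,
  ⟨4, [.a2], [.a2]⟩,
  ⟨8, [.a3], [.a3]⟩,
  ⟨16, [.a4], [.a4, .a5]⟩,
  ⟨32, [.a5], [.a5]⟩,
  ⟨64, [.a6], [.a6]⟩,
  ⟨128, [.a7], [.a7, .a8]⟩,
  ⟨256, [.a8], [.a8]⟩,
  ⟨512, [.a9], [.a9]⟩,
  ⟨2048, [.a11], [.a11]⟩]
def B66 : List Gv := [⟨[.a0], [.a0]⟩, ⟨[.a4], [.a4, .a5]⟩, ⟨[.a7], [.a7, .a8]⟩, ⟨[.a11], [.a11]⟩]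
def D66 : List Dv := [⟨[.a2], [1, 0], [0, 1]⟩,
  ⟨[.a5], [2, 2], []⟩,
  ⟨[.a3], [1, 4, 2], [2, 4]⟩,
  ⟨[.a6], [5, 4], [4, 5]⟩,
  ⟨[.a8], [6, 6], []⟩,
  ⟨[.a9], [0, 7, 3, 6, 2, 4, 8, 5], [5, 8]⟩]
def C66 : List Ch := [⟨PB, 0, [], []⟩,
  ⟨P50, 1, [], []⟩,
  ⟨P51, 0, [], []⟩,
  ⟨P52, 2, [], []⟩,
  ⟨P53, 0, [], []⟩,
  ⟨P42, 1, [], []⟩,
  ⟨P46, 0, [], []⟩,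
  ⟨PA, 3, [], []⟩,
  ⟨P54, 0, [], []⟩,
  ⟨P50, 1, [.a1], [.a1, .a2]⟩,
  ⟨P51, 0, [.a1], [.a1, .a2]⟩,
  ⟨P52, 2, [.a1], [.a1, .a2]⟩,
  ⟨P53, 0, [.a1], [.a1, .a2]⟩,
  ⟨P55, 1, [], []⟩,
  ⟨P56, 0, [], []⟩]
def S66 : List St := [.cent 1 1 0 [⟨32, [.a5], [.a5]⟩,
  ⟨64, [.a6], [.a6]⟩],
  .phi 2 [⟨4, [.a2], [.a2]⟩,
  ⟨8, [.a3], [.a3]⟩,
  ⟨16, [.a4, .a7, .a9], [.a4, .a5, .a6, .a7, .a9]⟩,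
  ⟨32, [.a5], [.a5]⟩,
  ⟨64, [.a6], [.a6]⟩,
  ⟨256, [.a8], [.a8]⟩] [[[.a0, .a4, .a8]], [[.a2, .a4, .a7, .a9], [.a0, .a9]], [[.a0, .a3, .a7, .a11]], [[.a4]], [[.a2, .a4, .a7, .a9]], [[.a7]]],
  .cent 3 3 1 [⟨4, [.a2, .a3], [.a2, .a3]⟩,
  ⟨32, [.a5], [.a5]⟩,
  ⟨64, [.a6], [.a6]⟩,
  ⟨256, [.a8], [.a8]⟩],
  .comm 1 1 [⟨32, [.a5], [.a5]⟩] [⟨[.a2], [.a4, .a7, .a9]⟩],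
  .om 2 [⟨4, [.a2], [.a2]⟩,
  ⟨8, [.a3], [.a3]⟩,
  ⟨32, [.a5], [.a5]⟩,
  ⟨64, [.a6], [.a6]⟩,
  ⟨256, [.a8], [.a8]⟩] [[[.a2]], [[.a3]], [[.a5]], [[.a6]], [[.a8]]],
  .cent 6 2 5 [⟨4, [.a2], [.a2]⟩,
  ⟨8, [.a3], [.a3]⟩,
  ⟨16, [.a4], [.a4, .a5]⟩,
  ⟨32, [.a5], [.a5]⟩,
  ⟨64, [.a6], [.a6]⟩,
  ⟨128, [.a7, .a9], [.a7, .a8, .a9]⟩,
  ⟨256, [.a8], [.a8]⟩],
  .cent 7 7 1 [⟨4, [.a2], [.a2]⟩,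
  ⟨8, [.a3], [.a3]⟩,
  ⟨16, [.a4], [.a4, .a5]⟩,
  ⟨32, [.a5], [.a5]⟩,
  ⟨64, [.a6], [.a6]⟩,
  ⟨128, [.a7], [.a7, .a8]⟩,
  ⟨256, [.a8], [.a8]⟩,
  ⟨512, [.a9], [.a9]⟩],
  .comm 1 1 [⟨32, [.a5], [.a5]⟩,
  ⟨64, [.a6, .a8], [.a6, .a8]⟩] [⟨[.a2], [.a7, .a9]⟩, ⟨[.a4], [.a7, .a9]⟩],
  .om 1 [⟨4, [.a2], [.a2]⟩,
  ⟨8, [.a3], [.a3]⟩,
  ⟨32, [.a5], [.a5]⟩,
  ⟨64, [.a6], [.a6]⟩,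
  ⟨256, [.a8], [.a8]⟩,
  ⟨512, [.a9], [.a9]⟩] [[[.a2]], [[.a3]], [[.a5]], [[.a6]], [[.a8]], [[.a9]]]]
theorem bad66 (c : CtxM Goal γ) : Bad Goal γ PZ P66 :=
  c.toCtx.chn (B := B66) (D := D66) (I := [6, 5, 3, 7, 4, 2, 8, 1, 0, 9]) (r := 4) (C := C66) (l := S66) (x := ⟨[.a1], [.a1, .a2]⟩) (ix := [0, 1, 5]) (by decide +kernel) (by decide +kernel) (by decide +kernel) (by decide +kernel)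
    (allB_cons (c.badB) (allB_cons (bad50 c) (allB_cons (bad51 c) (allB_cons (bad52 c) (allB_cons (bad53 c) (allB_cons (bad42 c) (allB_cons (bad46 c) (allB_cons (c.badA) (allB_cons (bad54 c) (allB_cons (bad50 c) (allB_cons (bad51 c) (allB_cons (bad52 c) (allB_cons (bad53 c) (allB_cons (bad55 c) (allB_cons (bad56 c) (allB_nil))))))))))))))))

def P67 : List Ent := [⟨1, [.a0], [.a0]⟩,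
  ⟨2, [.a1], [.a1, .a2]⟩,
  ⟨4, [.a2], [.a2]⟩,
  ⟨8, [.a3], [.a3]⟩,
  ⟨16, [.a4, .a7], [.a4, .a5, .a6, .a7, .a8]⟩,
  ⟨32, [.a5], [.a5]⟩,
  ⟨64, [.a6], [.a6]⟩,
  ⟨256, [.a8], [.a8]⟩,
  ⟨512, [.a9], [.a9]⟩,
  ⟨2048, [.a11], [.a11]⟩]
def B67 : List Gv := [⟨[.a0], [.a0]⟩, ⟨[.a1], [.a1, .a2]⟩, ⟨[.a11], [.a11]⟩]
def D67 : List Dv := [⟨[.a2], [1, 1], []⟩,
  ⟨[.a3, .a4, .a7, .a9], [0, 3, 1], [1, 3]⟩,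
  ⟨[.a5, .a6, .a9], [4, 3], [3, 4]⟩,
  ⟨[.a8, .a9], [0, 2, 5], [5, 2]⟩,
  ⟨[.a9], [1, 2, 4], [4, 2]⟩,
  ⟨[.a4, .a5, .a6, .a7, .a8, .a9], [3, 3, 6], [6, 3]⟩,
  ⟨[.a6, .a9], [3, 4, 5], [5, 4]⟩,
  ⟨[.a8], [3], [2]⟩,
  ⟨[.a6], [1], [3]⟩,
  ⟨[.a5], [6], [0, 4]⟩,
  ⟨[.a4, .a7], [4], [0, 1, 2, 5]⟩,
  ⟨[.a3], [9], [0, 6]⟩]
def C67 : List Ch := [⟨PB, 0, [], []⟩,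
  ⟨P42, 1, [], []⟩,
  ⟨P46, 0, [.a10], [.a10, .a11]⟩,
  ⟨PA, 2, [], []⟩,
  ⟨P57, 0, [], []⟩,
  ⟨P58, 1, [], []⟩,
  ⟨P59, 0, [], []⟩]
def S67 : List St := [.cent 1 1 0 [⟨32, [.a5], [.a5]⟩],
  .phi 2 [⟨4, [.a2], [.a2]⟩,
  ⟨8, [.a3], [.a3]⟩,
  ⟨16, [.a4, .a7], [.a4, .a5, .a6, .a7, .a8]⟩,
  ⟨32, [.a5], [.a5]⟩,
  ⟨64, [.a6], [.a6]⟩,
  ⟨256, [.a8], [.a8]⟩,
  ⟨512, [.a9], [.a9]⟩] [[[.a1]], [[.a2, .a4, .a7, .a9], [.a0, .a9]], [[.a0, .a1, .a11]], [[.a0, .a8]], [[.a2, .a4, .a7, .a9]], [[.a3, .a11]], [[.a1], [.a1, .a3, .a6, .a11]]],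
  .om 0 [⟨4, [.a2], [.a2]⟩,
  ⟨8, [.a3], [.a3]⟩,
  ⟨32, [.a5], [.a5]⟩,
  ⟨64, [.a6], [.a6]⟩,
  ⟨256, [.a8], [.a8]⟩,
  ⟨512, [.a9], [.a9]⟩] [[[.a2]], [[.a3]], [[.a5]], [[.a6]], [[.a8]], [[.a9]]]]
theorem bad67 (c : CtxM Goal γ) : Bad Goal γ PZ P67 :=
  c.toCtx.chn (B := B67) (D := D67) (I := [12, 13, 11, 0, 1, 2, 3, 4, 7, 14]) (r := 3) (C := C67) (l := S67) (x := ⟨[.a7], [.a7, .a8]⟩) (ix := [0, 2]) (by decide +kernel) (by decide +kernel) (by decide +kernel) (by decide +kernel)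
    (allB_cons (c.badB) (allB_cons (bad42 c) (allB_cons (bad46 c) (allB_cons (c.badA) (allB_cons (bad57 c) (allB_cons (bad58 c) (allB_cons (bad59 c) (allB_nil))))))))

def P68 : List Ent := [⟨1, [.a0, .a11], [.a0, .a2, .a3, .a4, .a5, .a6, .a7, .a9, .a11]⟩,
  ⟨2, [.a1], [.a1, .a2]⟩,
  ⟨4, [.a2], [.a2]⟩,
  ⟨8, [.a3], [.a3]⟩,
  ⟨16, [.a4], [.a4, .a5]⟩,
  ⟨32, [.a5], [.a5]⟩,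
  ⟨64, [.a6], [.a6]⟩,
  ⟨128, [.a7], [.a7, .a8]⟩,
  ⟨256, [.a8], [.a8]⟩,
  ⟨512, [.a9], [.a9]⟩]
def B68 : List Gv := [⟨[.a0, .a11], [.a0, .a2, .a3, .a4, .a5, .a6, .a7, .a9, .a11]⟩, ⟨[.a1], [.a1, .a2]⟩, ⟨[.a4], [.a4, .a5]⟩]
def D68 : List Dv := [⟨[.a2, .a3, .a4, .a5, .a6, .a7, .a9], [0, 0], []⟩,
  ⟨[.a3, .a5, .a9], [2, 1], [1, 2]⟩,
  ⟨[.a6, .a7, .a8], [4, 0, 1, 3, 3], []⟩,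
  ⟨[.a8], [0, 5, 1, 2, 5, 3], [3, 5]⟩,
  ⟨[.a5, .a9], [2, 6, 5], [5, 6]⟩,
  ⟨[.a9], [0, 7, 7], []⟩,
  ⟨[.a7, .a9], [3, 4, 5, 7], [7, 5]⟩,
  ⟨[.a7], [0], [1]⟩,
  ⟨[.a6], [5], [0, 4]⟩,
  ⟨[.a5], [4], [3]⟩,
  ⟨[.a3], [8], [0, 4]⟩,
  ⟨[.a2], [10], [0, 13, 1, 2, 3, 5]⟩]
def C68 : List Ch := [⟨PA, 0, [], []⟩,
  ⟨P54, 1, [], []⟩,
  ⟨P54, 0, [.a10], [.a10, .a11]⟩,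
  ⟨P57, 2, [], []⟩,
  ⟨P57, 0, [.a10], [.a10, .a11]⟩,
  ⟨P43, 1, [], []⟩,
  ⟨P47, 0, [], []⟩]
def N68 : List Ent := [⟨1, [.a0, .a11], [.a0, .a2, .a3, .a4, .a5, .a6, .a7, .a9, .a11]⟩,
  ⟨2, [.a1], [.a1, .a2]⟩,
  ⟨4, [.a2], [.a2]⟩,
  ⟨8, [.a3], [.a3]⟩,
  ⟨16, [.a4], [.a4, .a5]⟩,
  ⟨32, [.a5], [.a5]⟩,
  ⟨64, [.a6], [.a6]⟩,
  ⟨128, [.a7], [.a7, .a8]⟩,
  ⟨256, [.a8], [.a8]⟩,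
  ⟨512, [.a9], [.a9]⟩,
  ⟨1024, [.a10], [.a10, .a11]⟩,
  ⟨2048, [.a11], [.a11]⟩]
theorem bad68 (c : CtxM Goal γ) : Bad Goal γ PZ P68 :=
  c.toCtx.bnd (B := B68) (D := D68) (I := [12, 13, 0, 1, 14, 2, 3, 4, 8, 6]) (r := 3) (C := C68) (N := N68) (by decide +kernel) (by decide +kernel) (by decide +kernel) (by decide +kernel)
    (allB_cons (c.badA) (allB_cons (bad54 c) (allB_cons (bad54 c) (allB_cons (bad57 c) (allB_cons (bad57 c) (allB_cons (bad43 c) (allB_cons (bad47 c) (allB_nil))))))))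

def P69 : List Ent := [⟨1, [.a0], [.a0]⟩,
  ⟨2, [.a1, .a11], [.a1, .a2, .a5, .a6, .a9, .a11]⟩,
  ⟨4, [.a2], [.a2]⟩,
  ⟨8, [.a3], [.a3]⟩,
  ⟨16, [.a4], [.a4, .a5]⟩,
  ⟨32, [.a5], [.a5]⟩,
  ⟨64, [.a6], [.a6]⟩,
  ⟨128, [.a7], [.a7, .a8]⟩,
  ⟨256, [.a8], [.a8]⟩,
  ⟨512, [.a9], [.a9]⟩]
def B69 : List Gv := [⟨[.a0], [.a0]⟩, ⟨[.a1, .a11], [.a1, .a2, .a5, .a6, .a9, .a11]⟩, ⟨[.a4], [.a4, .a5]⟩]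
def D69 : List Dv := [⟨[.a2, .a4, .a6, .a7, .a8, .a9], [1, 0], [0, 1]⟩,
  ⟨[.a5, .a6, .a7], [3, 0, 2, 2], []⟩,
  ⟨[.a6, .a7, .a8, .a9], [4, 1, 4, 2], [2, 4]⟩,
  ⟨[.a3], [5, 4], [4, 5]⟩,
  ⟨[.a9], [1, 2, 6, 6], []⟩,
  ⟨[.a7, .a8, .a9], [2, 4, 5], [5, 4]⟩,
  ⟨[.a8], [0, 3, 5, 5], []⟩,
  ⟨[.a7], [1], [0, 2]⟩,
  ⟨[.a6], [5], [0, 1, 3]⟩,
  ⟨[.a5], [7], [0, 1]⟩,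
  ⟨[.a2], [9], [12, 1, 2, 3, 5]⟩]
def C69 : List Ch := [⟨PB, 0, [], []⟩,
  ⟨PA, 1, [], []⟩,
  ⟨P54, 0, [.a10], [.a10, .a11]⟩,
  ⟨P58, 2, [], []⟩,
  ⟨P59, 0, [.a10], [.a10, .a11]⟩,
  ⟨P44, 1, [], []⟩,
  ⟨P48, 0, [], []⟩]
def S69 : List St := [.cent 1 1 0 [⟨32, [.a5], [.a5]⟩],
  .phi 2 [⟨4, [.a2], [.a2]⟩,
  ⟨8, [.a3], [.a3]⟩,
  ⟨16, [.a4, .a7], [.a4, .a5, .a6, .a7, .a8]⟩,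
  ⟨32, [.a5], [.a5]⟩,
  ⟨64, [.a6], [.a6]⟩,
  ⟨256, [.a8], [.a8]⟩,
  ⟨512, [.a9], [.a9]⟩] [[[.a0, .a4, .a8]], [[.a2, .a4, .a7, .a9], [.a0, .a9]], [[.a0, .a1, .a11]], [[.a4]], [[.a2, .a4, .a7, .a9]], [[.a7]], [[.a0, .a4, .a8], [.a1, .a3, .a6, .a11]]],
  .cent 3 3 1 [⟨32, [.a5], [.a5]⟩,
  ⟨64, [.a6], [.a6]⟩,
  ⟨256, [.a8], [.a8]⟩]]
theorem bad69 (c : CtxM Goal γ) : Bad Goal γ PZ P69 :=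
  c.toCtx.chn (B := B69) (D := D69) (I := [11, 12, 0, 7, 13, 1, 2, 3, 4, 6]) (r := 3) (C := C69) (l := S69) (x := ⟨[.a11], [.a11]⟩) (ix := [1, 0]) (by decide +kernel) (by decide +kernel) (by decide +kernel) (by decide +kernel)
    (allB_cons (c.badB) (allB_cons (c.badA) (allB_cons (bad54 c) (allB_cons (bad58 c) (allB_cons (bad59 c) (allB_cons (bad44 c) (allB_cons (bad48 c) (allB_nil))))))))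

def P70 : List Ent := [⟨1, [.a0], [.a0]⟩,
  ⟨2, [.a1], [.a1, .a2]⟩,
  ⟨4, [.a2], [.a2]⟩,
  ⟨8, [.a3], [.a3]⟩,
  ⟨16, [.a4, .a11], [.a4, .a5, .a11]⟩,
  ⟨32, [.a5], [.a5]⟩,
  ⟨64, [.a6], [.a6]⟩,
  ⟨128, [.a7, .a11], [.a7, .a8, .a11]⟩,
  ⟨256, [.a8], [.a8]⟩,
  ⟨512, [.a9], [.a9]⟩]
def B70 : List Gv := [⟨[.a0], [.a0]⟩, ⟨[.a1], [.a1, .a2]⟩, ⟨[.a4, .a11], [.a4, .a5, .a11]⟩]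
def D70 : List Dv := [⟨[.a2], [1, 1], []⟩,
  ⟨[.a3, .a4, .a5, .a6, .a7, .a8, .a9], [3, 1], [1, 3]⟩,
  ⟨[.a7, .a11], [4, 0, 4, 3], [3, 4]⟩,
  ⟨[.a5], [5, 5], []⟩,
  ⟨[.a6, .a8], [0, 3, 6], [6, 3]⟩,
  ⟨[.a8], [0, 3, 5], [5, 3]⟩,
  ⟨[.a9], [0, 3, 8, 4, 4, 7], [7, 4]⟩,
  ⟨[.a6], [2], [1]⟩,
  ⟨[.a3], [6], [10, 4, 0, 5, 2, 1]⟩]
def C70 : List Ch := [⟨PB, 0, [], []⟩,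
  ⟨P55, 1, [], []⟩,
  ⟨P56, 0, [.a10], [.a10, .a11]⟩,
  ⟨PA, 2, [], []⟩,
  ⟨P57, 0, [.a10], [.a10, .a11]⟩,
  ⟨P44, 1, [], []⟩,
  ⟨P48, 0, [.a10], [.a10, .a11]⟩]
def S70 : List St := [.cent 1 1 0 [⟨32, [.a5], [.a5]⟩],
  .phi 2 [⟨4, [.a2], [.a2]⟩,
  ⟨8, [.a3], [.a3]⟩,
  ⟨16, [.a4, .a7], [.a4, .a5, .a6, .a7, .a8]⟩,
  ⟨32, [.a5], [.a5]⟩,
  ⟨64, [.a6], [.a6]⟩,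
  ⟨256, [.a8], [.a8]⟩,
  ⟨512, [.a9], [.a9]⟩] [[[.a1]], [[.a2, .a4, .a7, .a9], [.a0, .a9]], [[.a1], [.a0, .a1, .a2, .a4, .a9, .a11]], [[.a0, .a8]], [[.a2, .a4, .a7, .a9]], [[.a7, .a11]], [[.a1], [.a1, .a6, .a7, .a11]]],
  .cent 3 3 1 [⟨32, [.a5], [.a5]⟩,
  ⟨64, [.a6], [.a6]⟩,
  ⟨256, [.a8], [.a8]⟩]]
theorem bad70 (c : CtxM Goal γ) : Bad Goal γ PZ P70 :=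
  c.toCtx.chn (B := B70) (D := D70) (I := [9, 10, 8, 0, 11, 5, 1, 6, 3, 2]) (r := 3) (C := C70) (l := S70) (x := ⟨[.a11], [.a11]⟩) (ix := [1, 0]) (by decide +kernel) (by decide +kernel) (by decide +kernel) (by decide +kernel)
    (allB_cons (c.badB) (allB_cons (bad55 c) (allB_cons (bad56 c) (allB_cons (c.badA) (allB_cons (bad57 c) (allB_cons (bad44 c) (allB_cons (bad48 c) (allB_nil))))))))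

def P71 : List Ent := [⟨1, [.a0], [.a0]⟩,
  ⟨2, [.a1, .a11], [.a1, .a2, .a5, .a6, .a9, .a11]⟩,
  ⟨4, [.a2], [.a2]⟩,
  ⟨8, [.a3], [.a3]⟩,
  ⟨16, [.a4, .a11], [.a4, .a5, .a11]⟩,
  ⟨32, [.a5], [.a5]⟩,
  ⟨64, [.a6], [.a6]⟩,
  ⟨128, [.a7, .a11], [.a7, .a8, .a11]⟩,
  ⟨256, [.a8], [.a8]⟩,
  ⟨512, [.a9], [.a9]⟩]
def B71 : List Gv := [⟨[.a0], [.a0]⟩, ⟨[.a1, .a11], [.a1, .a2, .a5, .a6, .a9, .a11]⟩, ⟨[.a4, .a11], [.a4, .a5, .a11]⟩]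
def D71 : List Dv := [⟨[.a2, .a4, .a6, .a7, .a8, .a9], [1, 0], [0, 1]⟩,
  ⟨[.a5, .a6, .a7, .a11], [3, 0, 2, 2], []⟩,
  ⟨[.a3, .a4, .a5, .a6, .a7, .a8, .a9], [4, 2], [2, 4]⟩,
  ⟨[.a7, .a11], [5, 0, 5, 4], [4, 5]⟩,
  ⟨[.a6, .a7, .a11], [2, 6, 6], []⟩,
  ⟨[.a8], [1, 0, 4, 5], [5, 4]⟩,
  ⟨[.a9], [1, 8, 3, 5, 7], [7, 5]⟩,
  ⟨[.a6], [2], [3]⟩,
  ⟨[.a5], [6], [0, 4]⟩,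
  ⟨[.a3], [6], [11, 0, 1, 5, 3, 2]⟩,
  ⟨[.a2], [9], [12, 2, 6, 4, 3]⟩]
def C71 : List Ch := [⟨PB, 0, [], []⟩,
  ⟨P55, 1, [], []⟩,
  ⟨P55, 0, [.a10], [.a10, .a11]⟩,
  ⟨P58, 2, [], []⟩,
  ⟨P58, 0, [.a10], [.a10, .a11]⟩,
  ⟨PA, 1, [], []⟩,
  ⟨P47, 0, [], []⟩]
def N71 : List Ent := [⟨1, [.a0], [.a0]⟩,
  ⟨2, [.a1, .a11], [.a1, .a2, .a5, .a6, .a9, .a11]⟩,
  ⟨4, [.a2], [.a2]⟩,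
  ⟨8, [.a3], [.a3]⟩,
  ⟨16, [.a4, .a11], [.a4, .a5, .a11]⟩,
  ⟨32, [.a5], [.a5]⟩,
  ⟨64, [.a6], [.a6]⟩,
  ⟨128, [.a7, .a11], [.a7, .a8, .a11]⟩,
  ⟨256, [.a8], [.a8]⟩,
  ⟨512, [.a9], [.a9]⟩,
  ⟨1024, [.a10], [.a10, .a11]⟩,
  ⟨2048, [.a11], [.a11]⟩]
theorem bad71 (c : CtxM Goal γ) : Bad Goal γ PZ P71 :=
  c.toCtx.bnd (B := B71) (D := D71) (I := [11, 12, 0, 1, 13, 2, 3, 7, 5, 4]) (r := 3) (C := C71) (N := N71) (by decide +kernel) (by decide +kernel) (by decide +kernel) (by decide +kernel)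
    (allB_cons (c.badB) (allB_cons (bad55 c) (allB_cons (bad55 c) (allB_cons (bad58 c) (allB_cons (bad58 c) (allB_cons (c.badA) (allB_cons (bad47 c) (allB_nil))))))))

def P72 : List Ent := [⟨1, [.a0, .a11], [.a0, .a2, .a3, .a4, .a5, .a6, .a7, .a9, .a11]⟩,
  ⟨2, [.a1, .a11], [.a1, .a2, .a5, .a6, .a9, .a11]⟩,
  ⟨4, [.a2], [.a2]⟩,
  ⟨8, [.a3], [.a3]⟩,
  ⟨16, [.a4, .a11], [.a4, .a5, .a11]⟩,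
  ⟨32, [.a5], [.a5]⟩,
  ⟨64, [.a6], [.a6]⟩,
  ⟨128, [.a7, .a11], [.a7, .a8, .a11]⟩,
  ⟨256, [.a8], [.a8]⟩,
  ⟨512, [.a9], [.a9]⟩]
def B72 : List Gv := [⟨[.a0, .a11], [.a0, .a2, .a3, .a4, .a5, .a6, .a7, .a9, .a11]⟩, ⟨[.a1, .a11], [.a1, .a2, .a5, .a6, .a9, .a11]⟩, ⟨[.a4, .a11], [.a4, .a5, .a11]⟩]
def D72 : List Dv := [⟨[.a2, .a3, .a4, .a5, .a6, .a7, .a9], [0, 0], []⟩,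
  ⟨[.a6, .a8, .a9], [0, 2, 1], [1, 2]⟩,
  ⟨[.a3, .a4, .a5, .a6, .a7, .a8], [1, 3, 3], []⟩,
  ⟨[.a7, .a9, .a11], [5, 0, 5, 4], [4, 5]⟩,
  ⟨[.a5], [6, 6], []⟩,
  ⟨[.a8], [0, 4, 7], [7, 4]⟩,
  ⟨[.a9], [0, 4, 1, 5, 5], []⟩,
  ⟨[.a7, .a11], [3], [0]⟩,
  ⟨[.a6], [6], [2, 1]⟩,
  ⟨[.a3], [6], [11, 4, 0, 1, 3]⟩,
  ⟨[.a2], [9], [0, 12, 5, 1, 2, 3]⟩]
def C72 : List Ch := [⟨PB, 0, [], []⟩,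
  ⟨P56, 1, [], []⟩,
  ⟨P56, 0, [.a10], [.a10, .a11]⟩,
  ⟨P59, 2, [], []⟩,
  ⟨P59, 0, [.a10], [.a10, .a11]⟩,
  ⟨P43, 1, [], []⟩,
  ⟨PA, 0, [], []⟩]
def N72 : List Ent := [⟨1, [.a0, .a11], [.a0, .a2, .a3, .a4, .a5, .a6, .a7, .a9, .a11]⟩,
  ⟨2, [.a1, .a11], [.a1, .a2, .a5, .a6, .a9, .a11]⟩,
  ⟨4, [.a2], [.a2]⟩,
  ⟨8, [.a3], [.a3]⟩,
  ⟨16, [.a4, .a11], [.a4, .a5, .a11]⟩,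
  ⟨32, [.a5], [.a5]⟩,
  ⟨64, [.a6], [.a6]⟩,
  ⟨128, [.a7, .a11], [.a7, .a8, .a11]⟩,
  ⟨256, [.a8], [.a8]⟩,
  ⟨512, [.a9], [.a9]⟩,
  ⟨1024, [.a10], [.a10, .a11]⟩,
  ⟨2048, [.a11], [.a11]⟩]
theorem bad72 (c : CtxM Goal γ) : Bad Goal γ PZ P72 :=
  c.toCtx.bnd (B := B72) (D := D72) (I := [11, 12, 0, 1, 13, 6, 2, 3, 5, 4]) (r := 3) (C := C72) (N := N72) (by decide +kernel) (by decide +kernel) (by decide +kernel) (by decide +kernel)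
    (allB_cons (c.badB) (allB_cons (bad56 c) (allB_cons (bad56 c) (allB_cons (bad59 c) (allB_cons (bad59 c) (allB_cons (bad43 c) (allB_cons (c.badA) (allB_nil))))))))

def P73 : List Ent := [⟨1, [.a0, .a10], [.a0, .a1, .a2, .a3, .a4, .a6, .a8, .a9, .a10, .a11]⟩,
  ⟨2, [.a1, .a11], [.a1, .a2, .a5, .a6, .a9, .a11]⟩,
  ⟨4, [.a2], [.a2]⟩,
  ⟨8, [.a3], [.a3]⟩,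
  ⟨16, [.a4], [.a4, .a5]⟩,
  ⟨32, [.a5], [.a5]⟩,
  ⟨64, [.a6], [.a6]⟩,
  ⟨128, [.a7], [.a7, .a8]⟩,
  ⟨256, [.a8], [.a8]⟩,
  ⟨512, [.a9], [.a9]⟩]
def B73 : List Gv := [⟨[.a0, .a10], [.a0, .a1, .a2, .a3, .a4, .a6, .a8, .a9, .a10, .a11]⟩, ⟨[.a1, .a11], [.a1, .a2, .a5, .a6, .a9, .a11]⟩, ⟨[.a4], [.a4, .a5]⟩]
def D73 : List Dv := [⟨[.a2, .a3, .a6, .a7, .a8], [1, 0, 0], []⟩,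
  ⟨[.a7, .a8, .a9], [0, 2, 1], [1, 2]⟩,
  ⟨[.a3, .a5, .a6, .a7, .a9], [1, 3, 3], []⟩,
  ⟨[.a9], [0, 2, 5, 3], [3, 5]⟩,
  ⟨[.a6, .a7, .a9], [1, 6, 5], [5, 6]⟩,
  ⟨[.a5], [7, 7], []⟩,
  ⟨[.a8], [4, 5, 5, 6], [6, 5]⟩,
  ⟨[.a7], [5], [0, 3]⟩,
  ⟨[.a6], [3], [0, 4]⟩,
  ⟨[.a3], [6], [3, 0, 1, 5]⟩,
  ⟨[.a2], [9], [0, 1, 2, 3]⟩]
def C73 : List Ch := [⟨PB, 0, [], []⟩,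
  ⟨P60, 1, [], []⟩,
  ⟨P60, 0, [.a1], [.a1, .a2]⟩,
  ⟨P61, 2, [], []⟩,
  ⟨P61, 0, [.a1], [.a1, .a2]⟩,
  ⟨P45, 1, [], []⟩,
  ⟨P49, 0, [], []⟩]
def S73 : List St := [.phi 1 [⟨2, [.a1, .a7, .a11], [.a1, .a2, .a5, .a6, .a7, .a8, .a9, .a11]⟩,
  ⟨4, [.a2], [.a2]⟩,
  ⟨8, [.a3], [.a3]⟩,
  ⟨32, [.a5], [.a5]⟩,
  ⟨64, [.a6], [.a6]⟩,
  ⟨256, [.a8], [.a8]⟩,
  ⟨512, [.a9], [.a9]⟩] [[[.a0, .a2, .a4, .a7, .a10]], [[.a0, .a2, .a4, .a7, .a10], [.a0, .a2, .a10]], [[.a1, .a3, .a6, .a11], [.a1, .a4, .a6, .a11]], [[.a4]], [[.a2, .a4, .a7, .a9]], [[.a7]], [[.a0, .a2, .a4, .a7, .a10], [.a0, .a6, .a7, .a10]]],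
  .comm 0 0 [⟨32, [.a5], [.a5]⟩,
  ⟨64, [.a6, .a8], [.a6, .a8]⟩,
  ⟨256, [.a8], [.a8]⟩] [⟨[.a2], [.a9]⟩, ⟨[.a2], [.a1, .a7, .a11]⟩, ⟨[.a3, .a6], [.a1, .a7, .a11]⟩],
  .cent 3 0 2 [⟨4, [.a2], [.a2]⟩,
  ⟨8, [.a3], [.a3]⟩,
  ⟨16, [.a4], [.a4, .a5]⟩,
  ⟨32, [.a5], [.a5]⟩,
  ⟨64, [.a6], [.a6]⟩,
  ⟨128, [.a7], [.a7, .a8]⟩,
  ⟨256, [.a8], [.a8]⟩,
  ⟨512, [.a9], [.a9]⟩]]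
theorem bad73 (c : CtxM Goal γ) : Bad Goal γ PZ P73 :=
  c.toCtx.chn (B := B73) (D := D73) (I := [11, 12, 0, 1, 13, 5, 2, 3, 4, 7]) (r := 3) (C := C73) (l := S73) (x := ⟨[.a11], [.a11]⟩) (ix := [0, 1]) (by decide +kernel) (by decide +kernel) (by decide +kernel) (by decide +kernel)
    (allB_cons (c.badB) (allB_cons (bad60 c) (allB_cons (bad60 c) (allB_cons (bad61 c) (allB_cons (bad61 c) (allB_cons (bad45 c) (allB_cons (bad49 c) (allB_nil))))))))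

def P74 : List Ent := [⟨1, [.a0, .a10], [.a0, .a1, .a2, .a3, .a4, .a6, .a8, .a9, .a10, .a11]⟩,
  ⟨2, [.a1], [.a1, .a2]⟩,
  ⟨4, [.a2], [.a2]⟩,
  ⟨8, [.a3], [.a3]⟩,
  ⟨16, [.a4, .a11], [.a4, .a5, .a11]⟩,
  ⟨32, [.a5], [.a5]⟩,
  ⟨64, [.a6], [.a6]⟩,
  ⟨128, [.a7, .a11], [.a7, .a8, .a11]⟩,
  ⟨256, [.a8], [.a8]⟩,
  ⟨512, [.a9], [.a9]⟩]
def B74 : List Gv := [⟨[.a0, .a10], [.a0, .a1, .a2, .a3, .a4, .a6, .a8, .a9, .a10, .a11]⟩, ⟨[.a1], [.a1, .a2]⟩]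
def D74 : List Dv := [⟨[.a2, .a3, .a5, .a6, .a7, .a8, .a9, .a11], [1, 0, 0], []⟩,
  ⟨[.a3, .a4, .a5, .a6, .a7, .a8], [2, 1], [1, 2]⟩,
  ⟨[.a4, .a5, .a6, .a9, .a11], [0, 1, 3, 3], []⟩,
  ⟨[.a6, .a8], [1, 2, 3], [3, 2]⟩,
  ⟨[.a5, .a8, .a9], [3, 5], [5, 3]⟩,
  ⟨[.a8, .a9], [1, 0, 4, 4], []⟩,
  ⟨[.a9], [4, 6], [6, 4]⟩,
  ⟨[.a7, .a8, .a11], [2, 4, 5, 5, 8], [8, 5]⟩,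
  ⟨[.a8], [2], [1]⟩,
  ⟨[.a7, .a11], [1], [0]⟩,
  ⟨[.a6], [6], [1]⟩,
  ⟨[.a5], [6], [2, 4]⟩,
  ⟨[.a4, .a11], [9], [0, 1, 5]⟩,
  ⟨[.a3], [11], [0, 1, 2, 3, 4]⟩,
  ⟨[.a2], [13], [0, 2, 3, 4, 5, 7]⟩]
def C74 : List Ch := [⟨PB, 0, [], []⟩,
  ⟨P45, 1, [], []⟩,
  ⟨P49, 0, [.a0], [.a0]⟩]
def S74 : List St := [.cent 1 1 0 [⟨32, [.a5], [.a5]⟩],
  .phi 2 [⟨2, [.a1, .a7, .a11], [.a1, .a2, .a5, .a6, .a7, .a8, .a9, .a11]⟩,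
  ⟨4, [.a2], [.a2]⟩,
  ⟨8, [.a3], [.a3]⟩,
  ⟨16, [.a4, .a7], [.a4, .a5, .a6, .a7, .a8]⟩,
  ⟨32, [.a5], [.a5]⟩,
  ⟨64, [.a6], [.a6]⟩,
  ⟨256, [.a8], [.a8]⟩,
  ⟨512, [.a9], [.a9]⟩] [[[.a0, .a2, .a4, .a7, .a10]], [[.a1]], [[.a1, .a2, .a9], [.a1, .a3, .a4, .a7]], [[.a0, .a7, .a8, .a10, .a11], [.a0, .a1, .a7, .a9, .a10, .a11]], [[.a2, .a9]], [[.a2, .a4, .a7, .a9]], [[.a7, .a11]], [[.a1], [.a1, .a6, .a7, .a11]]],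
  .cent 3 3 1 [⟨32, [.a5], [.a5]⟩,
  ⟨256, [.a8], [.a8]⟩],
  .comm 1 4 [⟨8, [.a3], [.a3]⟩,
  ⟨32, [.a5], [.a5]⟩,
  ⟨64, [.a6, .a8], [.a6, .a8]⟩,
  ⟨256, [.a8], [.a8]⟩,
  ⟨512, [.a9], [.a9]⟩] [⟨[.a4, .a7], [.a1]⟩, ⟨[.a6], [.a1]⟩, ⟨[.a9], [.a1]⟩, ⟨[.a4, .a7], [.a9]⟩, ⟨[.a1, .a4, .a11], [.a7, .a11]⟩]]
theorem bad74 (c : CtxM Goal γ) : Bad Goal γ PZ P74 :=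
  c.toCtx.chn (B := B74) (D := D74) (I := [15, 16, 0, 1, 2, 3, 4, 5, 6, 8]) (r := 2) (C := C74) (l := S74) (x := ⟨[.a11], [.a11]⟩) (ix := [2, 0, 1]) (by decide +kernel) (by decide +kernel) (by decide +kernel) (by decide +kernel)
    (allB_cons (c.badB) (allB_cons (bad45 c) (allB_cons (bad49 c) (allB_nil))))

def P75 : List Ent := [⟨1, [.a0], [.a0]⟩,
  ⟨2, [.a1, .a7], [.a1, .a2, .a7, .a8]⟩,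
  ⟨4, [.a2], [.a2]⟩,
  ⟨8, [.a3], [.a3]⟩,
  ⟨16, [.a4, .a7], [.a4, .a5, .a6, .a7, .a8]⟩,
  ⟨32, [.a5], [.a5]⟩,
  ⟨64, [.a6], [.a6]⟩,
  ⟨256, [.a8], [.a8]⟩,
  ⟨512, [.a9], [.a9]⟩,
  ⟨1024, [.a10], [.a10, .a11]⟩,
  ⟨2048, [.a11], [.a11]⟩]
def B75 : List Gv := [⟨[.a0], [.a0]⟩, ⟨[.a10], [.a10, .a11]⟩]
def D75 : List Dv := [⟨[.a1, .a2, .a3, .a5, .a7, .a8, .a9], [1, 0], [0, 1]⟩,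
  ⟨[.a11], [2, 2], []⟩,
  ⟨[.a2, .a5, .a6], [1, 2], [2, 1]⟩,
  ⟨[.a3, .a4, .a7, .a9], [2, 4], [4, 2]⟩,
  ⟨[.a5], [0, 1, 2, 4], [4, 2]⟩,
  ⟨[.a9], [0, 3, 4], [4, 3]⟩,
  ⟨[.a4, .a5, .a6, .a7, .a9], [2, 3, 7], [7, 3]⟩,
  ⟨[.a6, .a8], [2, 4, 5], [5, 4]⟩,
  ⟨[.a8], [0, 3, 4, 8], [8, 4]⟩,
  ⟨[.a6], [1], [0]⟩,
  ⟨[.a4, .a7], [3], [5, 0, 4]⟩,
  ⟨[.a3], [7], [0, 5]⟩,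
  ⟨[.a2], [9], [7, 2]⟩,
  ⟨[.a1, .a7], [12], [0, 1, 4, 7]⟩]
def C75 : List Ch := [⟨PB, 0, [], []⟩,
  ⟨P62, 1, [], []⟩,
  ⟨P63, 0, [], []⟩]
def S75 : List St := [.cent 1 1 0 [⟨32, [.a5], [.a5]⟩],
  .phi 2 [⟨2, [.a1, .a7], [.a1, .a2, .a7, .a8]⟩,
  ⟨4, [.a2], [.a2]⟩,
  ⟨8, [.a3], [.a3]⟩,
  ⟨16, [.a4, .a7], [.a4, .a5, .a6, .a7, .a8]⟩,
  ⟨32, [.a5], [.a5]⟩,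
  ⟨64, [.a6], [.a6]⟩,
  ⟨256, [.a8], [.a8]⟩,
  ⟨512, [.a9], [.a9]⟩,
  ⟨2048, [.a11], [.a11]⟩] [[[.a10], [.a0, .a2, .a6, .a8, .a10]], [[.a0, .a1, .a4, .a6], [.a1, .a4, .a6]], [[.a0, .a1, .a4, .a6]], [[.a1, .a4, .a6], [.a0, .a1, .a2, .a6, .a7, .a11]], [[.a0, .a8]], [[.a2, .a4, .a7, .a9]], [[.a3, .a11]], [[.a1, .a4, .a6], [.a1, .a4, .a11]], [[.a10]]],
  .phi 0 [⟨4, [.a2], [.a2]⟩,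
  ⟨8, [.a3], [.a3]⟩,
  ⟨32, [.a5], [.a5]⟩,
  ⟨64, [.a6], [.a6]⟩,
  ⟨256, [.a8], [.a8]⟩,
  ⟨512, [.a9], [.a9]⟩] [[[.a2, .a4, .a7, .a9], [.a1, .a2, .a7, .a9]], [[.a1, .a2, .a7, .a9], [.a1, .a4, .a9]], [[.a2, .a9]], [[.a2, .a4, .a7, .a9]], [[.a3, .a11]], [[.a1, .a4, .a6], [.a1, .a4, .a11]]]]
theorem bad75 (c : CtxM Goal γ) : Bad Goal γ PZ P75 :=
  c.toCtx.chn (B := B75) (D := D75) (I := [14, 0, 1, 2, 3, 9, 4, 5, 8, 15, 12]) (r := 2) (C := C75) (l := S75) (x := ⟨[.a7], [.a7, .a8]⟩) (ix := [0, 2]) (by decide +kernel) (by decide +kernel) (by decide +kernel) (by decide +kernel)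
    (allB_cons (c.badB) (allB_cons (bad62 c) (allB_cons (bad63 c) (allB_nil))))

def P76 : List Ent := [⟨1, [.a0, .a7], [.a0, .a2, .a3, .a5, .a7, .a8]⟩,
  ⟨2, [.a1, .a7], [.a1, .a2, .a7, .a8]⟩,
  ⟨4, [.a2], [.a2]⟩,
  ⟨8, [.a3], [.a3]⟩,
  ⟨16, [.a4, .a7], [.a4, .a5, .a6, .a7, .a8]⟩,
  ⟨32, [.a5], [.a5]⟩,
  ⟨64, [.a6], [.a6]⟩,
  ⟨256, [.a8], [.a8]⟩,
  ⟨512, [.a9], [.a9]⟩,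
  ⟨1024, [.a10], [.a10, .a11]⟩,
  ⟨2048, [.a11], [.a11]⟩]
def B76 : List Gv := [⟨[.a0, .a7], [.a0, .a2, .a3, .a5, .a7, .a8]⟩, ⟨[.a10], [.a10, .a11]⟩]
def D76 : List Dv := [⟨[.a2, .a3, .a8], [0, 0], []⟩,
  ⟨[.a1, .a2, .a6, .a7, .a8], [2, 1], [1, 2]⟩,
  ⟨[.a11], [3, 3], []⟩,
  ⟨[.a3, .a5, .a8], [2, 4], [4, 2]⟩,
  ⟨[.a5, .a8], [3, 2, 4], [4, 2]⟩,
  ⟨[.a4, .a5, .a6, .a7, .a9], [1, 3, 6], [6, 3]⟩,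
  ⟨[.a8], [1, 4, 5], [5, 4]⟩,
  ⟨[.a6, .a8], [2, 4, 6], [6, 4]⟩,
  ⟨[.a9], [3, 5, 6], [6, 5]⟩,
  ⟨[.a6], [1], [2]⟩,
  ⟨[.a5], [5], [3]⟩,
  ⟨[.a4, .a7], [5], [0, 1, 2]⟩,
  ⟨[.a3], [8], [1, 5]⟩,
  ⟨[.a2], [12], [0, 6]⟩,
  ⟨[.a1, .a7], [12], [0, 4, 7]⟩]
def C76 : List Ch := [⟨PB, 0, [], []⟩,
  ⟨P64, 1, [], []⟩,
  ⟨P65, 0, [], []⟩]
def S76 : List St := [.cent 1 1 0 [⟨32, [.a5], [.a5]⟩],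
  .phi 2 [⟨2, [.a1, .a7], [.a1, .a2, .a7, .a8]⟩,
  ⟨4, [.a2], [.a2]⟩,
  ⟨8, [.a3], [.a3]⟩,
  ⟨16, [.a4, .a7], [.a4, .a5, .a6, .a7, .a8]⟩,
  ⟨32, [.a5], [.a5]⟩,
  ⟨64, [.a6], [.a6]⟩,
  ⟨256, [.a8], [.a8]⟩,
  ⟨512, [.a9], [.a9]⟩,
  ⟨2048, [.a11], [.a11]⟩] [[[.a10], [.a0, .a1, .a4, .a7, .a10, .a11]], [[.a0, .a1]], [[.a0, .a1], [.a1, .a4, .a6]], [[.a0, .a1, .a11]], [[.a2, .a9]], [[.a2, .a4, .a7, .a9]], [[.a3, .a11]], [[.a0, .a1], [.a1, .a6, .a7, .a11]], [[.a10]]],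
  .phi 0 [⟨4, [.a2], [.a2]⟩,
  ⟨8, [.a3], [.a3]⟩,
  ⟨32, [.a5], [.a5]⟩,
  ⟨64, [.a6], [.a6]⟩,
  ⟨256, [.a8], [.a8]⟩,
  ⟨512, [.a9], [.a9]⟩] [[[.a2, .a4, .a7, .a9], [.a1, .a2, .a7, .a9]], [[.a1, .a2, .a7, .a9], [.a1, .a4, .a9]], [[.a2, .a9]], [[.a2, .a4, .a7, .a9]], [[.a3, .a11]], [[.a1, .a4, .a6], [.a1, .a4, .a11]]]]
theorem bad76 (c : CtxM Goal γ) : Bad Goal γ PZ P76 :=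
  c.toCtx.chn (B := B76) (D := D76) (I := [15, 0, 1, 2, 3, 4, 5, 8, 6, 16, 12]) (r := 2) (C := C76) (l := S76) (x := ⟨[.a7], [.a7, .a8]⟩) (ix := [0, 2]) (by decide +kernel) (by decide +kernel) (by decide +kernel) (by decide +kernel)
    (allB_cons (c.badB) (allB_cons (bad64 c) (allB_cons (bad65 c) (allB_nil))))

def P77 : List Ent := [⟨1, [.a0], [.a0]⟩,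
  ⟨2, [.a1], [.a1, .a2]⟩,
  ⟨4, [.a2], [.a2]⟩,
  ⟨8, [.a3], [.a3]⟩,
  ⟨16, [.a4], [.a4, .a5]⟩,
  ⟨32, [.a5], [.a5]⟩,
  ⟨64, [.a6], [.a6]⟩,
  ⟨128, [.a7], [.a7, .a8]⟩,
  ⟨256, [.a8], [.a8]⟩,
  ⟨512, [.a9], [.a9]⟩,
  ⟨2048, [.a11], [.a11]⟩]
def B77 : List Gv := [⟨[.a0], [.a0]⟩, ⟨[.a1], [.a1, .a2]⟩, ⟨[.a4], [.a4, .a5]⟩, ⟨[.a11], [.a11]⟩]
def D77 : List Dv := [⟨[.a2], [1, 1], []⟩,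
  ⟨[.a3], [3, 2], [2, 3]⟩,
  ⟨[.a5], [4, 4], []⟩,
  ⟨[.a7, .a9], [0, 5, 1, 2, 6, 3], [3, 6]⟩,
  ⟨[.a6, .a9], [1, 7, 5], [5, 7]⟩,
  ⟨[.a8, .a9], [0, 2, 4, 8], [8, 4]⟩,
  ⟨[.a9], [0, 4, 9], [9, 4]⟩,
  ⟨[.a8], [1], [0]⟩,
  ⟨[.a7], [4], [1]⟩,
  ⟨[.a6], [4], [2]⟩]
def C77 : List Ch := [⟨PB, 0, [], []⟩,
  ⟨P66, 1, [], []⟩,
  ⟨P66, 0, [.a10], [.a10, .a11]⟩,
  ⟨P67, 2, [], []⟩,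
  ⟨P67, 0, [.a10], [.a10, .a11]⟩,
  ⟨P62, 1, [], []⟩,
  ⟨P64, 0, [], []⟩,
  ⟨PA, 3, [], []⟩,
  ⟨P68, 0, [], []⟩,
  ⟨P69, 1, [], []⟩,
  ⟨P69, 0, [.a10], [.a10, .a11]⟩,
  ⟨P70, 2, [], []⟩,
  ⟨P70, 0, [.a10], [.a10, .a11]⟩,
  ⟨P71, 1, [], []⟩,
  ⟨P72, 0, [], []⟩]
def S77 : List St := [.cent 1 1 0 [⟨32, [.a5], [.a5]⟩],
  .phi 2 [⟨4, [.a2], [.a2]⟩,
  ⟨8, [.a3], [.a3]⟩,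
  ⟨16, [.a4, .a7], [.a4, .a5, .a6, .a7, .a8]⟩,
  ⟨32, [.a5], [.a5]⟩,
  ⟨64, [.a6], [.a6]⟩,
  ⟨256, [.a8], [.a8]⟩,
  ⟨512, [.a9], [.a9]⟩] [[[.a1]], [[.a0, .a1, .a4, .a6]], [[.a0, .a1, .a11]], [[.a4]], [[.a2, .a4, .a7, .a9]], [[.a7]], [[.a1], [.a1, .a3, .a6, .a11]]],
  .cent 3 3 1 [⟨32, [.a5], [.a5]⟩,
  ⟨64, [.a6], [.a6]⟩,
  ⟨256, [.a8], [.a8]⟩],
  .comm 1 1 [⟨32, [.a5], [.a5]⟩,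
  ⟨256, [.a8], [.a8]⟩] [⟨[.a2], [.a9]⟩, ⟨[.a9], [.a4, .a7]⟩],
  .comm 2 5 [⟨8, [.a3, .a6], [.a3, .a6]⟩,
  ⟨32, [.a5], [.a5]⟩,
  ⟨64, [.a6, .a8], [.a6, .a8]⟩,
  ⟨256, [.a8], [.a8]⟩] [⟨[.a9], [.a0]⟩, ⟨[.a6], [.a1]⟩, ⟨[.a9], [.a1]⟩, ⟨[.a9], [.a4]⟩],
  .om 3 [⟨4, [.a2], [.a2]⟩,
  ⟨8, [.a3], [.a3]⟩,
  ⟨32, [.a5], [.a5]⟩,
  ⟨64, [.a6], [.a6]⟩,
  ⟨256, [.a8], [.a8]⟩,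
  ⟨512, [.a9], [.a9]⟩] [[[.a2]], [[.a3]], [[.a5]], [[.a6]], [[.a8]], [[.a9]]],
  .cent 7 7 0 [⟨2, [.a1], [.a1, .a2]⟩,
  ⟨4, [.a2], [.a2]⟩,
  ⟨8, [.a3], [.a3]⟩,
  ⟨16, [.a4], [.a4, .a5]⟩,
  ⟨32, [.a5], [.a5]⟩,
  ⟨64, [.a6], [.a6]⟩,
  ⟨128, [.a7], [.a7, .a8]⟩,
  ⟨256, [.a8], [.a8]⟩,
  ⟨512, [.a9], [.a9]⟩]]
theorem bad77 (c : CtxM Goal γ) : Bad Goal γ PZ P77 :=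
  c.toCtx.chn (B := B77) (D := D77) (I := [10, 11, 9, 8, 12, 7, 0, 1, 2, 3, 13]) (r := 4) (C := C77) (l := S77) (x := ⟨[.a10], [.a10, .a11]⟩) (ix := [0, 5, 1, 2, 4, 3]) (by decide +kernel) (by decide +kernel) (by decide +kernel) (by decide +kernel)
    (allB_cons (c.badB) (allB_cons (bad66 c) (allB_cons (bad66 c) (allB_cons (bad67 c) (allB_cons (bad67 c) (allB_cons (bad62 c) (allB_cons (bad64 c) (allB_cons (c.badA) (allB_cons (bad68 c) (allB_cons (bad69 c) (allB_cons (bad69 c) (allB_cons (bad70 c) (allB_cons (bad70 c) (allB_cons (bad71 c) (allB_cons (bad72 c) (allB_nil))))))))))))))))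

def P78 : List Ent := [⟨1, [.a0, .a10], [.a0, .a1, .a2, .a3, .a4, .a6, .a8, .a9, .a10, .a11]⟩,
  ⟨2, [.a1], [.a1, .a2]⟩,
  ⟨4, [.a2], [.a2]⟩,
  ⟨8, [.a3], [.a3]⟩,
  ⟨16, [.a4], [.a4, .a5]⟩,
  ⟨32, [.a5], [.a5]⟩,
  ⟨64, [.a6], [.a6]⟩,
  ⟨128, [.a7], [.a7, .a8]⟩,
  ⟨256, [.a8], [.a8]⟩,
  ⟨512, [.a9], [.a9]⟩,
  ⟨2048, [.a11], [.a11]⟩]
def B78 : List Gv := [⟨[.a0, .a10], [.a0, .a1, .a2, .a3, .a4, .a6, .a8, .a9, .a10, .a11]⟩, ⟨[.a1], [.a1, .a2]⟩, ⟨[.a4], [.a4, .a5]⟩]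
def D78 : List Dv := [⟨[.a2, .a3, .a5, .a6, .a7, .a8, .a9, .a11], [1, 0, 0], []⟩,
  ⟨[.a3, .a4, .a5, .a6, .a7, .a8], [2, 1], [1, 2]⟩,
  ⟨[.a6, .a9, .a11], [4, 0, 1, 3, 3], []⟩,
  ⟨[.a5, .a6, .a7, .a8], [5, 1, 5, 4], [4, 5]⟩,
  ⟨[.a7, .a8, .a9, .a11], [1, 0, 6, 6], []⟩,
  ⟨[.a8, .a9, .a11], [2, 3, 4, 5], [5, 4]⟩,
  ⟨[.a9], [1, 3, 2, 5, 7], [7, 5]⟩,
  ⟨[.a11], [0, 2, 3, 6, 6], []⟩,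
  ⟨[.a8], [2], [1, 0]⟩,
  ⟨[.a7], [4], [0, 2, 1]⟩,
  ⟨[.a6], [7], [3, 2]⟩,
  ⟨[.a5], [7], [0, 1, 2]⟩,
  ⟨[.a3], [10], [14, 0, 1, 2, 3]⟩,
  ⟨[.a2], [12], [0, 1, 2, 3, 4, 6, 5]⟩]
def C78 : List Ch := [⟨PB, 0, [], []⟩,
  ⟨P73, 1, [], []⟩,
  ⟨P73, 0, [.a0], [.a0]⟩,
  ⟨P74, 2, [], []⟩,
  ⟨P74, 0, [.a0], [.a0]⟩,
  ⟨P63, 1, [], []⟩,
  ⟨P65, 0, [], []⟩]
def S78 : List St := [.cent 1 1 0 [⟨32, [.a5], [.a5]⟩],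
  .phi 2 [⟨2, [.a1, .a7, .a11], [.a1, .a2, .a5, .a6, .a7, .a8, .a9, .a11]⟩,
  ⟨4, [.a2], [.a2]⟩,
  ⟨8, [.a3], [.a3]⟩,
  ⟨16, [.a4, .a7], [.a4, .a5, .a6, .a7, .a8]⟩,
  ⟨32, [.a5], [.a5]⟩,
  ⟨64, [.a6], [.a6]⟩,
  ⟨256, [.a8], [.a8]⟩,
  ⟨512, [.a9], [.a9]⟩] [[[.a0, .a2, .a4, .a7, .a10]], [[.a1]], [[.a1], [.a1, .a4, .a6]], [[.a0, .a7, .a8, .a10, .a11], [.a0, .a2, .a4, .a8, .a10]], [[.a4]], [[.a2, .a4, .a7, .a9]], [[.a7]], [[.a1], [.a1, .a3, .a6, .a11]]],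
  .comm 3 3 [⟨4, [.a2], [.a2]⟩,
  ⟨8, [.a3], [.a3]⟩,
  ⟨16, [.a4, .a5, .a7], [.a4, .a6, .a7, .a8]⟩,
  ⟨32, [.a5], [.a5]⟩,
  ⟨64, [.a6, .a8], [.a6, .a8]⟩,
  ⟨256, [.a8], [.a8]⟩,
  ⟨512, [.a9], [.a9]⟩] [⟨[.a4], [.a0, .a10]⟩, ⟨[.a1], [.a4]⟩, ⟨[.a1, .a2], [.a0, .a10]⟩, ⟨[.a1], [.a6]⟩, ⟨[.a1], [.a9]⟩, ⟨[.a3], [.a11]⟩, ⟨[.a1, .a3], [.a1, .a11]⟩],
  .om 4 [⟨4, [.a2], [.a2]⟩,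
  ⟨8, [.a3], [.a3]⟩,
  ⟨16, [.a4, .a7], [.a4, .a5, .a6, .a7, .a8]⟩,
  ⟨32, [.a5], [.a5]⟩,
  ⟨64, [.a6], [.a6]⟩,
  ⟨256, [.a8], [.a8]⟩,
  ⟨512, [.a9], [.a9]⟩,
  ⟨2048, [.a11], [.a11]⟩] [[[.a2]], [[.a3]], [[.a2], [.a11], [.a2, .a4, .a5, .a6, .a7, .a8, .a11]], [[.a5]], [[.a6]], [[.a8]], [[.a9]], [[.a11]]],
  .cent 5 5 3 [⟨32, [.a5], [.a5]⟩,
  ⟨256, [.a8], [.a8]⟩],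
  .comm 3 6 [⟨8, [.a3], [.a3]⟩,
  ⟨32, [.a5], [.a5]⟩,
  ⟨64, [.a6, .a8], [.a6, .a8]⟩,
  ⟨256, [.a8], [.a8]⟩,
  ⟨512, [.a9], [.a9]⟩] [⟨[.a4, .a7], [.a1]⟩, ⟨[.a6], [.a1]⟩, ⟨[.a9], [.a1]⟩, ⟨[.a9], [.a4]⟩, ⟨[.a1, .a4, .a11], [.a1, .a4]⟩],
  .cent 7 3 6 [⟨32, [.a5], [.a5]⟩,
  ⟨64, [.a6], [.a6]⟩,
  ⟨256, [.a8], [.a8]⟩],
  .comm 3 8 [⟨4, [.a2, .a3, .a4, .a7, .a9], [.a2, .a3, .a4, .a5, .a6, .a7, .a9]⟩,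
  ⟨8, [.a3], [.a3]⟩,
  ⟨32, [.a5], [.a5]⟩,
  ⟨64, [.a6, .a8], [.a6, .a8]⟩,
  ⟨256, [.a8], [.a8]⟩,
  ⟨512, [.a9], [.a9]⟩] [⟨[.a11], [.a0, .a10]⟩, ⟨[.a4, .a7], [.a1]⟩, ⟨[.a6], [.a1]⟩, ⟨[.a9], [.a1]⟩, ⟨[.a9], [.a4]⟩, ⟨[.a2, .a9, .a11], [.a1, .a3]⟩],
  .cent 9 9 0 [⟨2, [.a1, .a7], [.a1, .a2, .a7, .a8]⟩,
  ⟨4, [.a2], [.a2]⟩,
  ⟨8, [.a3], [.a3]⟩,
  ⟨16, [.a4, .a7], [.a4, .a5, .a6, .a7, .a8]⟩,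
  ⟨32, [.a5], [.a5]⟩,
  ⟨64, [.a6], [.a6]⟩,
  ⟨256, [.a8], [.a8]⟩,
  ⟨512, [.a9], [.a9]⟩,
  ⟨2048, [.a11], [.a11]⟩]]
theorem bad78 (c : CtxM Goal γ) : Bad Goal γ PZ P78 :=
  c.toCtx.chn (B := B78) (D := D78) (I := [14, 15, 0, 1, 16, 2, 3, 4, 5, 7, 6]) (r := 3) (C := C78) (l := S78) (x := ⟨[.a10], [.a10, .a11]⟩) (ix := [0, 6, 3, 2, 4]) (by decide +kernel) (by decide +kernel) (by decide +kernel) (by decide +kernel)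
    (allB_cons (c.badB) (allB_cons (bad73 c) (allB_cons (bad73 c) (allB_cons (bad74 c) (allB_cons (bad74 c) (allB_cons (bad63 c) (allB_cons (bad65 c) (allB_nil))))))))

def P79 : List Ent := [⟨1, [.a0], [.a0]⟩,
  ⟨2, [.a1, .a10], [.a1, .a2, .a4, .a5, .a7, .a9, .a10, .a11]⟩,
  ⟨4, [.a2], [.a2]⟩,
  ⟨8, [.a3], [.a3]⟩,
  ⟨16, [.a4, .a10], [.a4, .a5, .a10, .a11]⟩,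
  ⟨32, [.a5], [.a5]⟩,
  ⟨64, [.a6], [.a6]⟩,
  ⟨128, [.a7, .a10], [.a7, .a8, .a9, .a10, .a11]⟩,
  ⟨256, [.a8], [.a8]⟩,
  ⟨512, [.a9], [.a9]⟩,
  ⟨2048, [.a11], [.a11]⟩]
def B79 : List Gv := [⟨[.a0], [.a0]⟩, ⟨[.a1, .a10], [.a1, .a2, .a4, .a5, .a7, .a9, .a10, .a11]⟩]
def D79 : List Dv := [⟨[.a3, .a4, .a5, .a6, .a8, .a10], [1, 1, 0], [0, 1]⟩,
  ⟨[.a2, .a3, .a4, .a5, .a7, .a11], [2, 2], []⟩,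
  ⟨[.a6, .a7, .a10, .a11], [0, 3, 1, 2], [2, 1]⟩,
  ⟨[.a5, .a7, .a9, .a10], [2, 2, 4], [4, 2]⟩,
  ⟨[.a7, .a10], [1, 3, 3], []⟩,
  ⟨[.a4, .a5, .a9, .a10, .a11], [4, 3, 3, 5], [5, 3]⟩,
  ⟨[.a8], [3, 2, 0, 5, 4, 5], [5, 4]⟩,
  ⟨[.a11], [2, 3, 5, 5], []⟩,
  ⟨[.a9, .a11], [3, 2, 7, 9, 5, 8], [8, 5]⟩,
  ⟨[.a9], [0], [1]⟩,
  ⟨[.a6], [7], [5, 2]⟩,
  ⟨[.a5], [7], [6, 1]⟩,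
  ⟨[.a4, .a10], [6], [0, 2, 4]⟩,
  ⟨[.a3], [12], [0, 1, 2]⟩,
  ⟨[.a2], [12], [0, 1, 2, 9, 4]⟩]
def C79 : List Ch := [⟨PB, 0, [], []⟩,
  ⟨P62, 1, [], []⟩,
  ⟨P65, 0, [], []⟩]
def S79 : List St := [.cent 1 1 0 [⟨32, [.a5], [.a5]⟩],
  .phi 2 [⟨2, [.a1, .a7], [.a1, .a2, .a7, .a8]⟩,
  ⟨4, [.a2], [.a2]⟩,
  ⟨8, [.a3], [.a3]⟩,
  ⟨16, [.a4, .a7], [.a4, .a5, .a6, .a7, .a8]⟩,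
  ⟨32, [.a5], [.a5]⟩,
  ⟨64, [.a6], [.a6]⟩,
  ⟨256, [.a8], [.a8]⟩,
  ⟨512, [.a9], [.a9]⟩,
  ⟨2048, [.a11], [.a11]⟩] [[[.a2, .a3, .a4, .a6, .a10], [.a0, .a1, .a2, .a4, .a7, .a8, .a10, .a11]], [[.a0, .a1, .a4, .a6], [.a1, .a4, .a6]], [[.a0, .a1, .a4, .a6]], [[.a1, .a4, .a6], [.a0, .a1, .a2, .a6, .a7, .a11]], [[.a0, .a8]], [[.a2, .a4, .a7, .a9]], [[.a3, .a11]], [[.a1, .a4, .a6], [.a1, .a4, .a11]], [[.a0, .a1, .a4, .a6], [.a2, .a3, .a4, .a6, .a10]]],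
  .comm 3 3 [⟨2, [.a1, .a3, .a7, .a9], [.a1, .a2, .a3, .a5, .a6, .a7, .a9]⟩,
  ⟨4, [.a2, .a3, .a4, .a5, .a6, .a7, .a9], [.a2, .a3, .a4, .a7, .a9]⟩,
  ⟨8, [.a3, .a6], [.a3, .a6]⟩,
  ⟨16, [.a4, .a5, .a6, .a7, .a8], [.a4, .a7]⟩,
  ⟨32, [.a5], [.a5]⟩,
  ⟨64, [.a6], [.a6]⟩,
  ⟨256, [.a8], [.a8]⟩,
  ⟨512, [.a9], [.a9]⟩] [⟨[.a0], [.a1, .a10]⟩, ⟨[.a0], [.a11]⟩, ⟨[.a0], [.a9]⟩, ⟨[.a1, .a4], [.a1, .a10]⟩, ⟨[.a0], [.a8]⟩, ⟨[.a9], [.a1, .a4]⟩, ⟨[.a3], [.a11]⟩, ⟨[.a4, .a7], [.a0, .a4, .a10]⟩],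
  .cent 4 4 2 [⟨32, [.a5], [.a5]⟩,
  ⟨256, [.a8], [.a8]⟩],
  .comm 2 2 [⟨8, [.a3, .a6], [.a3, .a6]⟩,
  ⟨32, [.a5], [.a5]⟩,
  ⟨64, [.a6], [.a6]⟩,
  ⟨256, [.a8], [.a8]⟩,
  ⟨512, [.a9], [.a9]⟩] [⟨[.a1, .a4], [.a1, .a7]⟩, ⟨[.a2], [.a9]⟩, ⟨[.a9], [.a1, .a4]⟩, ⟨[.a3], [.a11]⟩, ⟨[.a1, .a4], [.a1, .a4, .a11]⟩],
  .comm 3 6 [⟨4, [.a2, .a3, .a4, .a7, .a9], [.a2, .a3, .a4, .a5, .a6, .a7, .a9]⟩,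
  ⟨8, [.a3, .a6], [.a3, .a6]⟩,
  ⟨16, [.a4, .a5, .a6, .a7, .a8], [.a4, .a7]⟩,
  ⟨32, [.a5], [.a5]⟩,
  ⟨64, [.a6], [.a6]⟩,
  ⟨256, [.a8], [.a8]⟩,
  ⟨512, [.a9], [.a9]⟩] [⟨[.a11], [.a0]⟩, ⟨[.a9], [.a0]⟩, ⟨[.a1, .a4], [.a1, .a10]⟩, ⟨[.a8], [.a0]⟩, ⟨[.a1, .a4], [.a9]⟩, ⟨[.a3], [.a11]⟩, ⟨[.a1, .a4, .a11], [.a1, .a4]⟩],
  .cent 7 7 2 [⟨32, [.a5], [.a5]⟩,
  ⟨64, [.a6], [.a6]⟩,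
  ⟨256, [.a8], [.a8]⟩]]
theorem bad79 (c : CtxM Goal γ) : Bad Goal γ PZ P79 :=
  c.toCtx.chn (B := B79) (D := D79) (I := [15, 16, 0, 1, 2, 3, 4, 10, 8, 5, 7]) (r := 2) (C := C79) (l := S79) (x := ⟨[.a10], [.a10, .a11]⟩) (ix := [4, 1, 2, 0, 3]) (by decide +kernel) (by decide +kernel) (by decide +kernel) (by decide +kernel)
    (allB_cons (c.badB) (allB_cons (bad62 c) (allB_cons (bad65 c) (allB_nil))))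

def P80 : List Ent := [⟨1, [.a0, .a10], [.a0, .a1, .a2, .a3, .a4, .a6, .a8, .a9, .a10, .a11]⟩,
  ⟨2, [.a1, .a10], [.a1, .a2, .a4, .a5, .a7, .a9, .a10, .a11]⟩,
  ⟨4, [.a2], [.a2]⟩,
  ⟨8, [.a3], [.a3]⟩,
  ⟨16, [.a4, .a10], [.a4, .a5, .a10, .a11]⟩,
  ⟨32, [.a5], [.a5]⟩,
  ⟨64, [.a6], [.a6]⟩,
  ⟨128, [.a7, .a10], [.a7, .a8, .a9, .a10, .a11]⟩,
  ⟨256, [.a8], [.a8]⟩,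
  ⟨512, [.a9], [.a9]⟩,
  ⟨2048, [.a11], [.a11]⟩]
def B80 : List Gv := [⟨[.a0, .a10], [.a0, .a1, .a2, .a3, .a4, .a6, .a8, .a9, .a10, .a11]⟩, ⟨[.a1, .a10], [.a1, .a2, .a4, .a5, .a7, .a9, .a10, .a11]⟩]
def D80 : List Dv := [⟨[.a2, .a4, .a8, .a10, .a11], [1, 0, 0], []⟩,
  ⟨[.a6, .a7, .a8, .a9, .a10], [2, 2, 1], [1, 2]⟩,
  ⟨[.a9, .a11], [0, 1, 3, 3], []⟩,
  ⟨[.a4, .a6, .a7, .a9], [2, 4], [4, 2]⟩,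
  ⟨[.a3, .a8, .a11], [3, 3], []⟩,
  ⟨[.a8, .a9], [4, 6, 3, 5], [5, 3]⟩,
  ⟨[.a5, .a6], [2, 4, 7], [7, 4]⟩,
  ⟨[.a7, .a10, .a11], [5, 0, 2, 5, 6], [6, 5]⟩,
  ⟨[.a11], [5, 0, 6, 1, 5, 9], [9, 5]⟩,
  ⟨[.a9], [6], [0]⟩,
  ⟨[.a8], [4], [0]⟩,
  ⟨[.a7, .a10], [3], [2]⟩,
  ⟨[.a6], [10], [0, 1, 2]⟩,
  ⟨[.a5], [6], [0]⟩,
  ⟨[.a4, .a10], [10], [1, 2, 3, 5]⟩,
  ⟨[.a3], [10], [4, 6]⟩,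
  ⟨[.a2], [15], [1, 5, 7]⟩]
def C80 : List Ch := [⟨PB, 0, [], []⟩,
  ⟨P63, 1, [], []⟩,
  ⟨P64, 0, [], []⟩]
def S80 : List St := [.cent 1 1 0 [⟨32, [.a5], [.a5]⟩],
  .phi 2 [⟨2, [.a1, .a7], [.a1, .a2, .a7, .a8]⟩,
  ⟨4, [.a2], [.a2]⟩,
  ⟨8, [.a3], [.a3]⟩,
  ⟨16, [.a4, .a7], [.a4, .a5, .a6, .a7, .a8]⟩,
  ⟨32, [.a5], [.a5]⟩,
  ⟨64, [.a6], [.a6]⟩,
  ⟨256, [.a8], [.a8]⟩,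
  ⟨512, [.a9], [.a9]⟩,
  ⟨2048, [.a11], [.a11]⟩] [[[.a2, .a3, .a4, .a6, .a10], [.a0, .a3, .a6, .a8, .a10]], [[.a0, .a1]], [[.a0, .a1], [.a1, .a4, .a6]], [[.a0, .a1, .a11]], [[.a2, .a9]], [[.a2, .a4, .a7, .a9]], [[.a3, .a11]], [[.a0, .a1], [.a1, .a6, .a7, .a11]], [[.a2, .a9], [.a4, .a10]]],
  .comm 3 3 [⟨2, [.a1, .a2, .a4, .a5, .a6, .a8, .a9], [.a1, .a3, .a4, .a8, .a9]⟩,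
  ⟨4, [.a2, .a4, .a7], [.a2, .a4, .a5, .a6, .a7, .a8]⟩,
  ⟨8, [.a3, .a5, .a8], [.a3, .a5, .a8]⟩,
  ⟨16, [.a4, .a5, .a6, .a7, .a8], [.a4, .a7]⟩,
  ⟨32, [.a5], [.a5]⟩,
  ⟨64, [.a6], [.a6]⟩,
  ⟨256, [.a8], [.a8]⟩,
  ⟨512, [.a9], [.a9]⟩] [⟨[.a0, .a1], [.a0, .a10]⟩, ⟨[.a11], [.a0, .a1]⟩, ⟨[.a9], [.a0, .a1]⟩, ⟨[.a1, .a4], [.a1, .a10]⟩, ⟨[.a2], [.a9]⟩, ⟨[.a9], [.a1, .a4]⟩, ⟨[.a3], [.a11]⟩, ⟨[.a6, .a11], [.a1, .a2, .a10]⟩],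
  .om 4 [⟨4, [.a2], [.a2]⟩,
  ⟨8, [.a3], [.a3]⟩,
  ⟨16, [.a4, .a7], [.a4, .a5, .a6, .a7, .a8]⟩,
  ⟨32, [.a5], [.a5]⟩,
  ⟨64, [.a6], [.a6]⟩,
  ⟨256, [.a8], [.a8]⟩,
  ⟨512, [.a9], [.a9]⟩,
  ⟨2048, [.a11], [.a11]⟩] [[[.a2]], [[.a3]], [[.a2], [.a11], [.a2, .a4, .a5, .a6, .a7, .a8, .a11]], [[.a5]], [[.a6]], [[.a8]], [[.a9]], [[.a11]]],
  .cent 5 5 3 [⟨32, [.a5], [.a5]⟩,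
  ⟨256, [.a8], [.a8]⟩],
  .comm 3 3 [⟨8, [.a3, .a6], [.a3, .a6]⟩,
  ⟨32, [.a5], [.a5]⟩,
  ⟨64, [.a6], [.a6]⟩,
  ⟨256, [.a8], [.a8]⟩,
  ⟨512, [.a9], [.a9]⟩] [⟨[.a1, .a4], [.a1, .a7]⟩, ⟨[.a2], [.a9]⟩, ⟨[.a9], [.a1, .a4]⟩, ⟨[.a3], [.a11]⟩, ⟨[.a1, .a4], [.a1, .a4, .a11]⟩],
  .comm 4 7 [⟨4, [.a2, .a4, .a7], [.a2, .a4, .a5, .a6, .a7, .a8]⟩,
  ⟨8, [.a3, .a5, .a8], [.a3, .a5, .a8]⟩,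
  ⟨16, [.a4, .a5, .a6, .a7, .a8], [.a4, .a7]⟩,
  ⟨32, [.a5], [.a5]⟩,
  ⟨64, [.a6], [.a6]⟩,
  ⟨256, [.a8], [.a8]⟩,
  ⟨512, [.a9], [.a9]⟩] [⟨[.a11], [.a0, .a1]⟩, ⟨[.a9], [.a0, .a1]⟩, ⟨[.a1, .a4], [.a1, .a10]⟩, ⟨[.a2], [.a9]⟩, ⟨[.a1, .a4], [.a9]⟩, ⟨[.a3], [.a11]⟩, ⟨[.a1, .a4, .a11], [.a1, .a4]⟩],
  .cent 8 3 7 [⟨32, [.a5], [.a5]⟩,
  ⟨64, [.a6], [.a6]⟩,
  ⟨256, [.a8], [.a8]⟩]]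
theorem bad80 (c : CtxM Goal γ) : Bad Goal γ PZ P80 :=
  c.toCtx.chn (B := B80) (D := D80) (I := [17, 18, 0, 1, 2, 3, 4, 5, 6, 7, 8]) (r := 2) (C := C80) (l := S80) (x := ⟨[.a10], [.a10, .a11]⟩) (ix := [5, 1, 2, 0, 3]) (by decide +kernel) (by decide +kernel) (by decide +kernel) (by decide +kernel)
    (allB_cons (c.badB) (allB_cons (bad63 c) (allB_cons (bad64 c) (allB_nil))))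

def P81 : List Ent := [⟨1, [.a0], [.a0]⟩,
  ⟨2, [.a1], [.a1, .a2]⟩,
  ⟨4, [.a2], [.a2]⟩,
  ⟨8, [.a3], [.a3]⟩,
  ⟨16, [.a4], [.a4, .a5]⟩,
  ⟨32, [.a5], [.a5]⟩,
  ⟨64, [.a6], [.a6]⟩,
  ⟨128, [.a7], [.a7, .a8]⟩,
  ⟨256, [.a8], [.a8]⟩,
  ⟨512, [.a9], [.a9]⟩,
  ⟨1024, [.a10], [.a10, .a11]⟩,
  ⟨2048, [.a11], [.a11]⟩]
def B81 : List Gv := [⟨[.a0], [.a0]⟩, ⟨[.a1], [.a1, .a2]⟩, ⟨[.a10], [.a10, .a11]⟩]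
def D81 : List Dv := [⟨[.a2], [1, 1], []⟩,
  ⟨[.a3, .a5, .a7, .a8, .a9], [2, 3, 1], [1, 3]⟩,
  ⟨[.a4, .a5, .a7], [4, 3], [3, 4]⟩,
  ⟨[.a11], [5, 5], []⟩,
  ⟨[.a6, .a7, .a9], [2, 3, 6], [6, 3]⟩,
  ⟨[.a7, .a9], [0, 4, 3, 5], [5, 3]⟩,
  ⟨[.a5, .a6, .a9], [4, 8], [8, 4]⟩,
  ⟨[.a8, .a9], [1, 2, 0, 5, 6], [6, 5]⟩,
  ⟨[.a9], [2, 3, 1, 6, 6], []⟩,
  ⟨[.a8], [1], [0]⟩,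
  ⟨[.a7], [4], [1]⟩,
  ⟨[.a6], [6], [0, 2]⟩,
  ⟨[.a5], [5], [0, 3]⟩,
  ⟨[.a4], [10], [0, 2]⟩,
  ⟨[.a3], [12], [1, 3, 4, 5]⟩]
def C81 : List Ch := [⟨PB, 0, [], []⟩,
  ⟨P75, 1, [], []⟩,
  ⟨P76, 0, [], []⟩,
  ⟨P77, 2, [], []⟩,
  ⟨P78, 0, [], []⟩,
  ⟨P79, 1, [], []⟩,
  ⟨P80, 0, [], []⟩]
theorem bad81 (c : CtxM Goal γ) : Bad Goal γ PZ P81 :=
  c.toCtx.node (B := B81) (D := D81) (I := [15, 16, 14, 0, 1, 2, 3, 4, 5, 6, 17, 11]) (r := 3) (C := C81) (by decide +kernel) (by decide +kernel) (by decide +kernel) (killed_top (by decide +kernel))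
    (allB_cons (c.badB) (allB_cons (bad75 c) (allB_cons (bad76 c) (allB_cons (bad77 c) (allB_cons (bad78 c) (allB_cons (bad79 c) (allB_cons (bad80 c) (allB_nil))))))))

end Cfsg.Agent.H782.TF.Mix
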