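import Cfsg.Agent.H782.TF.SiftDef
import Cfsg.Agent.H782.TF.Code

/-!
# S5262, q = 2: sifting is sound (helper782)
-/

set_option autoImplicit false

namespace Cfsg.Agent.H782.TF

theorem cond_false_eq_true {a b : Bool} : cond a b false = true ↔ a = true ∧ b = true := by
  cases a <;> simp

theorem beq_iff {a b : ℕ} : Nat.beq a b = true ↔ a = b :=
  ⟨Nat.eq_of_beq_eq_true, fun h => by subst h; exact Nat.beq_refl a⟩

theorem beq_false_iff {a b : ℕ} : Nat.beq a b = false ↔ a ≠ b := by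
  rw [← Bool.not_eq_true, Ne, beq_iff]

theorem blt_iff {a b : ℕ} : Nat.blt a b = true ↔ a < b := by
  unfold Nat.blt
  rw [Nat.ble_eq]
  exact Nat.succ_le_iff

theorem allL_nil {α : Type} (P : α → Bool) : allL P [] = true := rfl

theorem allL_cons {α : Type} (P : α → Bool) (a : α) (l : List α) :
    allL P (a :: l) = true ↔ P a = true ∧ allL P l = true := cond_false_eq_true

theorem allL_iff {α : Type} (P : α → Bool) (l : List α) : allL P l = true ↔ ∀ a ∈ l, P a = true := by
  induction l with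
  | nil => simp [allL_nil]
  | cons a l ih => rw [allL_cons, ih]; simp

theorem anyL_cons {α : Type} (P : α → Bool) (a : α) (l : List α) :
    anyL P (a :: l) = true ↔ P a = true ∨ anyL P l = true := by
  change cond (P a) true (anyL P l) = true ↔ _
  cases P a <;> simp

theorem anyL_iff {α : Type} (P : α → Bool) (l : List α) : anyL P l = true ↔ ∃ a ∈ l, P a = true := by
  induction l with
  | nil => simp [anyL]
  | cons a l ih => rw [anyL_cons, ih]; simp

theorem sift_nil (x : ℕ) : sift [] x = x := rfl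

theorem sift_cons (e : Ent) (P : List Ent) (x : ℕ) :
    sift (e :: P) x = sift P (cond (Nat.beq (Nat.land x e.m) 0) x (ap e.w x)) := rfl

theorem sift_cons0 {e : Ent} (P : List Ent) {x : ℕ} (h : x &&& e.m = 0) : sift (e :: P) x = sift P x := by
  rw [sift_cons, show Nat.beq (Nat.land x e.m) 0 = true from beq_iff.2 h]
  rfl

theorem sift_cons1 {e : Ent} (P : List Ent) {x : ℕ} (h : x &&& e.m ≠ 0) : sift (e :: P) x = sift P (ap e.w x) := by
  rw [sift_cons, show Nat.beq (Nat.land x e.m) 0 = false from beq_false_iff.2 h]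
  rfl

theorem valid_cons {e : Ent} {P : List Ent} : valid (e :: P) = true ↔
    hdok e.m e.w = true ∧ invok e.w e.v = true ∧ (∀ e' ∈ P, e.m < e'.m) ∧ sift P (ap e.w (ap e.w 0)) = 0 ∧
      (∀ e' ∈ P, sift P (ap e.w (ap e'.w (ap e.v 0))) = 0) ∧ valid P = true := by
  change cond _ (cond _ (cond _ (cond _ (cond _ _ false) false) false) false) false = true ↔ _
  rw [cond_false_eq_true, cond_false_eq_true, cond_false_eq_true, cond_false_eq_true, cond_false_eq_true, allL_iff,
    allL_iff, beq_iff]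
  simp only [blt_iff, beq_iff]
  rfl

theorem hdok_iff {m : ℕ} {w : List Gn} : hdok m w = true ↔ ∃ g r, w = g :: r ∧ mk g = m ∧ ∀ h ∈ r, m < mk h := by
  cases w with
  | nil => simp [hdok]
  | cons g r =>
    change cond _ (allL _ r) false = true ↔ _
    rw [cond_false_eq_true, beq_iff, allL_iff]
    simp only [blt_iff]
    constructor
    · rintro ⟨h1, h2⟩
      exact ⟨g, r, rfl, h1, h2⟩
    · rintro ⟨g', r', h, h1, h2⟩
      cases h
      exact ⟨h1, h2⟩

section
variable {U : Type*} [Group U]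

/-- the codes describe the group `U` -/
structure Cod (γ : ℕ → U) : Prop extends Rel γ where
  surj : ∀ x : U, ∃ n < 4096, val γ n = x
  inj : ∀ m < 4096, ∀ n < 4096, val γ m = val γ n → m = n

variable {γ : ℕ → U}

theorem Cod.ap (h : Cod γ) (w : List Gn) {n : ℕ} (hn : n < 4096) : val γ (ap w n) = val γ n * wv γ w :=
  val_ap h.toRel w hn

theorem Cod.ap0 (h : Cod γ) (w : List Gn) : val γ (TF.ap w 0) = wv γ w := by
  rw [h.ap w (by norm_num), val_zero, one_mul]

theorem Cod.finite (h : Cod γ) : Finite U :=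
  Finite.of_surjective (fun n : Fin 4096 => val γ n) fun x => by
    obtain ⟨n, hn, hx⟩ := h.surj x
    exact ⟨⟨n, hn⟩, hx⟩

theorem Cod.inv (h : Cod γ) {w v : List Gn} (hi : invok w v = true) : wv γ v = (wv γ w)⁻¹ := by
  have h1 : TF.ap v (TF.ap w 0) = 0 := beq_iff.1 hi
  have h2 := h.ap v (ap_lt w (x := 0) (by norm_num))
  rw [h1, val_zero, h.ap0] at h2
  exact (inv_eq_of_mul_eq_one_right h2.symm).symm

variable (γ) in
/-- the subgroup generated by a polycyclic sequence -/
def W (P : List Ent) : Subgroup U := Subgroup.closure {x | ∃ e ∈ P, x = wv γ e.w}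

theorem mem_W {P : List Ent} {e : Ent} (he : e ∈ P) : wv γ e.w ∈ W γ P := Subgroup.subset_closure ⟨e, he, rfl⟩

theorem W_nil : W γ [] = ⊥ := by
  rw [W, Subgroup.closure_eq_bot_iff]
  rintro x ⟨e, he, -⟩
  simp at he

theorem W_le_cons (e : Ent) (P : List Ent) : W γ P ≤ W γ (e :: P) := by
  rw [W, Subgroup.closure_le]
  rintro x ⟨e', he', rfl⟩
  exact mem_W (List.mem_cons_of_mem _ he')

theorem sift_sound (h : Cod γ) (P : List Ent) {x : ℕ} (hx : x < 4096) :
    sift P x < 4096 ∧ ∃ b ∈ W γ P, val γ (sift P x) = val γ x * b := by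
  induction P generalizing x with
  | nil => exact ⟨hx, 1, Subgroup.one_mem _, by rw [sift_nil, mul_one]⟩
  | cons e P ih =>
    by_cases h0 : x &&& e.m = 0
    · rw [sift_cons0 P h0]
      obtain ⟨h1, b, hb, h2⟩ := ih hx
      exact ⟨h1, b, W_le_cons e P hb, h2⟩
    · rw [sift_cons1 P h0]
      obtain ⟨h1, b, hb, h2⟩ := ih (ap_lt e.w hx)
      refine ⟨h1, wv γ e.w * b, Subgroup.mul_mem _ (mem_W List.mem_cons_self) (W_le_cons e P hb), ?_⟩
      rw [h2, h.ap e.w hx, mul_assoc]

theorem mem_of_sift (h : Cod γ) {P : List Ent} {x : ℕ} (hx : x < 4096) (h0 : sift P x = 0) : val γ x ∈ W γ P := by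
  obtain ⟨-, b, hb, h2⟩ := sift_sound h P hx
  rw [h0, val_zero] at h2
  have : val γ x = b⁻¹ := eq_inv_of_mul_eq_one_left h2.symm
  rw [this]
  exact Subgroup.inv_mem _ hb

theorem wv_mem_of_sift (h : Cod γ) {P : List Ent} {w : List Gn} (h0 : sift P (TF.ap w 0) = 0) : wv γ w ∈ W γ P := by
  rw [← h.ap0]
  exact mem_of_sift h (ap_lt w (by norm_num)) h0

/-- the first element of a consistent sequence -/
structure Top (γ : ℕ → U) (e : Ent) (P : List Ent) : Prop where
  sq : wv γ e.w * wv γ e.w ∈ W γ P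
  conj : ∀ b ∈ W γ P, (wv γ e.w)⁻¹ * b * wv γ e.w ∈ W γ P

theorem top_of_valid (h : Cod γ) {e : Ent} {P : List Ent} (hv : valid (e :: P) = true) : Top γ e P := by
  obtain ⟨h1, h2, h3, h4, h5, h6⟩ := valid_cons.1 hv
  constructor
  · have := mem_of_sift h (ap_lt e.w (ap_lt e.w (x := 0) (by norm_num))) h4
    rwa [h.ap _ (ap_lt e.w (by norm_num)), h.ap0] at this
  · intro b hb
    have hgen : ∀ e' ∈ P, (wv γ e.w)⁻¹ * wv γ e'.w * wv γ e.w ∈ W γ P := by
      intro e' he'
      have := mem_of_sift h (ap_lt e.w (ap_lt e'.w (ap_lt e.v (x := 0) (by norm_num)))) (h5 e' he')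
      rwa [h.ap _ (ap_lt _ (ap_lt _ (by norm_num))), h.ap _ (ap_lt _ (by norm_num)), h.ap0, h.inv h2] at this
    rw [W] at hb
    induction hb using Subgroup.closure_induction with
    | mem x hx =>
      obtain ⟨e', he', rfl⟩ := hx
      exact hgen e' he'
    | one => simp
    | mul x y _ _ ix iy =>
      have := Subgroup.mul_mem _ ix iy
      rwa [show (wv γ e.w)⁻¹ * x * wv γ e.w * ((wv γ e.w)⁻¹ * y * wv γ e.w) = (wv γ e.w)⁻¹ * (x * y) * wv γ e.w by
        group] at this
    | inv x _ ix =>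
      have := Subgroup.inv_mem _ ix
      rwa [show ((wv γ e.w)⁻¹ * x * wv γ e.w)⁻¹ = (wv γ e.w)⁻¹ * x⁻¹ * wv γ e.w by group] at this

theorem W_cons_cases {e : Ent} {P : List Ent} (ht : Top γ e P) {x : U} (hx : x ∈ W γ (e :: P)) :
    x ∈ W γ P ∨ ∃ b ∈ W γ P, x = wv γ e.w * b := by
  have key : x ∈ W γ P ∨ (wv γ e.w)⁻¹ * x ∈ W γ P := by
    rw [W] at hx
    induction hx using Subgroup.closure_induction with
    | mem x hx =>
      obtain ⟨e', he', rfl⟩ := hx
      rcases List.mem_cons.1 he' with rfl | he'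
      · right; rw [inv_mul_cancel]; exact Subgroup.one_mem _
      · left; exact mem_W he'
    | one => left; exact Subgroup.one_mem _
    | mul x y _ _ ix iy =>
      set g := wv γ e.w
      rcases ix with ix | ix <;> rcases iy with iy | iy
      · left; exact Subgroup.mul_mem _ ix iy
      · right
        rw [show g⁻¹ * (x * y) = (g⁻¹ * x * g) * (g⁻¹ * y) by group]
        exact Subgroup.mul_mem _ (ht.conj x ix) iy
      · right
        rw [show g⁻¹ * (x * y) = (g⁻¹ * x) * y by group]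
        exact Subgroup.mul_mem _ ix iy
      · left
        rw [show x * y = (g * g) * (g⁻¹ * (g⁻¹ * x) * g) * (g⁻¹ * y) by group]
        exact Subgroup.mul_mem _ (Subgroup.mul_mem _ ht.sq (ht.conj _ ix)) iy
    | inv x _ ix =>
      set g := wv γ e.w
      rcases ix with ix | ix
      · left; exact Subgroup.inv_mem _ ix
      · right
        rw [show g⁻¹ * x⁻¹ = (g⁻¹ * (g⁻¹ * x)⁻¹ * g) * (g * g)⁻¹ by group]
        exact Subgroup.mul_mem _ (ht.conj _ (Subgroup.inv_mem _ ix)) (Subgroup.inv_mem _ ht.sq)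
  rcases key with h | h
  · exact Or.inl h
  · exact Or.inr ⟨_, h, by rw [mul_inv_cancel_left]⟩

/-- right multiplication by `u` does not change the low `k` bits -/
def LF (γ : ℕ → U) (k : ℕ) (u : U) : Prop :=
  ∀ x < 4096, ∀ y < 4096, val γ y = val γ x * u → y % 2 ^ k = x % 2 ^ k

theorem LF.mul (h : Cod γ) {k : ℕ} {u v : U} (hu : LF γ k u) (hv : LF γ k v) : LF γ k (u * v) := by
  intro x hx y hy hxy
  obtain ⟨z, hz, hzx⟩ := h.surj (val γ x * u)
  rw [← hu x hx z hz hzx]
  exact hv z hz y hy (by rw [hxy, hzx, mul_assoc])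

theorem LF.inv {k : ℕ} {u : U} (hu : LF γ k u) : LF γ k u⁻¹ := by
  intro x hx y hy hxy
  exact (hu y hy x hx (by rw [hxy, inv_mul_cancel_right])).symm

theorem LF.one (h : Cod γ) (k : ℕ) : LF γ k 1 := by
  intro x hx y hy hxy
  rw [mul_one] at hxy
  rw [h.inj y hy x hx hxy]

theorem lf_gen (h : Cod γ) {k : ℕ} {g : Gn} (hk : k ≤ gi g) : LF γ k (γ (gi g)) := by
  intro x hx y hy hxy
  have h1 : y = rm g x := h.inj y hy _ (rm_lt g x) (by rw [hxy, val_rm h.toRel g x hx])
  have h2 := rm_mod g hx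
  have h3 := congrArg (fun t => t % 2 ^ k) h2
  rw [Nat.mod_mod_of_dvd _ (Nat.pow_dvd_pow 2 (by omega)), Nat.xor_mod_two_pow,
    Nat.mod_mod_of_dvd _ (Nat.pow_dvd_pow 2 (by omega)), Nat.mod_eq_zero_of_dvd (Nat.pow_dvd_pow 2 hk), Nat.xor_zero]
    at h3
  rw [h1, h3]

theorem lf_word (h : Cod γ) {k : ℕ} {w : List Gn} (hw : ∀ g ∈ w, k ≤ gi g) : LF γ k (wv γ w) := by
  induction w with
  | nil => exact LF.one h k
  | cons g w ih =>
    rw [wv_cons]
    exact (lf_gen h (hw g List.mem_cons_self)).mul h (ih fun g hg => hw g (List.mem_cons_of_mem _ hg))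

theorem lf_W (h : Cod γ) {k : ℕ} {P : List Ent} (hP : ∀ e ∈ P, ∀ g ∈ e.w, k ≤ gi g) {b : U} (hb : b ∈ W γ P) :
    LF γ k b := by
  rw [W] at hb
  induction hb using Subgroup.closure_induction with
  | mem x hx =>
    obtain ⟨e, he, rfl⟩ := hx
    exact lf_word h (hP e he)
  | one => exact LF.one h k
  | mul x y _ _ ix iy => exact ix.mul h iy
  | inv x _ ix => exact ix.inv

theorem land_pow_eq_zero {x i : ℕ} : x &&& 2 ^ i = 0 ↔ x.testBit i = false := by
  constructor
  · intro h
    have h2 := congrArg (fun x => x.testBit i) h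
    simpa [Nat.testBit_and, Nat.testBit_two_pow_self] using h2
  · intro h
    apply Nat.eq_of_testBit_eq
    intro j
    rw [Nat.testBit_and, Nat.zero_testBit, Nat.testBit_two_pow]
    by_cases hj : i = j
    · subst hj; simp [h]
    · simp [hj]

theorem land_congr {x y i : ℕ} (h : y % 2 ^ (i + 1) = x % 2 ^ (i + 1)) : (y &&& 2 ^ i = 0 ↔ x &&& 2 ^ i = 0) := by
  rw [land_pow_eq_zero, land_pow_eq_zero]
  have h1 : (y % 2 ^ (i + 1)).testBit i = (x % 2 ^ (i + 1)).testBit i := by rw [h]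
  rw [Nat.testBit_mod_two_pow, Nat.testBit_mod_two_pow] at h1
  simp only [Nat.lt_succ_self, decide_true, Bool.true_and] at h1
  rw [h1]

theorem valid_masks {P : List Ent} (hv : valid P = true) : ∀ e ∈ P, ∀ g ∈ e.w, e.m ≤ mk g := by
  induction P with
  | nil => intro e he; simp at he
  | cons e P ih =>
    obtain ⟨h1, h2, h3, h4, h5, h6⟩ := valid_cons.1 hv
    intro e' he'
    rcases List.mem_cons.1 he' with rfl | he'
    · obtain ⟨g, r, hw, hg, hr⟩ := hdok_iff.1 h1
      intro h hh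
      rw [hw] at hh
      rcases List.mem_cons.1 hh with rfl | hh
      · exact hg.ge
      · exact (hr h hh).le
    · exact ih h6 e' he'

theorem lf_tail (h : Cod γ) {e : Ent} {P : List Ent} (hv : valid (e :: P) = true) {i : ℕ} (hi : e.m = 2 ^ i) {b : U}
    (hb : b ∈ W γ P) : LF γ (i + 1) b := by
  obtain ⟨h1, h2, h3, h4, h5, h6⟩ := valid_cons.1 hv
  refine lf_W h ?_ hb
  intro e' he' g hg
  have h7 := h3 e' he'
  have h8 := valid_masks h6 e' he' g hg
  have h9 : (2 : ℕ) ^ i < 2 ^ gi g := by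
    rw [← mk_eq, ← hi]
    omega
  exact (Nat.pow_lt_pow_iff_right (by norm_num)).1 h9

theorem toggle (h : Cod γ) {e : Ent} {i : ℕ} (hi : e.m = 2 ^ i) (hh : hdok e.m e.w = true) {x y : ℕ} (hx : x < 4096)
    (hy : y < 4096) (hxy : val γ y = val γ x * wv γ e.w) : (y &&& e.m = 0 ↔ ¬ x &&& e.m = 0) := by
  obtain ⟨g, r, hw, hg, hr⟩ := hdok_iff.1 hh
  have hgi : gi g = i := by
    have : (2 : ℕ) ^ gi g = 2 ^ i := by rw [← mk_eq, hg, hi]
    exact Nat.pow_right_injective (le_refl 2) this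
  rw [hw, wv_cons, ← mul_assoc, ← val_rm h.toRel g x hx] at hxy
  have h1 : LF γ (i + 1) (wv γ r) := lf_word h fun g' hg' => by
    have h9 : (2 : ℕ) ^ i < 2 ^ gi g' := by
      rw [← mk_eq, ← hi]
      exact hr g' hg'
    exact (Nat.pow_lt_pow_iff_right (by norm_num)).1 h9
  have h2 := h1 _ (rm_lt g x) y hy hxy
  have h3 := rm_mod g hx
  rw [hgi] at h3
  rw [hi, land_congr h2, land_pow_eq_zero, land_pow_eq_zero]
  have h4 : (rm g x % 2 ^ (i + 1)).testBit i = ((x % 2 ^ (i + 1)) ^^^ 2 ^ i).testBit i := by rw [h3]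
  rw [Nat.testBit_mod_two_pow, Nat.testBit_xor, Nat.testBit_mod_two_pow, Nat.testBit_two_pow_self] at h4
  simp only [Nat.lt_succ_self, decide_true, Bool.true_and] at h4
  rw [h4]
  cases x.testBit i <;> simp

/-- **canonical residues** -/
theorem canon (h : Cod γ) {P : List Ent} (hv : valid P = true) {x y : ℕ} (hx : x < 4096) (hy : y < 4096) {b : U}
    (hb : b ∈ W γ P) (hxy : val γ y = val γ x * b) : sift P x = sift P y := by
  induction P generalizing x y b with
  | nil =>
    rw [W_nil, Subgroup.mem_bot] at hb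
    rw [hb, mul_one] at hxy
    rw [h.inj y hy x hx hxy]
  | cons e P ih =>
    have ht := top_of_valid h hv
    obtain ⟨h1, h2, h3, h4, h5, h6⟩ := valid_cons.1 hv
    obtain ⟨i, hi⟩ : ∃ i, e.m = 2 ^ i := by
      obtain ⟨g, r, hw, hg, hr⟩ := hdok_iff.1 h1
      exact ⟨gi g, by rw [← hg, mk_eq]⟩
    have hax := ap_lt e.w hx
    have hay := ap_lt e.w hy
    have vx := h.ap e.w hx
    have vy := h.ap e.w hy
    rcases W_cons_cases ht hb with hb | ⟨c, hc, rfl⟩
    · have h7 : y &&& e.m = 0 ↔ x &&& e.m = 0 := by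
        rw [hi]
        exact land_congr (lf_tail h hv hi hb x hx y hy hxy)
      by_cases h0 : x &&& e.m = 0
      · rw [sift_cons0 P h0, sift_cons0 P (h7.2 h0)]
        exact ih h6 hx hy hb hxy
      · rw [sift_cons1 P h0, sift_cons1 P (fun h => h0 (h7.1 h))]
        refine ih h6 hax hay (ht.conj b hb) ?_
        rw [vx, vy, hxy]
        group
    · obtain ⟨z, hz, hzx⟩ := h.surj (val γ x * wv γ e.w)
      have h7 := toggle h hi h1 hx hz hzx
      have h8 : y &&& e.m = 0 ↔ z &&& e.m = 0 := by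
        rw [hi]
        exact land_congr (lf_tail h hv hi hc z hz y hy (by rw [hxy, hzx, mul_assoc]))
      by_cases h0 : x &&& e.m = 0
      · have h9 : ¬ y &&& e.m = 0 := fun h => (h7.1 (h8.1 h)) h0
        rw [sift_cons0 P h0, sift_cons1 P h9]
        refine ih h6 hx hay (Subgroup.mul_mem _ ht.sq (ht.conj c hc)) ?_
        rw [vy, hxy]
        group
      · have h9 : y &&& e.m = 0 := h8.2 (h7.2 h0)
        rw [sift_cons1 P h0, sift_cons0 P h9]
        refine ih h6 hax hy hc ?_
        rw [vx, hxy, mul_assoc]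

theorem sift_zero (P : List Ent) : sift P 0 = 0 := by
  induction P with
  | nil => rfl
  | cons e P ih => rw [sift_cons0 P (Nat.zero_and _), ih]

theorem mem_iff (h : Cod γ) {P : List Ent} (hv : valid P = true) {x : ℕ} (hx : x < 4096) :
    val γ x ∈ W γ P ↔ sift P x = 0 := by
  refine ⟨fun hm => ?_, mem_of_sift h hx⟩
  rw [← canon h hv (x := 0) (by norm_num) hx hm (by rw [val_zero, one_mul]), sift_zero]

theorem wv_mem_iff (h : Cod γ) {P : List Ent} (hv : valid P = true) {w : List Gn} :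
    wv γ w ∈ W γ P ↔ sift P (TF.ap w 0) = 0 := by
  rw [← h.ap0]
  exact mem_iff h hv (ap_lt w (by norm_num))

theorem coset_iff (h : Cod γ) {P : List Ent} (hv : valid P = true) {x y : ℕ} (hx : x < 4096) (hy : y < 4096) :
    (val γ x)⁻¹ * val γ y ∈ W γ P ↔ sift P x = sift P y := by
  constructor
  · intro hm
    exact canon h hv hx hy hm (by group)
  · intro he
    obtain ⟨-, b, hb, h1⟩ := sift_sound h P hx
    obtain ⟨-, c, hc, h2⟩ := sift_sound h P hy
    rw [he, h2] at h1
    have : (val γ x)⁻¹ * val γ y = b * c⁻¹ := by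
      rw [inv_mul_eq_iff_eq_mul, ← mul_assoc, ← h1, mul_inv_cancel_right]
    rw [this]
    exact Subgroup.mul_mem _ hb (Subgroup.inv_mem _ hc)

end

end Cfsg.Agent.H782.TF
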