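import Cfsg.Agent.H782.TF.NodeDef
import Cfsg.Agent.H782.TF.Sift
import Cfsg.Agent.H782.TF.Grp

/-!
# S5262, q = 2: the certificates are sound (helper782)
-/

set_option autoImplicit false

namespace Cfsg.Agent.H782.TF

open Cfsg Cfsg.FusionSystem Cfsg.Agent.H756.PU

universe u

variable {U : Type u} [Group U] {γ : ℕ → U}

variable (γ) in
/-- the subgroup generated by the elements of `B` -/
def WB (B : List Gv) : Subgroup U := Subgroup.closure {x | ∃ b ∈ B, x = wv γ b.w}

theorem mem_WB {B : List Gv} {b : Gv} (hb : b ∈ B) : wv γ b.w ∈ WB γ B := Subgroup.subset_closure ⟨b, hb, rfl⟩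

/-! ### generators -/

theorem nthW_mem (l : List (List Gn)) (n : ℕ) : nthW l n ∈ l ∨ nthW l n = [] := by
  induction l generalizing n with
  | nil => exact Or.inr rfl
  | cons a l ih =>
    cases n with
    | zero => exact Or.inl List.mem_cons_self
    | succ n =>
      rcases ih n with h | h
      · exact Or.inl (List.mem_cons_of_mem _ h)
      · exact Or.inr h

theorem nthW_in {H : Subgroup U} {env : List (List Gn)} (hE : ∀ w ∈ env, wv γ w ∈ H) (n : ℕ) : wv γ (nthW env n) ∈ H := by
  rcases nthW_mem env n with h | h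
  · exact hE _ h
  · rw [h, wv_nil]; exact H.one_mem

theorem catap_sound (h : Cod γ) {H : Subgroup U} {env : List (List Gn)} (hE : ∀ w ∈ env, wv γ w ∈ H) (l : List ℕ)
    {x : ℕ} (hx : x < 4096) : ∃ b ∈ H, val γ (catap env l x) = val γ x * b := by
  induction l generalizing x with
  | nil => exact ⟨1, H.one_mem, by rw [mul_one]; rfl⟩
  | cons i l ih =>
    obtain ⟨b, hb, h1⟩ := ih (ap_lt (nthW env i) hx)
    refine ⟨wv γ (nthW env i) * b, H.mul_mem (nthW_in hE i) hb, ?_⟩
    rw [show catap env (i :: l) x = catap env l (ap (nthW env i) x) from rfl, h1, h.ap _ hx, mul_assoc]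

theorem derok_sound (h : Cod γ) {H : Subgroup U} (D : List Dv) {k : List (List Gn) → Bool} {env : List (List Gn)}
    (hE : ∀ w ∈ env, wv γ w ∈ H) (hd : derok D k env = true) : ∃ env' : List (List Gn), (∀ w ∈ env', wv γ w ∈ H) ∧ k env' = true := by
  induction D generalizing env with
  | nil => exact ⟨env, hE, hd⟩
  | cons d D ih =>
    change cond _ (derok D k (d.w :: env)) false = true at hd
    rw [cond_false_eq_true, beq_iff] at hd
    refine ih ?_ hd.2
    intro w hw
    rcases List.mem_cons.1 hw with rfl | hw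
    · obtain ⟨b, hb, h1⟩ := catap_sound h hE d.l1 (x := 0) (by norm_num)
      obtain ⟨c, hc, h2⟩ := catap_sound h hE d.l2 (ap_lt d.w (x := 0) (by norm_num))
      rw [hd.1, h2, h.ap0, val_zero, one_mul] at h1
      rw [show wv γ d.w = b * c⁻¹ by rw [← h1, mul_inv_cancel_right]]
      exact H.mul_mem hb (H.inv_mem hc)
    · exact hE w hw

theorem matchok_sound (h : Cod γ) {H : Subgroup U} {env : List (List Gn)} (hE : ∀ w ∈ env, wv γ w ∈ H) (P : List Ent)
    (I : List ℕ) (hm : matchok env P I = true) : ∀ e ∈ P, wv γ e.w ∈ H := by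
  induction P generalizing I with
  | nil => intro e he; simp at he
  | cons e P ih =>
    cases I with
    | nil => exact absurd hm (by simp [matchok])
    | cons i I =>
      change cond _ (matchok env P I) false = true at hm
      rw [cond_false_eq_true, beq_iff] at hm
      intro e' he'
      rcases List.mem_cons.1 he' with rfl | he'
      · rw [← h.ap0, hm.1, h.ap0]
        exact nthW_in hE i
      · exact ih I hm.2 e' he'

theorem mem_wds {B : List Gv} {w : List Gn} (hw : w ∈ wds B) : ∃ b ∈ B, w = b.w := by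
  induction B with
  | nil => simp [wds] at hw
  | cons b B ih =>
    change w ∈ b.w :: wds B at hw
    rcases List.mem_cons.1 hw with rfl | hw
    · exact ⟨b, List.mem_cons_self, rfl⟩
    · obtain ⟨b', hb', h⟩ := ih hw
      exact ⟨b', List.mem_cons_of_mem _ hb', h⟩

theorem genchk_iff {B : List Gv} {D : List Dv} {P : List Ent} {I : List ℕ} : genchk B D P I = true ↔
    (∀ b ∈ B, invok b.w b.v = true) ∧ valid P = true ∧ (∀ b ∈ B, sift P (ap b.w 0) = 0) ∧
      derok D (fun env => matchok env P I) (wds B) = true := by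
  change cond _ (cond _ (cond _ _ false) false) false = true ↔ _
  rw [cond_false_eq_true, cond_false_eq_true, cond_false_eq_true, allL_iff, allL_iff]
  simp only [beq_iff]

theorem gen_sound (h : Cod γ) {B : List Gv} {D : List Dv} {P : List Ent} {I : List ℕ} (hc : genchk B D P I = true) :
    WB γ B = W γ P := by
  obtain ⟨h1, h2, h3, h4⟩ := genchk_iff.1 hc
  apply le_antisymm
  · rw [WB, Subgroup.closure_le]
    rintro x ⟨b, hb, rfl⟩
    exact wv_mem_of_sift h (h3 b hb)
  · rw [W, Subgroup.closure_le]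
    rintro x ⟨e, he, rfl⟩
    obtain ⟨env, hE, hm⟩ := derok_sound h D (H := WB γ B) (env := wds B) (fun w hw => by
      obtain ⟨b, hb, rfl⟩ := mem_wds hw
      exact mem_WB hb) h4
    exact matchok_sound h hE P I hm e he

/-! ### children -/

theorem aps_val (h : Cod γ) (ws : List (List Gn)) {x : ℕ} (hx : x < 4096) :
    aps ws x < 4096 ∧ val γ (aps ws x) = val γ x * (ws.map (wv γ)).prod := by
  induction ws generalizing x with
  | nil => exact ⟨hx, by simp [aps]⟩
  | cons w ws ih =>
    have h1 := ih (ap_lt w hx)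
    refine ⟨h1.1, ?_⟩
    rw [show aps (w :: ws) x = aps ws (ap w x) from rfl, h1.2, h.ap w hx, List.map_cons, List.prod_cons, mul_assoc]

theorem tst_sound (h : Cod γ) {c : Ch} (hi : invok c.gi c.g = true) {ws : List (List Gn)} (ht : tst c ws = true) :
    (ws.map (wv γ)).prod ∈ (W γ c.P).map (MulAut.conj (wv γ c.g)).toMonoidHom := by
  have h0 : sift c.P (ap c.g (aps ws (ap c.gi 0))) = 0 := beq_iff.1 ht
  have h1 := aps_val h ws (ap_lt c.gi (x := 0) (by norm_num))
  have h2 := mem_of_sift h (ap_lt c.g h1.1) h0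
  rw [h.ap _ h1.1, h1.2, h.ap0] at h2
  refine ⟨_, h2, ?_⟩
  change wv γ c.g * (wv γ c.gi * (ws.map (wv γ)).prod * wv γ c.g) * (wv γ c.g)⁻¹ = _
  rw [h.inv hi]
  group

/-- the number with given bits -/
def enc : List Bool → ℕ
  | [] => 0
  | a :: l => (if a then 1 else 0) + 2 * enc l

theorem enc_land (a : Bool) (l : List Bool) : (enc (a :: l)) &&& 1 = if a then 1 else 0 := by
  rw [Nat.and_one_is_mod, enc]
  cases a <;> simp

theorem enc_div (a : Bool) (l : List Bool) : enc (a :: l) / 2 = enc l := by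
  rw [enc]
  cases a
  · simp
  · simp
    omega

theorem enc_shift (a : Bool) (l : List Bool) (p : ℕ) : enc (a :: l) >>> (p + 1) = enc l >>> p := by
  rw [add_comm, Nat.shiftRight_add, Nat.shiftRight_one, enc_div]

theorem chLoop_sound {c : Ch} {q : Gv} (f : Gv → Bool) : ∀ (B : List Gv), chLoop c q B (enc (B.map f)) = true →
    ∀ a ∈ B, (f a = false → tst c [a.w] = true ∧ tst c [q.w, a.w, q.v] = true) ∧
      (f a = true → tst c [a.w, q.v] = true ∧ tst c [q.w, a.w] = true)
  | [], _ => fun a ha => by simp at ha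
  | a :: B, hc => by
    change cond (Nat.beq (enc (f a :: B.map f) &&& 1) 0)
      (cond (tst c [a.w]) (cond (tst c [q.w, a.w, q.v]) (chLoop c q B (enc (f a :: B.map f) / 2)) false) false)
      (cond (tst c [a.w, q.v]) (cond (tst c [q.w, a.w]) (chLoop c q B (enc (f a :: B.map f) / 2)) false) false) = true
      at hc
    rw [enc_land, enc_div] at hc
    intro a' ha'
    cases hf : f a with
    | false =>
      rw [hf] at hc
      change cond (tst c [a.w]) (cond (tst c [q.w, a.w, q.v]) (chLoop c q B (enc (B.map f))) false) false = true at hc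
      rw [cond_false_eq_true, cond_false_eq_true] at hc
      rcases List.mem_cons.1 ha' with rfl | ha'
      · exact ⟨fun _ => ⟨hc.1, hc.2.1⟩, fun h => by rw [hf] at h; exact absurd h (by simp)⟩
      · exact chLoop_sound f B hc.2.2 a' ha'
    | true =>
      rw [hf] at hc
      change cond (tst c [a.w, q.v]) (cond (tst c [q.w, a.w]) (chLoop c q B (enc (B.map f))) false) false = true at hc
      rw [cond_false_eq_true, cond_false_eq_true] at hc
      rcases List.mem_cons.1 ha' with rfl | ha'
      · exact ⟨fun h => by rw [hf] at h; exact absurd h (by simp), fun _ => ⟨hc.1, hc.2.1⟩⟩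
      · exact chLoop_sound f B hc.2.2 a' ha'

theorem pivot_sound (f : Gv → Bool) : ∀ (B : List Gv) (p : ℕ), (enc (B.map f) >>> p) &&& 1 = 1 →
    nthG B p ∈ B ∧ f (nthG B p) = true
  | [], p, h => by
    rw [List.map_nil, enc, Nat.zero_shiftRight] at h
    simp at h
  | a :: B, 0, h => by
    rw [List.map_cons, Nat.shiftRight_zero, enc_land] at h
    have : f a = true := by
      cases hf : f a with
      | false => rw [hf] at h; simp at h
      | true => rfl
    exact ⟨List.mem_cons_self, this⟩
  | a :: B, p + 1, h => by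
    rw [List.map_cons, enc_shift] at h
    have := pivot_sound f B p h
    exact ⟨List.mem_cons_of_mem _ this.1, this.2⟩

theorem chAll_sound {B : List Gv} {r : ℕ} : ∀ (C : List Ch) (b0 : ℕ), chAll B r C b0 = true →
    ∀ b, b0 ≤ b → b < 2 ^ r → ∃ c ∈ C, chOne B b c = true
  | [], b0, h, b, h1, h2 => by
    have : b0 = 2 ^ r := beq_iff.1 h
    omega
  | c :: C, b0, h, b, h1, h2 => by
    change cond (chOne B b0 c) (chAll B r C (b0 + 1)) false = true at h
    rw [cond_false_eq_true] at h
    rcases Nat.eq_or_lt_of_le h1 with rfl | h3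
    · exact ⟨c, List.mem_cons_self, h.1⟩
    · obtain ⟨c', hc', h4⟩ := chAll_sound C (b0 + 1) h.2 b h3 h2
      exact ⟨c', List.mem_cons_of_mem _ hc', h4⟩

theorem fixok_sound {Z : List Ent} (f : Gv → Bool) : ∀ (B : List Gv) (r : ℕ), fixok Z B r = true →
    (∀ a ∈ B, sift Z (ap a.w 0) = 0 → f a = false) → enc (B.map f) < 2 ^ r
  | [], r, _, _ => by
    rw [List.map_nil, enc]; positivity
  | a :: B, 0, h, hf => by
    change cond _ (fixok Z B 0) false = true at h
    rw [cond_false_eq_true, beq_iff] at h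
    have h1 := hf a List.mem_cons_self h.1
    have h2 := fixok_sound f B 0 h.2 fun a ha => hf a (List.mem_cons_of_mem _ ha)
    rw [List.map_cons, enc, h1]
    simp only [pow_zero, Nat.lt_one_iff] at h2 ⊢
    rw [h2]
    simp
  | a :: B, r + 1, h, hf => by
    have h2 := fixok_sound f B r h fun a ha => hf a (List.mem_cons_of_mem _ ha)
    rw [List.map_cons, enc, pow_succ]
    split_ifs <;> omega

/-- no essential subgroup containing `W(Z)` lies in `W(P)`, up to `Goal` -/
def Bad (Goal : Subgroup U → Prop) (γ : ℕ → U) (Z P : List Ent) : Prop :=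
  ∀ (E : Subgroup U) (Γ : Subgroup (MulAut E)), Ess (⊤ : Subgroup U) E 2 Γ → E ≤ W γ P → W γ Z ≤ E → Goal E

/-- `W(P)` is not essential -/
def Killed (γ : ℕ → U) (P : List Ent) : Prop := ∀ Γ : Subgroup (MulAut (W γ P)), ¬ Ess (⊤ : Subgroup U) (W γ P) 2 Γ

theorem pgr {E : Subgroup U} {Γ : Subgroup (MulAut E)} (he : Ess (⊤ : Subgroup U) E 2 Γ) :
    IsPGroup 2 U := by
  intro x
  obtain ⟨k, hk⟩ := he.pgr ⟨x, Subgroup.mem_top x⟩
  exact ⟨k, congrArg Subtype.val hk⟩

/-- **the node theorem** -/
theorem bad_node {Goal : Subgroup U → Prop} (hGoal : ∀ (E : Subgroup U) (g : U), Goal (E.map (MulAut.conj g).toMonoidHom) → Goal E)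
    (h : Cod γ) {Z : List Ent} (hZ : (W γ Z).Normal) {B : List Gv} {D : List Dv} {P : List Ent} {I : List ℕ}
    (hg : genchk B D P I = true) {r : ℕ} {C : List Ch} (hC : chAll B r C 1 = true) (hf : fixok Z B r = true)
    (hk : Killed γ P ∨ Goal (W γ P)) (hc : ∀ c ∈ C, Bad Goal γ Z c.P) : Bad Goal γ Z P := by
  classical
  intro E Γ he hEP hZE
  have := h.finite
  have hWB := gen_sound h hg
  obtain ⟨hinv, hval, hsift, -⟩ := genchk_iff.1 hg
  by_cases hEq : E = W γ P
  · subst hEq
    rcases hk with hk | hk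
    · exact absurd he (hk Γ)
    · exact hk
  obtain ⟨K, hEK, hKH, hKne, hpar⟩ := exists_parity (pgr he) hEP hEq
  let f : Gv → Bool := fun a => decide (wv γ a.w ∉ K)
  have hfix : ∀ a ∈ B, sift Z (ap a.w 0) = 0 → f a = false := by
    intro a _ h0
    have : wv γ a.w ∈ K := hEK (hZE (wv_mem_of_sift h h0))
    simp [f, this]
  have hlt := fixok_sound f B r hf hfix
  have hge : 1 ≤ enc (B.map f) := by
    by_contra hlt1
    have h0 : enc (B.map f) = 0 := by omega
    have hall : ∀ (l : List Bool), enc l = 0 → ∀ b ∈ l, b = false := by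
      intro l
      induction l with
      | nil => intro _ b hb; simp at hb
      | cons a l ih =>
        intro hl b hb
        rw [enc] at hl
        rcases List.mem_cons.1 hb with rfl | hb
        · cases b with
          | false => rfl
          | true => simp at hl
        · exact ih (by omega) b hb
    apply hKne
    refine le_antisymm hKH ?_
    rw [← hWB, WB, Subgroup.closure_le]
    rintro x ⟨b, hb, rfl⟩
    have := hall _ h0 (f b) (List.mem_map_of_mem hb)
    simpa [f] using this
  obtain ⟨c, hcC, hc1⟩ := chAll_sound C 1 hC _ hge hlt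
  change cond _ (cond _ _ false) false = true at hc1
  rw [cond_false_eq_true, cond_false_eq_true, beq_iff] at hc1
  obtain ⟨hci, hcp, hcl⟩ := hc1
  obtain ⟨hq1, hq2⟩ := pivot_sound f B c.p hcp
  have hloop := chLoop_sound f B hcl
  set q := nthG B c.p with hq
  have hqv : wv γ q.v = (wv γ q.w)⁻¹ := h.inv (hinv q hq1)
  have hKC : K ≤ (W γ c.P).map (MulAut.conj (wv γ c.g)).toMonoidHom := by
    refine schreier (p := wv γ q.w) hWB.symm hKH hpar ?_
    rintro t ⟨a, ha, rfl⟩
    constructor
    · intro ht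
      have h1 := (hloop a ha).1 (by simp [f, ht])
      have h2 := tst_sound h hci h1.1
      have h3 := tst_sound h hci h1.2
      simp only [List.map_cons, List.map_nil, List.prod_cons, List.prod_nil, mul_one] at h2 h3
      rw [hqv, ← mul_assoc] at h3
      exact ⟨h2, h3⟩
    · intro ht
      have h1 := (hloop a ha).2 (by simp [f, ht])
      have h2 := tst_sound h hci h1.1
      have h3 := tst_sound h hci h1.2
      simp only [List.map_cons, List.map_nil, List.prod_cons, List.prod_nil, mul_one] at h2 h3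
      rw [hqv] at h2
      exact ⟨h2, h3⟩
  have he' := ess_conj he (Subgroup.mem_top (wv γ c.g)⁻¹)
  refine hGoal E (wv γ c.g)⁻¹ (hc c hcC _ _ he' ?_ ?_)
  · rintro _ ⟨x, hx, rfl⟩
    obtain ⟨y, hy, hyx⟩ := hKC (hEK hx)
    have h1 : wv γ c.g * y * (wv γ c.g)⁻¹ = x := hyx
    change (wv γ c.g)⁻¹ * x * (wv γ c.g)⁻¹⁻¹ ∈ _
    rw [← h1]
    rw [show (wv γ c.g)⁻¹ * (wv γ c.g * y * (wv γ c.g)⁻¹) * (wv γ c.g)⁻¹⁻¹ = y by group]
    exact hy
  · intro x hx
    refine ⟨wv γ c.g * x * (wv γ c.g)⁻¹, hZE (hZ.conj_mem x hx _), ?_⟩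
    change (wv γ c.g)⁻¹ * (wv γ c.g * x * (wv γ c.g)⁻¹) * (wv γ c.g)⁻¹⁻¹ = x
    group

/-- a noncentric leaf -/
theorem bad_cent {Goal : Subgroup U → Prop} (h : Cod γ) {Z : List Ent} {B : List Gv} {D : List Dv} {P : List Ent}
    {I : List ℕ} (hg : genchk B D P I = true) {z : List Gn} (hz : centchk B P z = true) : Bad Goal γ Z P := by
  intro E Γ he hEP _
  have hWB := gen_sound h hg
  obtain ⟨-, hval, -, -⟩ := genchk_iff.1 hg
  change cond (Nat.beq (sift P (ap z 0)) 0) false (allL _ B) = true at hz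
  cases h0 : Nat.beq (sift P (ap z 0)) 0 with
  | true => rw [h0] at hz; exact absurd hz (by simp)
  | false =>
    rw [h0] at hz
    change allL _ B = true at hz
    rw [allL_iff] at hz
    simp only [beq_iff] at hz
    exfalso
    rw [beq_false_iff] at h0
    apply h0
    rw [← wv_mem_iff h hval]
    apply hEP
    refine he.cent _ (Subgroup.mem_top _) fun e heE => ?_
    have h1 := hEP heE
    rw [← hWB] at h1
    have h2 : WB γ B ≤ Subgroup.centralizer {wv γ z} := by
      rw [WB, Subgroup.closure_le]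
      rintro x ⟨b, hb, rfl⟩
      rw [SetLike.mem_coe, Subgroup.mem_centralizer_singleton_iff]
      have h2 := congrArg (val γ) (hz b hb)
      rw [h.ap _ (ap_lt _ (by norm_num)), h.ap _ (ap_lt _ (by norm_num)), h.ap0, h.ap0] at h2
      exact h2.symm
    exact (Subgroup.mem_centralizer_singleton_iff.1 (h2 h1)).symm

/-! ### the bound -/

theorem len_eq {α : Type} (l : List α) : len l = l.length := by
  induction l with
  | nil => rfl
  | cons a l ih => exact congrArg Nat.succ ih

theorem card_W (h : Cod γ) {P : List Ent} (hv : valid P = true) : Nat.card (W γ P) ≤ 2 ^ P.length := by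
  have := h.finite
  induction P with
  | nil => rw [W_nil]; simp
  | cons e P ih =>
    have ht := top_of_valid h hv
    obtain ⟨-, -, -, -, -, h6⟩ := valid_cons.1 hv
    let f : (W γ P) × Bool → W γ (e :: P) := fun z =>
      ⟨(if z.2 then wv γ e.w else 1) * z.1, Subgroup.mul_mem _
        (by split_ifs; exacts [mem_W List.mem_cons_self, Subgroup.one_mem _]) (W_le_cons e P z.1.2)⟩
    have hf : Function.Surjective f := by
      rintro ⟨x, hx⟩
      rcases W_cons_cases ht hx with h1 | ⟨b, hb, rfl⟩
      · exact ⟨(⟨x, h1⟩, false), Subtype.ext (by simp [f])⟩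
      · exact ⟨(⟨b, hb⟩, true), Subtype.ext (by simp [f])⟩
    have h1 := Nat.card_le_card_of_surjective f hf
    rw [Nat.card_prod, Nat.card_eq_fintype_card (α := Bool), Fintype.card_bool] at h1
    rw [List.length_cons, pow_succ]
    exact h1.trans (Nat.mul_le_mul_right 2 (ih h6))

theorem relIndex_mul_card {H K : Subgroup U} (hle : H ≤ K) : H.relIndex K * Nat.card H = Nat.card K := by
  rw [← Subgroup.relIndex_bot_left, ← Subgroup.relIndex_bot_left (H := K), mul_comm]
  exact Subgroup.relIndex_mul_relIndex _ _ _ bot_le hle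

/-- the subgroup of the elements whose multiplication does not change the low bits -/
def LFs (h : Cod γ) (k : ℕ) : Subgroup U where
  carrier := {u | LF γ k u}
  one_mem' := LF.one h k
  mul_mem' := fun ha hb => LF.mul h ha hb
  inv_mem' := fun ha => LF.inv ha

theorem incr_cons {e : Ent} {N : List Ent} : incr (e :: N) = true ↔ (∀ e' ∈ N, e.m < e'.m) ∧ incr N = true := by
  change cond (allL _ N) (incr N) false = true ↔ _
  rw [cond_false_eq_true, allL_iff]
  simp only [blt_iff]

theorem two_pow_le (h : Cod γ) {L : Subgroup U} (N : List Ent) (hi : incr N = true)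
    (hN : ∀ e ∈ N, hdok e.m e.w = true ∧ wv γ e.w ∈ L) (k : ℕ) (hk : ∀ e ∈ N, 2 ^ k ≤ e.m) :
    2 ^ N.length ≤ Nat.card (L ⊓ LFs h k : Subgroup U) := by
  have := h.finite
  induction N generalizing k with
  | nil => rw [List.length_nil, pow_zero]; exact Nat.card_pos
  | cons e N ih =>
    obtain ⟨h1, h2⟩ := incr_cons.1 hi
    obtain ⟨g, r, hw, hg, hr⟩ := hdok_iff.1 (hN e List.mem_cons_self).1
    have hm : e.m = 2 ^ gi g := by rw [← hg, mk_eq]
    have hki : k ≤ gi g := by
      have := hk e List.mem_cons_self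
      rw [hm] at this
      exact (Nat.pow_le_pow_iff_right (by norm_num)).1 this
    have hstep := ih h2 (fun e he => hN e (List.mem_cons_of_mem _ he)) (gi g + 1) (by
      intro e' he'
      have h3 := h1 e' he'
      obtain ⟨g', r', hw', hg', hr'⟩ := hdok_iff.1 (hN e' (List.mem_cons_of_mem _ he')).1
      rw [hm, ← hg', mk_eq] at h3
      rw [← hg', mk_eq]
      exact Nat.pow_le_pow_right (by norm_num) ((Nat.pow_lt_pow_iff_right (by norm_num)).1 h3))
    set A1 : Subgroup U := L ⊓ LFs h (gi g + 1)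
    set A0 : Subgroup U := L ⊓ LFs h k
    have hle : A1 ≤ A0 := by
      refine inf_le_inf_left L ?_
      intro u hu x hx y hy hxy
      have := congrArg (· % 2 ^ k) (hu x hx y hy hxy)
      simpa [Nat.mod_mod_of_dvd _ (Nat.pow_dvd_pow 2 (show k ≤ gi g + 1 by omega))] using this
    have hmem : wv γ e.w ∈ A0 := by
      refine ⟨(hN e List.mem_cons_self).2, ?_⟩
      refine lf_word h ?_
      rw [hw]
      intro g' hg'
      rcases List.mem_cons.1 hg' with rfl | hg'
      · exact hki
      · have h3 := hr g' hg'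
        rw [hm, mk_eq] at h3
        exact hki.trans ((Nat.pow_lt_pow_iff_right (by norm_num)).1 h3).le
    have hnot : wv γ e.w ∉ A1 := by
      rintro ⟨-, h3⟩
      have h4 := h3 0 (by norm_num) (ap e.w 0) (ap_lt _ (by norm_num)) (by rw [h.ap0, val_zero, one_mul])
      have h5 := (toggle h hm (hN e List.mem_cons_self).1 (x := 0) (by norm_num) (ap_lt e.w (x := 0) (by norm_num))
        (by rw [h.ap0, val_zero, one_mul]))
      rw [hm] at h5
      have h6 := land_congr (x := 0) h4
      rw [Nat.zero_and] at h6 h5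
      exact (h5.1 (h6.2 rfl)) rfl
    have h7 := relIndex_mul_card hle
    have h8 : 2 ≤ A1.relIndex A0 := by
      have h9 : A1.relIndex A0 ≠ 0 := by
        intro h0
        rw [h0, zero_mul] at h7
        exact absurd h7.symm (Nat.card_pos (α := A0)).ne'
      have h10 : A1.relIndex A0 ≠ 1 := by
        intro h1'
        exact hnot (Subgroup.relIndex_eq_one.1 h1' hmem)
      omega
    rw [List.length_cons, pow_succ, mul_comm]
    calc 2 * 2 ^ N.length ≤ A1.relIndex A0 * Nat.card A1 := Nat.mul_le_mul h8 hstep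
      _ = Nat.card A0 := h7

theorem mem_normalizer_of_maps [Finite U] {M : Subgroup U} {g : U} (hm : ∀ x ∈ M, g * x * g⁻¹ ∈ M) :
    g ∈ Subgroup.normalizer (M : Set U) := by
  rw [Subgroup.mem_normalizer_iff]
  intro x
  refine ⟨hm x, fun hx => ?_⟩
  have hinj : Function.Injective (fun e : M => (⟨g * e * g⁻¹, hm e e.2⟩ : M)) := by
    intro e f hef
    have := congrArg Subtype.val hef
    exact Subtype.ext (mul_left_cancel (mul_right_cancel this))
  obtain ⟨e, he⟩ := (Finite.injective_iff_surjective.1 hinj) ⟨_, hx⟩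
  have h1 : g * e * g⁻¹ = g * x * g⁻¹ := congrArg Subtype.val he
  rw [← mul_left_cancel (mul_right_cancel h1)]
  exact e.2

theorem killed_bnd (hb : StBound'.{u}) (h : Cod γ) {B : List Gv} {D : List Dv} {P : List Ent} {I : List ℕ}
    (hg : genchk B D P I = true) {N : List Ent} (hc : bndchk B P N = true) : Killed γ P := by
  intro Γ he
  have := h.finite
  have hWB := gen_sound h hg
  obtain ⟨hinv, hval, -, -⟩ := genchk_iff.1 hg
  change cond (incr N) (cond (allL _ N) (Nat.blt (len B + 2 * len P) (2 * len N)) false) false = true at hc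
  rw [cond_false_eq_true, cond_false_eq_true, allL_iff, blt_iff, len_eq, len_eq, len_eq] at hc
  obtain ⟨h1, h2, h3⟩ := hc
  simp only [cond_false_eq_true, allL_iff, beq_iff] at h2
  have hmaps : ∀ e ∈ N, ∀ x ∈ W γ P, wv γ e.w * x * (wv γ e.w)⁻¹ ∈ W γ P := by
    intro e heN x hx
    obtain ⟨-, h5, h6⟩ := h2 e heN
    rw [← hWB, WB] at hx
    induction hx using Subgroup.closure_induction with
    | mem x hx =>
      obtain ⟨b, hb, rfl⟩ := hx
      have h7 := mem_of_sift h (ap_lt _ (ap_lt _ (ap_lt _ (by norm_num)))) (h6 b hb)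
      rwa [h.ap _ (ap_lt _ (ap_lt _ (by norm_num))), h.ap _ (ap_lt _ (by norm_num)), h.ap0, h.inv h5] at h7
    | one => simp
    | mul x y _ _ ix iy =>
      have := Subgroup.mul_mem _ ix iy
      rwa [show wv γ e.w * x * (wv γ e.w)⁻¹ * (wv γ e.w * y * (wv γ e.w)⁻¹) = wv γ e.w * (x * y) * (wv γ e.w)⁻¹ by
        group] at this
    | inv x _ ix =>
      have := Subgroup.inv_mem _ ix
      rwa [show (wv γ e.w * x * (wv γ e.w)⁻¹)⁻¹ = wv γ e.w * x⁻¹ * (wv γ e.w)⁻¹ by group] at this
  have hnorm : ∀ e ∈ N, wv γ e.w ∈ normalizerIn (⊤ : Subgroup U) (W γ P) := by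
    intro e heN
    refine ⟨Subgroup.mem_top _, ?_⟩
    exact mem_normalizer_of_maps (hmaps e heN)
  have h4 := two_pow_le h N h1 (fun e he => ⟨(h2 e he).1, hnorm e he⟩) 0 (by
    intro e heN
    obtain ⟨g, r, hw, hg, hr⟩ := hdok_iff.1 (h2 e heN).1
    rw [← hg, mk_eq, pow_zero]
    exact Nat.one_le_two_pow)
  have h5 : Nat.card (normalizerIn (⊤ : Subgroup U) (W γ P) ⊓ LFs h 0 : Subgroup U) ≤
      Nat.card (normalizerIn (⊤ : Subgroup U) (W γ P)) :=
    Subgroup.card_le_of_le inf_le_left
  have h6 := card_W h hval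
  have hle : W γ P ≤ normalizerIn (⊤ : Subgroup U) (W γ P) := le_inf le_top Subgroup.le_normalizer
  have h7 := relIndex_mul_card hle
  have h8 := hb he
  have hfr : (frattini (W γ P)).index ≤ 2 ^ B.length := by
    have hp : IsPGroup 2 (W γ P) := (pgr he).to_subgroup _
    let l : List (W γ P) := B.attach.map fun b => ⟨wv γ b.1.w, by rw [← hWB]; exact mem_WB b.2⟩
    have hl : Subgroup.closure {x | x ∈ l} = ⊤ := by
      rw [eq_top_iff]
      rintro ⟨x, hx⟩ -
      have hx' := hx
      rw [← hWB, WB] at hx'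
      have key : ∀ y (_ : y ∈ Subgroup.closure {x | ∃ b ∈ B, x = wv γ b.w}) (hy : y ∈ W γ P),
          (⟨y, hy⟩ : W γ P) ∈ Subgroup.closure {x | x ∈ l} := by
        intro y hy0
        induction hy0 using Subgroup.closure_induction with
        | mem y hy =>
          obtain ⟨b, hb, rfl⟩ := hy
          intro hy
          exact Subgroup.subset_closure (List.mem_map.2 ⟨⟨b, hb⟩, List.mem_attach _ _, rfl⟩)
        | one => intro hy; exact Subgroup.one_mem _
        | mul y z hy hz iy iz =>
          intro hyz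
          have hy' : y ∈ W γ P := by rw [← hWB]; exact hy
          have hz' : z ∈ W γ P := by rw [← hWB]; exact hz
          exact Subgroup.mul_mem _ (iy hy') (iz hz')
        | inv y hy iy =>
          intro hyz
          have hy' : y ∈ W γ P := by rw [← hWB]; exact hy
          exact Subgroup.inv_mem _ (iy hy')
      exact key x hx' hx
    have h9 := frattini_index_le hp l hl
    simpa [l] using h9
  have h9 : 2 ^ N.length ≤ (W γ P).relIndex (normalizerIn (⊤ : Subgroup U) (W γ P)) * 2 ^ P.length :=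
    calc 2 ^ N.length ≤ Nat.card (normalizerIn (⊤ : Subgroup U) (W γ P)) := h4.trans h5
      _ = _ * Nat.card (W γ P) := h7.symm
      _ ≤ _ := Nat.mul_le_mul_left _ h6
  set R := (W γ P).relIndex (normalizerIn (⊤ : Subgroup U) (W γ P))
  have h10 : (2 ^ N.length) ^ 2 ≤ 2 ^ B.length * (2 ^ P.length) ^ 2 := by
    calc (2 ^ N.length) ^ 2 ≤ (R * 2 ^ P.length) ^ 2 := Nat.pow_le_pow_left h9 2
      _ = R ^ 2 * (2 ^ P.length) ^ 2 := by rw [mul_pow]
      _ ≤ _ := Nat.mul_le_mul_right _ (h8.trans hfr)
  rw [← pow_mul, ← pow_mul, ← pow_add] at h10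
  have h11 := (Nat.pow_le_pow_iff_right (by norm_num)).1 h10
  omega

end Cfsg.Agent.H782.TF
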