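import Cfsg.Agent.H782.TF.SiftDef

/-!
# S5262, q = 2: certificates for the nodes of the subgroup tree, definitions evaluated by the kernel (helper782)
-/

set_option autoImplicit false

noncomputable section

namespace Cfsg.Agent.H782.TF

/-- an element (word) with its inverse -/
structure Gv where
  w : List Gn
  v : List Gn

/-- a derived element: `w * ∏ l2 = ∏ l1` -/
structure Dv where
  w : List Gn
  l1 : List Nat
  l2 : List Nat

/-- a child: a polycyclic sequence, the index of the pivot, a conjugating element -/
structure Ch where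
  P : List Ent
  p : Nat
  g : List Gn
  gi : List Gn

/-- entry of a list -/
def nthW (l : List (List Gn)) : Nat → List Gn :=
  @List.rec (List Gn) (fun _ => Nat → List Gn) (fun _ => [])
    (fun a _ ih n => @Nat.rec (fun _ => List Gn) a (fun m _ => ih m) n) l

/-- entry of a list -/
def nthP (l : List (List Ent)) : Nat → List Ent :=
  @List.rec (List Ent) (fun _ => Nat → List Ent) (fun _ => [])
    (fun a _ ih n => @Nat.rec (fun _ => List Ent) a (fun m _ => ih m) n) l

/-- entry of a list -/
def nthG (l : List Gv) : Nat → Gv :=
  @List.rec Gv (fun _ => Nat → Gv) (fun _ => ⟨[], []⟩)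
    (fun a _ ih n => @Nat.rec (fun _ => Gv) a (fun m _ => ih m) n) l

/-- length -/
def len {α : Type} (l : List α) : Nat := @List.rec α (fun _ => Nat) 0 (fun _ _ ih => Nat.succ ih) l

/-- right multiplication by a product of listed words -/
def catap (env : List (List Gn)) (l : List Nat) : Nat → Nat :=
  @List.rec Nat (fun _ => Nat → Nat) (fun x => x) (fun i _ ih x => ih (ap (nthW env i) x)) l

/-- right multiplication by words -/
def aps (l : List (List Gn)) : Nat → Nat :=
  @List.rec (List Gn) (fun _ => Nat → Nat) (fun x => x) (fun w _ ih x => ih (ap w x)) l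

/-- derivations -/
def derok (D : List Dv) (k : List (List Gn) → Bool) : List (List Gn) → Bool :=
  @List.rec Dv (fun _ => List (List Gn) → Bool) k
    (fun d _ ih env => cond (Nat.beq (catap env d.l1 0) (catap env d.l2 (ap d.w 0))) (ih (d.w :: env)) false) D

/-- the entries of `P` are among the words of `env` -/
def matchok (env : List (List Gn)) (P : List Ent) : List Nat → Bool :=
  @List.rec Ent (fun _ => List Nat → Bool) (fun _ => true)
    (fun e _ ih I => @List.rec Nat (fun _ => Bool) false
      (fun i I' _ => cond (Nat.beq (ap e.w 0) (ap (nthW env i) 0)) (ih I') false) I) P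

/-- the words -/
def wds (B : List Gv) : List (List Gn) :=
  @List.rec Gv (fun _ => List (List Gn)) [] (fun b _ ih => b.w :: ih) B

/-- `P` is a consistent polycyclic sequence of the group generated by `B` -/
def genchk (B : List Gv) (D : List Dv) (P : List Ent) (I : List Nat) : Bool :=
  cond (allL (fun b => invok b.w b.v) B)
    (cond (valid P)
      (cond (allL (fun b => Nat.beq (sift P (ap b.w 0)) 0) B) (derok D (fun env => matchok env P I) (wds B)) false)
      false) false

/-- the product of the words `ws` lies in the conjugate `g W(P) g⁻¹` -/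
def tst (c : Ch) (ws : List (List Gn)) : Bool := Nat.beq (sift c.P (ap c.g (aps ws (ap c.gi 0)))) 0

/-- the Schreier generators -/
def chLoop (c : Ch) (q : Gv) (B : List Gv) : Nat → Bool :=
  @List.rec Gv (fun _ => Nat → Bool) (fun _ => true)
    (fun a _ ih b =>
      cond (Nat.beq (Nat.land b 1) 0)
        (cond (tst c [a.w]) (cond (tst c [q.w, a.w, q.v]) (ih (Nat.div b 2)) false) false)
        (cond (tst c [a.w, q.v]) (cond (tst c [q.w, a.w]) (ih (Nat.div b 2)) false) false)) B

/-- one child -/
def chOne (B : List Gv) (b : Nat) (c : Ch) : Bool :=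
  cond (invok c.gi c.g)
    (cond (Nat.beq (Nat.land (Nat.shiftRight b c.p) 1) 1) (chLoop c (nthG B c.p) B b) false) false

/-- all children `b = b₀, b₀ + 1, …, 2^r - 1` -/
def chAll (B : List Gv) (r : Nat) (C : List Ch) : Nat → Bool :=
  @List.rec Ch (fun _ => Nat → Bool) (fun b => Nat.beq b (Nat.pow 2 r))
    (fun c _ ih b => cond (chOne B b c) (ih (Nat.succ b)) false) C

/-- the generators of index `≥ r` lie in `W(Z)` -/
def fixok (Z : List Ent) (B : List Gv) : Nat → Bool :=
  @List.rec Gv (fun _ => Nat → Bool) (fun _ => true)
    (fun a _ ih r => @Nat.rec (fun _ => Bool)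
      (cond (Nat.beq (sift Z (ap a.w 0)) 0) (ih 0) false) (fun r' _ => ih r') r) B

/-- masks increasing -/
def incr (N : List Ent) : Bool :=
  @List.rec Ent (fun _ => Bool) true (fun e N ih => cond (allL (fun e' => Nat.blt e.m e'.m) N) ih false) N

/-- the bound `2 t > r` -/
def bndchk (B : List Gv) (P N : List Ent) : Bool :=
  cond (incr N)
    (cond (allL (fun e => cond (hdok e.m e.w) (cond (invok e.w e.v)
        (allL (fun a => Nat.beq (sift P (ap e.v (ap a.w (ap e.w 0)))) 0) B) false) false) N)
      (Nat.blt (Nat.add (len B) (Nat.mul 2 (len P))) (Nat.mul 2 (len N))) false) false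

/-- multiplication of codes -/
def mulc (x y : Nat) : Nat :=
  @List.rec Gn (fun _ => Nat → Nat) (fun x => x)
    (fun g _ ih x => ih (cond (Nat.beq (Nat.land y (mk g)) 0) x (rm g x)))
    [.a0, .a1, .a2, .a3, .a4, .a5, .a6, .a7, .a8, .a9, .a10, .a11] x

/-- `k (x y)` for all `y ∈ W(A)` -/
def enum (A : List Ent) (k : Nat → Bool) : Nat → Bool :=
  @List.rec Ent (fun _ => Nat → Bool) k (fun e _ ih x => cond (ih x) (ih (ap e.w x)) false) A

/-- `R` is normalized by the elements of `P` -/
def nrm (P R : List Ent) : Bool :=
  allL (fun e => allL (fun r => Nat.beq (sift R (ap e.v (ap r.w (ap e.w 0)))) 0) R) P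

/-- the elements of `A` and `B` commute modulo `R` -/
def cmm (A B R : List Ent) : Bool :=
  allL (fun e => allL (fun f => Nat.beq (sift R (ap f.w (ap e.w 0))) (sift R (ap e.w (ap f.w 0)))) B) A

/-- `W(R) ≤ W(A)` -/
def leq (R A : List Ent) : Bool := allL (fun e => Nat.beq (sift A (ap e.w 0)) 0) R

/-- `R = {x ∈ A0 : [x, A] ≤ B}` -/
def centok (A0 A B R : List Ent) : Bool :=
  cond (valid R)
    (cond (leq R A0)
      (cond (cmm R A B)
        (enum A0 (fun x => cond (Nat.beq (sift R x) 0) true
          (anyL (fun f => cond (Nat.beq (sift B (ap f.w x)) (sift B (mulc (ap f.w 0) x))) false true) A)) 0)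
        false) false) false

/-- the entries of `R` are commutators of elements of `A` and `B` -/
def comL (A B R : List Ent) : List Gv → Bool :=
  @List.rec Ent (fun _ => List Gv → Bool) (fun _ => true)
    (fun r _ ih L => @List.rec Gv (fun _ => Bool) false
      (fun q L' _ => cond (Nat.beq (sift A (ap q.w 0)) 0) (cond (Nat.beq (sift B (ap q.v 0)) 0)
        (cond (Nat.beq (ap q.w (ap q.v (ap r.w 0))) (ap q.v (ap q.w 0))) (ih L') false) false) false) L) R

/-- `R = [A, B]` -/
def commok (P A B R : List Ent) (L : List Gv) : Bool :=
  cond (valid R) (cond (nrm P R) (cond (cmm A B R) (comL A B R L) false) false) false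

/-- the product of the squares of the words -/
def sqs (l : List (List Gn)) : Nat → Nat :=
  @List.rec (List Gn) (fun _ => Nat → Nat) (fun x => x) (fun w _ ih x => ih (ap w (ap w x))) l

/-- the entries of `R` are products of squares of elements of `A` -/
def sqL (A R : List Ent) : List (List (List Gn)) → Bool :=
  @List.rec Ent (fun _ => List (List (List Gn)) → Bool) (fun _ => true)
    (fun r _ ih L => @List.rec (List (List Gn)) (fun _ => Bool) false
      (fun q L' _ => cond (allL (fun w => Nat.beq (sift A (ap w 0)) 0) q)
        (cond (Nat.beq (sqs q 0) (ap r.w 0)) (ih L') false) false) L) R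

/-- `R = Φ(A)` -/
def phiok (P A R : List Ent) (L : List (List (List Gn))) : Bool :=
  cond (valid R) (cond (nrm P R) (cond (cmm A A R)
    (cond (allL (fun e => Nat.beq (sift R (ap e.w (ap e.w 0))) 0) A) (sqL A R L) false) false) false) false

/-- the entries of `R` are products of involutions of `A` -/
def omL (A R : List Ent) : List (List (List Gn)) → Bool :=
  @List.rec Ent (fun _ => List (List (List Gn)) → Bool) (fun _ => true)
    (fun r _ ih L => @List.rec (List (List Gn)) (fun _ => Bool) false
      (fun q L' _ => cond (allL (fun w => cond (Nat.beq (sift A (ap w 0)) 0) (Nat.beq (ap w (ap w 0)) 0) false) q)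
        (cond (Nat.beq (aps q 0) (ap r.w 0)) (ih L') false) false) L) R

/-- `R = Ω₁(A)` -/
def omok (A R : List Ent) (L : List (List (List Gn))) : Bool :=
  cond (valid R) (cond (omL A R L)
    (enum A (fun x => cond (Nat.beq (sift R x) 0) true (cond (Nat.beq (mulc x x) 0) false true)) 0) false) false

/-- a step in the construction of characteristic subgroups -/
inductive St
  | cent (a b c : Nat) (R : List Ent)
  | comm (a b : Nat) (R : List Ent) (L : List Gv)
  | phi (a : Nat) (R : List Ent) (L : List (List (List Gn)))
  | om (a : Nat) (R : List Ent) (L : List (List (List Gn)))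

/-- the steps -/
def steps (P : List Ent) (l : List St) (k : List (List Ent) → Bool) : List (List Ent) → Bool :=
  @List.rec St (fun _ => List (List Ent) → Bool) k
    (fun s _ ih env =>
      @St.rec (fun _ => Bool)
        (fun a b c R => cond (centok (nthP env a) (nthP env b) (nthP env c) R) (ih (R :: env)) false)
        (fun a b R L => cond (commok P (nthP env a) (nthP env b) R L) (ih (R :: env)) false)
        (fun a R L => cond (phiok P (nthP env a) R L) (ih (R :: env)) false)
        (fun a R L => cond (omok (nthP env a) R L) (ih (R :: env)) false) s) l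

/-- the chain -/
def chn (x : Gv) (env : List (List Ent)) (l : List Nat) : List Ent → Bool :=
  @List.rec Nat (fun _ => List Ent → Bool)
    (fun cur => allL (fun e => Nat.beq (ap e.v (ap x.v (ap e.w (ap x.w 0)))) 0) cur)
    (fun i _ ih cur =>
      cond (leq (nthP env i) cur)
        (cond (allL (fun e => Nat.beq (sift (nthP env i) (ap e.v (ap x.v (ap e.w (ap x.w 0))))) 0) cur)
          (ih (nthP env i)) false) false) l

/-- the kill by a chain of characteristic subgroups -/
def chnchk (P : List Ent) (l : List St) (x : Gv) (ix : List Nat) : Bool :=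
  cond (invok x.w x.v)
    (cond (Nat.beq (sift P (ap x.w 0)) 0) false
      (cond (allL (fun e => invok e.w e.v) P) (steps P l (fun env => chn x env ix P) [[], P]) false)) false

/-- `z ∈ C(B)`, `z ∉ W(P)` -/
def centchk (B : List Gv) (P : List Ent) (z : List Gn) : Bool :=
  cond (Nat.beq (sift P (ap z 0)) 0) false (allL (fun a => Nat.beq (ap a.w (ap z 0)) (ap z (ap a.w 0))) B)

end Cfsg.Agent.H782.TF
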