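import Cfsg.Agent.H782.TF.TabChk

/-!
# S5262, q = 2: sifting, definitions evaluated by the kernel (helper782)
-/

set_option autoImplicit false

noncomputable section

namespace Cfsg.Agent.H782.TF

/-- an entry of a polycyclic sequence: the mask of its leading bit, a word of the element, a word of its inverse -/
structure Ent where
  m : Nat
  w : List Gn
  v : List Gn

/-- all elements of a list -/
def allL {α : Type} (P : α → Bool) (l : List α) : Bool :=
  @List.rec α (fun _ => Bool) true (fun a _ ih => cond (P a) ih false) l

/-- some element of a list -/
def anyL {α : Type} (P : α → Bool) (l : List α) : Bool :=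
  @List.rec α (fun _ => Bool) false (fun a _ ih => cond (P a) true ih) l

/-- the residue of a code modulo a polycyclic sequence -/
def sift (P : List Ent) : Nat → Nat :=
  @List.rec Ent (fun _ => Nat → Nat) (fun x => x)
    (fun e _ ih x => ih (cond (Nat.beq (Nat.land x e.m) 0) x (ap e.w x))) P

/-- the word starts with the generator of mask `m`, and the other letters are deeper -/
def hdok (m : Nat) (w : List Gn) : Bool :=
  @List.rec Gn (fun _ => Bool) false
    (fun g r _ => cond (Nat.beq (mk g) m) (allL (fun h => Nat.blt m (mk h)) r) false) w

/-- `v` is the inverse of `w` -/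
def invok (w v : List Gn) : Bool := Nat.beq (ap v (ap w 0)) 0

/-- the polycyclic sequence is consistent -/
def valid (P : List Ent) : Bool :=
  @List.rec Ent (fun _ => Bool) true
    (fun e P ih =>
      cond (hdok e.m e.w)
        (cond (invok e.w e.v)
          (cond (allL (fun e' => Nat.blt e.m e'.m) P)
            (cond (Nat.beq (sift P (ap e.w (ap e.w 0))) 0)
              (cond (allL (fun e' => Nat.beq (sift P (ap e.w (ap e'.w (ap e.v 0)))) 0) P) ih false)
              false) false) false) false) P

end Cfsg.Agent.H782.TF
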