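import Cfsg.Agent.H782.TF.FinBDef

/-!
# S5262, q = 2: the automorphism `τ`, definitions evaluated by the kernel (helper782)
-/

set_option autoImplicit false

namespace Cfsg.Agent.H782.TF.FB

/-- the images of the generators under `τ` -/
def tw : Gn → List Gn
  | .a0 => [.a0, .a6]
  | .a1 => [.a1, .a5, .a8]
  | .a10 => [.a5, .a10]
  | g => [g]

/-- all generators -/
def G12 : List Gn := [.a0, .a1, .a2, .a3, .a4, .a5, .a6, .a7, .a8, .a9, .a10, .a11]

/-- a word under `τ` -/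
def tws (w : List Gn) : List Gn := w.flatMap tw

/-- the word of `sqm` -/
def sqw : Gn → List Gn
  | .a1 => [.a2]
  | .a4 => [.a5]
  | .a7 => [.a8]
  | .a10 => [.a11]
  | _ => []

/-- the relations for the images -/
noncomputable def chkTau : Bool :=
  cond (allL (fun g => Nat.beq (ap (tw g ++ tw g) 0) (ap (tws (sqw g)) 0)) G12)
    (allL (fun k => allL (fun j => cond (Nat.blt (mk k) (mk j))
      (Nat.beq (ap (tw k ++ tw j) 0) (ap (tw j ++ tw k ++ tws (cw k j)) 0)) true) G12) G12) false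

/-- `τ² = 1` -/
noncomputable def chkTau2 : Bool := allL (fun g => Nat.beq (ap (tws (tw g)) 0) (mk g)) G12

/-- `τ` on `QB` -/
def LT : List (Gn × List Gn) := [(.a1, [.a1, .a5, .a8]), (.a2, [.a2]), (.a3, [.a3]), (.a4, [.a4]), (.a5, [.a5]),
  (.a6, [.a6]), (.a7, [.a7]), (.a8, [.a8]), (.a9, [.a9]), (.a10, [.a5, .a10]), (.a11, [.a11])]

/-- `w_b` on `QB` -/
def LW : List (Gn × List Gn) := [(.a1, [.a10]), (.a2, [.a11]), (.a3, [.a9]), (.a4, [.a7]), (.a5, [.a8]),
  (.a6, [.a6]), (.a7, [.a4]), (.a8, [.a5]), (.a9, [.a3]), (.a10, [.a1]), (.a11, [.a2])]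

/-- conjugation by `x5` on `QB` -/
def LC : List (Gn × List Gn) := [(.a1, [.a6, .a1, .a6]), (.a2, [.a6, .a2, .a6]), (.a3, [.a6, .a3, .a6]),
  (.a4, [.a6, .a4, .a6]), (.a5, [.a6, .a5, .a6]), (.a6, [.a6, .a6, .a6]), (.a7, [.a6, .a7, .a6]),
  (.a8, [.a6, .a8, .a6]), (.a9, [.a6, .a9, .a6]), (.a10, [.a6, .a10, .a6]), (.a11, [.a6, .a11, .a6])]

/-- `τ w = c_x5 w τ` on the generators -/
noncomputable def chkTW : Bool := allL (fun p => Nat.beq (im LT (im LW (mk p.1) 0) 0)
  (im LC (im LW (im LT (mk p.1) 0) 0) 0)) LT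

theorem chkTau_true : chkTau = true := by decide +kernel
theorem chkTau2_true : chkTau2 = true := by decide +kernel
theorem chkTW_true : chkTW = true := by decide +kernel

end Cfsg.Agent.H782.TF.FB
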