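import Cfsg.Agent.H782.TF.TwoRel

/-!
# S5262, q = 2: the codes describe `U`, the subgroups of the plan (helper782)
-/

set_option autoImplicit false

namespace Cfsg.Agent.H782.TF

open Cfsg.Agent.Octagon.Pkg Cfsg.Agent.H745.TF Cfsg.Agent.H659.TF

universe u v

variable {K : Type u} [Field K] {σ : K →+* K} {U : Type v} [Group U]

theorem zero_or_one (hK : HypK σ 0) (x : K) : x = 0 ∨ x = 1 := by
  by_cases hx : x = 0
  · exact Or.inl hx
  · right
    have hfin := hK.fin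
    have := Fintype.ofFinite K
    have h := FiniteField.pow_card_sub_one_eq_one x hx
    rw [← Nat.card_eq_fintype_card, hK.card] at h
    simpa using h

/-- a bit as a field element -/
def bt (K : Type u) [Field K] (b : Bool) : K := if b then 1 else 0

theorem bt_inj {a b : Bool} (h : bt K a = bt K b) : a = b := by
  cases a <;> cases b <;> simp [bt] at h ⊢

/-- the coordinates of a code -/
def cd (K : Type u) [Field K] (n : ℕ) : Cd K :=
  ⟨bt K (n.testBit 0), bt K (n.testBit 1), bt K (n.testBit 2), bt K (n.testBit 3), bt K (n.testBit 4), bt K (n.testBit 5),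
    bt K (n.testBit 6), bt K (n.testBit 7), bt K (n.testBit 8), bt K (n.testBit 9), bt K (n.testBit 10),
    bt K (n.testBit 11)⟩

variable (T : Cfsg.Agent.H745.TF.TF σ U)

theorem x1_bt (a : Bool) : T.x1 (bt K a) = if a then T.x1 1 else 1 := by
  cases a <;> simp [bt, x1_zero T.rel]

theorem x3_bt (a : Bool) : T.x3 (bt K a) = if a then T.x3 1 else 1 := by
  cases a <;> simp [bt, x3_zero T.rel]

theorem x5_bt (a : Bool) : T.x5 (bt K a) = if a then T.x5 1 else 1 := by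
  cases a <;> simp [bt, x5_zero T.rel]

theorem x7_bt (a : Bool) : T.x7 (bt K a) = if a then T.x7 1 else 1 := by
  cases a <;> simp [bt, x7_zero T.rel]

theorem x2_bt (a b : Bool) : T.x2 (bt K a) (bt K b) = (if a then T.x2 1 0 else 1) * (if b then T.x2 0 1 else 1) := by
  cases a <;> cases b <;> simp [bt, x2_zero T.rel, x2_11]

theorem x4_bt (a b : Bool) : T.x4 (bt K a) (bt K b) = (if a then T.x4 1 0 else 1) * (if b then T.x4 0 1 else 1) := by
  cases a <;> cases b <;> simp [bt, x4_zero T.rel, x4_11]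

theorem x6_bt (a b : Bool) : T.x6 (bt K a) (bt K b) = (if a then T.x6 1 0 else 1) * (if b then T.x6 0 1 else 1) := by
  cases a <;> cases b <;> simp [bt, x6_zero T.rel, x6_11]

theorem x8_bt (a b : Bool) : T.x8 (bt K a) (bt K b) = (if a then T.x8 1 0 else 1) * (if b then T.x8 0 1 else 1) := by
  cases a <;> cases b <;> simp [bt, x8_zero T.rel, x8_11]

theorem val_cd (n : ℕ) : val (gm T) n = T.el (cd K n) := by
  simp only [val, vc, TF.el, cd, x1_bt, x2_bt, x3_bt, x4_bt, x5_bt, x6_bt, x7_bt, x8_bt, gm, one_mul, mul_assoc]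

/-- the bits of coordinates -/
noncomputable def bits (c : Cd K) : Fin 12 → Bool :=
  open Classical in
  ![decide (c.a1 = 1), decide (c.a2 = 1), decide (c.b2 = 1), decide (c.a3 = 1), decide (c.a4 = 1), decide (c.b4 = 1),
    decide (c.a5 = 1), decide (c.a6 = 1), decide (c.b6 = 1), decide (c.a7 = 1), decide (c.a8 = 1), decide (c.b8 = 1)]

theorem bt_decide (hK : HypK σ 0) (x : K) (d : Decidable (x = 1)) : bt K (@decide (x = 1) d) = x := by
  rcases zero_or_one hK x with rfl | rfl <;> simp [bt]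

theorem cd_ofBits (hK : HypK σ 0) (c : Cd K) : cd K (Nat.ofBits (bits c)) = c := by
  have h : ∀ i (hi : i < 12), (Nat.ofBits (bits c)).testBit i = bits c ⟨i, hi⟩ := fun i hi =>
    Nat.testBit_ofBits_lt (bits c) i hi
  rw [cd, h 0 (by norm_num), h 1 (by norm_num), h 2 (by norm_num), h 3 (by norm_num), h 4 (by norm_num),
    h 5 (by norm_num), h 6 (by norm_num), h 7 (by norm_num), h 8 (by norm_num), h 9 (by norm_num), h 10 (by norm_num),
    h 11 (by norm_num)]
  ext <;> exact bt_decide hK _ _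

theorem cod_of (hK : HypK σ 0) : Cod (gm T) where
  toRel := rel_of T hK.two
  surj := fun x => by
    obtain ⟨c, rfl⟩ := T.bij.2 x
    refine ⟨Nat.ofBits (bits c), Nat.ofBits_lt_two_pow _, ?_⟩
    rw [val_cd, cd_ofBits hK]
    rfl
  inj := fun m hm n hn h => by
    rw [val_cd, val_cd] at h
    have h1 : cd K m = cd K n := T.bij.1 h
    have h2 : ∀ i, i < 12 → m.testBit i = n.testBit i := by
      intro i hi
      have k1 := bt_inj (congrArg Cd.a1 h1)
      have k2 := bt_inj (congrArg Cd.a2 h1)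
      have k3 := bt_inj (congrArg Cd.b2 h1)
      have k4 := bt_inj (congrArg Cd.a3 h1)
      have k5 := bt_inj (congrArg Cd.a4 h1)
      have k6 := bt_inj (congrArg Cd.b4 h1)
      have k7 := bt_inj (congrArg Cd.a5 h1)
      have k8 := bt_inj (congrArg Cd.a6 h1)
      have k9 := bt_inj (congrArg Cd.b6 h1)
      have k10 := bt_inj (congrArg Cd.a7 h1)
      have k11 := bt_inj (congrArg Cd.a8 h1)
      have k12 := bt_inj (congrArg Cd.b8 h1)
      interval_cases i <;> assumption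
    apply Nat.eq_of_testBit_eq
    intro i
    by_cases hi : i < 12
    · exact h2 i hi
    · push Not at hi
      have hp : (4096 : ℕ) ≤ 2 ^ i := by
        calc (4096 : ℕ) = 2 ^ 12 := by norm_num
          _ ≤ 2 ^ i := Nat.pow_le_pow_right (by norm_num) hi
      rw [Nat.testBit_lt_two_pow (lt_of_lt_of_le hm hp), Nat.testBit_lt_two_pow (lt_of_lt_of_le hn hp)]

/-! ### the subgroups -/

theorem X1_le (hK : HypK σ 0) {S : Subgroup U} (h : T.x1 1 ∈ S) : T.X1 ≤ S := by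
  rw [TF.X1, Subgroup.closure_le]
  rintro _ ⟨t, rfl⟩
  rcases zero_or_one hK t with rfl | rfl
  · rw [x1_zero T.rel]; exact S.one_mem
  · exact h

theorem X3_le (hK : HypK σ 0) {S : Subgroup U} (h : T.x3 1 ∈ S) : T.X3 ≤ S := by
  rw [TF.X3, Subgroup.closure_le]
  rintro _ ⟨t, rfl⟩
  rcases zero_or_one hK t with rfl | rfl
  · rw [x3_zero T.rel]; exact S.one_mem
  · exact h

theorem X5_le (hK : HypK σ 0) {S : Subgroup U} (h : T.x5 1 ∈ S) : T.X5 ≤ S := by
  rw [TF.X5, Subgroup.closure_le]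
  rintro _ ⟨t, rfl⟩
  rcases zero_or_one hK t with rfl | rfl
  · rw [x5_zero T.rel]; exact S.one_mem
  · exact h

theorem X7_le (hK : HypK σ 0) {S : Subgroup U} (h : T.x7 1 ∈ S) : T.X7 ≤ S := by
  rw [TF.X7, Subgroup.closure_le]
  rintro _ ⟨t, rfl⟩
  rcases zero_or_one hK t with rfl | rfl
  · rw [x7_zero T.rel]; exact S.one_mem
  · exact h

theorem Z2_le (hK : HypK σ 0) {S : Subgroup U} (h : T.x2 0 1 ∈ S) : T.Z2 ≤ S := by
  rw [TF.Z2, Subgroup.closure_le]
  rintro _ ⟨t, rfl⟩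
  rcases zero_or_one hK t with rfl | rfl
  · rw [x2_zero T.rel]; exact S.one_mem
  · exact h

theorem Z4_le (hK : HypK σ 0) {S : Subgroup U} (h : T.x4 0 1 ∈ S) : T.Z4 ≤ S := by
  rw [TF.Z4, Subgroup.closure_le]
  rintro _ ⟨t, rfl⟩
  rcases zero_or_one hK t with rfl | rfl
  · rw [x4_zero T.rel]; exact S.one_mem
  · exact h

theorem Z6_le (hK : HypK σ 0) {S : Subgroup U} (h : T.x6 0 1 ∈ S) : T.Z6 ≤ S := by
  rw [TF.Z6, Subgroup.closure_le]
  rintro _ ⟨t, rfl⟩
  rcases zero_or_one hK t with rfl | rfl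
  · rw [x6_zero T.rel]; exact S.one_mem
  · exact h

theorem Z8_le (hK : HypK σ 0) {S : Subgroup U} (h : T.x8 0 1 ∈ S) : T.Z8 ≤ S := by
  rw [TF.Z8, Subgroup.closure_le]
  rintro _ ⟨t, rfl⟩
  rcases zero_or_one hK t with rfl | rfl
  · rw [x8_zero T.rel]; exact S.one_mem
  · exact h

theorem X2_le (hK : HypK σ 0) {S : Subgroup U} (h : T.x2 1 0 ∈ S) (h' : T.x2 0 1 ∈ S) : T.X2 ≤ S := by
  rw [TF.X2, Subgroup.closure_le]
  rintro _ ⟨t, s, rfl⟩
  rcases zero_or_one hK t with rfl | rfl <;> rcases zero_or_one hK s with rfl | rfl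
  · rw [x2_zero T.rel]; exact S.one_mem
  · exact h'
  · exact h
  · rw [x2_11]; exact S.mul_mem h h'

theorem X4_le (hK : HypK σ 0) {S : Subgroup U} (h : T.x4 1 0 ∈ S) (h' : T.x4 0 1 ∈ S) : T.X4 ≤ S := by
  rw [TF.X4, Subgroup.closure_le]
  rintro _ ⟨t, s, rfl⟩
  rcases zero_or_one hK t with rfl | rfl <;> rcases zero_or_one hK s with rfl | rfl
  · rw [x4_zero T.rel]; exact S.one_mem
  · exact h'
  · exact h
  · rw [x4_11]; exact S.mul_mem h h'

theorem X6_le (hK : HypK σ 0) {S : Subgroup U} (h : T.x6 1 0 ∈ S) (h' : T.x6 0 1 ∈ S) : T.X6 ≤ S := by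
  rw [TF.X6, Subgroup.closure_le]
  rintro _ ⟨t, s, rfl⟩
  rcases zero_or_one hK t with rfl | rfl <;> rcases zero_or_one hK s with rfl | rfl
  · rw [x6_zero T.rel]; exact S.one_mem
  · exact h'
  · exact h
  · rw [x6_11]; exact S.mul_mem h h'

theorem X8_le (hK : HypK σ 0) {S : Subgroup U} (h : T.x8 1 0 ∈ S) (h' : T.x8 0 1 ∈ S) : T.X8 ≤ S := by
  rw [TF.X8, Subgroup.closure_le]
  rintro _ ⟨t, s, rfl⟩
  rcases zero_or_one hK t with rfl | rfl <;> rcases zero_or_one hK s with rfl | rfl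
  · rw [x8_zero T.rel]; exact S.one_mem
  · exact h'
  · exact h
  · rw [x8_11]; exact S.mul_mem h h'

theorem mX1 (a : K) : T.x1 a ∈ T.X1 := Subgroup.subset_closure ⟨a, rfl⟩
theorem mX3 (a : K) : T.x3 a ∈ T.X3 := Subgroup.subset_closure ⟨a, rfl⟩
theorem mX5 (a : K) : T.x5 a ∈ T.X5 := Subgroup.subset_closure ⟨a, rfl⟩
theorem mX7 (a : K) : T.x7 a ∈ T.X7 := Subgroup.subset_closure ⟨a, rfl⟩
theorem mX2 (a b : K) : T.x2 a b ∈ T.X2 := Subgroup.subset_closure ⟨a, b, rfl⟩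
theorem mX4 (a b : K) : T.x4 a b ∈ T.X4 := Subgroup.subset_closure ⟨a, b, rfl⟩
theorem mX6 (a b : K) : T.x6 a b ∈ T.X6 := Subgroup.subset_closure ⟨a, b, rfl⟩
theorem mX8 (a b : K) : T.x8 a b ∈ T.X8 := Subgroup.subset_closure ⟨a, b, rfl⟩
theorem mZ2 (b : K) : T.x2 0 b ∈ T.Z2 := Subgroup.subset_closure ⟨b, rfl⟩
theorem mZ4 (b : K) : T.x4 0 b ∈ T.Z4 := Subgroup.subset_closure ⟨b, rfl⟩
theorem mZ6 (b : K) : T.x6 0 b ∈ T.Z6 := Subgroup.subset_closure ⟨b, rfl⟩
theorem mZ8 (b : K) : T.x8 0 b ∈ T.Z8 := Subgroup.subset_closure ⟨b, rfl⟩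

theorem wv_one (γ : ℕ → U) (g : Gn) : wv γ [g] = γ (gi g) := by simp [wv]

theorem gm_mem {P : List Ent} {e : Ent} (he : e ∈ P) {g : Gn} (hg : e.w = [g]) : gm T (gi g) ∈ W (gm T) P := by
  have := mem_W (γ := gm T) he
  rwa [hg, wv_one] at this

theorem W_PZ (hK : HypK σ 0) : W (gm T) PZ = T.E4 := by
  apply le_antisymm
  · rw [W, Subgroup.closure_le]
    rintro _ ⟨e, he, rfl⟩
    simp only [PZ, List.mem_cons, List.not_mem_nil, or_false] at he
    rcases he with rfl | rfl | rfl | rfl <;> simp only [wv_one, gi, gm, TF.E4, SetLike.mem_coe]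
    · exact (le_sup_right : T.X3 ≤ _) (mX3 T 1)
    · exact (le_sup_left.trans (le_sup_left.trans le_sup_left) : T.Z4 ≤ T.Z4 ⊔ T.Z6 ⊔ T.X5 ⊔ T.X3) (mZ4 T 1)
    · exact (le_sup_right.trans le_sup_left : T.X5 ≤ T.Z4 ⊔ T.Z6 ⊔ T.X5 ⊔ T.X3) (mX5 T 1)
    · exact (le_sup_right.trans (le_sup_left.trans le_sup_left) : T.Z6 ≤ T.Z4 ⊔ T.Z6 ⊔ T.X5 ⊔ T.X3) (mZ6 T 1)
  · refine sup_le (sup_le (sup_le (Z4_le T hK ?_) (Z6_le T hK ?_)) (X5_le T hK ?_)) (X3_le T hK ?_)
    · exact gm_mem T (e := ⟨32, [.a5], [.a5]⟩) (by simp [PZ]) (g := .a5) rfl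
    · exact gm_mem T (e := ⟨256, [.a8], [.a8]⟩) (by simp [PZ]) (g := .a8) rfl
    · exact gm_mem T (e := ⟨64, [.a6], [.a6]⟩) (by simp [PZ]) (g := .a6) rfl
    · exact gm_mem T (e := ⟨8, [.a3], [.a3]⟩) (by simp [PZ]) (g := .a3) rfl

theorem W_PA (hK : HypK σ 0) : W (gm T) PA = T.QA := by
  apply le_antisymm
  · rw [W, Subgroup.closure_le]
    rintro _ ⟨e, he, rfl⟩
    have l1 : T.X1 ≤ T.QA := le_sup_left.trans (le_sup_left.trans (le_sup_left.trans (le_sup_left.trans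
      (le_sup_left.trans le_sup_left))))
    have l2 : T.X2 ≤ T.QA := le_sup_right.trans (le_sup_left.trans (le_sup_left.trans (le_sup_left.trans
      (le_sup_left.trans le_sup_left))))
    have l3 : T.X3 ≤ T.QA := le_sup_right.trans (le_sup_left.trans (le_sup_left.trans (le_sup_left.trans le_sup_left)))
    have l4 : T.X4 ≤ T.QA := le_sup_right.trans (le_sup_left.trans (le_sup_left.trans le_sup_left))
    have l5 : T.X5 ≤ T.QA := le_sup_right.trans (le_sup_left.trans le_sup_left)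
    have l6 : T.X6 ≤ T.QA := le_sup_right.trans le_sup_left
    have l7 : T.X7 ≤ T.QA := le_sup_right
    simp only [PA, List.mem_cons, List.not_mem_nil, or_false] at he
    rcases he with rfl | rfl | rfl | rfl | rfl | rfl | rfl | rfl | rfl | rfl <;>
      simp only [wv_one, gi, gm, SetLike.mem_coe]
    · exact l1 (mX1 T 1)
    · exact l2 (mX2 T 1 0)
    · exact l2 (mX2 T 0 1)
    · exact l3 (mX3 T 1)
    · exact l4 (mX4 T 1 0)
    · exact l4 (mX4 T 0 1)
    · exact l5 (mX5 T 1)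
    · exact l6 (mX6 T 1 0)
    · exact l6 (mX6 T 0 1)
    · exact l7 (mX7 T 1)
  · refine sup_le (sup_le (sup_le (sup_le (sup_le (sup_le (X1_le T hK ?_) (X2_le T hK ?_ ?_)) (X3_le T hK ?_))
      (X4_le T hK ?_ ?_)) (X5_le T hK ?_)) (X6_le T hK ?_ ?_)) (X7_le T hK ?_)
    · exact gm_mem T (e := ⟨1, [.a0], [.a0]⟩) (by simp [PA]) (g := .a0) rfl
    · exact gm_mem T (e := ⟨2, [.a1], [.a1, .a2]⟩) (by simp [PA]) (g := .a1) rfl
    · exact gm_mem T (e := ⟨4, [.a2], [.a2]⟩) (by simp [PA]) (g := .a2) rfl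
    · exact gm_mem T (e := ⟨8, [.a3], [.a3]⟩) (by simp [PA]) (g := .a3) rfl
    · exact gm_mem T (e := ⟨16, [.a4], [.a4, .a5]⟩) (by simp [PA]) (g := .a4) rfl
    · exact gm_mem T (e := ⟨32, [.a5], [.a5]⟩) (by simp [PA]) (g := .a5) rfl
    · exact gm_mem T (e := ⟨64, [.a6], [.a6]⟩) (by simp [PA]) (g := .a6) rfl
    · exact gm_mem T (e := ⟨128, [.a7], [.a7, .a8]⟩) (by simp [PA]) (g := .a7) rfl
    · exact gm_mem T (e := ⟨256, [.a8], [.a8]⟩) (by simp [PA]) (g := .a8) rfl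
    · exact gm_mem T (e := ⟨512, [.a9], [.a9]⟩) (by simp [PA]) (g := .a9) rfl

theorem W_PB (hK : HypK σ 0) : W (gm T) PB = T.QB := by
  apply le_antisymm
  · rw [W, Subgroup.closure_le]
    rintro _ ⟨e, he, rfl⟩
    have l2 : T.X2 ≤ T.QB := le_sup_left.trans (le_sup_left.trans (le_sup_left.trans (le_sup_left.trans
      (le_sup_left.trans le_sup_left))))
    have l3 : T.X3 ≤ T.QB := le_sup_right.trans (le_sup_left.trans (le_sup_left.trans (le_sup_left.trans
      (le_sup_left.trans le_sup_left))))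
    have l4 : T.X4 ≤ T.QB := le_sup_right.trans (le_sup_left.trans (le_sup_left.trans (le_sup_left.trans le_sup_left)))
    have l5 : T.X5 ≤ T.QB := le_sup_right.trans (le_sup_left.trans (le_sup_left.trans le_sup_left))
    have l6 : T.X6 ≤ T.QB := le_sup_right.trans (le_sup_left.trans le_sup_left)
    have l7 : T.X7 ≤ T.QB := le_sup_right.trans le_sup_left
    have l8 : T.X8 ≤ T.QB := le_sup_right
    simp only [PB, List.mem_cons, List.not_mem_nil, or_false] at he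
    rcases he with rfl | rfl | rfl | rfl | rfl | rfl | rfl | rfl | rfl | rfl | rfl <;>
      simp only [wv_one, gi, gm, SetLike.mem_coe]
    · exact l2 (mX2 T 1 0)
    · exact l2 (mX2 T 0 1)
    · exact l3 (mX3 T 1)
    · exact l4 (mX4 T 1 0)
    · exact l4 (mX4 T 0 1)
    · exact l5 (mX5 T 1)
    · exact l6 (mX6 T 1 0)
    · exact l6 (mX6 T 0 1)
    · exact l7 (mX7 T 1)
    · exact l8 (mX8 T 1 0)
    · exact l8 (mX8 T 0 1)
  · refine sup_le (sup_le (sup_le (sup_le (sup_le (sup_le (X2_le T hK ?_ ?_) (X3_le T hK ?_))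
      (X4_le T hK ?_ ?_)) (X5_le T hK ?_)) (X6_le T hK ?_ ?_)) (X7_le T hK ?_)) (X8_le T hK ?_ ?_)
    · exact gm_mem T (e := ⟨2, [.a1], [.a1, .a2]⟩) (by simp [PB]) (g := .a1) rfl
    · exact gm_mem T (e := ⟨4, [.a2], [.a2]⟩) (by simp [PB]) (g := .a2) rfl
    · exact gm_mem T (e := ⟨8, [.a3], [.a3]⟩) (by simp [PB]) (g := .a3) rfl
    · exact gm_mem T (e := ⟨16, [.a4], [.a4, .a5]⟩) (by simp [PB]) (g := .a4) rfl
    · exact gm_mem T (e := ⟨32, [.a5], [.a5]⟩) (by simp [PB]) (g := .a5) rfl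
    · exact gm_mem T (e := ⟨64, [.a6], [.a6]⟩) (by simp [PB]) (g := .a6) rfl
    · exact gm_mem T (e := ⟨128, [.a7], [.a7, .a8]⟩) (by simp [PB]) (g := .a7) rfl
    · exact gm_mem T (e := ⟨256, [.a8], [.a8]⟩) (by simp [PB]) (g := .a8) rfl
    · exact gm_mem T (e := ⟨512, [.a9], [.a9]⟩) (by simp [PB]) (g := .a9) rfl
    · exact gm_mem T (e := ⟨1024, [.a10], [.a10, .a11]⟩) (by simp [PB]) (g := .a10) rfl
    · exact gm_mem T (e := ⟨2048, [.a11], [.a11]⟩) (by simp [PB]) (g := .a11) rfl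

theorem W_PM (hK : HypK σ 0) : W (gm T) PM = T.N3 := by
  apply le_antisymm
  · rw [W, Subgroup.closure_le]
    rintro _ ⟨e, he, rfl⟩
    have l2 : T.Z2 ≤ T.N3 := le_sup_left.trans (le_sup_left.trans (le_sup_left.trans (le_sup_left.trans
      (le_sup_left.trans le_sup_left))))
    have l3 : T.X3 ≤ T.N3 := le_sup_right.trans (le_sup_left.trans (le_sup_left.trans (le_sup_left.trans
      (le_sup_left.trans le_sup_left))))
    have l4 : T.X4 ≤ T.N3 := le_sup_right.trans (le_sup_left.trans (le_sup_left.trans (le_sup_left.trans le_sup_left)))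
    have l5 : T.X5 ≤ T.N3 := le_sup_right.trans (le_sup_left.trans (le_sup_left.trans le_sup_left))
    have l6 : T.X6 ≤ T.N3 := le_sup_right.trans (le_sup_left.trans le_sup_left)
    have l7 : T.X7 ≤ T.N3 := le_sup_right.trans le_sup_left
    have l8 : T.Z8 ≤ T.N3 := le_sup_right
    simp only [PM, List.mem_cons, List.not_mem_nil, or_false] at he
    rcases he with rfl | rfl | rfl | rfl | rfl | rfl | rfl | rfl | rfl <;>
      simp only [wv_one, gi, gm, SetLike.mem_coe]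
    · exact l2 (mZ2 T 1)
    · exact l3 (mX3 T 1)
    · exact l4 (mX4 T 1 0)
    · exact l4 (mX4 T 0 1)
    · exact l5 (mX5 T 1)
    · exact l6 (mX6 T 1 0)
    · exact l6 (mX6 T 0 1)
    · exact l7 (mX7 T 1)
    · exact l8 (mZ8 T 1)
  · refine sup_le (sup_le (sup_le (sup_le (sup_le (sup_le (Z2_le T hK ?_) (X3_le T hK ?_))
      (X4_le T hK ?_ ?_)) (X5_le T hK ?_)) (X6_le T hK ?_ ?_)) (X7_le T hK ?_)) (Z8_le T hK ?_)
    · exact gm_mem T (e := ⟨4, [.a2], [.a2]⟩) (by simp [PM]) (g := .a2) rfl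
    · exact gm_mem T (e := ⟨8, [.a3], [.a3]⟩) (by simp [PM]) (g := .a3) rfl
    · exact gm_mem T (e := ⟨16, [.a4], [.a4, .a5]⟩) (by simp [PM]) (g := .a4) rfl
    · exact gm_mem T (e := ⟨32, [.a5], [.a5]⟩) (by simp [PM]) (g := .a5) rfl
    · exact gm_mem T (e := ⟨64, [.a6], [.a6]⟩) (by simp [PM]) (g := .a6) rfl
    · exact gm_mem T (e := ⟨128, [.a7], [.a7, .a8]⟩) (by simp [PM]) (g := .a7) rfl
    · exact gm_mem T (e := ⟨256, [.a8], [.a8]⟩) (by simp [PM]) (g := .a8) rfl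
    · exact gm_mem T (e := ⟨512, [.a9], [.a9]⟩) (by simp [PM]) (g := .a9) rfl
    · exact gm_mem T (e := ⟨2048, [.a11], [.a11]⟩) (by simp [PM]) (g := .a11) rfl

/-! ### normality -/

theorem normal_of {γ : ℕ → U} (h : Cod γ) {R : List Ent} (hn : nrm PS R = true) : (W γ R).Normal := by
  have h1 : W γ PS = ⊤ := top_of_full h (by decide +kernel)
  have h2 := nrm_sound h (P := PS) (by decide +kernel) hn
  constructor
  intro n hnn g
  exact h2 g (by rw [h1]; exact Subgroup.mem_top g) n hnn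

theorem nPZ {γ : ℕ → U} (h : Cod γ) : (W γ PZ).Normal := normal_of h (by decide +kernel)
theorem nPA {γ : ℕ → U} (h : Cod γ) : (W γ PA).Normal := normal_of h (by decide +kernel)
theorem nPB {γ : ℕ → U} (h : Cod γ) : (W γ PB).Normal := normal_of h (by decide +kernel)
theorem nPM {γ : ℕ → U} (h : Cod γ) : (W γ PM).Normal := normal_of h (by decide +kernel)

theorem eq_of_map_conj {N E : Subgroup U} (hN : N.Normal) {g : U} (h : E.map (MulAut.conj g).toMonoidHom = N) :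
    E = N := by
  ext x
  have h1 : x ∈ E ↔ g * x * g⁻¹ ∈ E.map (MulAut.conj g).toMonoidHom := by
    constructor
    · intro hx; exact ⟨x, hx, rfl⟩
    · rintro ⟨y, hy, he⟩
      have he' : g * y * g⁻¹ = g * x * g⁻¹ := he
      have : y = x := mul_left_cancel (mul_right_cancel he')
      rwa [← this]
  rw [h1, h]
  constructor
  · intro hx
    have := hN.conj_mem _ hx g⁻¹
    simpa [mul_assoc] using this
  · intro hx; exact hN.conj_mem _ hx g

theorem le_of_map_conj {N E : Subgroup U} (hN : N.Normal) {g : U} (h : E.map (MulAut.conj g).toMonoidHom ≤ N) :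
    E ≤ N := by
  intro x hx
  have h1 := h ⟨x, hx, rfl⟩
  have h2 : g * x * g⁻¹ ∈ N := h1
  have := hN.conj_mem _ h2 g⁻¹
  simpa [mul_assoc] using this

end Cfsg.Agent.H782.TF
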