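import Cfsg.Agent.H782.TF.Two
import Cfsg.Agent.H782.TF.Full8

/-!
# S5262, q = 2: the essential subgroups are `QA`, `QB` (or `N3`) (helper782)
-/

set_option autoImplicit false

namespace Cfsg.Agent.H782.TF

open Cfsg Cfsg.FusionSystem Cfsg.Agent.H756.PU Cfsg.Agent.H745.TF

universe u v

variable {K : Type u} [Field K] {σ : K →+* K} {U : Type v} [Group U]

/-- all essential subgroups for `q = 2`; no other piece of the plan is used -/
theorem two_full (hb : StBound'.{v}) (hK : HypK σ 0) (T : Cfsg.Agent.H745.TF.TF σ U) {R : Subgroup U} {Γ : Subgroup (MulAut R)}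
    (he : Ess (⊤ : Subgroup U) R 2 Γ) : R = T.QA ∨ R = T.QB ∨ R = T.N3 := by
  have h := cod_of T hK
  have hA : T.QA.Normal := W_PA T hK ▸ nPA h
  have hB : T.QB.Normal := W_PB T hK ▸ nPB h
  have hM : T.N3.Normal := W_PM T hK ▸ nPM h
  let Goal : Subgroup U → Prop := fun E => E = T.QA ∨ E = T.QB ∨ E = T.N3
  have c : CtxF Goal (gm T) :=
    { h := h
      hb := hb
      hG := fun E g hE => hE.imp (eq_of_map_conj hA) (Or.imp (eq_of_map_conj hB) (eq_of_map_conj hM))
      hZ := by rw [W_nil]; infer_instance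
      gA := Or.inl (W_PA T hK)
      gB := Or.inr (Or.inl (W_PB T hK))
      gM := Or.inr (Or.inr (W_PM T hK)) }
  have htop : W (gm T) Full.P1563 = ⊤ := top_of_full h (by decide +kernel)
  exact Full.bad1563 c R Γ he (by rw [htop]; exact le_top) (by rw [W_nil]; exact bot_le)

end Cfsg.Agent.H782.TF
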