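import Cfsg.Agent.H782.TF.Two
import Cfsg.Agent.H782.TF.Mix2

/-!
# S5262, q = 2: an essential subgroup which contains `E4` lies in `QA` or in `QB` (helper782)

`hb` is `Cfsg.Agent.H775.PU.stBound'` (`H775/PU/BoundFin.lean`).
-/

set_option autoImplicit false

namespace Cfsg.Agent.H782.TF

open Cfsg Cfsg.FusionSystem Cfsg.Agent.H756.PU Cfsg.Agent.H745.TF

universe u v

variable {K : Type u} [Field K] {σ : K →+* K} {U : Type v} [Group U]

/-- the mixed case for `q = 2` -/
theorem two_mixed (hb : StBound'.{v}) (hK : HypK σ 0) (T : Cfsg.Agent.H745.TF.TF σ U) {R : Subgroup U} {Γ : Subgroup (MulAut R)}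
    (he : Ess (⊤ : Subgroup U) R 2 Γ) (h4 : T.E4 ≤ R) : R ≤ T.QA ∨ R ≤ T.QB := by
  have h := cod_of T hK
  have hA : T.QA.Normal := W_PA T hK ▸ nPA h
  have hB : T.QB.Normal := W_PB T hK ▸ nPB h
  let Goal : Subgroup U → Prop := fun E => E ≤ T.QA ∨ E ≤ T.QB
  have c : CtxM Goal (gm T) :=
    { h := h
      hb := hb
      hG := fun E g hE => hE.imp (le_of_map_conj hA) (le_of_map_conj hB)
      hZ := nPZ h
      badA := fun E Γ _ hE _ => Or.inl (by rwa [W_PA T hK] at hE)
      badB := fun E Γ _ hE _ => Or.inr (by rwa [W_PB T hK] at hE) }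
  have htop : W (gm T) Mix.P81 = ⊤ := top_of_full h (by decide +kernel)
  exact Mix.bad81 c R Γ he (by rw [htop]; exact le_top) (by rwa [W_PZ T hK])

end Cfsg.Agent.H782.TF
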