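import Cfsg.Agent.H782.TF.Ctx
import Cfsg.Agent.H745.TF.Def
import Cfsg.Agent.H659.TF.Ump

/-!
# S5262, q = 2: the coordinates of `H745/TF/Def.lean` give codes (helper782)
-/

set_option autoImplicit false
set_option linter.unusedVariables false
set_option linter.unusedSimpArgs false
set_option linter.flexible false

namespace Cfsg.Agent.H782.TF

open Cfsg.Agent.Octagon.Pkg Cfsg.Agent.H745.TF Cfsg.Agent.H659.TF

universe u v

variable {K : Type u} [Field K] {σ : K →+* K} {U : Type v} [Group U]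

/-- the twelve generators -/
def gm (T : Cfsg.Agent.H745.TF.TF σ U) : ℕ → U
  | 0 => T.x1 1
  | 1 => T.x2 1 0
  | 2 => T.x2 0 1
  | 3 => T.x3 1
  | 4 => T.x4 1 0
  | 5 => T.x4 0 1
  | 6 => T.x5 1
  | 7 => T.x6 1 0
  | 8 => T.x6 0 1
  | 9 => T.x7 1
  | 10 => T.x8 1 0
  | _ => T.x8 0 1

variable (T : Cfsg.Agent.H745.TF.TF σ U)

theorem x2_11 : T.x2 1 1 = T.x2 1 0 * T.x2 0 1 := by rw [T.rel.m2]; simp
theorem x4_11 : T.x4 1 1 = T.x4 1 0 * T.x4 0 1 := by rw [T.rel.m4]; simp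
theorem x6_11 : T.x6 1 1 = T.x6 1 0 * T.x6 0 1 := by rw [T.rel.m6]; simp
theorem x8_11 : T.x8 1 1 = T.x8 1 0 * T.x8 0 1 := by rw [T.rel.m8]; simp


theorem rel_0_1 (h2 : (2 : K) = 0) : gm T (gi .a0) * gm T (gi .a1) = gm T (gi .a1) * gm T (gi .a0) * wv (gm T) (cw .a0 .a1) := by
  have h := T.rel.r12 1 1 0
  simpa [gm, gi, cw, wv, h2, x1_zero T.rel, x3_zero T.rel, x5_zero T.rel, x7_zero T.rel, x2_zero T.rel, x4_zero T.rel, x6_zero T.rel, x8_zero T.rel, x2_11, x4_11, x6_11, x8_11, mul_assoc] using h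

theorem rel_0_2 (h2 : (2 : K) = 0) : gm T (gi .a0) * gm T (gi .a2) = gm T (gi .a2) * gm T (gi .a0) * wv (gm T) (cw .a0 .a2) := by
  have h := T.rel.r12 1 0 1
  simpa [gm, gi, cw, wv, h2, x1_zero T.rel, x3_zero T.rel, x5_zero T.rel, x7_zero T.rel, x2_zero T.rel, x4_zero T.rel, x6_zero T.rel, x8_zero T.rel, x2_11, x4_11, x6_11, x8_11, mul_assoc] using h

theorem rel_0_3 (h2 : (2 : K) = 0) : gm T (gi .a0) * gm T (gi .a3) = gm T (gi .a3) * gm T (gi .a0) * wv (gm T) (cw .a0 .a3) := by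
  have h := T.rel.r13 1 1
  simpa [gm, gi, cw, wv, h2, x1_zero T.rel, x3_zero T.rel, x5_zero T.rel, x7_zero T.rel, x2_zero T.rel, x4_zero T.rel, x6_zero T.rel, x8_zero T.rel, x2_11, x4_11, x6_11, x8_11, mul_assoc] using h

theorem rel_0_4 (h2 : (2 : K) = 0) : gm T (gi .a0) * gm T (gi .a4) = gm T (gi .a4) * gm T (gi .a0) * wv (gm T) (cw .a0 .a4) := by
  have h := T.rel.r14 1 1 0
  simpa [gm, gi, cw, wv, h2, x1_zero T.rel, x3_zero T.rel, x5_zero T.rel, x7_zero T.rel, x2_zero T.rel, x4_zero T.rel, x6_zero T.rel, x8_zero T.rel, x2_11, x4_11, x6_11, x8_11, mul_assoc] using h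

theorem rel_0_5 (h2 : (2 : K) = 0) : gm T (gi .a0) * gm T (gi .a5) = gm T (gi .a5) * gm T (gi .a0) * wv (gm T) (cw .a0 .a5) := by
  have h := T.rel.r14 1 0 1
  simpa [gm, gi, cw, wv, h2, x1_zero T.rel, x3_zero T.rel, x5_zero T.rel, x7_zero T.rel, x2_zero T.rel, x4_zero T.rel, x6_zero T.rel, x8_zero T.rel, x2_11, x4_11, x6_11, x8_11, mul_assoc] using h

theorem rel_0_6 (h2 : (2 : K) = 0) : gm T (gi .a0) * gm T (gi .a6) = gm T (gi .a6) * gm T (gi .a0) * wv (gm T) (cw .a0 .a6) := by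
  have h := T.rel.r15 1 1
  simpa [gm, gi, cw, wv, h2, x1_zero T.rel, x3_zero T.rel, x5_zero T.rel, x7_zero T.rel, x2_zero T.rel, x4_zero T.rel, x6_zero T.rel, x8_zero T.rel, x2_11, x4_11, x6_11, x8_11, mul_assoc] using h

theorem rel_0_7 (h2 : (2 : K) = 0) : gm T (gi .a0) * gm T (gi .a7) = gm T (gi .a7) * gm T (gi .a0) * wv (gm T) (cw .a0 .a7) := by
  have h := T.rel.r16 1 1 0
  simpa [gm, gi, cw, wv, h2, x1_zero T.rel, x3_zero T.rel, x5_zero T.rel, x7_zero T.rel, x2_zero T.rel, x4_zero T.rel, x6_zero T.rel, x8_zero T.rel, x2_11, x4_11, x6_11, x8_11, mul_assoc] using h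

theorem rel_0_8 (h2 : (2 : K) = 0) : gm T (gi .a0) * gm T (gi .a8) = gm T (gi .a8) * gm T (gi .a0) * wv (gm T) (cw .a0 .a8) := by
  have h := T.rel.r16 1 0 1
  simpa [gm, gi, cw, wv, h2, x1_zero T.rel, x3_zero T.rel, x5_zero T.rel, x7_zero T.rel, x2_zero T.rel, x4_zero T.rel, x6_zero T.rel, x8_zero T.rel, x2_11, x4_11, x6_11, x8_11, mul_assoc] using h

theorem rel_0_9 (h2 : (2 : K) = 0) : gm T (gi .a0) * gm T (gi .a9) = gm T (gi .a9) * gm T (gi .a0) * wv (gm T) (cw .a0 .a9) := by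
  have h := T.rel.r17 1 1
  simpa [gm, gi, cw, wv, h2, x1_zero T.rel, x3_zero T.rel, x5_zero T.rel, x7_zero T.rel, x2_zero T.rel, x4_zero T.rel, x6_zero T.rel, x8_zero T.rel, x2_11, x4_11, x6_11, x8_11, mul_assoc] using h

theorem rel_0_10 (h2 : (2 : K) = 0) : gm T (gi .a0) * gm T (gi .a10) = gm T (gi .a10) * gm T (gi .a0) * wv (gm T) (cw .a0 .a10) := by
  have h := T.rel.r18 1 1 0
  simpa [gm, gi, cw, wv, h2, x1_zero T.rel, x3_zero T.rel, x5_zero T.rel, x7_zero T.rel, x2_zero T.rel, x4_zero T.rel, x6_zero T.rel, x8_zero T.rel, x2_11, x4_11, x6_11, x8_11, mul_assoc] using h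

theorem rel_0_11 (h2 : (2 : K) = 0) : gm T (gi .a0) * gm T (gi .a11) = gm T (gi .a11) * gm T (gi .a0) * wv (gm T) (cw .a0 .a11) := by
  have h := T.rel.r18 1 0 1
  simpa [gm, gi, cw, wv, h2, x1_zero T.rel, x3_zero T.rel, x5_zero T.rel, x7_zero T.rel, x2_zero T.rel, x4_zero T.rel, x6_zero T.rel, x8_zero T.rel, x2_11, x4_11, x6_11, x8_11, mul_assoc] using h

theorem rel_1_2 (h2 : (2 : K) = 0) : gm T (gi .a1) * gm T (gi .a2) = gm T (gi .a2) * gm T (gi .a1) * wv (gm T) (cw .a1 .a2) := by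
  simp only [gm, gi, cw, wv, List.map_nil, List.prod_nil, mul_one]
  rw [T.rel.m2, T.rel.m2]
  simp

theorem rel_1_3 (h2 : (2 : K) = 0) : gm T (gi .a1) * gm T (gi .a3) = gm T (gi .a3) * gm T (gi .a1) * wv (gm T) (cw .a1 .a3) := by
  have h := T.rel.r23 1 0 1
  simpa [gm, gi, cw, wv, h2, x1_zero T.rel, x3_zero T.rel, x5_zero T.rel, x7_zero T.rel, x2_zero T.rel, x4_zero T.rel, x6_zero T.rel, x8_zero T.rel, x2_11, x4_11, x6_11, x8_11, mul_assoc] using h

theorem rel_1_4 (h2 : (2 : K) = 0) : gm T (gi .a1) * gm T (gi .a4) = gm T (gi .a4) * gm T (gi .a1) * wv (gm T) (cw .a1 .a4) := by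
  have h := T.rel.r24 1 0 1 0
  simpa [gm, gi, cw, wv, h2, x1_zero T.rel, x3_zero T.rel, x5_zero T.rel, x7_zero T.rel, x2_zero T.rel, x4_zero T.rel, x6_zero T.rel, x8_zero T.rel, x2_11, x4_11, x6_11, x8_11, mul_assoc] using h

theorem rel_1_5 (h2 : (2 : K) = 0) : gm T (gi .a1) * gm T (gi .a5) = gm T (gi .a5) * gm T (gi .a1) * wv (gm T) (cw .a1 .a5) := by
  have h := T.rel.r24 1 0 0 1
  simpa [gm, gi, cw, wv, h2, x1_zero T.rel, x3_zero T.rel, x5_zero T.rel, x7_zero T.rel, x2_zero T.rel, x4_zero T.rel, x6_zero T.rel, x8_zero T.rel, x2_11, x4_11, x6_11, x8_11, mul_assoc] using h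

theorem rel_1_6 (h2 : (2 : K) = 0) : gm T (gi .a1) * gm T (gi .a6) = gm T (gi .a6) * gm T (gi .a1) * wv (gm T) (cw .a1 .a6) := by
  have h := T.rel.r25 1 0 1
  simpa [gm, gi, cw, wv, h2, x1_zero T.rel, x3_zero T.rel, x5_zero T.rel, x7_zero T.rel, x2_zero T.rel, x4_zero T.rel, x6_zero T.rel, x8_zero T.rel, x2_11, x4_11, x6_11, x8_11, mul_assoc] using h

theorem rel_1_7 (h2 : (2 : K) = 0) : gm T (gi .a1) * gm T (gi .a7) = gm T (gi .a7) * gm T (gi .a1) * wv (gm T) (cw .a1 .a7) := by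
  have h := T.rel.r26 1 0 1 0
  simpa [gm, gi, cw, wv, h2, x1_zero T.rel, x3_zero T.rel, x5_zero T.rel, x7_zero T.rel, x2_zero T.rel, x4_zero T.rel, x6_zero T.rel, x8_zero T.rel, x2_11, x4_11, x6_11, x8_11, mul_assoc] using h

theorem rel_1_8 (h2 : (2 : K) = 0) : gm T (gi .a1) * gm T (gi .a8) = gm T (gi .a8) * gm T (gi .a1) * wv (gm T) (cw .a1 .a8) := by
  have h := T.rel.r26 1 0 0 1
  simpa [gm, gi, cw, wv, h2, x1_zero T.rel, x3_zero T.rel, x5_zero T.rel, x7_zero T.rel, x2_zero T.rel, x4_zero T.rel, x6_zero T.rel, x8_zero T.rel, x2_11, x4_11, x6_11, x8_11, mul_assoc] using h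

theorem rel_1_9 (h2 : (2 : K) = 0) : gm T (gi .a1) * gm T (gi .a9) = gm T (gi .a9) * gm T (gi .a1) * wv (gm T) (cw .a1 .a9) := by
  have h := T.rel.r27 1 0 1
  simpa [gm, gi, cw, wv, h2, x1_zero T.rel, x3_zero T.rel, x5_zero T.rel, x7_zero T.rel, x2_zero T.rel, x4_zero T.rel, x6_zero T.rel, x8_zero T.rel, x2_11, x4_11, x6_11, x8_11, mul_assoc] using h

theorem rel_1_10 (h2 : (2 : K) = 0) : gm T (gi .a1) * gm T (gi .a10) = gm T (gi .a10) * gm T (gi .a1) * wv (gm T) (cw .a1 .a10) := by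
  have h := T.rel.r28 1 0 1 0
  simpa [gm, gi, cw, wv, h2, x1_zero T.rel, x3_zero T.rel, x5_zero T.rel, x7_zero T.rel, x2_zero T.rel, x4_zero T.rel, x6_zero T.rel, x8_zero T.rel, x2_11, x4_11, x6_11, x8_11, mul_assoc] using h

theorem rel_1_11 (h2 : (2 : K) = 0) : gm T (gi .a1) * gm T (gi .a11) = gm T (gi .a11) * gm T (gi .a1) * wv (gm T) (cw .a1 .a11) := by
  have h := T.rel.r28 1 0 0 1
  simpa [gm, gi, cw, wv, h2, x1_zero T.rel, x3_zero T.rel, x5_zero T.rel, x7_zero T.rel, x2_zero T.rel, x4_zero T.rel, x6_zero T.rel, x8_zero T.rel, x2_11, x4_11, x6_11, x8_11, mul_assoc] using h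

theorem rel_2_3 (h2 : (2 : K) = 0) : gm T (gi .a2) * gm T (gi .a3) = gm T (gi .a3) * gm T (gi .a2) * wv (gm T) (cw .a2 .a3) := by
  have h := T.rel.r23 0 1 1
  simpa [gm, gi, cw, wv, h2, x1_zero T.rel, x3_zero T.rel, x5_zero T.rel, x7_zero T.rel, x2_zero T.rel, x4_zero T.rel, x6_zero T.rel, x8_zero T.rel, x2_11, x4_11, x6_11, x8_11, mul_assoc] using h

theorem rel_2_4 (h2 : (2 : K) = 0) : gm T (gi .a2) * gm T (gi .a4) = gm T (gi .a4) * gm T (gi .a2) * wv (gm T) (cw .a2 .a4) := by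
  have h := T.rel.r24 0 1 1 0
  simpa [gm, gi, cw, wv, h2, x1_zero T.rel, x3_zero T.rel, x5_zero T.rel, x7_zero T.rel, x2_zero T.rel, x4_zero T.rel, x6_zero T.rel, x8_zero T.rel, x2_11, x4_11, x6_11, x8_11, mul_assoc] using h

theorem rel_2_5 (h2 : (2 : K) = 0) : gm T (gi .a2) * gm T (gi .a5) = gm T (gi .a5) * gm T (gi .a2) * wv (gm T) (cw .a2 .a5) := by
  have h := T.rel.r24 0 1 0 1
  simpa [gm, gi, cw, wv, h2, x1_zero T.rel, x3_zero T.rel, x5_zero T.rel, x7_zero T.rel, x2_zero T.rel, x4_zero T.rel, x6_zero T.rel, x8_zero T.rel, x2_11, x4_11, x6_11, x8_11, mul_assoc] using h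

theorem rel_2_6 (h2 : (2 : K) = 0) : gm T (gi .a2) * gm T (gi .a6) = gm T (gi .a6) * gm T (gi .a2) * wv (gm T) (cw .a2 .a6) := by
  have h := T.rel.r25 0 1 1
  simpa [gm, gi, cw, wv, h2, x1_zero T.rel, x3_zero T.rel, x5_zero T.rel, x7_zero T.rel, x2_zero T.rel, x4_zero T.rel, x6_zero T.rel, x8_zero T.rel, x2_11, x4_11, x6_11, x8_11, mul_assoc] using h

theorem rel_2_7 (h2 : (2 : K) = 0) : gm T (gi .a2) * gm T (gi .a7) = gm T (gi .a7) * gm T (gi .a2) * wv (gm T) (cw .a2 .a7) := by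
  have h := T.rel.r26 0 1 1 0
  simpa [gm, gi, cw, wv, h2, x1_zero T.rel, x3_zero T.rel, x5_zero T.rel, x7_zero T.rel, x2_zero T.rel, x4_zero T.rel, x6_zero T.rel, x8_zero T.rel, x2_11, x4_11, x6_11, x8_11, mul_assoc] using h

theorem rel_2_8 (h2 : (2 : K) = 0) : gm T (gi .a2) * gm T (gi .a8) = gm T (gi .a8) * gm T (gi .a2) * wv (gm T) (cw .a2 .a8) := by
  have h := T.rel.r26 0 1 0 1
  simpa [gm, gi, cw, wv, h2, x1_zero T.rel, x3_zero T.rel, x5_zero T.rel, x7_zero T.rel, x2_zero T.rel, x4_zero T.rel, x6_zero T.rel, x8_zero T.rel, x2_11, x4_11, x6_11, x8_11, mul_assoc] using h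

theorem rel_2_9 (h2 : (2 : K) = 0) : gm T (gi .a2) * gm T (gi .a9) = gm T (gi .a9) * gm T (gi .a2) * wv (gm T) (cw .a2 .a9) := by
  have h := T.rel.r27 0 1 1
  simpa [gm, gi, cw, wv, h2, x1_zero T.rel, x3_zero T.rel, x5_zero T.rel, x7_zero T.rel, x2_zero T.rel, x4_zero T.rel, x6_zero T.rel, x8_zero T.rel, x2_11, x4_11, x6_11, x8_11, mul_assoc] using h

theorem rel_2_10 (h2 : (2 : K) = 0) : gm T (gi .a2) * gm T (gi .a10) = gm T (gi .a10) * gm T (gi .a2) * wv (gm T) (cw .a2 .a10) := by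
  have h := T.rel.r28 0 1 1 0
  simpa [gm, gi, cw, wv, h2, x1_zero T.rel, x3_zero T.rel, x5_zero T.rel, x7_zero T.rel, x2_zero T.rel, x4_zero T.rel, x6_zero T.rel, x8_zero T.rel, x2_11, x4_11, x6_11, x8_11, mul_assoc] using h

theorem rel_2_11 (h2 : (2 : K) = 0) : gm T (gi .a2) * gm T (gi .a11) = gm T (gi .a11) * gm T (gi .a2) * wv (gm T) (cw .a2 .a11) := by
  have h := T.rel.r28 0 1 0 1
  simpa [gm, gi, cw, wv, h2, x1_zero T.rel, x3_zero T.rel, x5_zero T.rel, x7_zero T.rel, x2_zero T.rel, x4_zero T.rel, x6_zero T.rel, x8_zero T.rel, x2_11, x4_11, x6_11, x8_11, mul_assoc] using h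

theorem rel_3_4 (h2 : (2 : K) = 0) : gm T (gi .a3) * gm T (gi .a4) = gm T (gi .a4) * gm T (gi .a3) * wv (gm T) (cw .a3 .a4) := by
  have h := T.rel.r34 1 1 0
  simpa [gm, gi, cw, wv, h2, x1_zero T.rel, x3_zero T.rel, x5_zero T.rel, x7_zero T.rel, x2_zero T.rel, x4_zero T.rel, x6_zero T.rel, x8_zero T.rel, x2_11, x4_11, x6_11, x8_11, mul_assoc] using h

theorem rel_3_5 (h2 : (2 : K) = 0) : gm T (gi .a3) * gm T (gi .a5) = gm T (gi .a5) * gm T (gi .a3) * wv (gm T) (cw .a3 .a5) := by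
  have h := T.rel.r34 1 0 1
  simpa [gm, gi, cw, wv, h2, x1_zero T.rel, x3_zero T.rel, x5_zero T.rel, x7_zero T.rel, x2_zero T.rel, x4_zero T.rel, x6_zero T.rel, x8_zero T.rel, x2_11, x4_11, x6_11, x8_11, mul_assoc] using h

theorem rel_3_6 (h2 : (2 : K) = 0) : gm T (gi .a3) * gm T (gi .a6) = gm T (gi .a6) * gm T (gi .a3) * wv (gm T) (cw .a3 .a6) := by
  have h := T.rel.r35 1 1
  simpa [gm, gi, cw, wv, h2, x1_zero T.rel, x3_zero T.rel, x5_zero T.rel, x7_zero T.rel, x2_zero T.rel, x4_zero T.rel, x6_zero T.rel, x8_zero T.rel, x2_11, x4_11, x6_11, x8_11, mul_assoc] using h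

theorem rel_3_7 (h2 : (2 : K) = 0) : gm T (gi .a3) * gm T (gi .a7) = gm T (gi .a7) * gm T (gi .a3) * wv (gm T) (cw .a3 .a7) := by
  have h := T.rel.r36 1 1 0
  simpa [gm, gi, cw, wv, h2, x1_zero T.rel, x3_zero T.rel, x5_zero T.rel, x7_zero T.rel, x2_zero T.rel, x4_zero T.rel, x6_zero T.rel, x8_zero T.rel, x2_11, x4_11, x6_11, x8_11, mul_assoc] using h

theorem rel_3_8 (h2 : (2 : K) = 0) : gm T (gi .a3) * gm T (gi .a8) = gm T (gi .a8) * gm T (gi .a3) * wv (gm T) (cw .a3 .a8) := by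
  have h := T.rel.r36 1 0 1
  simpa [gm, gi, cw, wv, h2, x1_zero T.rel, x3_zero T.rel, x5_zero T.rel, x7_zero T.rel, x2_zero T.rel, x4_zero T.rel, x6_zero T.rel, x8_zero T.rel, x2_11, x4_11, x6_11, x8_11, mul_assoc] using h

theorem rel_3_9 (h2 : (2 : K) = 0) : gm T (gi .a3) * gm T (gi .a9) = gm T (gi .a9) * gm T (gi .a3) * wv (gm T) (cw .a3 .a9) := by
  have h := T.rel.r37 1 1
  simpa [gm, gi, cw, wv, h2, x1_zero T.rel, x3_zero T.rel, x5_zero T.rel, x7_zero T.rel, x2_zero T.rel, x4_zero T.rel, x6_zero T.rel, x8_zero T.rel, x2_11, x4_11, x6_11, x8_11, mul_assoc] using h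

theorem rel_3_10 (h2 : (2 : K) = 0) : gm T (gi .a3) * gm T (gi .a10) = gm T (gi .a10) * gm T (gi .a3) * wv (gm T) (cw .a3 .a10) := by
  have h := T.rel.r38 1 1 0
  simpa [gm, gi, cw, wv, h2, x1_zero T.rel, x3_zero T.rel, x5_zero T.rel, x7_zero T.rel, x2_zero T.rel, x4_zero T.rel, x6_zero T.rel, x8_zero T.rel, x2_11, x4_11, x6_11, x8_11, mul_assoc] using h

theorem rel_3_11 (h2 : (2 : K) = 0) : gm T (gi .a3) * gm T (gi .a11) = gm T (gi .a11) * gm T (gi .a3) * wv (gm T) (cw .a3 .a11) := by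
  have h := T.rel.r38 1 0 1
  simpa [gm, gi, cw, wv, h2, x1_zero T.rel, x3_zero T.rel, x5_zero T.rel, x7_zero T.rel, x2_zero T.rel, x4_zero T.rel, x6_zero T.rel, x8_zero T.rel, x2_11, x4_11, x6_11, x8_11, mul_assoc] using h

theorem rel_4_5 (h2 : (2 : K) = 0) : gm T (gi .a4) * gm T (gi .a5) = gm T (gi .a5) * gm T (gi .a4) * wv (gm T) (cw .a4 .a5) := by
  simp only [gm, gi, cw, wv, List.map_nil, List.prod_nil, mul_one]
  rw [T.rel.m4, T.rel.m4]
  simp

theorem rel_4_6 (h2 : (2 : K) = 0) : gm T (gi .a4) * gm T (gi .a6) = gm T (gi .a6) * gm T (gi .a4) * wv (gm T) (cw .a4 .a6) := by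
  have h := T.rel.r45 1 0 1
  simpa [gm, gi, cw, wv, h2, x1_zero T.rel, x3_zero T.rel, x5_zero T.rel, x7_zero T.rel, x2_zero T.rel, x4_zero T.rel, x6_zero T.rel, x8_zero T.rel, x2_11, x4_11, x6_11, x8_11, mul_assoc] using h

theorem rel_4_7 (h2 : (2 : K) = 0) : gm T (gi .a4) * gm T (gi .a7) = gm T (gi .a7) * gm T (gi .a4) * wv (gm T) (cw .a4 .a7) := by
  have h := T.rel.r46 1 0 1 0
  simpa [gm, gi, cw, wv, h2, x1_zero T.rel, x3_zero T.rel, x5_zero T.rel, x7_zero T.rel, x2_zero T.rel, x4_zero T.rel, x6_zero T.rel, x8_zero T.rel, x2_11, x4_11, x6_11, x8_11, mul_assoc] using h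

theorem rel_4_8 (h2 : (2 : K) = 0) : gm T (gi .a4) * gm T (gi .a8) = gm T (gi .a8) * gm T (gi .a4) * wv (gm T) (cw .a4 .a8) := by
  have h := T.rel.r46 1 0 0 1
  simpa [gm, gi, cw, wv, h2, x1_zero T.rel, x3_zero T.rel, x5_zero T.rel, x7_zero T.rel, x2_zero T.rel, x4_zero T.rel, x6_zero T.rel, x8_zero T.rel, x2_11, x4_11, x6_11, x8_11, mul_assoc] using h

theorem rel_4_9 (h2 : (2 : K) = 0) : gm T (gi .a4) * gm T (gi .a9) = gm T (gi .a9) * gm T (gi .a4) * wv (gm T) (cw .a4 .a9) := by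
  have h := T.rel.r47 1 0 1
  simpa [gm, gi, cw, wv, h2, x1_zero T.rel, x3_zero T.rel, x5_zero T.rel, x7_zero T.rel, x2_zero T.rel, x4_zero T.rel, x6_zero T.rel, x8_zero T.rel, x2_11, x4_11, x6_11, x8_11, mul_assoc] using h

theorem rel_4_10 (h2 : (2 : K) = 0) : gm T (gi .a4) * gm T (gi .a10) = gm T (gi .a10) * gm T (gi .a4) * wv (gm T) (cw .a4 .a10) := by
  have h := T.rel.r48 1 0 1 0
  simpa [gm, gi, cw, wv, h2, x1_zero T.rel, x3_zero T.rel, x5_zero T.rel, x7_zero T.rel, x2_zero T.rel, x4_zero T.rel, x6_zero T.rel, x8_zero T.rel, x2_11, x4_11, x6_11, x8_11, mul_assoc] using h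

theorem rel_4_11 (h2 : (2 : K) = 0) : gm T (gi .a4) * gm T (gi .a11) = gm T (gi .a11) * gm T (gi .a4) * wv (gm T) (cw .a4 .a11) := by
  have h := T.rel.r48 1 0 0 1
  simpa [gm, gi, cw, wv, h2, x1_zero T.rel, x3_zero T.rel, x5_zero T.rel, x7_zero T.rel, x2_zero T.rel, x4_zero T.rel, x6_zero T.rel, x8_zero T.rel, x2_11, x4_11, x6_11, x8_11, mul_assoc] using h

theorem rel_5_6 (h2 : (2 : K) = 0) : gm T (gi .a5) * gm T (gi .a6) = gm T (gi .a6) * gm T (gi .a5) * wv (gm T) (cw .a5 .a6) := by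
  have h := T.rel.r45 0 1 1
  simpa [gm, gi, cw, wv, h2, x1_zero T.rel, x3_zero T.rel, x5_zero T.rel, x7_zero T.rel, x2_zero T.rel, x4_zero T.rel, x6_zero T.rel, x8_zero T.rel, x2_11, x4_11, x6_11, x8_11, mul_assoc] using h

theorem rel_5_7 (h2 : (2 : K) = 0) : gm T (gi .a5) * gm T (gi .a7) = gm T (gi .a7) * gm T (gi .a5) * wv (gm T) (cw .a5 .a7) := by
  have h := T.rel.r46 0 1 1 0
  simpa [gm, gi, cw, wv, h2, x1_zero T.rel, x3_zero T.rel, x5_zero T.rel, x7_zero T.rel, x2_zero T.rel, x4_zero T.rel, x6_zero T.rel, x8_zero T.rel, x2_11, x4_11, x6_11, x8_11, mul_assoc] using h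

theorem rel_5_8 (h2 : (2 : K) = 0) : gm T (gi .a5) * gm T (gi .a8) = gm T (gi .a8) * gm T (gi .a5) * wv (gm T) (cw .a5 .a8) := by
  have h := T.rel.r46 0 1 0 1
  simpa [gm, gi, cw, wv, h2, x1_zero T.rel, x3_zero T.rel, x5_zero T.rel, x7_zero T.rel, x2_zero T.rel, x4_zero T.rel, x6_zero T.rel, x8_zero T.rel, x2_11, x4_11, x6_11, x8_11, mul_assoc] using h

theorem rel_5_9 (h2 : (2 : K) = 0) : gm T (gi .a5) * gm T (gi .a9) = gm T (gi .a9) * gm T (gi .a5) * wv (gm T) (cw .a5 .a9) := by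
  have h := T.rel.r47 0 1 1
  simpa [gm, gi, cw, wv, h2, x1_zero T.rel, x3_zero T.rel, x5_zero T.rel, x7_zero T.rel, x2_zero T.rel, x4_zero T.rel, x6_zero T.rel, x8_zero T.rel, x2_11, x4_11, x6_11, x8_11, mul_assoc] using h

theorem rel_5_10 (h2 : (2 : K) = 0) : gm T (gi .a5) * gm T (gi .a10) = gm T (gi .a10) * gm T (gi .a5) * wv (gm T) (cw .a5 .a10) := by
  have h := T.rel.r48 0 1 1 0
  simpa [gm, gi, cw, wv, h2, x1_zero T.rel, x3_zero T.rel, x5_zero T.rel, x7_zero T.rel, x2_zero T.rel, x4_zero T.rel, x6_zero T.rel, x8_zero T.rel, x2_11, x4_11, x6_11, x8_11, mul_assoc] using h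

theorem rel_5_11 (h2 : (2 : K) = 0) : gm T (gi .a5) * gm T (gi .a11) = gm T (gi .a11) * gm T (gi .a5) * wv (gm T) (cw .a5 .a11) := by
  have h := T.rel.r48 0 1 0 1
  simpa [gm, gi, cw, wv, h2, x1_zero T.rel, x3_zero T.rel, x5_zero T.rel, x7_zero T.rel, x2_zero T.rel, x4_zero T.rel, x6_zero T.rel, x8_zero T.rel, x2_11, x4_11, x6_11, x8_11, mul_assoc] using h

theorem rel_6_7 (h2 : (2 : K) = 0) : gm T (gi .a6) * gm T (gi .a7) = gm T (gi .a7) * gm T (gi .a6) * wv (gm T) (cw .a6 .a7) := by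
  have h := T.rel.r56 1 1 0
  simpa [gm, gi, cw, wv, h2, x1_zero T.rel, x3_zero T.rel, x5_zero T.rel, x7_zero T.rel, x2_zero T.rel, x4_zero T.rel, x6_zero T.rel, x8_zero T.rel, x2_11, x4_11, x6_11, x8_11, mul_assoc] using h

theorem rel_6_8 (h2 : (2 : K) = 0) : gm T (gi .a6) * gm T (gi .a8) = gm T (gi .a8) * gm T (gi .a6) * wv (gm T) (cw .a6 .a8) := by
  have h := T.rel.r56 1 0 1
  simpa [gm, gi, cw, wv, h2, x1_zero T.rel, x3_zero T.rel, x5_zero T.rel, x7_zero T.rel, x2_zero T.rel, x4_zero T.rel, x6_zero T.rel, x8_zero T.rel, x2_11, x4_11, x6_11, x8_11, mul_assoc] using h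

theorem rel_6_9 (h2 : (2 : K) = 0) : gm T (gi .a6) * gm T (gi .a9) = gm T (gi .a9) * gm T (gi .a6) * wv (gm T) (cw .a6 .a9) := by
  have h := T.rel.r57 1 1
  simpa [gm, gi, cw, wv, h2, x1_zero T.rel, x3_zero T.rel, x5_zero T.rel, x7_zero T.rel, x2_zero T.rel, x4_zero T.rel, x6_zero T.rel, x8_zero T.rel, x2_11, x4_11, x6_11, x8_11, mul_assoc] using h

theorem rel_6_10 (h2 : (2 : K) = 0) : gm T (gi .a6) * gm T (gi .a10) = gm T (gi .a10) * gm T (gi .a6) * wv (gm T) (cw .a6 .a10) := by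
  have h := T.rel.r58 1 1 0
  simpa [gm, gi, cw, wv, h2, x1_zero T.rel, x3_zero T.rel, x5_zero T.rel, x7_zero T.rel, x2_zero T.rel, x4_zero T.rel, x6_zero T.rel, x8_zero T.rel, x2_11, x4_11, x6_11, x8_11, mul_assoc] using h

theorem rel_6_11 (h2 : (2 : K) = 0) : gm T (gi .a6) * gm T (gi .a11) = gm T (gi .a11) * gm T (gi .a6) * wv (gm T) (cw .a6 .a11) := by
  have h := T.rel.r58 1 0 1
  simpa [gm, gi, cw, wv, h2, x1_zero T.rel, x3_zero T.rel, x5_zero T.rel, x7_zero T.rel, x2_zero T.rel, x4_zero T.rel, x6_zero T.rel, x8_zero T.rel, x2_11, x4_11, x6_11, x8_11, mul_assoc] using h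

theorem rel_7_8 (h2 : (2 : K) = 0) : gm T (gi .a7) * gm T (gi .a8) = gm T (gi .a8) * gm T (gi .a7) * wv (gm T) (cw .a7 .a8) := by
  simp only [gm, gi, cw, wv, List.map_nil, List.prod_nil, mul_one]
  rw [T.rel.m6, T.rel.m6]
  simp

theorem rel_7_9 (h2 : (2 : K) = 0) : gm T (gi .a7) * gm T (gi .a9) = gm T (gi .a9) * gm T (gi .a7) * wv (gm T) (cw .a7 .a9) := by
  have h := T.rel.r67 1 0 1
  simpa [gm, gi, cw, wv, h2, x1_zero T.rel, x3_zero T.rel, x5_zero T.rel, x7_zero T.rel, x2_zero T.rel, x4_zero T.rel, x6_zero T.rel, x8_zero T.rel, x2_11, x4_11, x6_11, x8_11, mul_assoc] using h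

theorem rel_7_10 (h2 : (2 : K) = 0) : gm T (gi .a7) * gm T (gi .a10) = gm T (gi .a10) * gm T (gi .a7) * wv (gm T) (cw .a7 .a10) := by
  have h := T.rel.r68 1 0 1 0
  simpa [gm, gi, cw, wv, h2, x1_zero T.rel, x3_zero T.rel, x5_zero T.rel, x7_zero T.rel, x2_zero T.rel, x4_zero T.rel, x6_zero T.rel, x8_zero T.rel, x2_11, x4_11, x6_11, x8_11, mul_assoc] using h

theorem rel_7_11 (h2 : (2 : K) = 0) : gm T (gi .a7) * gm T (gi .a11) = gm T (gi .a11) * gm T (gi .a7) * wv (gm T) (cw .a7 .a11) := by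
  have h := T.rel.r68 1 0 0 1
  simpa [gm, gi, cw, wv, h2, x1_zero T.rel, x3_zero T.rel, x5_zero T.rel, x7_zero T.rel, x2_zero T.rel, x4_zero T.rel, x6_zero T.rel, x8_zero T.rel, x2_11, x4_11, x6_11, x8_11, mul_assoc] using h

theorem rel_8_9 (h2 : (2 : K) = 0) : gm T (gi .a8) * gm T (gi .a9) = gm T (gi .a9) * gm T (gi .a8) * wv (gm T) (cw .a8 .a9) := by
  have h := T.rel.r67 0 1 1
  simpa [gm, gi, cw, wv, h2, x1_zero T.rel, x3_zero T.rel, x5_zero T.rel, x7_zero T.rel, x2_zero T.rel, x4_zero T.rel, x6_zero T.rel, x8_zero T.rel, x2_11, x4_11, x6_11, x8_11, mul_assoc] using h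

theorem rel_8_10 (h2 : (2 : K) = 0) : gm T (gi .a8) * gm T (gi .a10) = gm T (gi .a10) * gm T (gi .a8) * wv (gm T) (cw .a8 .a10) := by
  have h := T.rel.r68 0 1 1 0
  simpa [gm, gi, cw, wv, h2, x1_zero T.rel, x3_zero T.rel, x5_zero T.rel, x7_zero T.rel, x2_zero T.rel, x4_zero T.rel, x6_zero T.rel, x8_zero T.rel, x2_11, x4_11, x6_11, x8_11, mul_assoc] using h

theorem rel_8_11 (h2 : (2 : K) = 0) : gm T (gi .a8) * gm T (gi .a11) = gm T (gi .a11) * gm T (gi .a8) * wv (gm T) (cw .a8 .a11) := by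
  have h := T.rel.r68 0 1 0 1
  simpa [gm, gi, cw, wv, h2, x1_zero T.rel, x3_zero T.rel, x5_zero T.rel, x7_zero T.rel, x2_zero T.rel, x4_zero T.rel, x6_zero T.rel, x8_zero T.rel, x2_11, x4_11, x6_11, x8_11, mul_assoc] using h

theorem rel_9_10 (h2 : (2 : K) = 0) : gm T (gi .a9) * gm T (gi .a10) = gm T (gi .a10) * gm T (gi .a9) * wv (gm T) (cw .a9 .a10) := by
  have h := T.rel.r78 1 1 0
  simpa [gm, gi, cw, wv, h2, x1_zero T.rel, x3_zero T.rel, x5_zero T.rel, x7_zero T.rel, x2_zero T.rel, x4_zero T.rel, x6_zero T.rel, x8_zero T.rel, x2_11, x4_11, x6_11, x8_11, mul_assoc] using h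

theorem rel_9_11 (h2 : (2 : K) = 0) : gm T (gi .a9) * gm T (gi .a11) = gm T (gi .a11) * gm T (gi .a9) * wv (gm T) (cw .a9 .a11) := by
  have h := T.rel.r78 1 0 1
  simpa [gm, gi, cw, wv, h2, x1_zero T.rel, x3_zero T.rel, x5_zero T.rel, x7_zero T.rel, x2_zero T.rel, x4_zero T.rel, x6_zero T.rel, x8_zero T.rel, x2_11, x4_11, x6_11, x8_11, mul_assoc] using h

theorem rel_10_11 (h2 : (2 : K) = 0) : gm T (gi .a10) * gm T (gi .a11) = gm T (gi .a11) * gm T (gi .a10) * wv (gm T) (cw .a10 .a11) := by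
  simp only [gm, gi, cw, wv, List.map_nil, List.prod_nil, mul_one]
  rw [T.rel.m8, T.rel.m8]
  simp

theorem e11 (h2 : (2 : K) = 0) : (1 : K) + 1 = 0 := by rw [one_add_one_eq_two, h2]

theorem sq_0 (h2 : (2 : K) = 0) : gm T (gi .a0) * gm T (gi .a0) = val (gm T) (sqm .a0) := by
  rw [show sqm .a0 = 0 from rfl, val_zero]
  simp only [gm, gi]
  rw [T.rel.m1]
  simp [e11 h2, x1_zero T.rel]

theorem sq_1 (h2 : (2 : K) = 0) : gm T (gi .a1) * gm T (gi .a1) = val (gm T) (sqm .a1) := by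
  rw [show sqm .a1 = mk .a2 from rfl, val_mk]
  simp only [gm, gi]
  rw [T.rel.m2]
  simp [e11 h2]

theorem sq_2 (h2 : (2 : K) = 0) : gm T (gi .a2) * gm T (gi .a2) = val (gm T) (sqm .a2) := by
  rw [show sqm .a2 = 0 from rfl, val_zero]
  simp only [gm, gi]
  rw [T.rel.m2]
  simp [e11 h2, x2_zero T.rel]

theorem sq_3 (h2 : (2 : K) = 0) : gm T (gi .a3) * gm T (gi .a3) = val (gm T) (sqm .a3) := by
  rw [show sqm .a3 = 0 from rfl, val_zero]
  simp only [gm, gi]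
  rw [T.rel.m3]
  simp [e11 h2, x3_zero T.rel]

theorem sq_4 (h2 : (2 : K) = 0) : gm T (gi .a4) * gm T (gi .a4) = val (gm T) (sqm .a4) := by
  rw [show sqm .a4 = mk .a5 from rfl, val_mk]
  simp only [gm, gi]
  rw [T.rel.m4]
  simp [e11 h2]

theorem sq_5 (h2 : (2 : K) = 0) : gm T (gi .a5) * gm T (gi .a5) = val (gm T) (sqm .a5) := by
  rw [show sqm .a5 = 0 from rfl, val_zero]
  simp only [gm, gi]
  rw [T.rel.m4]
  simp [e11 h2, x4_zero T.rel]

theorem sq_6 (h2 : (2 : K) = 0) : gm T (gi .a6) * gm T (gi .a6) = val (gm T) (sqm .a6) := by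
  rw [show sqm .a6 = 0 from rfl, val_zero]
  simp only [gm, gi]
  rw [T.rel.m5]
  simp [e11 h2, x5_zero T.rel]

theorem sq_7 (h2 : (2 : K) = 0) : gm T (gi .a7) * gm T (gi .a7) = val (gm T) (sqm .a7) := by
  rw [show sqm .a7 = mk .a8 from rfl, val_mk]
  simp only [gm, gi]
  rw [T.rel.m6]
  simp [e11 h2]

theorem sq_8 (h2 : (2 : K) = 0) : gm T (gi .a8) * gm T (gi .a8) = val (gm T) (sqm .a8) := by
  rw [show sqm .a8 = 0 from rfl, val_zero]
  simp only [gm, gi]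
  rw [T.rel.m6]
  simp [e11 h2, x6_zero T.rel]

theorem sq_9 (h2 : (2 : K) = 0) : gm T (gi .a9) * gm T (gi .a9) = val (gm T) (sqm .a9) := by
  rw [show sqm .a9 = 0 from rfl, val_zero]
  simp only [gm, gi]
  rw [T.rel.m7]
  simp [e11 h2, x7_zero T.rel]

theorem sq_10 (h2 : (2 : K) = 0) : gm T (gi .a10) * gm T (gi .a10) = val (gm T) (sqm .a10) := by
  rw [show sqm .a10 = mk .a11 from rfl, val_mk]
  simp only [gm, gi]
  rw [T.rel.m8]
  simp [e11 h2]

theorem sq_11 (h2 : (2 : K) = 0) : gm T (gi .a11) * gm T (gi .a11) = val (gm T) (sqm .a11) := by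
  rw [show sqm .a11 = 0 from rfl, val_zero]
  simp only [gm, gi]
  rw [T.rel.m8]
  simp [e11 h2, x8_zero T.rel]

theorem rel_of (h2 : (2 : K) = 0) : Rel (gm T) where
  sq := by
    intro g
    cases g
    · exact sq_0 T h2
    · exact sq_1 T h2
    · exact sq_2 T h2
    · exact sq_3 T h2
    · exact sq_4 T h2
    · exact sq_5 T h2
    · exact sq_6 T h2
    · exact sq_7 T h2
    · exact sq_8 T h2
    · exact sq_9 T h2
    · exact sq_10 T h2
    · exact sq_11 T h2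
  rel := by
    intro k j h
    cases k <;> cases j <;> first
      | (exfalso; revert h; decide)
      | with_reducible exact rel_0_1 T h2
      | with_reducible exact rel_0_2 T h2
      | with_reducible exact rel_0_3 T h2
      | with_reducible exact rel_0_4 T h2
      | with_reducible exact rel_0_5 T h2
      | with_reducible exact rel_0_6 T h2
      | with_reducible exact rel_0_7 T h2
      | with_reducible exact rel_0_8 T h2
      | with_reducible exact rel_0_9 T h2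
      | with_reducible exact rel_0_10 T h2
      | with_reducible exact rel_0_11 T h2
      | with_reducible exact rel_1_2 T h2
      | with_reducible exact rel_1_3 T h2
      | with_reducible exact rel_1_4 T h2
      | with_reducible exact rel_1_5 T h2
      | with_reducible exact rel_1_6 T h2
      | with_reducible exact rel_1_7 T h2
      | with_reducible exact rel_1_8 T h2
      | with_reducible exact rel_1_9 T h2
      | with_reducible exact rel_1_10 T h2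
      | with_reducible exact rel_1_11 T h2
      | with_reducible exact rel_2_3 T h2
      | with_reducible exact rel_2_4 T h2
      | with_reducible exact rel_2_5 T h2
      | with_reducible exact rel_2_6 T h2
      | with_reducible exact rel_2_7 T h2
      | with_reducible exact rel_2_8 T h2
      | with_reducible exact rel_2_9 T h2
      | with_reducible exact rel_2_10 T h2
      | with_reducible exact rel_2_11 T h2
      | with_reducible exact rel_3_4 T h2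
      | with_reducible exact rel_3_5 T h2
      | with_reducible exact rel_3_6 T h2
      | with_reducible exact rel_3_7 T h2
      | with_reducible exact rel_3_8 T h2
      | with_reducible exact rel_3_9 T h2
      | with_reducible exact rel_3_10 T h2
      | with_reducible exact rel_3_11 T h2
      | with_reducible exact rel_4_5 T h2
      | with_reducible exact rel_4_6 T h2
      | with_reducible exact rel_4_7 T h2
      | with_reducible exact rel_4_8 T h2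
      | with_reducible exact rel_4_9 T h2
      | with_reducible exact rel_4_10 T h2
      | with_reducible exact rel_4_11 T h2
      | with_reducible exact rel_5_6 T h2
      | with_reducible exact rel_5_7 T h2
      | with_reducible exact rel_5_8 T h2
      | with_reducible exact rel_5_9 T h2
      | with_reducible exact rel_5_10 T h2
      | with_reducible exact rel_5_11 T h2
      | with_reducible exact rel_6_7 T h2
      | with_reducible exact rel_6_8 T h2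
      | with_reducible exact rel_6_9 T h2
      | with_reducible exact rel_6_10 T h2
      | with_reducible exact rel_6_11 T h2
      | with_reducible exact rel_7_8 T h2
      | with_reducible exact rel_7_9 T h2
      | with_reducible exact rel_7_10 T h2
      | with_reducible exact rel_7_11 T h2
      | with_reducible exact rel_8_9 T h2
      | with_reducible exact rel_8_10 T h2
      | with_reducible exact rel_8_11 T h2
      | with_reducible exact rel_9_10 T h2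
      | with_reducible exact rel_9_11 T h2
      | with_reducible exact rel_10_11 T h2

end Cfsg.Agent.H782.TF
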